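import Cfsg.Agent.StdL3.OneParity

set_option autoImplicit false

/-!
# The transfer lemma (TL)

Transfer of an involution `t` to an arbitrary subgroup `S` (not necessarily Sylow): only the `S`-classes of
conjugates `u` of `t` in `S` with `|C_G(u) : C_S(u)|` odd contribute.
-/

namespace Cfsg.Agent.GTwoFour.TransferTL

open MulAction Cfsg.Agent.StdL3.OneParity

variable {G : Type*} [Group G]

/-- The index of `C_S(u)` in `C_G(u)`, `u = g⁻¹ t g`, is the size of the `C_G(t)`-orbit of `gS`. -/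
theorem card_orbit_eq (S : Subgroup G) (t g : G) :
    (orbit (Subgroup.centralizer ({t} : Set G)) ((g : G) : G ⧸ S)).ncard =
      S.relIndex (Subgroup.centralizer {g⁻¹ * t * g}) := by
  classical
  set C := Subgroup.centralizer ({t} : Set G) with hC
  set D := Subgroup.centralizer ({g⁻¹ * t * g} : Set G) with hD
  have hCD : D.map (MulAut.conj g).toMonoidHom = C := by
    ext x
    rw [Subgroup.mem_map_equiv, hC, hD, Subgroup.mem_centralizer_singleton_iff,
      Subgroup.mem_centralizer_singleton_iff, MulAut.conj_symm_apply]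
    constructor
    · intro h
      calc x * t = g * (g⁻¹ * x * g * (g⁻¹ * t * g)) * g⁻¹ := by group
        _ = g * ((g⁻¹ * t * g) * (g⁻¹ * x * g)) * g⁻¹ := by rw [h]
        _ = t * x := by group
    · intro h
      calc g⁻¹ * x * g * (g⁻¹ * t * g) = g⁻¹ * (x * t) * g := by group
        _ = g⁻¹ * (t * x) * g := by rw [h]
        _ = (g⁻¹ * t * g) * (g⁻¹ * x * g) := by group
  have h1 : S.relIndex D = (S.map (MulAut.conj g).toMonoidHom).relIndex C := by
    rw [← hCD, Subgroup.relIndex_map_map_of_injective _ _ (MulAut.conj g).injective]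
  rw [h1, ← MulAction.index_stabilizer, Subgroup.relIndex]
  congr 1
  ext ⟨c, hc⟩
  rw [MulAction.mem_stabilizer_iff, Subgroup.mem_subgroupOf, Subgroup.mem_map_equiv,
    MulAut.conj_symm_apply]
  show c • ((g : G) : G ⧸ S) = _ ↔ _
  rw [MulAction.Quotient.smul_mk, smul_eq_mul, eq_comm, QuotientGroup.eq, mul_assoc]

/-- **(TL)**: if every conjugate `u` of the involution `t` in `S` with `φ u ≠ 1` and `|C_G(u) : C_S(u)|` odd
is `S`-conjugate to `t`, then the transfer is `φ t`. -/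
theorem transfer_eq {A : Type*} [CommGroup A] [Finite G] (S : Subgroup G) (φ : S →* A) (t : G)
    (ht : t * t = 1) (htS : t ∈ S)
    (hcl : ∀ g : G, ∀ hg : g⁻¹ * t * g ∈ S, φ ⟨g⁻¹ * t * g, hg⟩ ≠ 1 →
      Odd (S.relIndex (Subgroup.centralizer {g⁻¹ * t * g})) → ∃ x ∈ S, g⁻¹ * t * g = x⁻¹ * t * x)
    (hodd : Odd (S.relIndex (Subgroup.centralizer {t}))) :
    MonoidHom.transfer φ t = φ ⟨t, htS⟩ := by
  classical
  have hti : t⁻¹ = t := inv_eq_of_mul_eq_one_right ht
  have := Fintype.ofFinite (G ⧸ S)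
  obtain ⟨f, hf, hprod⟩ := transfer_eq_prod_fixed S φ t ht
  set C := Subgroup.centralizer ({t} : Set G) with hC
  have hfix : ∀ g : G, t • ((g : G) : G ⧸ S) = (g : G ⧸ S) ↔ g⁻¹ * t * g ∈ S := by
    intro g
    rw [MulAction.Quotient.smul_mk, smul_eq_mul, QuotientGroup.eq]
    have : (t * g)⁻¹ * g = g⁻¹ * t * g := by rw [mul_inv_rev, hti]
    rw [this]
  -- `C` acts on the fixed cosets, with the same value
  have hCf : ∀ c ∈ C, ∀ q : G ⧸ S, t • q = q → t • (c • q) = c • q ∧ f (c • q) = f q := by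
    intro c hc q hq
    obtain ⟨g, rfl⟩ := QuotientGroup.mk_surjective q
    have hg := (hfix g).1 hq
    rw [hC, Subgroup.mem_centralizer_singleton_iff] at hc
    have h1 : (c * g)⁻¹ * t * (c * g) = g⁻¹ * t * g := by
      calc (c * g)⁻¹ * t * (c * g) = g⁻¹ * (c⁻¹ * (t * c)) * g := by group
        _ = g⁻¹ * (c⁻¹ * (c * t)) * g := by rw [hc]
        _ = g⁻¹ * t * g := by group
    have h2 : (c * g)⁻¹ * t * (c * g) ∈ S := by rw [h1]; exact hg
    rw [MulAction.Quotient.smul_mk, smul_eq_mul]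
    refine ⟨(hfix _).2 h2, ?_⟩
    rw [hf _ (c * g) rfl h2, hf _ g rfl hg]
    congr 1
    exact Subtype.ext h1
  have hsq : ∀ q : G ⧸ S, t • q = q → f q ^ 2 = 1 := by
    intro q hq
    obtain ⟨g, rfl⟩ := QuotientGroup.mk_surjective q
    have hg := (hfix g).1 hq
    rw [hf _ g rfl hg, ← map_pow]
    have : (⟨g⁻¹ * t * g, hg⟩ : S) ^ 2 = 1 := by
      apply Subtype.ext
      rw [Subgroup.coe_pow, Subgroup.coe_one, pow_two]
      calc g⁻¹ * t * g * (g⁻¹ * t * g) = g⁻¹ * (t * t) * g := by group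
        _ = 1 := by rw [ht]; group
    rw [this, map_one]
  set q0 : G ⧸ S := ((1 : G) : G ⧸ S) with hq0
  -- the product over one orbit
  have horb : ∀ q : G ⧸ S, t • q = q →
      ∏ p ∈ Finset.univ.filter (fun p : G ⧸ S => p ∈ orbit C q), f p = f q ^ (orbit C q).ncard := by
    intro q hq
    rw [Finset.prod_congr (g := fun _ => f q) rfl, Finset.prod_const]
    · congr 1
      rw [← Set.ncard_coe_finset]
      congr 1
      ext p; simp
    · intro p hp
      simp only [Finset.mem_filter, Finset.mem_univ, true_and] at hp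
      obtain ⟨⟨c, hc⟩, rfl⟩ := hp
      exact (hCf c hc q hq).2
  let r : G ⧸ S → orbitRel.Quotient C (G ⧸ S) := fun q => Quotient.mk'' q
  have : Fintype (orbitRel.Quotient C (G ⧸ S)) := Fintype.ofFinite _
  rw [hprod, ← Finset.prod_fiberwise (Finset.univ.filter (fun q : G ⧸ S => t • q = q)) r f]
  have h1 : ∀ q : G ⧸ S, t • q = q →
      ∏ p ∈ (Finset.univ.filter (fun q : G ⧸ S => t • q = q)).filter (fun p => r p = r q), f p =
        f q ^ (orbit C q).ncard := by
    intro q hq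
    rw [← horb q hq]
    apply Finset.prod_congr _ (fun _ _ => rfl)
    ext p
    simp only [Finset.mem_filter, Finset.mem_univ, true_and]
    constructor
    · rintro ⟨_, h⟩
      exact orbitRel_apply.1 (Quotient.exact h)
    · intro h
      refine ⟨?_, Quotient.sound (orbitRel_apply.2 h)⟩
      obtain ⟨⟨c, hc⟩, rfl⟩ := h
      exact (hCf c hc q hq).1
  have hq0fix : t • q0 = q0 := (hfix 1).2 (by simpa using htS)
  rw [Finset.prod_eq_single (r q0)]
  · rw [h1 q0 hq0fix]
    have hf0 : f q0 = φ ⟨t, htS⟩ := by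
      rw [hf q0 1 rfl (by simpa using htS)]
      congr 1
      exact Subtype.ext (by simp)
    have hc0 := card_orbit_eq S t 1
    rw [← hC, ← hq0] at hc0
    have e1 : (1 : G)⁻¹ * t * 1 = t := by group
    rw [e1, ← hC] at hc0
    rw [hc0, ← hf0]
    obtain ⟨k, hk⟩ := hodd
    rw [hk, pow_succ, pow_mul, hsq q0 hq0fix, one_pow, one_mul]
  · intro o _ ho
    by_cases hex : ∃ q : G ⧸ S, t • q = q ∧ r q = o
    · obtain ⟨q, hq, rfl⟩ := hex
      rw [h1 q hq]
      by_cases hf1 : f q = 1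
      · rw [hf1, one_pow]
      obtain ⟨g, rfl⟩ := QuotientGroup.mk_surjective q
      have hg := (hfix g).1 hq
      rw [card_orbit_eq]
      rcases Nat.even_or_odd (S.relIndex (Subgroup.centralizer {g⁻¹ * t * g})) with he | ho'
      · obtain ⟨k, hk⟩ := he
        rw [hk, ← two_mul, pow_mul, hsq _ hq, one_pow]
      · exfalso
        rw [hf _ g rfl hg] at hf1
        obtain ⟨x, hx, e⟩ := hcl g hg hf1 ho'
        apply ho
        apply Quotient.sound
        show orbitRel C (G ⧸ S) _ _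
        rw [orbitRel_apply]
        have hc : g * x⁻¹ ∈ C := by
          rw [hC, Subgroup.mem_centralizer_singleton_iff]
          have h2 : g * x⁻¹ * t * (g * x⁻¹)⁻¹ = t := by
            calc g * x⁻¹ * t * (g * x⁻¹)⁻¹ = g * (x⁻¹ * t * x) * g⁻¹ := by group
              _ = t := by rw [← e]; group
          calc g * x⁻¹ * t = g * x⁻¹ * t * (g * x⁻¹)⁻¹ * (g * x⁻¹) := by group
            _ = t * (g * x⁻¹) := by rw [h2]
        refine ⟨⟨g * x⁻¹, hc⟩, ?_⟩
        show (g * x⁻¹) • q0 = _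
        rw [hq0, MulAction.Quotient.smul_mk, smul_eq_mul, mul_one, QuotientGroup.eq]
        have : (g * x⁻¹)⁻¹ * g = x := by group
        rw [this]; exact hx
    · apply Finset.prod_eq_one
      intro p hp
      simp only [Finset.mem_filter, Finset.mem_univ, true_and] at hp
      exact absurd ⟨p, hp.1, hp.2⟩ hex
  · intro h
    exact absurd (Finset.mem_univ _) h

/-- The transfer to an abelian group is trivial in a nonabelian simple group. -/
theorem map_eq_one_of_simple {A : Type*} [CommGroup A] [IsSimpleGroup G]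
    (hG : ¬ ∀ a b : G, a * b = b * a) (f : G →* A) (t : G) : f t = 1 := by
  rcases (inferInstance : f.ker.Normal).eq_bot_or_eq_top with hk | hk
  · exfalso
    apply hG
    intro a b
    apply (MonoidHom.ker_eq_bot_iff f).mp hk
    rw [map_mul, map_mul, mul_comm]
  · have : t ∈ f.ker := hk ▸ Subgroup.mem_top t
    exact this

/-- **(TL), existence form**: if the transfer of `t` vanishes but `φ t ≠ 1`, there is an extremal conjugate
`u` of `t` in `S`, not `S`-conjugate to `t`, with `φ u ≠ 1`. -/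
theorem exists_extremal {A : Type*} [CommGroup A] [Finite G] (S : Subgroup G) (φ : S →* A) (t : G)
    (hG : ∀ f : G →* A, f t = 1) (ht : t * t = 1) (htS : t ∈ S) (hφ : φ ⟨t, htS⟩ ≠ 1)
    (hodd : Odd (S.relIndex (Subgroup.centralizer {t}))) :
    ∃ g : G, ∃ hg : g⁻¹ * t * g ∈ S, φ ⟨g⁻¹ * t * g, hg⟩ ≠ 1 ∧
      Odd (S.relIndex (Subgroup.centralizer {g⁻¹ * t * g})) ∧
      ∀ x ∈ S, g⁻¹ * t * g ≠ x⁻¹ * t * x := by
  by_contra hne
  push Not at hne
  apply hφ
  rw [← transfer_eq S φ t ht htS (fun g hg h1 h2 => ?_) hodd]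
  · exact hG _
  · obtain ⟨x, hx, e⟩ := hne g hg h1 h2
    exact ⟨x, hx, e⟩

/-- (TL), for a subgroup `S₁` of index two of `S`. -/
theorem exists_extremal_index [Finite G] (S : Subgroup G) (S₁ : Subgroup S) (hidx : S₁.index = 2)
    (t : G) (hG : ∀ f : G →* ℤˣ, f t = 1) (ht : t * t = 1) (htS : t ∈ S)
    (htS₁ : (⟨t, htS⟩ : S) ∉ S₁) (hodd : Odd (S.relIndex (Subgroup.centralizer {t}))) :
    ∃ g : G, ∃ hg : g⁻¹ * t * g ∈ S, (⟨g⁻¹ * t * g, hg⟩ : S) ∉ S₁ ∧
      Odd (S.relIndex (Subgroup.centralizer {g⁻¹ * t * g})) ∧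
      ∀ x ∈ S, g⁻¹ * t * g ≠ x⁻¹ * t * x := by
  classical
  have hmul : ∀ a b : S, (a * b ∈ S₁ ↔ (a ∈ S₁ ↔ b ∈ S₁)) :=
    fun a b => Subgroup.mul_mem_iff_of_index_two hidx
  let φ : S →* ℤˣ :=
    { toFun := fun a => if a ∈ S₁ then 1 else -1
      map_one' := if_pos (Subgroup.one_mem _)
      map_mul' := by
        intro a b
        have := hmul a b
        by_cases ha : a ∈ S₁ <;> by_cases hb : b ∈ S₁ <;>
          simp [this, ha, hb] }
  have hφ : ∀ a : S, φ a ≠ 1 ↔ a ∉ S₁ := by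
    intro a
    show (if a ∈ S₁ then (1 : ℤˣ) else -1) ≠ 1 ↔ _
    by_cases ha : a ∈ S₁ <;> simp [ha]
  obtain ⟨g, hg, h1, h3, h4⟩ := exists_extremal S φ t hG ht htS ((hφ _).2 htS₁) hodd
  exact ⟨g, hg, (hφ _).1 h1, h3, h4⟩

/-- (TL), for a subgroup `S₁` of `G` with `|S : S ∩ S₁| = 2`. -/
theorem exists_extremal_two [Finite G] (S S₁ : Subgroup G) (h2 : S₁.relIndex S = 2)
    (t : G) (hG : ∀ f : G →* ℤˣ, f t = 1) (ht : t * t = 1) (htS : t ∈ S) (htS₁ : t ∉ S₁)
    (hodd : Odd (S.relIndex (Subgroup.centralizer {t}))) :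
    ∃ g : G, g⁻¹ * t * g ∈ S ∧ g⁻¹ * t * g ∉ S₁ ∧
      Odd (S.relIndex (Subgroup.centralizer {g⁻¹ * t * g})) ∧
      ∀ x ∈ S, g⁻¹ * t * g ≠ x⁻¹ * t * x := by
  obtain ⟨g, hg, h1, h3, h4⟩ := exists_extremal_index S (S₁.subgroupOf S) h2 t hG ht htS
    (by rw [Subgroup.mem_subgroupOf]; exact htS₁) hodd
  exact ⟨g, hg, by rw [Subgroup.mem_subgroupOf] at h1; exact h1, h3, h4⟩

end Cfsg.Agent.GTwoFour.TransferTL
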