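import Cfsg.Agent.StdL3.HeisRing
import Mathlib.GroupTheory.Commutator.Basic
import Mathlib.GroupTheory.Subgroup.Center
import Mathlib.Tactic.Group

/-!
# A homomorphism from the automorphism group of a group with a commutator form over a ring

`RingData R ν j`: `R` is a group of class two whose centre is the image of the ring `Q ν` (of order 16)
under `j`, such that the commutator form has many `Q ν`-linear sections (`p1`) and is onto (`p2`).
Then every automorphism of `R` acts semilinearly on the centre; composing with `exists_chi` we get a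
homomorphism `χ` from `MulAut R` to a commutative group such that involutions `d` with `χ d ≠ 1` have
exactly four fixed points on the centre.
-/

set_option autoImplicit false

namespace Cfsg.Agent.GTwoFour.ChiRing

open Subgroup Cfsg.Agent.StdL3.HeisRing
open Cfsg.Agent.SporadicA.FieldFour
open scoped commutatorElement

variable {R : Type*} [Group R] {ν : F4} {j : Q ν → R}

/-- a class two group whose centre is the ring `Q ν` -/
structure RingData (R : Type*) [Group R] (ν : F4) (j : Q ν → R) : Prop where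
  add : ∀ a b, j (a + b) = j a * j b
  inj : Function.Injective j
  mem : ∀ a, j a ∈ center R
  sur : ∀ z ∈ center R, ∃ a, j a = z
  p1 : ∀ (b : Q ν) (r : R), ∃ r' : R, ∀ (s : R) (x : Q ν), ⁅r, s⁆ = j x → ⁅r', s⁆ = j (b * x)
  p2 : ∀ x : Q ν, ∃ r s : R, ⁅r, s⁆ = j x

namespace RingData

variable (h : RingData R ν j)
include h

lemma map_zero : j 0 = 1 := by
  have := h.add 0 0
  rw [add_zero] at this
  exact left_eq_mul.1 this

lemma mul_self (x : Q ν) : j x * j x = 1 := by
  rw [← h.add, CharTwo.add_self_eq_zero, h.map_zero]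

lemma inv (x : Q ν) : (j x)⁻¹ = j x := inv_eq_of_mul_eq_one_right (h.mul_self x)

lemma swap {r s : R} {x : Q ν} (hx : ⁅r, s⁆ = j x) : ⁅s, r⁆ = j x := by
  rw [← commutatorElement_inv, hx, h.inv]

/-- the action of an automorphism on the centre -/
lemma exists_g (α : MulAut R) : ∃ g : Q ν → Q ν, ∀ x, α (j x) = j (g x) := by
  have : ∀ x, ∃ y, α (j x) = j y := by
    intro x
    have h1 : α (j x) ∈ center R := by
      rw [mem_center_iff]
      intro r
      have h2 := mem_center_iff.1 (h.mem x) (α.symm r)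
      have h3 := congrArg α h2
      rw [map_mul, map_mul, MulEquiv.apply_symm_apply] at h3
      exact h3
    obtain ⟨y, hy⟩ := h.sur _ h1
    exact ⟨y, hy.symm⟩
  choose g hg using this
  exact ⟨g, hg⟩

lemma g_add {α : MulAut R} {g : Q ν → Q ν} (hg : ∀ x, α (j x) = j (g x)) (x y : Q ν) :
    g (x + y) = g x + g y := by
  apply h.inj
  rw [← hg, h.add, map_mul, hg, hg, ← h.add]

lemma g_inv {α : MulAut R} {g g' : Q ν → Q ν} (hg : ∀ x, α (j x) = j (g x))
    (hg' : ∀ x, α⁻¹ (j x) = j (g' x)) (x : Q ν) : g (g' x) = x ∧ g' (g x) = x := by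
  constructor
  · apply h.inj
    rw [← hg, ← hg', ← MulAut.mul_apply, mul_inv_cancel, MulAut.one_apply]
  · apply h.inj
    rw [← hg', ← hg, ← MulAut.mul_apply, inv_mul_cancel, MulAut.one_apply]

/-- semilinearity -/
lemma exists_sigma_aux {α : MulAut R} {g g' : Q ν → Q ν} (hg : ∀ x, α (j x) = j (g x))
    (hg' : ∀ x, α⁻¹ (j x) = j (g' x)) (c y : Q ν) : g (c * y) = g (c * g' 1) * g y := by
  -- `e x = g (c * g' x)` commutes with multiplications
  have key : ∀ b x : Q ν, g (c * g' (b * x)) = b * g (c * g' x) := by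
    intro b x
    obtain ⟨r, s, hrs⟩ := h.p2 x
    obtain ⟨r0, hr0⟩ := h.p1 c (α⁻¹ r)
    have hE : ∀ (u : R) (y : Q ν), ⁅r, u⁆ = j y → ⁅α r0, u⁆ = j (g (c * g' y)) := by
      intro u y hy
      have h1 : ⁅α⁻¹ r, α⁻¹ u⁆ = j (g' y) := by
        rw [← map_commutatorElement, hy, hg']
      have h2 := hr0 _ _ h1
      have h3 := congrArg α h2
      rw [map_commutatorElement, hg, ← MulAut.mul_apply, mul_inv_cancel, MulAut.one_apply] at h3
      exact h3
    obtain ⟨s', hs'⟩ := h.p1 b s
    have h1 : ⁅r, s'⁆ = j (b * x) := h.swap (hs' _ _ (h.swap hrs))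
    have h2 := hE _ _ h1
    have h3 : ⁅α r0, s'⁆ = j (b * g (c * g' x)) := h.swap (hs' _ _ (h.swap (hE _ _ hrs)))
    exact h.inj (h2.symm.trans h3)
  have h1 := key (g y) 1
  rw [mul_one, (h.g_inv hg hg' y).2] at h1
  rw [h1, mul_comm]

lemma exists_sigma (α : MulAut R) : ∃ σ : RingAut (Q ν), ∀ c x y,
    α (j x) = j y → α (j (c * x)) = j (σ c * y) := by
  obtain ⟨g, hg⟩ := h.exists_g α
  obtain ⟨g', hg'⟩ := h.exists_g α⁻¹
  have hs := h.exists_sigma_aux hg hg'
  let f : Q ν →+* Q ν :=
    { toFun := fun c => g (c * g' 1)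
      map_one' := by rw [one_mul, (h.g_inv hg hg' 1).1]
      map_mul' := by
        intro a b
        have h1 := hs a (b * g' 1)
        rw [← mul_assoc] at h1
        exact h1
      map_zero' := by
        have := h.g_add hg 0 0
        rw [add_zero] at this
        rw [zero_mul]
        exact left_eq_add.1 this
      map_add' := by
        intro a b
        rw [add_mul, h.g_add hg] }
  have hinj : Function.Injective f := by
    intro a b hab
    have h1 : g (a * 1) = g (b * 1) := by
      rw [hs a 1, hs b 1]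
      congr 1
    have h2 := congrArg g' h1
    rw [(h.g_inv hg hg' _).2, (h.g_inv hg hg' _).2, mul_one, mul_one] at h2
    exact h2
  have hbij : Function.Bijective f := Finite.injective_iff_bijective.1 hinj
  refine ⟨RingEquiv.ofBijective f hbij, ?_⟩
  intro c x y hxy
  rw [hg] at hxy
  rw [hg, hs, h.inj hxy]
  rfl

lemma sigma_unique {α : MulAut R} {σ σ' : RingAut (Q ν)}
    (h1 : ∀ c x y, α (j x) = j y → α (j (c * x)) = j (σ c * y))
    (h2 : ∀ c x y, α (j x) = j y → α (j (c * x)) = j (σ' c * y)) : σ = σ' := by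
  obtain ⟨g, hg⟩ := h.exists_g α
  obtain ⟨g', hg'⟩ := h.exists_g α⁻¹
  ext1 c
  have h3 : α (j (g' 1)) = j 1 := by rw [hg, (h.g_inv hg hg' 1).1]
  have h4 := (h1 c _ _ h3).symm.trans (h2 c _ _ h3)
  have h5 := h.inj h4
  rwa [mul_one, mul_one] at h5

/-- the homomorphism to the automorphism group of the ring -/
noncomputable def sig : MulAut R →* RingAut (Q ν) where
  toFun α := (h.exists_sigma α).choose
  map_one' := by
    refine h.sigma_unique (h.exists_sigma 1).choose_spec ?_
    intro c x y hxy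
    rw [MulAut.one_apply] at hxy ⊢
    rw [h.inj hxy]; rfl
  map_mul' α β := by
    refine h.sigma_unique (h.exists_sigma (α * β)).choose_spec ?_
    intro c x y hxy
    obtain ⟨g, hg⟩ := h.exists_g β
    have h1 := (h.exists_sigma β).choose_spec c x _ (hg x)
    have h2 : α (j (g x)) = j y := by
      rw [← hg, ← MulAut.mul_apply, hxy]
    have h3 := (h.exists_sigma α).choose_spec ((h.exists_sigma β).choose c) _ _ h2
    rw [MulAut.mul_apply, h1, h3]
    rfl

lemma sig_spec (α : MulAut R) : ∀ c x y, α (j x) = j y → α (j (c * x)) = j (h.sig α c * y) :=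
  (h.exists_sigma α).choose_spec

lemma card_fixed {d : MulAut R} (hd : d * d = 1) {θ : Q ν} (hθ : h.sig d θ = θ + 1) :
    Nat.card {z : center R // d z = z} = 4 := by
  obtain ⟨g, hg⟩ := h.exists_g d
  have hgg : ∀ x, g (g x) = x := by
    intro x
    apply h.inj
    rw [← hg, ← hg, ← MulAut.mul_apply, hd, MulAut.one_apply]
  let δ : Q ν →+ Q ν := AddMonoidHom.mk' (fun x => g x + x) (fun x y => by
    rw [h.g_add hg]; abel)
  have hδ : ∀ x, δ x = g x + x := fun x => rfl
  have hker : ∀ x, x ∈ δ.ker ↔ g x = x := by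
    intro x
    rw [AddMonoidHom.mem_ker, hδ]
    exact CharTwo.add_eq_zero
  have hkr : δ.ker = δ.range := by
    ext x
    rw [hker, AddMonoidHom.mem_range]
    constructor
    · intro hx
      refine ⟨θ * x, ?_⟩
      rw [hδ]
      have h1 : g (θ * x) = (θ + 1) * x := by
        apply h.inj
        rw [← hg, h.sig_spec d θ x x (by rw [hg, hx]), hθ]
      rw [h1, add_mul, one_mul, add_comm, ← add_assoc, CharTwo.add_self_eq_zero, zero_add]
    · rintro ⟨y, rfl⟩
      rw [hδ, h.g_add hg, hgg, add_comm]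
  have hc : Nat.card δ.ker * Nat.card δ.range = 16 := by
    have h1 := δ.ker.card_eq_card_quotient_mul_card_addSubgroup
    have h2 := Nat.card_congr (QuotientAddGroup.quotientKerEquivRange δ).toEquiv
    rw [h2, card_q] at h1
    rw [mul_comm]
    exact h1.symm
  rw [← hkr] at hc
  have h4 : Nat.card δ.ker = 4 := by nlinarith
  rw [← h4]
  symm
  refine Nat.card_congr (Equiv.ofBijective
    (fun x : δ.ker => (⟨⟨j x, h.mem x⟩, by
      have := (hker x).1 x.2
      change d (j x) = j x
      rw [hg, this]⟩ : {z : center R // d z = z})) ⟨?_, ?_⟩)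
  · intro a b hab
    have h1 : j (a : Q ν) = j (b : Q ν) := congrArg (fun z => ((z.1 : center R) : R)) hab
    exact Subtype.ext (h.inj h1)
  · rintro ⟨⟨z, hz⟩, hdz⟩
    obtain ⟨x, rfl⟩ := h.sur z hz
    have h1 : g x = x := h.inj (by rw [← hg]; exact hdz)
    exact ⟨⟨x, (hker x).2 h1⟩, rfl⟩

/-- **the homomorphism `χ`** -/
theorem exists_chi : ∃ (A : Type) (_ : CommGroup A) (χ : MulAut R →* A),
    (∀ τ : MulAut R, (∀ x, τ (j x) = j (tau ν x)) → χ τ ≠ 1) ∧
    ∀ d : MulAut R, d * d = 1 → χ d ≠ 1 → Nat.card {z : center R // d z = z} = 4 := by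
  obtain ⟨A, iA, χ0, θ, h1, h2⟩ := Cfsg.Agent.StdL3.HeisRing.exists_chi ν
  refine ⟨A, iA, χ0.comp h.sig, ?_, ?_⟩
  · intro τ hτ
    have h3 : h.sig τ = tau ν := by
      refine h.sigma_unique (h.sig_spec τ) ?_
      intro c x y hxy
      rw [hτ] at hxy
      rw [hτ, map_mul, h.inj hxy]
    rw [MonoidHom.comp_apply, h3]
    exact h1
  · intro d hd hχ
    refine h.card_fixed hd (θ := θ) (h2 _ ?_ hχ)
    rw [← map_mul, hd, map_one]

end RingData

end Cfsg.Agent.GTwoFour.ChiRing
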