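import Cfsg.Agent.GTwoFour.ChiData
import Cfsg.Agent.GTwoFour.ChiRing

/-!
# Step (B): the homomorphism `χ` on `MulAut R`, `|R| = 2^20`
-/

set_option autoImplicit false

namespace Cfsg.Agent.GTwoFour.Chi

open Subgroup Cfsg.Agent.GTwoFour.Iface Cfsg.Agent.GTwoFour.GrowR Cfsg.Agent.GTwoFour.ChiData
open Cfsg.Agent.StdL3.HeisRing Cfsg.Agent.StdL3.HeisCoord Cfsg.Agent.GTwoFour.ChiCoord
open Cfsg.Agent.GTwoFour.ChiRing
open Cfsg.Agent.SporadicA.FieldFour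
open scoped commutatorElement

variable {H : Type*} [Group H] {D : Data H} {t : H} {W0 V : Subgroup H}

/-- `R` is generated by the `P`-conjugates of `V` -/
lemma gen_V [Finite H] (F : Facts D) (B : Big D t) (W : WFacts D t W0) (hV : VFacts D t W0 V)
    (K : Subgroup H) (hP : ∀ p ∈ D.P, ∀ v ∈ V, p * v * p⁻¹ ∈ K) : rGrp F W ≤ K := by
  have hVK : V ≤ K := by
    intro v hv
    have := hP 1 (one_mem _) v hv
    simpa using this
  refine gen_R F B W hV K ?_ (hV.le.trans hVK) hP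
  refine F.gen_Q1 K (fun z hz => hVK (hV.le (W.Z_le hz))) ?_
  intro p hp e he
  exact hP p hp e (Y1_V hV (Xe_Y1 F W he))

/-- multiplicativity of commutators in `R` -/
lemma comm_mul_l [Finite H] (F : Facts D) (B : Big D t) (W : WFacts D t W0)
    (hV : VFacts D t W0 V) {a b s : H} (ha : a ∈ rGrp F W) (hb : b ∈ rGrp F W)
    (hs : s ∈ rGrp F W) : ⁅a * b, s⁆ = ⁅a, s⁆ * ⁅b, s⁆ := by
  have h1 := comm_R F B W hV hb hs
  have h2 := comm_R F B W hV ha hs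
  rw [comm_mul_left, conj_of_comm (ha.1 _ h1)]
  exact (W.comm _ h2 _ h1).symm

lemma comm_mul_r [Finite H] (F : Facts D) (B : Big D t) (W : WFacts D t W0)
    (hV : VFacts D t W0 V) {a b s : H} (ha : a ∈ rGrp F W) (hb : b ∈ rGrp F W)
    (hs : s ∈ rGrp F W) : ⁅s, a * b⁆ = ⁅s, a⁆ * ⁅s, b⁆ := by
  have h1 := comm_R F B W hV hs hb
  rw [comm_mul_right, conj_of_comm (ha.1 _ h1)]

lemma comm_inv_l [Finite H] (F : Facts D) (B : Big D t) (W : WFacts D t W0)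
    (hV : VFacts D t W0 V) {a s : H} (ha : a ∈ rGrp F W) (hs : s ∈ rGrp F W) :
    ⁅a⁻¹, s⁆ = ⁅a, s⁆⁻¹ := by
  have h1 := comm_mul_l F B W hV (inv_mem ha) ha hs
  rw [inv_mul_cancel, commutatorElement_one_left] at h1
  exact eq_inv_of_mul_eq_one_left h1.symm

lemma comm_inv_r [Finite H] (F : Facts D) (B : Big D t) (W : WFacts D t W0)
    (hV : VFacts D t W0 V) {a s : H} (ha : a ∈ rGrp F W) (hs : s ∈ rGrp F W) :
    ⁅s, a⁻¹⁆ = ⁅s, a⁆⁻¹ := by
  have h1 := comm_mul_r F B W hV (inv_mem ha) ha hs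
  rw [inv_mul_cancel, commutatorElement_one_right] at h1
  exact eq_inv_of_mul_eq_one_left h1.symm

/-- elements of `W0` do not matter in commutators -/
lemma comm_W0_l (F : Facts D) (W : WFacts D t W0) {w s : H} (hw : w ∈ W0) (hs : s ∈ rGrp F W) :
    ⁅w, s⁆ = 1 := by
  rw [commutatorElement_eq_one_iff_mul_comm]
  exact (hs.1 w hw).symm

lemma comm_W0_r (F : Facts D) (W : WFacts D t W0) {w s : H} (hw : w ∈ W0) (hs : s ∈ rGrp F W) :
    ⁅s, w⁆ = 1 := by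
  rw [commutatorElement_eq_one_iff_mul_comm]
  exact hs.1 w hw

/-- `B = Q1 Xa ⟨y⟩` centralises `V / W0` -/
lemma B_V_W0 [Finite H] (F : Facts D) (B : Big D t) (W : WFacts D t W0) (hV : VFacts D t W0 V)
    {b : H} (hb : b ∈ D.B) {v : H} (hv : v ∈ V) : ∃ w ∈ W0, b * v * b⁻¹ = w * v := by
  let N : Subgroup H :=
    { carrier := {b | b ∈ D.P ∧ ∀ v ∈ V, ∃ w ∈ W0, b * v * b⁻¹ = w * v}
      one_mem' := ⟨one_mem _, fun v _ => ⟨1, one_mem _, by simp⟩⟩
      mul_mem' := by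
        rintro a b ⟨ha, ha'⟩ ⟨hb, hb'⟩
        refine ⟨mul_mem ha hb, fun v hv => ?_⟩
        obtain ⟨w, hw, h⟩ := hb' v hv
        obtain ⟨w', hw', h'⟩ := ha' v hv
        refine ⟨w * w', mul_mem hw hw', ?_⟩
        calc a * b * v * (a * b)⁻¹ = a * (b * v * b⁻¹) * a⁻¹ := by group
          _ = (a * w * a⁻¹) * (a * v * a⁻¹) := by rw [h]; group
          _ = w * w' * v := by
            rw [conj_of_comm (W.cent_P w hw a ha).symm, h', mul_assoc]
      inv_mem' := by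
        rintro a ⟨ha, ha'⟩
        refine ⟨inv_mem ha, fun v hv => ?_⟩
        obtain ⟨w, hw, h⟩ := ha' v hv
        refine ⟨w⁻¹, inv_mem hw, ?_⟩
        have c := W.cent_P w hw a⁻¹ (inv_mem ha)
        calc a⁻¹ * v * a⁻¹⁻¹ = w⁻¹ * (w * a⁻¹) * v * a := by group
          _ = w⁻¹ * a⁻¹ * (w * v) * a := by rw [c]; group
          _ = w⁻¹ * v := by rw [← h]; group }
  have hle : D.B ≤ N := by
    refine sup_le (sup_le ?_ ?_) ?_
    · intro q hq
      refine ⟨F.Q1_le hq, fun v hv => ⟨⁅q, v⁆, ?_, ?_⟩⟩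
      · exact comm_R F B W hV (Q1_R F B W hq) (V_R F W hV hv)
      · rw [commutatorElement_def]; group
    · intro a ha
      refine ⟨Xa_P F ha, fun v hv => ⟨1, one_mem _, ?_⟩⟩
      rw [conj_of_comm (hV.cent_L2 v hv a (F.Q2_le (F.Xa_le ha))).symm, one_mul]
    · rw [zpowers_le]
      refine ⟨F.y_mem.1, fun v hv => ⟨1, one_mem _, ?_⟩⟩
      rw [conj_of_comm (hV.cent_L2 v hv _ F.y_mem).symm, one_mul]
  exact (hle hb).2 v hv

section

variable {ν : F4} {y1 y2 y3 : Q ν → H}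

lemma y3_zero {T : H →* H} {Y1 Y2 Y3 : Subgroup H} (C : Coord T Y1 Y2 Y3 ν y1 y2 y3) : y3 0 = 1 := by
  have := C.a3 0 0
  rw [add_zero] at this
  exact left_eq_mul.1 this

lemma y3_inj {T : H →* H} {Y1 Y2 Y3 : Subgroup H} (C : Coord T Y1 Y2 Y3 ν y1 y2 y3) :
    Function.Injective y3 := by
  intro a b hab
  have h1 : y3 (a + b) = 1 := by
    rw [C.a3, hab, ← C.a3, CharTwo.add_self_eq_zero, y3_zero C]
  exact CharTwo.add_eq_zero.1 (C.i3 _ h1)

lemma y3_inv {T : H →* H} {Y1 Y2 Y3 : Subgroup H} (C : Coord T Y1 Y2 Y3 ν y1 y2 y3) (a : Q ν) :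
    (y3 a)⁻¹ = y3 a := by
  apply inv_eq_of_mul_eq_one_right
  rw [← C.a3, CharTwo.add_self_eq_zero, y3_zero C]

/-- relation between the commutators with `r'` and with `r` -/
def Rel (R : Subgroup H) (y3 : Q ν → H) (b : Q ν) (r r' : H) : Prop :=
  ∀ s ∈ R, ∀ x, ⁅r, s⁆ = y3 x → ⁅r', s⁆ = y3 (b * x)

/-- the key computation -/
lemma key_comm [Finite H] (F : Facts D) (B : Big D t) (W : WFacts D t W0) (hV : VFacts D t W0 V)
    (C : Coord (TT t) (Y1 D W0) (Y2 D W0) W0 ν y1 y2 y3) {g : H} (hg : g ∈ D.P) {u : H}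
    (hu : u ∈ V) : ∃ d : Q ν, ∀ a : Q ν, ⁅y1 a, g * u * g⁻¹⁆ = y3 (a * d) := by
  rcases F.bruhat g hg with hb | ⟨b, hb, b', hb', rfl⟩
  · refine ⟨0, fun a => ?_⟩
    rw [mul_zero, y3_zero C, commutatorElement_eq_one_iff_mul_comm]
    exact hV.comm _ (Y1_V hV (C.m1 a)) _ (conj_V_of_B F W hV hb hu).1
  · have hbP : b ∈ D.P := by
      have hle : D.B ≤ D.P := sup_le (sup_le F.Q1_le (fun a ha => Xa_P F ha))
        (by rw [zpowers_le]; exact F.y_mem.1)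
      exact hle hb
    obtain ⟨y, hy, w, hw, huw⟩ := mem_V F B W hV (conj_V_of_B F W hV hb' hu).1
    obtain ⟨d, hd⟩ := C.s2 _ (mem_Y2.2 ⟨y, hy, rfl⟩)
    refine ⟨d, fun a => ?_⟩
    have e1 : ⁅y1 a, b * D.ns * b' * u * (b * D.ns * b')⁻¹⁆
        = b * ⁅b⁻¹ * y1 a * b, D.ns * (b' * u * b'⁻¹) * D.ns⁻¹⁆ * b⁻¹ := by
      rw [conj_comm]
      congr 1 <;> group
    obtain ⟨w', hw', h'⟩ := B_V_W0 F B W hV (inv_mem hb) (Y1_V hV (C.m1 a))
    rw [inv_inv] at h'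
    have hy2R : y2 d ∈ rGrp F W := Y2_R F B W hV (C.m2 d)
    have hy1R : y1 a ∈ rGrp F W := Y1_R F W hV (C.m1 a)
    have e2 : D.ns * (b' * u * b'⁻¹) * D.ns⁻¹ = y2 d * w := by
      rw [huw, ← hd]
      have := conj_of_comm (W.cent_P w hw _ F.ns_mem).symm
      calc D.ns * (y * w) * D.ns⁻¹ = D.ns * y * D.ns⁻¹ * (D.ns * w * D.ns⁻¹) := by group
        _ = _ := by rw [this]
    have e3 : ⁅b⁻¹ * y1 a * b, D.ns * (b' * u * b'⁻¹) * D.ns⁻¹⁆ = y3 (a * d) := by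
      rw [h', e2, comm_mul_l F B W hV (W0_R F W hw') hy1R (mul_mem hy2R (W0_R F W hw)),
        comm_W0_l F W hw' (mul_mem hy2R (W0_R F W hw)), one_mul,
        comm_mul_r F B W hV hy2R (W0_R F W hw) hy1R, comm_W0_r F W hw hy1R, mul_one,
        ← zz_eq (sq_Y1 hV _ (C.m1 a)) (sq_Y2 hV _ (C.m2 d)), C.key]
    rw [e1, e3]
    exact conj_of_comm (W.cent_P _ (C.m3 _) b hbP).symm

lemma rel_conj [Finite H] (F : Facts D) (B : Big D t) (W : WFacts D t W0) (hV : VFacts D t W0 V)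
    (C : Coord (TT t) (Y1 D W0) (Y2 D W0) W0 ν y1 y2 y3) (b a : Q ν) {p : H} (hp : p ∈ D.P) :
    Rel (rGrp F W) y3 b (p * y1 a * p⁻¹) (p * y1 (b * a) * p⁻¹) := by
  have hR : ∀ c, p * y1 c * p⁻¹ ∈ rGrp F W := fun c => P_R F B W hp (Y1_R F W hV (C.m1 c))
  let L : Subgroup H :=
    { carrier := {s | s ∈ rGrp F W ∧ ∀ x, ⁅p * y1 a * p⁻¹, s⁆ = y3 x →
        ⁅p * y1 (b * a) * p⁻¹, s⁆ = y3 (b * x)}
      one_mem' := by
        refine ⟨one_mem _, fun x hx => ?_⟩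
        rw [commutatorElement_one_right] at hx ⊢
        have : x = 0 := y3_inj C (by rw [← hx, y3_zero C])
        rw [this, mul_zero, y3_zero C]
      mul_mem' := by
        rintro s s' ⟨hs, h⟩ ⟨hs', h'⟩
        refine ⟨mul_mem hs hs', fun x hx => ?_⟩
        obtain ⟨x1, hx1⟩ := C.s3 _ (comm_R F B W hV (hR a) hs)
        obtain ⟨x2, hx2⟩ := C.s3 _ (comm_R F B W hV (hR a) hs')
        rw [comm_mul_r F B W hV hs hs' (hR a), hx1, hx2, ← C.a3] at hx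
        have := y3_inj C hx
        rw [comm_mul_r F B W hV hs hs' (hR _), h _ hx1, h' _ hx2, ← C.a3, ← this, mul_add]
      inv_mem' := by
        rintro s ⟨hs, h⟩
        refine ⟨inv_mem hs, fun x hx => ?_⟩
        rw [comm_inv_r F B W hV hs (hR a)] at hx
        have h1 : ⁅p * y1 a * p⁻¹, s⁆ = y3 x := by
          rw [← inv_inv ⁅p * y1 a * p⁻¹, s⁆, hx, y3_inv C]
        rw [comm_inv_r F B W hV hs (hR _), h _ h1, y3_inv C] }
  have hle : rGrp F W ≤ L := by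
    refine gen_V F B W hV L ?_
    intro p' hp' v hv
    refine ⟨P_R F B W hp' (V_R F W hV hv), fun x hx => ?_⟩
    obtain ⟨d, hd⟩ := key_comm F B W hV C (mul_mem (inv_mem hp) hp') hv
    have e : ∀ c, ⁅p * y1 c * p⁻¹, p' * v * p'⁻¹⁆ = y3 (c * d) := by
      intro c
      have e1 : ⁅p * y1 c * p⁻¹, p' * v * p'⁻¹⁆ =
          p * ⁅y1 c, p⁻¹ * p' * v * (p⁻¹ * p')⁻¹⁆ * p⁻¹ := by
        rw [conj_comm]; congr 1; group
      rw [e1, hd]
      exact conj_of_comm (W.cent_P _ (C.m3 _) p hp).symm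
    rw [e] at hx ⊢
    rw [← y3_inj C hx, mul_assoc]
  exact fun s hs => (hle hs).2

/-- (P1) -/
lemma p1 [Finite H] (F : Facts D) (B : Big D t) (W : WFacts D t W0) (hV : VFacts D t W0 V)
    (C : Coord (TT t) (Y1 D W0) (Y2 D W0) W0 ν y1 y2 y3) (b : Q ν) {r : H} (hr : r ∈ rGrp F W) :
    ∃ r' ∈ rGrp F W, Rel (rGrp F W) y3 b r r' := by
  let K : Subgroup H :=
    { carrier := {r | r ∈ rGrp F W ∧ ∃ r' ∈ rGrp F W, Rel (rGrp F W) y3 b r r'}
      one_mem' := by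
        refine ⟨one_mem _, 1, one_mem _, fun s hs x hx => ?_⟩
        rw [commutatorElement_one_left] at hx ⊢
        have : x = 0 := y3_inj C (by rw [← hx, y3_zero C])
        rw [this, mul_zero, y3_zero C]
      mul_mem' := by
        rintro r1 r2 ⟨h1, r1', h1', k1⟩ ⟨h2, r2', h2', k2⟩
        refine ⟨mul_mem h1 h2, r1' * r2', mul_mem h1' h2', fun s hs x hx => ?_⟩
        obtain ⟨x1, hx1⟩ := C.s3 _ (comm_R F B W hV h1 hs)
        obtain ⟨x2, hx2⟩ := C.s3 _ (comm_R F B W hV h2 hs)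
        rw [comm_mul_l F B W hV h1 h2 hs, hx1, hx2, ← C.a3] at hx
        rw [comm_mul_l F B W hV h1' h2' hs, k1 s hs _ hx1, k2 s hs _ hx2, ← C.a3, ← y3_inj C hx,
          mul_add]
      inv_mem' := by
        rintro r1 ⟨h1, r1', h1', k1⟩
        refine ⟨inv_mem h1, r1'⁻¹, inv_mem h1', fun s hs x hx => ?_⟩
        rw [comm_inv_l F B W hV h1 hs] at hx
        have h3 : ⁅r1, s⁆ = y3 x := by rw [← inv_inv ⁅r1, s⁆, hx, y3_inv C]
        rw [comm_inv_l F B W hV h1' hs, k1 s hs _ h3, y3_inv C] }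
  have hle : rGrp F W ≤ K := by
    refine gen_V F B W hV K ?_
    intro p hp v hv
    refine ⟨P_R F B W hp (V_R F W hV hv), ?_⟩
    obtain ⟨y, hy, w, hw, rfl⟩ := mem_V F B W hV hv
    obtain ⟨a, rfl⟩ := C.s1 y hy
    refine ⟨p * y1 (b * a) * p⁻¹, P_R F B W hp (Y1_R F W hV (C.m1 _)), ?_⟩
    intro s hs x hx
    refine rel_conj F B W hV C b a hp s hs x ?_
    have e1 : p * (y1 a * w) * p⁻¹ = (p * y1 a * p⁻¹) * w := by
      have := conj_of_comm (W.cent_P w hw p hp).symm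
      calc p * (y1 a * w) * p⁻¹ = (p * y1 a * p⁻¹) * (p * w * p⁻¹) := by group
        _ = _ := by rw [this]
    rw [e1, comm_mul_l F B W hV (P_R F B W hp (Y1_R F W hV (C.m1 _))) (W0_R F W hw) hs,
      comm_W0_l F W hw hs, mul_one] at hx
    exact hx
  exact (hle hr).2

end

/-- `Z(R) = W0` -/
lemma center_R [Finite H] (F : Facts D) (B : Big D t) (W : WFacts D t W0) (hV : VFacts D t W0 V)
    {z : H} (hz : z ∈ rGrp F W) (hc : ∀ r ∈ rGrp F W, r * z = z * r) : z ∈ W0 := by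
  obtain ⟨q, hq, w, hw, h⟩ := (mem_N F W).1 hz.2.2
  -- `t` normalises `R`
  have htR : ∀ r ∈ rGrp F W, t * r * t⁻¹ ∈ rGrp F W := by
    intro r hr
    have e1 : t * r * t⁻¹ = ⁅r, t⁆⁻¹ * r := by rw [commutatorElement_def]; group
    rw [e1]
    exact mul_mem (inv_mem (N_R F B W hr.2.2)) hr
  have ht : t⁻¹ = t := inv_eq_of_mul_eq_one_right B.t_sq
  -- `[z, t]` commutes with `R`
  have h1 : ∀ r ∈ rGrp F W, r * (t * z * t⁻¹) = (t * z * t⁻¹) * r := by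
    intro r hr
    have e0 : t⁻¹ * r * t = t * r * t⁻¹ := by rw [ht]
    have h2 := hc _ (htR r hr)
    rw [← e0] at h2
    calc r * (t * z * t⁻¹) = t * (t⁻¹ * r * t * z) * t⁻¹ := by group
      _ = t * (z * (t⁻¹ * r * t)) * t⁻¹ := by rw [h2]
      _ = _ := by group
  have h2 : ∀ r ∈ rGrp F W, r * ⁅z, t⁆ = ⁅z, t⁆ * r := by
    intro r hr
    have e1 : ⁅z, t⁆ = z * (t * z * t⁻¹)⁻¹ := by rw [commutatorElement_def]; group
    have e2 := h1 r hr
    have e3 := hc r hr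
    rw [e1]
    calc r * (z * (t * z * t⁻¹)⁻¹) = z * (r * (t * z * t⁻¹)⁻¹) := by
          rw [← mul_assoc, e3, mul_assoc]
      _ = z * ((t * z * t⁻¹)⁻¹ * ((t * z * t⁻¹) * r) * (t * z * t⁻¹)⁻¹) := by group
      _ = z * (t * z * t⁻¹)⁻¹ * r := by rw [← e2]; group
  have h3 : q ∈ D.Z := by
    refine F.center_Q1 q hq (fun q' hq' => ?_)
    have hq'R := Q1_R F B W hq'
    have e1 := h2 q' hq'R
    rw [h] at e1
    have e2 := hq'R.1 w hw
    calc q * q' = (q * w) * w⁻¹ * q' := by group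
      _ = (q * w) * (q' * w⁻¹) := by rw [hq'R.1 _ (inv_mem hw)]; group
      _ = q' * q := by rw [← mul_assoc, ← e1]; group
  have h4 : ⁅z, t⁆ ∈ W0 := by rw [h]; exact mul_mem (W.Z_le h3) hw
  have h5 := ker_R F B W hV hz h4
  obtain ⟨q', hq', w', hw', rfl⟩ := (mem_N F W).1 h5
  have h6 : q' ∈ D.Z := by
    refine F.center_Q1 q' hq' (fun q'' hq'' => ?_)
    have hR := Q1_R F B W hq''
    have e1 := hc q'' hR
    calc q' * q'' = (q' * w') * (w'⁻¹ * q'') := by group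
      _ = (q' * w') * q'' * w'⁻¹ := by rw [← hR.1 _ (inv_mem hw')]; group
      _ = q'' * q' := by rw [← e1]; group
  exact mul_mem (W.Z_le h6) hw'

/-- **Step (B)** -/
theorem exists_chi [Finite H] (F : Facts D) (B : Big D t) (W : WFacts D t W0)
    (hV : VFacts D t W0 V) (E : HFacts D) :
    ∃ (A : Type) (_ : CommGroup A) (χ : MulAut (rGrp F W) →* A),
      (∀ τ : MulAut (rGrp F W), (∀ r, (τ r : H) = t * r * t⁻¹) → χ τ ≠ 1) ∧
      ∀ d : MulAut (rGrp F W), d * d = 1 → χ d ≠ 1 →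
        Nat.card {z : center (rGrp F W) // d z = z} = 4 := by
  obtain ⟨x1, x2, x3, G⟩ := exists_grown F B W hV E
  obtain ⟨ν, y1, y2, y3, C⟩ := exists_coord G
  let j : Q ν → rGrp F W := fun a => ⟨y3 a, W0_R F W (C.m3 a)⟩
  have hj : ∀ a, (j a : H) = y3 a := fun _ => rfl
  have hD : RingData (rGrp F W) ν j :=
    { add := fun a b => Subtype.ext (C.a3 a b)
      inj := fun a b hab => y3_inj C (congrArg Subtype.val hab)
      mem := fun a => by
        rw [mem_center_iff]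
        rintro ⟨r, hr⟩
        exact Subtype.ext (hr.1 _ (C.m3 a))
      sur := by
        rintro ⟨z, hz⟩ hc
        rw [mem_center_iff] at hc
        have h1 := center_R F B W hV hz (fun r hr => congrArg Subtype.val (hc ⟨r, hr⟩))
        obtain ⟨a, ha⟩ := C.s3 z h1
        exact ⟨a, Subtype.ext ha.symm⟩
      p1 := by
        rintro b ⟨r, hr⟩
        obtain ⟨r', hr', h⟩ := p1 F B W hV C b hr
        refine ⟨⟨r', hr'⟩, ?_⟩
        rintro ⟨s, hs⟩ x hx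
        exact Subtype.ext (h s hs x (congrArg Subtype.val hx))
      p2 := by
        intro x
        refine ⟨⟨y1 x, Y1_R F W hV (C.m1 x)⟩, ⟨y2 1, Y2_R F B W hV (C.m2 1)⟩, Subtype.ext ?_⟩
        change ⁅y1 x, y2 1⁆ = y3 x
        rw [← zz_eq (sq_Y1 hV _ (C.m1 x)) (sq_Y2 hV _ (C.m2 1)), C.key, mul_one] }
  obtain ⟨A, iA, χ, h1, h2⟩ := hD.exists_chi
  refine ⟨A, iA, χ, ?_, h2⟩
  intro τ hτ
  refine h1 τ (fun x => Subtype.ext ?_)
  rw [hτ, hj, hj, ← C.t3, TT_apply]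

end Cfsg.Agent.GTwoFour.Chi
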