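import Cfsg.Agent.StdL3.HeisCoord

/-!
# Ring coordinates of a `Grown` configuration

The three groups `Y1, Y2, Y3` of `HeisCoord.Grown` are copies of the ring `Q ν`, the commutator being
the multiplication and `T` acting as `tau ν` (the proof is the first half of helper470's
`HeisCoord.Grown.exists_equiv`).
-/

set_option autoImplicit false

namespace Cfsg.Agent.GTwoFour.ChiCoord

open Cfsg.Agent.StdL3.HeisRing Cfsg.Agent.StdL3.HeisCoord
open Cfsg.Agent.SporadicA.FieldFour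

variable {X : Type*} [Group X]

/-- ring coordinates -/
structure Coord (T : X →* X) (Y1 Y2 Y3 : Subgroup X) (ν : F4) (y1 y2 y3 : Q ν → X) : Prop where
  m1 : ∀ a, y1 a ∈ Y1
  m2 : ∀ a, y2 a ∈ Y2
  m3 : ∀ a, y3 a ∈ Y3
  a1 : ∀ a b, y1 (a + b) = y1 a * y1 b
  a2 : ∀ a b, y2 (a + b) = y2 a * y2 b
  a3 : ∀ a b, y3 (a + b) = y3 a * y3 b
  s1 : ∀ y ∈ Y1, ∃ a, y = y1 a
  s2 : ∀ y ∈ Y2, ∃ a, y = y2 a
  s3 : ∀ y ∈ Y3, ∃ a, y = y3 a
  i3 : ∀ a, y3 a = 1 → a = 0
  t3 : ∀ a, T (y3 a) = y3 (tau ν a)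
  key : ∀ a b, zz (y1 a) (y2 b) = y3 (a * b)

variable {T H : X →* X} {Y1 Y2 Y3 U : Subgroup X} {x1 x2 x3 : F4 → X}

theorem exists_coord (G : Grown T H Y1 Y2 Y3 U x1 x2 x3) :
    ∃ (ν : F4) (y1 y2 y3 : Q ν → X), Coord T Y1 Y2 Y3 ν y1 y2 y3 := by
  obtain ⟨ν, p, q, r, pm, qm, rm, pa, qa, ra, pT, qT, rT, h1, h2, h3⟩ := G.exists_coords
  have z0 : ∀ f : F4 → X, (∀ a b, f (a + b) = f a * f b) → f 0 = 1 := by
    intro f hf
    have := hf 0 0
    rw [add_zero] at this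
    exact left_eq_mul.1 this
  -- general facts on `a ↦ x a.re * p a.im`
  have gen : ∀ (Y : Subgroup X) (x s : F4 → X), (∀ y ∈ Y, y * y = 1) → Nat.card Y = 16 →
      (∀ a, x a ∈ Y) → (∀ a, s a ∈ Y) → (∀ a b, x (a + b) = x a * x b) →
      (∀ a b, s (a + b) = s a * s b) → (∀ a, T (x a) = x a) → (∀ a, T (s a) = s a * x a) →
      (∀ a, x a = 1 → a = 0) →
      (∀ a b : Q ν, x (a + b).re * s (a + b).im = x a.re * s a.im * (x b.re * s b.im)) ∧
      (∀ a : Q ν, T (x a.re * s a.im) = x (tau ν a).re * s (tau ν a).im) ∧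
      (∀ y ∈ Y, ∃ a : Q ν, y = x a.re * s a.im) ∧
      (∀ a : Q ν, x a.re * s a.im = 1 → a = 0) := by
    intro Y x s hsq hcard xm sm xa sa xT sT xi
    have cm : ∀ {a b : X}, a ∈ Y → b ∈ Y → a * b = b * a := fun ha hb => comm_of_sq hsq ha hb
    have hadd : ∀ a b : Q ν, x (a + b).re * s (a + b).im = x a.re * s a.im * (x b.re * s b.im) := by
      intro a b
      rw [re_add, im_add, xa, sa]
      calc x a.re * x b.re * (s a.im * s b.im) = x a.re * (x b.re * s a.im) * s b.im := by group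
        _ = _ := by rw [cm (xm b.re) (sm a.im)]; group
    have hinj : ∀ a : Q ν, x a.re * s a.im = 1 → a = 0 := by
      intro a ha
      have e1 := congrArg T ha
      rw [map_mul, xT, sT, map_one, ← mul_assoc, ha, one_mul] at e1
      have e2 := xi _ e1
      rw [e2, z0 s sa, mul_one] at ha
      exact q_ext (xi _ ha) e2
    refine ⟨hadd, ?_, ?_, hinj⟩
    · intro a
      rw [map_mul, xT, sT, tau_apply, xa, cm (sm a.im) (xm a.im)]
      group
    · have hI : Function.Injective (fun a : Q ν => (⟨x a.re * s a.im, Y.mul_mem (xm _) (sm _)⟩ : Y)) := by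
        intro a b hab
        have e1 : x a.re * s a.im = x b.re * s b.im := congrArg Subtype.val hab
        have e2 := hinj (a + b) (by
          rw [hadd, e1, hsq _ (Y.mul_mem (xm _) (sm _))])
        have e3 : a + b + b = b := by rw [e2, zero_add]
        rw [add_assoc, CharTwo.add_self_eq_zero, add_zero] at e3
        exact e3
      have hfin : Finite Y := Nat.finite_of_card_ne_zero (by rw [hcard]; norm_num)
      have hB := hI.bijective_of_nat_card_le (by rw [hcard, card_q])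
      intro y hy
      obtain ⟨a, ha⟩ := hB.2 ⟨y, hy⟩
      exact ⟨a, (congrArg Subtype.val ha).symm⟩
  obtain ⟨ad1, T1, sur1, -⟩ := gen Y1 x1 p G.sq1 G.card1 G.m1 pm G.a1 pa G.t1 pT G.i1
  obtain ⟨ad2, T2, sur2, -⟩ := gen Y2 x2 q G.sq2 G.card2 G.m2 qm G.a2 qa G.t2 qT G.i2
  obtain ⟨ad3, T3, sur3, i3⟩ := gen Y3 x3 r G.sq3 G.card3 G.m3 rm G.a3 ra G.t3 rT G.i3
  refine ⟨ν, fun a => x1 a.re * p a.im, fun a => x2 a.re * q a.im, fun a => x3 a.re * r a.im,
    fun a => Y1.mul_mem (G.m1 _) (pm _), fun a => Y2.mul_mem (G.m2 _) (qm _),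
    fun a => Y3.mul_mem (G.m3 _) (rm _), ad1, ad2, ad3, sur1, sur2, sur3, i3, T3, ?_⟩
  intro a b
  rw [G.zz_mul_left (G.m1 _) (pm _) (Y2.mul_mem (G.m2 _) (qm _)),
    G.zz_mul_right (G.m1 _) (G.m2 _) (qm _),
    G.zz_mul_right (pm _) (G.m2 _) (qm _), G.zz_x, h1, h2, h3, re_mul, im_mul, one_mul,
    G.a3, ra, ra, mul_assoc ν]
  set A := x3 (a.re * b.re)
  set B := r (a.re * b.im)
  set C := r (a.im * b.re)
  set D := r (a.im * b.im)
  set E := x3 (ν * (a.im * b.im))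
  have mE : E ∈ Y3 := G.m3 _
  have mBCD : B * C * D ∈ Y3 := Y3.mul_mem (Y3.mul_mem (rm _) (rm _)) (rm _)
  calc A * B * (C * (D * E)) = A * ((B * C * D) * E) := by group
    _ = A * E * (B * C * D) := by rw [G.cc mBCD mE]; group

end Cfsg.Agent.GTwoFour.ChiCoord
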