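import Cfsg.Agent.GTwoFour.GrowR
import Cfsg.Agent.GTwoFour.ChiCoord

/-!
# The configuration `Y1 = W0^nl`, `Y2 = Y1^ns`, `Y3 = W0` is `Grown`
-/

set_option autoImplicit false

namespace Cfsg.Agent.GTwoFour.ChiData

open Subgroup Cfsg.Agent.GTwoFour.Iface Cfsg.Agent.GTwoFour.GrowR
open Cfsg.Agent.StdL3.HeisCoord Cfsg.Agent.GTwoFour.ChiCoord
open Cfsg.Agent.SporadicA.FieldFour
open scoped commutatorElement

variable {H : Type*} [Group H]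

/-- Two more facts on the torus element `h`. -/
structure HFacts (D : Data H) : Prop where
  h_ns : D.h * D.ns = D.ns * D.h
  nl_h : D.nl * D.h * D.nl⁻¹ * D.h ∈ D.P

variable {D : Data H} {t : H} {W0 V : Subgroup H}

/-- `W0^nl` -/
def Y1 (D : Data H) (W0 : Subgroup H) : Subgroup H := W0.map (MulAut.conj D.nl).toMonoidHom

/-- `(W0^nl)^ns` -/
def Y2 (D : Data H) (W0 : Subgroup H) : Subgroup H :=
  (Y1 D W0).map (MulAut.conj D.ns).toMonoidHom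

lemma mem_Y1 {y : H} : y ∈ Y1 D W0 ↔ ∃ w ∈ W0, D.nl * w * D.nl⁻¹ = y := by
  simp [Y1, Subgroup.mem_map]

lemma mem_Y2 {y : H} : y ∈ Y2 D W0 ↔ ∃ w ∈ Y1 D W0, D.ns * w * D.ns⁻¹ = y := by
  simp [Y2, Subgroup.mem_map]

lemma card_Y1 (W : WFacts D t W0) : Nat.card (Y1 D W0) = 16 := by
  rw [← W.card]
  exact (Nat.card_congr (W0.equivMapOfInjective _ (MulAut.conj D.nl).injective).toEquiv).symm

lemma card_Y2 (W : WFacts D t W0) : Nat.card (Y2 D W0) = 16 := by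
  rw [← card_Y1 W]
  exact (Nat.card_congr ((Y1 D W0).equivMapOfInjective _ (MulAut.conj D.ns).injective).toEquiv).symm

lemma nl_inv (F : Facts D) : D.nl⁻¹ = D.nl := inv_eq_of_mul_eq_one_right F.nl_sq

lemma ns_inv (F : Facts D) : D.ns⁻¹ = D.ns := inv_eq_of_mul_eq_one_right F.ns_sq

lemma nl_nl (F : Facts D) (x : H) : D.nl * (D.nl * x * D.nl⁻¹) * D.nl⁻¹ = x := by
  calc D.nl * (D.nl * x * D.nl⁻¹) * D.nl⁻¹ = (D.nl * D.nl) * x * (D.nl * D.nl)⁻¹ := by group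
    _ = x := by rw [F.nl_sq]; group

lemma ns_ns (F : Facts D) (x : H) : D.ns * (D.ns * x * D.ns⁻¹) * D.ns⁻¹ = x := by
  calc D.ns * (D.ns * x * D.ns⁻¹) * D.ns⁻¹ = (D.ns * D.ns) * x * (D.ns * D.ns)⁻¹ := by group
    _ = x := by rw [F.ns_sq]; group

lemma Y1_V (hV : VFacts D t W0 V) : Y1 D W0 ≤ V := by
  intro y hy
  obtain ⟨w, hw, rfl⟩ := mem_Y1.1 hy
  exact hV.nl_mem w (hV.le hw)

lemma sq_Y1 (hV : VFacts D t W0 V) : ∀ y ∈ Y1 D W0, y * y = 1 := fun y hy => hV.sq y (Y1_V hV hy)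

lemma sq_Y2 (hV : VFacts D t W0 V) : ∀ y ∈ Y2 D W0, y * y = 1 := by
  intro y hy
  obtain ⟨w, hw, rfl⟩ := mem_Y2.1 hy
  calc D.ns * w * D.ns⁻¹ * (D.ns * w * D.ns⁻¹) = D.ns * (w * w) * D.ns⁻¹ := by group
    _ = 1 := by rw [sq_Y1 hV w hw]; group

lemma Y1_R (F : Facts D) (W : WFacts D t W0) (hV : VFacts D t W0 V) {y : H}
    (hy : y ∈ Y1 D W0) : y ∈ rGrp F W := V_R F W hV (Y1_V hV hy)

lemma Y2_R (F : Facts D) (B : Big D t) (W : WFacts D t W0) (hV : VFacts D t W0 V) {y : H}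
    (hy : y ∈ Y2 D W0) : y ∈ rGrp F W := by
  obtain ⟨w, hw, rfl⟩ := mem_Y2.1 hy
  exact P_R F B W F.ns_mem (Y1_R F W hV hw)

lemma Xe_Y1 (F : Facts D) (W : WFacts D t W0) : D.Xe ≤ Y1 D W0 := by
  intro e he
  exact mem_Y1.2 ⟨_, W.Z_le (F.nl_Xe e he), nl_nl F e⟩

lemma Xb_Y2 (F : Facts D) (W : WFacts D t W0) : D.Xb ≤ Y2 D W0 := by
  intro e he
  exact mem_Y2.2 ⟨_, Xe_Y1 F W (F.ns_Xb e he), ns_ns F e⟩

/-! ### Action of `h` -/

lemma h_inv_conj (F : Facts D) (W : WFacts D t W0) {w : H} (hw : w ∈ W0) :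
    D.h⁻¹ * w * D.h ∈ W0 := by
  have h1 := W.h_mem _ (W.h_mem w hw)
  have h2 : D.h⁻¹ = D.h * D.h := by
    have : D.h * D.h * D.h = 1 := by
      have := F.h_pow
      rwa [pow_succ, pow_two] at this
    exact inv_eq_of_mul_eq_one_left this
  have h3 : D.h = D.h⁻¹ * D.h⁻¹ := by
    rw [← mul_inv_rev, ← h2, inv_inv]
  have h4 : D.h⁻¹ * w * D.h = D.h * (D.h * w * D.h⁻¹) * D.h⁻¹ := by
    calc D.h⁻¹ * w * D.h = (D.h * D.h) * w * (D.h⁻¹ * D.h⁻¹) := by rw [← h2, ← h3]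
      _ = _ := by group
  rw [h4]; exact h1

lemma h_Y1 (F : Facts D) (W : WFacts D t W0) (E : HFacts D) {w : H} (hw : w ∈ W0) :
    D.h * (D.nl * w * D.nl⁻¹) * D.h⁻¹ = D.nl * (D.h⁻¹ * w * D.h) * D.nl⁻¹ := by
  set p := D.nl * D.h * D.nl⁻¹ * D.h with hp
  have h1 : D.h * D.nl = D.nl * (p * D.h⁻¹) := by
    rw [hp, nl_inv F]
    calc D.h * D.nl = (D.nl * D.nl) * D.h * D.nl := by rw [F.nl_sq]; group
      _ = _ := by group
  have h2 := conj_of_comm (W.cent_P _ (h_inv_conj F W hw) p E.nl_h).symm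
  calc D.h * (D.nl * w * D.nl⁻¹) * D.h⁻¹ = (D.h * D.nl) * w * (D.h * D.nl)⁻¹ := by group
    _ = D.nl * (p * (D.h⁻¹ * w * D.h) * p⁻¹) * D.nl⁻¹ := by rw [h1]; group
    _ = _ := by rw [h2]

lemma h_ns_conj (E : HFacts D) (y : H) :
    D.h * (D.ns * y * D.ns⁻¹) * D.h⁻¹ = D.ns * (D.h * y * D.h⁻¹) * D.ns⁻¹ := by
  calc D.h * (D.ns * y * D.ns⁻¹) * D.h⁻¹ = (D.h * D.ns) * y * (D.h * D.ns)⁻¹ := by group
    _ = (D.ns * D.h) * y * (D.ns * D.h)⁻¹ := by rw [E.h_ns]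
    _ = _ := by group

lemma h_Y1_mem (F : Facts D) (W : WFacts D t W0) (E : HFacts D) {y : H} (hy : y ∈ Y1 D W0) :
    D.h * y * D.h⁻¹ ∈ Y1 D W0 := by
  obtain ⟨w, hw, rfl⟩ := mem_Y1.1 hy
  exact mem_Y1.2 ⟨_, h_inv_conj F W hw, (h_Y1 F W E hw).symm⟩

lemma h_Y2_mem (F : Facts D) (W : WFacts D t W0) (E : HFacts D) {y : H} (hy : y ∈ Y2 D W0) :
    D.h * y * D.h⁻¹ ∈ Y2 D W0 := by
  obtain ⟨w, hw, rfl⟩ := mem_Y2.1 hy
  exact mem_Y2.2 ⟨_, h_Y1_mem F W E hw, (h_ns_conj E w).symm⟩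

lemma h_t (F : Facts D) (B : Big D t) : D.h * t = t * D.h := B.comm _ F.h_mem

lemma nl_t (F : Facts D) (B : Big D t) : D.nl * t = t * D.nl := B.comm _ F.nl_mem

lemma comm_conj {g : H} (hg : g * t = t * g) (y : H) : ⁅g * y * g⁻¹, t⁆ = g * ⁅y, t⁆ * g⁻¹ := by
  rw [conj_comm, conj_of_comm hg]

lemma fix3 [Finite H] (F : Facts D) (B : Big D t) (W : WFacts D t W0) {w : H} (hw : w ∈ W0)
    (h : D.h * w * D.h⁻¹ = w) : w = 1 := by
  have h1 : D.h * ⁅w, t⁆ * D.h⁻¹ = ⁅w, t⁆ := by rw [← comm_conj (h_t F B), h]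
  have h2 := F.h_Z_fpf _ (W.comm_t w hw) h1
  rw [commutatorElement_eq_one_iff_mul_comm] at h2
  exact F.h_Z_fpf _ (cent_t_W0 F B W hw h2) h

lemma fix1 [Finite H] (F : Facts D) (B : Big D t) (W : WFacts D t W0) (E : HFacts D) {y : H}
    (hy : y ∈ Y1 D W0) (h : D.h * y * D.h⁻¹ = y) : y = 1 := by
  obtain ⟨w, hw, rfl⟩ := mem_Y1.1 hy
  rw [h_Y1 F W E hw] at h
  have h1 : D.h⁻¹ * w * D.h = w := by
    calc D.h⁻¹ * w * D.h = D.nl⁻¹ * (D.nl * (D.h⁻¹ * w * D.h) * D.nl⁻¹) * D.nl := by group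
      _ = D.nl⁻¹ * (D.nl * w * D.nl⁻¹) * D.nl := by rw [h]
      _ = w := by group
  have h2 : D.h * w * D.h⁻¹ = w := by
    calc D.h * w * D.h⁻¹ = D.h * (D.h⁻¹ * w * D.h) * D.h⁻¹ := by rw [h1]
      _ = w := by group
  rw [fix3 F B W hw h2]; group

lemma fix2 [Finite H] (F : Facts D) (B : Big D t) (W : WFacts D t W0) (E : HFacts D) {y : H}
    (hy : y ∈ Y2 D W0) (h : D.h * y * D.h⁻¹ = y) : y = 1 := by
  obtain ⟨w, hw, rfl⟩ := mem_Y2.1 hy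
  rw [h_ns_conj E] at h
  have h1 : D.h * w * D.h⁻¹ = w := by
    calc D.h * w * D.h⁻¹ = D.ns⁻¹ * (D.ns * (D.h * w * D.h⁻¹) * D.ns⁻¹) * D.ns := by group
      _ = D.ns⁻¹ * (D.ns * w * D.ns⁻¹) * D.ns := by rw [h]
      _ = w := by group
  rw [fix1 F B W E hw h1]; group

/-! ### Intersections -/

lemma Y1_W0 [Finite H] (F : Facts D) (B : Big D t) (W : WFacts D t W0) {y : H}
    (hy : y ∈ Y1 D W0) (hw : y ∈ W0) : y = 1 := by
  obtain ⟨w, hw', rfl⟩ := mem_Y1.1 hy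
  have h1 := W.comm_t _ hw
  have h2 := comm_conj (nl_t F B) w
  have h3 : ⁅D.nl * w * D.nl⁻¹, t⁆ ∈ D.Xe := by
    rw [h2]; exact F.nl_Z _ (W.comm_t w hw')
  have h4 := F.Xe_Z _ h3 h1
  have h5 : ⁅w, t⁆ = 1 := by
    rw [h4] at h2
    calc ⁅w, t⁆ = D.nl⁻¹ * (D.nl * ⁅w, t⁆ * D.nl⁻¹) * D.nl := by group
      _ = 1 := by rw [← h2]; group
  rw [commutatorElement_eq_one_iff_mul_comm] at h4 h5
  have h6 := cent_t_W0 F B W hw h4
  have h7 := F.nl_Z _ (cent_t_W0 F B W hw' h5)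
  exact F.Xe_Z _ h7 h6

lemma Xb_W4 (F : Facts D) {x : H} (hx : x ∈ D.Xb) (hw : x ∈ D.W4) : x = 1 := by
  obtain ⟨z, hz, e, he, h⟩ := mem_W4 F hw
  have h1 : e * x = x * e := by
    have hzx := P_Z F (F.Q1_le (F.Xb_le hx)) hz
    have h2 : e = z⁻¹ * x := by rw [h]; group
    have h3 : x * z⁻¹ = z⁻¹ * x := P_Z F (F.Q1_le (F.Xb_le hx)) (inv_mem hz)
    rw [h2, ← mul_assoc x, h3, mul_assoc]
  rcases F.Xe_Xb e he x hx h1 with h2 | h2
  · -- `x = z ∈ Z`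
    rw [h2, mul_one] at h
    -- a nontrivial element of `Xe`
    have : ∃ e' ∈ D.Xe, e' ≠ 1 := by
      by_contra hcon
      push Not at hcon
      have : D.Xe = ⊥ := by
        rw [eq_bot_iff]; intro e' he'; rw [mem_bot]; exact hcon e' he'
      have h3 := F.card_Xe
      rw [this] at h3
      simp at h3
    obtain ⟨e', he', hne⟩ := this
    have h4 : e' * x = x * e' := by
      rw [h]; exact P_Z F (F.Q1_le (F.Xe_le he')) hz
    rcases F.Xe_Xb e' he' x hx h4 with h5 | h5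
    · exact absurd h5 hne
    · exact h5
  · exact h2

lemma Y2_V [Finite H] (F : Facts D) (B : Big D t) (W : WFacts D t W0) (hV : VFacts D t W0 V)
    {y : H} (hy : y ∈ Y2 D W0) (hw : y ∈ V) : y = 1 := by
  obtain ⟨y1, hy1, rfl⟩ := mem_Y2.1 hy
  obtain ⟨w, hw1, rfl⟩ := mem_Y1.1 hy1
  have hns : D.ns * t = t * D.ns := P_t F B F.ns_mem
  have h1 := hV.comm_t _ hw
  have h2 : ⁅D.nl * w * D.nl⁻¹, t⁆ ∈ D.Xe := by
    rw [comm_conj (nl_t F B)]; exact F.nl_Z _ (W.comm_t w hw1)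
  have h3 := comm_conj hns (D.nl * w * D.nl⁻¹)
  have h4 : ⁅D.ns * (D.nl * w * D.nl⁻¹) * D.ns⁻¹, t⁆ ∈ D.Xb := by
    rw [h3]; exact F.ns_Xe _ h2
  have h5 := Xb_W4 F h4 h1
  have h6 : ⁅w, t⁆ = 1 := by
    rw [h5, comm_conj (nl_t F B)] at h3
    calc ⁅w, t⁆ = D.nl⁻¹ * (D.ns⁻¹ * (D.ns * (D.nl * ⁅w, t⁆ * D.nl⁻¹) * D.ns⁻¹) * D.ns) * D.nl := by
          group
      _ = 1 := by rw [← h3]; group
  rw [commutatorElement_eq_one_iff_mul_comm] at h5 h6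
  have h7 := F.ns_Xe _ (F.nl_Z _ (cent_t_W0 F B W hw1 h6))
  exact Xb_W4 F h7 (hV.cent_t _ hw h5)

/-! ### `V = Y1 W0` -/

lemma mem_V [Finite H] (F : Facts D) (B : Big D t) (W : WFacts D t W0) (hV : VFacts D t W0 V)
    {v : H} (hv : v ∈ V) : ∃ y ∈ Y1 D W0, ∃ w ∈ W0, v = y * w := by
  have hc : ∀ y ∈ Y1 D W0, ∀ w ∈ W0, y * w = w * y := fun y hy w hw =>
    hV.comm y (Y1_V hV hy) w (hV.le hw)
  have hY1 := card_Y1 W
  let N : Subgroup H :=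
    { carrier := {x | ∃ y ∈ Y1 D W0, ∃ w ∈ W0, x = y * w}
      one_mem' := ⟨1, one_mem _, 1, one_mem _, by simp⟩
      mul_mem' := by
        rintro _ _ ⟨z, hz, e, he, rfl⟩ ⟨z', hz', e', he', rfl⟩
        refine ⟨z * z', mul_mem hz hz', e * e', mul_mem he he', ?_⟩
        calc z * e * (z' * e') = z * (e * z') * e' := by group
          _ = z * z' * (e * e') := by rw [← hc z' hz' e he]; group
      inv_mem' := by
        rintro _ ⟨z, hz, e, he, rfl⟩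
        refine ⟨z⁻¹, inv_mem hz, e⁻¹, inv_mem he, ?_⟩
        rw [mul_inv_rev, hc _ (inv_mem hz) _ (inv_mem he)] }
  have hle : N ≤ V := by
    rintro _ ⟨z, hz, e, he, rfl⟩
    exact mul_mem (Y1_V hV hz) (hV.le he)
  have h1 : (⊥ : Subgroup H).relIndex (Y1 D W0) = W0.relIndex N := by
    refine relIndex_eq_of_map id (fun r hr => ⟨r, hr, 1, one_mem _, by simp⟩) ?_ ?_
    · intro r hr r' hr'
      rw [mem_bot]
      constructor
      · intro h; simp only [id]; rw [h]; exact one_mem _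
      · intro h; exact Y1_W0 F B W (mul_mem (inv_mem hr) hr') h
    · rintro k ⟨y, hy, w, hw, rfl⟩
      exact ⟨y, hy, by simpa using hw⟩
  rw [relIndex_bot_left, card_Y1 W] at h1
  have h2 := relIndex_mul_card' W0 N (fun w hw => ⟨1, one_mem _, w, hw, by simp⟩)
  rw [← h1, W.card] at h2
  have h3 : N = V := Subgroup.eq_of_le_of_card_ge hle (by rw [← h2, hV.card])
  rw [← h3] at hv
  exact hv

/-! ### The group `U = Y1 Y2 W0` -/

/-- `Y1 Y2 W0` -/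
def U [Finite H] (F : Facts D) (B : Big D t) (W : WFacts D t W0) (hV : VFacts D t W0 V) :
    Subgroup H where
  carrier := {x | ∃ y1 ∈ Y1 D W0, ∃ y2 ∈ Y2 D W0, ∃ y3 ∈ W0, x = y1 * y2 * y3}
  one_mem' := ⟨1, one_mem _, 1, one_mem _, 1, one_mem _, by simp⟩
  mul_mem' := by
    rintro _ _ ⟨a, ha, b, hb, c, hc, rfl⟩ ⟨a', ha', b', hb', c', hc', rfl⟩
    have hk : ⁅b, a'⁆ ∈ W0 := comm_R F B W hV (Y2_R F B W hV hb) (Y1_R F W hV ha')
    refine ⟨a * a', mul_mem ha ha', b * b', mul_mem hb hb', ⁅b, a'⁆ * (c * c'),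
      mul_mem hk (mul_mem hc hc'), ?_⟩
    have e1 : b * a' = ⁅b, a'⁆ * (a' * b) := by rw [commutatorElement_def]; group
    have e2 := (mul_mem (Y1_R F W hV ha') (Y2_R F B W hV hb')).1 c hc
    have e3 := (mul_mem (mul_mem (Y1_R F W hV ha') (Y2_R F B W hV hb)) (Y2_R F B W hV hb')).1 _ hk
    calc a * b * c * (a' * b' * c') = a * b * (c * (a' * b')) * c' := by group
      _ = a * (b * a') * b' * c * c' := by rw [← e2]; group
      _ = a * (⁅b, a'⁆ * (a' * b * b')) * c * c' := by rw [e1]; group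
      _ = a * a' * (b * b') * (⁅b, a'⁆ * (c * c')) := by rw [← e3]; group
  inv_mem' := by
    rintro _ ⟨a, ha, b, hb, c, hc, rfl⟩
    have hk : ⁅b⁻¹, a⁻¹⁆ ∈ W0 :=
      comm_R F B W hV (inv_mem (Y2_R F B W hV hb)) (inv_mem (Y1_R F W hV ha))
    refine ⟨a⁻¹, inv_mem ha, b⁻¹, inv_mem hb, ⁅b⁻¹, a⁻¹⁆ * c⁻¹, mul_mem hk (inv_mem hc), ?_⟩
    have e1 : b⁻¹ * a⁻¹ = ⁅b⁻¹, a⁻¹⁆ * (a⁻¹ * b⁻¹) := by
      simp only [commutatorElement_def]; group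
    have e2 := (inv_mem (mul_mem (Y1_R F W hV ha) (Y2_R F B W hV hb))).1 _ (inv_mem hc)
    have e3 := (mul_mem (inv_mem (Y1_R F W hV ha)) (inv_mem (Y2_R F B W hV hb))).1 _ hk
    calc (a * b * c)⁻¹ = c⁻¹ * (a * b)⁻¹ := by group
      _ = (b⁻¹ * a⁻¹) * c⁻¹ := by rw [← e2]; group
      _ = a⁻¹ * b⁻¹ * (⁅b⁻¹, a⁻¹⁆ * c⁻¹) := by rw [e1, ← e3]; group

lemma card_U [Finite H] (F : Facts D) (B : Big D t) (W : WFacts D t W0) (hV : VFacts D t W0 V) :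
    Nat.card (U F B W hV) = 2 ^ 12 := by
  have hc : Nat.card (Y1 D W0 × Y2 D W0 × W0) = 2 ^ 12 := by
    rw [Nat.card_prod, Nat.card_prod, card_Y1 W, card_Y2 W, W.card]; norm_num
  rw [← hc]
  refine (Nat.card_congr (Equiv.ofBijective (fun x : Y1 D W0 × Y2 D W0 × W0 =>
    (⟨x.1 * x.2.1 * x.2.2, x.1, x.1.2, x.2.1, x.2.1.2, x.2.2, x.2.2.2, rfl⟩ : U F B W hV))
    ⟨?_, ?_⟩)).symm
  · rintro ⟨⟨a, ha⟩, ⟨b, hb⟩, ⟨c, hc⟩⟩ ⟨⟨a', ha'⟩, ⟨b', hb'⟩, ⟨c', hc'⟩⟩ h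
    have h1 : a * b * c = a' * b' * c' := congrArg Subtype.val h
    have hcc : c' * c⁻¹ ∈ W0 := mul_mem hc' (inv_mem hc)
    have e1 : b' * b⁻¹ = (a'⁻¹ * a) * (c' * c⁻¹)⁻¹ := by
      have e2 := (Y2_R F B W hV hb).1 _ (inv_mem hcc)
      calc b' * b⁻¹ = a'⁻¹ * (a' * b' * c') * (c'⁻¹ * b⁻¹) := by group
        _ = (a'⁻¹ * a) * (b * (c' * c⁻¹)⁻¹) * b⁻¹ := by rw [← h1]; group
        _ = _ := by rw [e2]; group
    have h2 : b' * b⁻¹ = 1 := by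
      refine Y2_V F B W hV (mul_mem hb' (inv_mem hb)) ?_
      rw [e1]
      exact mul_mem (mul_mem (inv_mem (Y1_V hV ha')) (Y1_V hV ha)) (inv_mem (hV.le hcc))
    have h3 : b' = b := mul_inv_eq_one.1 h2
    rw [h2] at e1
    have e3 : a'⁻¹ * a = c' * c⁻¹ := mul_inv_eq_one.1 e1.symm
    have h4 : a'⁻¹ * a = 1 := by
      refine Y1_W0 F B W (mul_mem (inv_mem ha') ha) ?_
      rw [e3]; exact hcc
    have h5 : a' = a := inv_mul_eq_one.1 h4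
    rw [h4] at e3
    have h6 : c' = c := mul_inv_eq_one.1 e3.symm
    simp only [Prod.mk.injEq, Subtype.mk.injEq]
    exact ⟨h5.symm, h3.symm, h6.symm⟩
  · rintro ⟨x, a, ha, b, hb, c, hc, rfl⟩
    exact ⟨⟨⟨a, ha⟩, ⟨b, hb⟩, ⟨c, hc⟩⟩, rfl⟩

/-! ### The homomorphisms `T` and `h` -/

/-- conjugation by `t` -/
def TT (t : H) : H →* H := (MulAut.conj t).toMonoidHom

lemma TT_apply (t y : H) : TT t y = t * y * t⁻¹ := rfl

lemma zz_eq {y y' : H} (hy : y * y = 1) (hy' : y' * y' = 1) : zz y y' = ⁅y, y'⁆ := by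
  have h1 : y⁻¹ = y := inv_eq_of_mul_eq_one_right hy
  have h2 : y'⁻¹ = y' := inv_eq_of_mul_eq_one_right hy'
  rw [zz, commutatorElement_def, h1, h2]

lemma exists_ne_one {K : Subgroup H} (h : Nat.card K = 4) : ∃ e ∈ K, e ≠ 1 := by
  by_contra hcon
  push Not at hcon
  have : K = ⊥ := by
    rw [eq_bot_iff]; intro e he; rw [mem_bot]; exact hcon e he
  rw [this] at h
  simp at h

lemma lin_inj {K : Subgroup H} (φ : H →* H) (hfix : ∀ y ∈ K, φ y = y → y = 1)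
    (hinj : ∀ y, φ y = 1 → y = 1)
    (hsq : ∀ y ∈ K, y * y = 1) {g : H} (hg : g ∈ K) (hne : g ≠ 1) (a : F4)
    (h : lin φ g a = 1) : a = 0 := by
  cases a with
  | z => rfl
  | o => exact absurd h hne
  | w =>
    exfalso
    exact hne (hinj g h)
  | v =>
    exfalso
    have h1 : g * φ g = 1 := h
    have h2 : φ g = g := by
      have h3 : g⁻¹ = g := inv_eq_of_mul_eq_one_right (hsq g hg)
      rw [← inv_eq_of_mul_eq_one_right h1, h3]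
    exact hne (hfix g hg h2)

lemma TT_Y1 (F : Facts D) (B : Big D t) (W : WFacts D t W0) (hV : VFacts D t W0 V) {w : H}
    (hw : w ∈ W0) : TT t (D.nl * w * D.nl⁻¹) = D.nl * w * D.nl⁻¹ * (D.nl * ⁅w, t⁆ * D.nl⁻¹) := by
  have h1 := comm_conj (nl_t F B) w
  set y := D.nl * w * D.nl⁻¹ with hy
  have hyY : y ∈ Y1 D W0 := mem_Y1.2 ⟨w, hw, rfl⟩
  have heX : D.nl * ⁅w, t⁆ * D.nl⁻¹ ∈ D.Xe := F.nl_Z _ (W.comm_t w hw)
  set e := D.nl * ⁅w, t⁆ * D.nl⁻¹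
  have heY := Xe_Y1 F W heX
  have h2 : y * e = e * y := hV.comm _ (Y1_V hV hyY) _ (Y1_V hV heY)
  have h3 : e⁻¹ = e := inv_eq_of_mul_eq_one_right (F.sq_Xe e heX)
  rw [TT_apply, h2, ← h3, ← h1, commutatorElement_def]
  group

lemma f4_eq_of_add : ∀ a b : F4, a + b = 0 → a = b := by decide

/-- **the configuration `Y1, Y2, W0` is `Grown`** -/
theorem exists_grown [Finite H] (F : Facts D) (B : Big D t) (W : WFacts D t W0)
    (hV : VFacts D t W0 V) (E : HFacts D) : ∃ x1 x2 x3 : F4 → H,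
    Grown (TT t) (MulAut.conj D.h).toMonoidHom (Y1 D W0) (Y2 D W0) W0 (U F B W hV) x1 x2 x3 := by
  set Hh : H →* H := (MulAut.conj D.h).toMonoidHom with hHh
  have Hh_apply : ∀ y, Hh y = D.h * y * D.h⁻¹ := fun y => rfl
  have hHHH : ∀ y, Hh (Hh (Hh y)) = y := by
    intro y
    have h3 : D.h * D.h * D.h = 1 := by
      have := F.h_pow
      rwa [pow_succ, pow_two] at this
    rw [Hh_apply, Hh_apply, Hh_apply]
    calc D.h * (D.h * (D.h * y * D.h⁻¹) * D.h⁻¹) * D.h⁻¹ =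
        (D.h * D.h * D.h) * y * (D.h * D.h * D.h)⁻¹ := by group
      _ = y := by rw [h3]; group
  have hinj : ∀ y, Hh y = 1 → y = 1 := fun y hy =>
    (MulAut.conj D.h).injective (hy.trans (map_one _).symm)
  obtain ⟨e0, he0, hne0⟩ := exists_ne_one F.card_Xe
  obtain ⟨b0, hb0, hnb0⟩ := exists_ne_one F.card_Xb
  have hXe : ∀ y ∈ D.Xe, Hh y ∈ D.Xe := F.h_Xe
  have hXb : ∀ y ∈ D.Xb, Hh y ∈ D.Xb := F.h_Xb
  have hfe : ∀ y ∈ D.Xe, Hh y = y → y = 1 := F.h_Xe_fpf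
  have hfb : ∀ y ∈ D.Xb, Hh y = y → y = 1 := fun y hy h => fix2 F B W E (Xb_Y2 F W hy) h
  set x1 : F4 → H := lin Hh e0 with hx1
  set x2 : F4 → H := lin Hh b0 with hx2
  have m1 : ∀ a, x1 a ∈ D.Xe := lin_mem hXe he0
  have m2 : ∀ a, x2 a ∈ D.Xb := lin_mem hXb hb0
  have a1 : ∀ a b, x1 (a + b) = x1 a * x1 b := lin_add F.sq_Xe hXe he0
  have a2 : ∀ a b, x2 (a + b) = x2 a * x2 b := lin_add F.sq_Xb hXb hb0
  have i1 : ∀ a, x1 a = 1 → a = 0 := lin_inj Hh hfe hinj F.sq_Xe he0 hne0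
  have i2 : ∀ a, x2 a = 1 → a = 0 := lin_inj Hh hfb hinj F.sq_Xb hb0 hnb0
  have h1 : ∀ a, Hh (x1 a) = x1 (F4.w * a) := lin_H F.sq_Xe hXe hHHH hfe he0
  have h2 : ∀ a, Hh (x2 a) = x2 (F4.w * a) := lin_H F.sq_Xb hXb hHHH hfb hb0
  -- the commutator map
  set Φ : F4 → F4 → H := fun a b => ⁅x1 a, x2 b⁆ with hΦ
  have hΦ' : ∀ a b, Φ a b = ⁅x1 a, x2 b⁆ := fun _ _ => rfl
  have Φm : ∀ a b, Φ a b ∈ D.Z := fun a b =>
    F.comm_Q1 _ (F.Xe_le (m1 a)) _ (F.Xb_le (m2 b))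
  have Φb : ∀ a b, Φ (F4.w * a) b = Hh (Hh (Φ a b)) := by
    intro a b
    rw [hΦ', ← h1]
    exact F.h_bilin _ (m1 a) _ (m2 b)
  have Φh : ∀ a b, Φ (F4.w * a) (F4.w * b) = Hh (Φ a b) := by
    intro a b
    rw [hΦ', ← h1, ← h2, hΦ', map_commutatorElement]
  have Φc : ∀ a b, Φ a (F4.w * b) = Hh (Hh (Φ a b)) := by
    intro a b
    have e1 : a = F4.w * (F4.v * a) := by cases a <;> rfl
    have e2 : F4.v * a = F4.w * (F4.w * a) := by cases a <;> rfl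
    have e3 : Φ a (F4.w * b) = Hh (Φ (F4.v * a) b) := by rw [← Φh, ← e1]
    rw [e3, e2, Φb, Φb, hHHH]
  have Φ1 : ∀ a b, Φ a b = Φ 1 (a * b) := by
    intro a b
    have z1 : x1 0 = 1 := rfl
    have z2 : x2 0 = 1 := rfl
    cases a with
    | z =>
      have e : (F4.z * b) = 0 := by cases b <;> rfl
      rw [e, hΦ', hΦ', z2]
      change ⁅x1 0, x2 b⁆ = _
      rw [z1]; simp
    | o =>
      have e : (F4.o * b) = b := by cases b <;> rfl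
      rw [e]; rfl
    | w =>
      have e : (F4.w : F4) = F4.w * 1 := rfl
      rw [Φc 1 b]
      conv_lhs => rw [e]
      rw [Φb 1 b]
    | v =>
      have e : (F4.v : F4) = F4.w * (F4.w * 1) := rfl
      have e' : (F4.v * b) = F4.w * (F4.w * b) := by cases b <;> rfl
      rw [e', Φc, Φc]
      conv_lhs => rw [e]
      rw [Φb, Φb]
  set x3 : F4 → H := fun c => Φ 1 c with hx3
  have hx3' : ∀ c, x3 c = Φ 1 c := fun _ => rfl
  have m3 : ∀ a, x3 a ∈ D.Z := fun a => Φm 1 a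
  have a3 : ∀ a b, x3 (a + b) = x3 a * x3 b := by
    intro a b
    rw [hx3', hΦ', a2, comm_mul_right]
    rw [conj_of_comm (P_Z F (F.Q1_le (F.Xb_le (m2 a))) (Φm 1 b))]
  have i3 : ∀ a, x3 a = 1 → a = 0 := by
    intro a ha
    have e1 : x1 1 * x2 a = x2 a * x1 1 := by
      rw [← commutatorElement_eq_one_iff_mul_comm]; exact ha
    rcases F.Xe_Xb _ (m1 1) _ (m2 a) e1 with h | h
    · exact absurd h hne0
    · exact i2 a h
  have h3 : ∀ a, Hh (x3 a) = x3 (F4.v * a) := by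
    intro a
    have e1 : F4.v * a = F4.w * (F4.w * a) := by cases a <;> rfl
    rw [hx3', hx3', e1, Φc, Φc, hHHH]
  have comm : ∀ a b, x1 a * x2 b = x2 b * x1 a * x3 (a * b) := by
    intro a b
    rw [hx3', ← Φ1, hΦ', ← zz_eq (F.sq_Xe _ (m1 a)) (F.sq_Xb _ (m2 b))]
    exact zz_spec _ _
  have Tfix : ∀ p ∈ D.P, TT t p = p := fun p hp => by
    rw [TT_apply]; exact conj_of_comm (P_t F B hp).symm
  have lift1 : ∀ e ∈ D.Xe, ∃ y ∈ Y1 D W0, TT t y = y * e := by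
    intro e he
    obtain ⟨w, hw, h⟩ := W.onto _ (F.nl_Xe e he)
    refine ⟨_, mem_Y1.2 ⟨w, hw, rfl⟩, ?_⟩
    rw [TT_Y1 F B W hV hw, h, nl_nl F]
  refine ⟨x1, x2, x3, ?_⟩
  exact
  { card1 := card_Y1 W
    card2 := card_Y2 W
    card3 := W.card
    cardU := card_U F B W hV
    sq1 := sq_Y1 hV
    sq2 := sq_Y2 hV
    sq3 := fun y hy => hV.sq y (hV.le hy)
    le1 := fun y hy => ⟨y, hy, 1, one_mem _, 1, one_mem _, by simp⟩
    le2 := fun y hy => ⟨1, one_mem _, y, hy, 1, one_mem _, by simp⟩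
    le3 := fun y hy => ⟨1, one_mem _, 1, one_mem _, y, hy, by simp⟩
    gen := fun u hu => hu
    c13 := fun y hy z hz => (Y1_R F W hV hy).1 z hz
    c23 := fun y hy z hz => (Y2_R F B W hV hy).1 z hz
    c12 := fun y hy y' hy' => ⟨zz y y', by
      rw [zz_eq (sq_Y1 hV y hy) (sq_Y2 hV y' hy')]
      exact comm_R F B W hV (Y1_R F W hV hy) (Y2_R F B W hV hy'), zz_spec y y'⟩
    TH := fun y => by
      rw [TT_apply, TT_apply, Hh_apply, Hh_apply]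
      calc t * (D.h * y * D.h⁻¹) * t⁻¹ = (t * D.h) * y * (t * D.h)⁻¹ := by group
        _ = (D.h * t) * y * (D.h * t)⁻¹ := by rw [h_t F B]
        _ = _ := by group
    HHH := hHHH
    T3 := fun y hy => by
      have e1 : TT t y = ⁅y, t⁆⁻¹ * y := by
        rw [TT_apply, commutatorElement_def]; group
      rw [e1]
      exact mul_mem (inv_mem (W.Z_le (W.comm_t y hy))) hy
    H1 := fun y hy => h_Y1_mem F W E hy
    H2 := fun y hy => h_Y2_mem F W E hy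
    H3 := W.h_mem
    fix1 := fun y hy h => fix1 F B W E hy h
    fix2 := fun y hy h => fix2 F B W E hy h
    fix3 := fun y hy h => fix3 F B W hy h
    m1 := fun a => Xe_Y1 F W (m1 a)
    m2 := fun a => Xb_Y2 F W (m2 a)
    m3 := fun a => W.Z_le (m3 a)
    a1 := a1
    a2 := a2
    a3 := a3
    i1 := i1
    i2 := i2
    i3 := i3
    h1 := h1
    h2 := h2
    h3 := h3
    comm := comm
    t1 := fun a => Tfix _ (F.Q1_le (F.Xe_le (m1 a)))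
    t2 := fun a => Tfix _ (F.Q1_le (F.Xb_le (m2 a)))
    t3 := fun a => Tfix _ (F.Q1_le (F.Z_le (m3 a)))
    lift1 := lift1 _ (m1 1)
    lift2 := by
      obtain ⟨y, hy, h⟩ := lift1 _ (F.ns_Xb _ (m2 1))
      refine ⟨_, mem_Y2.2 ⟨y, hy, rfl⟩, ?_⟩
      have e1 : TT t (D.ns * y * D.ns⁻¹) = D.ns * TT t y * D.ns⁻¹ := by
        rw [map_mul, map_mul, map_inv, Tfix _ F.ns_mem]
      rw [e1, h]
      calc D.ns * (y * (D.ns * x2 1 * D.ns⁻¹)) * D.ns⁻¹ =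
          D.ns * y * D.ns⁻¹ * (D.ns * (D.ns * x2 1 * D.ns⁻¹) * D.ns⁻¹) := by group
        _ = _ := by rw [ns_ns F]
    tfix3 := fun y hy h => by
      have e1 : y * t = t * y := by
        rw [TT_apply] at h
        calc y * t = t * y * t⁻¹ * t := by rw [h]
          _ = t * y := by group
      have e2 := cent_t_W0 F B W hy e1
      have hI : Function.Injective (fun a : F4 => (⟨x3 a, m3 a⟩ : D.Z)) := by
        intro a b hab
        have e3 : x3 a = x3 b := congrArg Subtype.val hab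
        have e4 := i3 (a + b) (by rw [a3, e3, F.sq_Z _ (m3 b)])
        exact f4_eq_of_add a b e4
      have hfin : Finite D.Z := inferInstance
      have hB := hI.bijective_of_nat_card_le (by rw [F.card_Z, Nat.card_eq_fintype_card]; decide)
      obtain ⟨a, ha⟩ := hB.2 ⟨y, e2⟩
      exact ⟨a, (congrArg Subtype.val ha).symm⟩ }

end Cfsg.Agent.GTwoFour.ChiData
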