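import Cfsg.Agent.GTwoFour.Chi

/-!
# Transport of `χ` along an isomorphism `R ≃* R'`
-/

set_option autoImplicit false

namespace Cfsg.Agent.GTwoFour.ChiMap

open Subgroup Cfsg.Agent.GTwoFour.Iface Cfsg.Agent.GTwoFour.GrowR Cfsg.Agent.GTwoFour.ChiData
open scoped commutatorElement

/-- transport of a homomorphism on `MulAut R` along an isomorphism -/
theorem transport {R R' : Type*} [Group R] [Group R'] (e : R ≃* R') {A : Type*} [CommGroup A]
    (χ : MulAut R →* A) (n : ℕ)
    (h : ∀ d : MulAut R, d * d = 1 → χ d ≠ 1 → Nat.card {z : center R // d z = z} = n) :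
    ∃ χ' : MulAut R' →* A,
      (∀ τ : MulAut R, ∀ τ' : MulAut R', (∀ r, τ' (e r) = e (τ r)) → χ' τ' = χ τ) ∧
      ∀ d : MulAut R', d * d = 1 → χ' d ≠ 1 → Nat.card {z : center R' // d z = z} = n := by
  let χ' : MulAut R' →* A := χ.comp (MulAut.congr e).symm.toMonoidHom
  have hχ' : ∀ τ', χ' τ' = χ ((MulAut.congr e).symm τ') := fun _ => rfl
  have key : ∀ τ : MulAut R, ∀ τ' : MulAut R', (∀ r, τ' (e r) = e (τ r)) →
      (MulAut.congr e).symm τ' = τ := by
    intro τ τ' hh
    ext1 r
    change e.symm (τ' (e r)) = τ r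
    rw [hh, MulEquiv.symm_apply_apply]
  refine ⟨χ', fun τ τ' hh => by rw [hχ', key τ τ' hh], ?_⟩
  intro d hd hχd
  set d' : MulAut R := (MulAut.congr e).symm d with hd'
  have hd'a : ∀ r, e (d' r) = d (e r) := by
    intro r
    change e (e.symm (d (e r))) = _
    rw [MulEquiv.apply_symm_apply]
  have h1 : d' * d' = 1 := by rw [hd', ← map_mul, hd, map_one]
  rw [← h d' h1 hχd]
  symm
  refine Nat.card_congr (Equiv.ofBijective
    (fun z : {z : center R // d' z = z} => (⟨⟨e (z.1 : R), by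
      rw [mem_center_iff]
      intro g
      obtain ⟨r, rfl⟩ := e.surjective g
      rw [← map_mul, ← map_mul, mem_center_iff.1 z.1.2 r]⟩, by
      change d (e (z.1 : R)) = e (z.1 : R)
      rw [← hd'a, z.2]⟩ : {z : center R' // d z = z})) ⟨?_, ?_⟩)
  · intro a b hab
    have h2 : e (a.1 : R) = e (b.1 : R) := congrArg (fun z => ((z.1 : center R') : R')) hab
    exact Subtype.ext (Subtype.ext (e.injective h2))
  · rintro ⟨⟨z, hz⟩, hdz⟩
    obtain ⟨r, rfl⟩ := e.surjective z
    have hdz' : d (e r) = e r := hdz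
    refine ⟨⟨⟨r, ?_⟩, ?_⟩, rfl⟩
    · rw [mem_center_iff]
      intro g
      have := mem_center_iff.1 hz (e g)
      rw [← map_mul, ← map_mul] at this
      exact e.injective this
    · change d' r = r
      apply e.injective
      rw [hd'a, hdz']

/-- **Step (B)** transported to a subgroup `R'` of another group, isomorphic to `R` with
`t` acting in the same way as `t'`. -/
theorem exists_chi_map {H : Type*} [Group H] {D : Data H} {t : H} {W0 V : Subgroup H} [Finite H]
    (F : Facts D) (B : Big D t) (W : WFacts D t W0) (hV : VFacts D t W0 V) (E : HFacts D)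
    {G : Type*} [Group G] {R' : Subgroup G} {t' : G} (e : rGrp F W ≃* R')
    (he : ∀ r s : rGrp F W, (s : H) = t * r * t⁻¹ → (e s : G) = t' * e r * t'⁻¹) :
    ∃ (A : Type) (_ : CommGroup A) (χ : MulAut R' →* A),
      (∀ T : MulAut R', (∀ r : R', ((T r : R') : G) = t' * r * t'⁻¹) → χ T ≠ 1) ∧
      ∀ d : MulAut R', d * d = 1 → χ d ≠ 1 → Nat.card {z : center R' // d z = z} = 4 := by
  obtain ⟨A, iA, χ, h1, h2⟩ := Chi.exists_chi F B W hV E
  obtain ⟨χ', k1, k2⟩ := transport e χ 4 h2
  refine ⟨A, iA, χ', ?_, k2⟩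
  intro T hT
  -- conjugation by `t` on `R`
  have htR : ∀ r ∈ rGrp F W, t * r * t⁻¹ ∈ rGrp F W := by
    intro r hr
    have e1 : t * r * t⁻¹ = ⁅r, t⁆⁻¹ * r := by rw [commutatorElement_def]; group
    rw [e1]
    exact mul_mem (inv_mem (N_R F B W hr.2.2)) hr
  have ht : t⁻¹ = t := inv_eq_of_mul_eq_one_right B.t_sq
  let τ : MulAut (rGrp F W) :=
    { toFun := fun r => ⟨t * r * t⁻¹, htR r r.2⟩
      invFun := fun r => ⟨t * r * t⁻¹, htR r r.2⟩
      left_inv := fun r => by
        apply Subtype.ext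
        change t * (t * r * t⁻¹) * t⁻¹ = r
        calc t * (t * (r : H) * t⁻¹) * t⁻¹ = (t * t) * r * (t * t)⁻¹ := by group
          _ = r := by rw [B.t_sq]; group
      right_inv := fun r => by
        apply Subtype.ext
        change t * (t * r * t⁻¹) * t⁻¹ = r
        calc t * (t * (r : H) * t⁻¹) * t⁻¹ = (t * t) * r * (t * t)⁻¹ := by group
          _ = r := by rw [B.t_sq]; group
      map_mul' := fun a b => by
        apply Subtype.ext
        change t * (a * b) * t⁻¹ = t * a * t⁻¹ * (t * b * t⁻¹)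
        group }
  rw [k1 τ T (fun r => Subtype.ext (by rw [hT]; exact (he r (τ r) rfl).symm))]
  exact h1 τ (fun r => rfl)

end Cfsg.Agent.GTwoFour.ChiMap
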