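import Cfsg.Agent.StdG24.Mod6
import Cfsg.Agent.HexEss.Abel
import Cfsg.Agent.HexEss.Count

/-!
# Hexagonal coordinates on the Sylow 2-subgroup of the six-dimensional `G₂(4)`

`co : Coord C4 U`, `U = {x1(a1) ⋯ x6(a6)}` with `x1, x2, x3, x4, x5, x6` = root elements of the roots
`7, 10, 9, 11, 8, 6`.
-/

set_option autoImplicit false
set_option linter.constructorNameAsVariable false

namespace Cfsg.Agent.GTwoFour.Coord6

open Cfsg.Agent.SporRec.GF4 Cfsg.Agent.StdG24.Mod6 Cfsg.Agent.HexRec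
open Cfsg.Agent.SporRec.G24Code (ofBits app)

/-! ### The cubic data -/

theorem two_F4 : (2 : F4) = 0 := by decide

/-- the cubic data `t^# = t²`, `N t = t³` on the field with four elements -/
def C4 : Cubic F4 F4 where
  tr := LinearMap.id
  sh t := t * t
  N t := t * t * t
  char2 := by decide
  sh_mul a b := by ring
  sh_map f := by change f * f = f ^ 2; ring
  N_map a := by change a * a * a = a * (a * a); ring
  sh_add a b c := by ring
  tr_cr a b c := by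
    simp only [LinearMap.id_apply]
    linear_combination (b * b * c - a * b * b + a * a * c - a * c * c) * two_F4
  N_add a b := by
    simp only [LinearMap.id_apply]
    linear_combination (a * a * b + a * b * b) * two_F4
  tr_one := rfl
  tr_nondeg a h := by have := h 1; simpa using this

theorem C4_T (a b : F4) : C4.T a b = a * b := rfl
theorem C4_sh (a : F4) : C4.sh a = a * a := rfl
theorem C4_N (a : F4) : C4.N a = a * a * a := rfl
theorem C4_cr (a b : F4) : C4.cr a b = 0 := by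
  change (a + b) * (a + b) + a * a + b * b = 0
  linear_combination (a * a + b * b + a * b) * two_F4

/-! ### Root elements with parameters in `F4` -/

/-- the word of `x_r(t)` -/
def wd1 (r : Fin 12) : F4 → Wd
  | .z => []
  | .o => [(r, 0)]
  | .w => [(r, 1)]
  | .v => [(r, 2)]

/-- the root element `x_r(t)` -/
def xg (r : Fin 12) (t : F4) : GL6 := ev (wd1 r t)

theorem xg_zero (r : Fin 12) : xg r 0 = 1 := rfl

theorem xg_mem (r : Fin 12) (t : F4) : xg r t ∈ L := ev_mem _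

theorem chk_mul : ∀ (r : Fin 12) (s t : F4), cw (wd1 r s ++ wd1 r t) = cw (wd1 r (s + t)) := by
  decide +kernel

theorem xg_mul (r : Fin 12) (s t : F4) : xg r s * xg r t = xg r (s + t) := by
  unfold xg; rw [← ev_append]; exact ev_eq_of (chk_mul r s t)

/-- the word of `x1 a1 ⋯ x6 a6` -/
def wd (a1 a2 a3 a4 a5 a6 : F4) : Wd :=
  wd1 7 a1 ++ (wd1 10 a2 ++ (wd1 9 a3 ++ (wd1 11 a4 ++ (wd1 8 a5 ++ wd1 6 a6))))

/-- `x1 a1 ⋯ x6 a6` -/
def nf (a1 a2 a3 a4 a5 a6 : F4) : GL6 :=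
  xg 7 a1 * (xg 10 a2 * (xg 9 a3 * (xg 11 a4 * (xg 8 a5 * xg 6 a6))))

theorem nf_eq (a1 a2 a3 a4 a5 a6 : F4) : nf a1 a2 a3 a4 a5 a6 = ev (wd a1 a2 a3 a4 a5 a6) := by
  unfold nf wd xg; simp only [ev_append]

/-! ### Relations -/

theorem chk61 : ∀ s t : F4, cw (wd1 6 s ++ wd1 7 t) =
    cw (wd t (s * (t * t * t)) (s * (t * t)) (s * s * (t * t * t)) (s * t) s) := by decide +kernel
theorem chk51 : ∀ s t : F4, cw (wd1 8 s ++ wd1 7 t) = cw (wd t (t * t * s) 0 (t * (s * s)) s 0) := by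
  decide +kernel
theorem chk31 : ∀ s t : F4, cw (wd1 9 s ++ wd1 7 t) = cw (wd t (t * s) s 0 0 0) := by decide +kernel
theorem chk62 : ∀ s t : F4, cw (wd1 6 s ++ wd1 10 t) = cw (wd 0 t 0 (s * t) 0 s) := by decide +kernel
theorem chk53 : ∀ s t : F4, cw (wd1 8 s ++ wd1 9 t) = cw (wd 0 0 t (t * s) s 0) := by decide +kernel

/-- the commuting pairs -/
def cps : List (Fin 12 × Fin 12) := [(10, 7), (11, 7), (9, 10), (11, 10), (8, 10), (11, 9), (6, 9), (8, 11),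
  (6, 11), (6, 8)]

theorem chkc : ∀ p ∈ cps, ∀ s t : F4, cw (wd1 p.1 s ++ wd1 p.2 t) = cw (wd1 p.2 t ++ wd1 p.1 s) := by
  decide +kernel

theorem comm_of {r r' : Fin 12} (h : (r, r') ∈ cps) (s t : F4) : xg r s * xg r' t = xg r' t * xg r s := by
  unfold xg; rw [← ev_append, ← ev_append]; exact ev_eq_of (chkc _ h s t)

theorem comm_of' {r r' : Fin 12} (h : (r, r') ∈ cps) (s t : F4) (w : GL6) :
    xg r s * (xg r' t * w) = xg r' t * (xg r s * w) := by
  rw [← mul_assoc, comm_of h, mul_assoc]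

theorem xg_mul' (r : Fin 12) (s t : F4) (w : GL6) : xg r s * (xg r t * w) = xg r (s + t) * w := by
  rw [← mul_assoc, xg_mul]

theorem r61 (s t : F4) : xg 6 s * xg 7 t =
    nf t (s * (t * t * t)) (s * (t * t)) (s * s * (t * t * t)) (s * t) s := by
  rw [nf_eq]; unfold xg; rw [← ev_append]; exact ev_eq_of (chk61 s t)

theorem r51 (s t : F4) : xg 8 s * xg 7 t = xg 7 t * (xg 10 (t * t * s) * (xg 11 (t * (s * s)) * xg 8 s)) := by
  have h : xg 8 s * xg 7 t = nf t (t * t * s) 0 (t * (s * s)) s 0 := by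
    rw [nf_eq]; unfold xg; rw [← ev_append]; exact ev_eq_of (chk51 s t)
  rw [h, nf, xg_zero, xg_zero, one_mul, mul_one]

theorem r31 (s t : F4) : xg 9 s * xg 7 t = xg 7 t * (xg 10 (t * s) * xg 9 s) := by
  have h : xg 9 s * xg 7 t = nf t (t * s) s 0 0 0 := by
    rw [nf_eq]; unfold xg; rw [← ev_append]; exact ev_eq_of (chk31 s t)
  rw [h, nf, xg_zero, xg_zero, xg_zero, one_mul, mul_one, mul_one]

theorem r62 (s t : F4) : xg 6 s * xg 10 t = xg 10 t * (xg 11 (s * t) * xg 6 s) := by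
  have h : xg 6 s * xg 10 t = nf 0 t 0 (s * t) 0 s := by
    rw [nf_eq]; unfold xg; rw [← ev_append]; exact ev_eq_of (chk62 s t)
  rw [h, nf, xg_zero, xg_zero, xg_zero, one_mul, one_mul, one_mul]

theorem r53 (s t : F4) : xg 8 s * xg 9 t = xg 9 t * (xg 11 (t * s) * xg 8 s) := by
  have h : xg 8 s * xg 9 t = nf 0 0 t (t * s) s 0 := by
    rw [nf_eq]; unfold xg; rw [← ev_append]; exact ev_eq_of (chk53 s t)
  rw [h, nf, xg_zero, xg_zero, xg_zero, one_mul, one_mul, mul_one]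

/-! ### Right multiplication -/

theorem nf_x6 (a1 a2 a3 a4 a5 a6 t : F4) : nf a1 a2 a3 a4 a5 a6 * xg 6 t = nf a1 a2 a3 a4 a5 (a6 + t) := by
  simp only [nf, mul_assoc, xg_mul]

theorem nf_x5 (a1 a2 a3 a4 a5 a6 t : F4) : nf a1 a2 a3 a4 a5 a6 * xg 8 t = nf a1 a2 a3 a4 (a5 + t) a6 := by
  simp only [nf, mul_assoc]
  rw [comm_of (by decide : ((6 : Fin 12), (8 : Fin 12)) ∈ cps), xg_mul']

theorem nf_x4 (a1 a2 a3 a4 a5 a6 t : F4) : nf a1 a2 a3 a4 a5 a6 * xg 11 t = nf a1 a2 a3 (a4 + t) a5 a6 := by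
  simp only [nf, mul_assoc]
  rw [comm_of (by decide : ((6 : Fin 12), (11 : Fin 12)) ∈ cps),
    comm_of' (by decide : ((8 : Fin 12), (11 : Fin 12)) ∈ cps), xg_mul']

theorem nf_x3 (a1 a2 a3 a4 a5 a6 t : F4) : nf a1 a2 a3 a4 a5 a6 * xg 9 t =
    nf a1 a2 (a3 + t) (a4 + t * a5) a5 a6 := by
  simp only [nf, mul_assoc]
  rw [comm_of (by decide : ((6 : Fin 12), (9 : Fin 12)) ∈ cps), ← mul_assoc (xg 8 a5), r53]
  simp only [mul_assoc]
  rw [comm_of' (by decide : ((11 : Fin 12), (9 : Fin 12)) ∈ cps), xg_mul', xg_mul']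

theorem nf_x2 (a1 a2 a3 a4 a5 a6 t : F4) : nf a1 a2 a3 a4 a5 a6 * xg 10 t =
    nf a1 (a2 + t) a3 (a4 + a6 * t) a5 a6 := by
  simp only [nf, mul_assoc]
  rw [r62, comm_of' (by decide : ((8 : Fin 12), (10 : Fin 12)) ∈ cps),
    comm_of' (by decide : ((11 : Fin 12), (10 : Fin 12)) ∈ cps),
    comm_of' (by decide : ((9 : Fin 12), (10 : Fin 12)) ∈ cps),
    comm_of' (by decide : ((8 : Fin 12), (11 : Fin 12)) ∈ cps), xg_mul', xg_mul']

theorem nf_x1 (a1 a2 a3 a4 a5 a6 t : F4) : nf a1 a2 a3 a4 a5 a6 * xg 7 t =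
    nf (a1 + t) (a2 + a6 * (t * t * t) + t * a3 + t * t * a5) (a3 + a6 * (t * t))
      (a4 + a6 * a6 * (t * t * t) + t * (a5 * a5) + a6 * (t * t) * a5) (a5 + a6 * t) a6 := by
  have e : nf a1 a2 a3 a4 a5 a6 * xg 7 t =
      nf (a1 + t) (a2 + t * a3 + t * t * a5) a3 (a4 + t * (a5 * a5)) a5 0 *
        xg 10 (a6 * (t * t * t)) * xg 9 (a6 * (t * t)) * xg 11 (a6 * a6 * (t * t * t)) *
        xg 8 (a6 * t) * xg 6 a6 := by
    simp only [nf, mul_assoc]
    rw [r61]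
    simp only [nf, xg_zero, one_mul]
    rw [← mul_assoc (xg 8 a5) (xg 7 t), r51]
    simp only [mul_assoc]
    rw [comm_of' (by decide : ((11 : Fin 12), (7 : Fin 12)) ∈ cps), ← mul_assoc (xg 9 a3) (xg 7 t), r31]
    simp only [mul_assoc]
    rw [comm_of' (by decide : ((10 : Fin 12), (7 : Fin 12)) ∈ cps), xg_mul',
      xg_mul', comm_of' (by decide : ((11 : Fin 12), (10 : Fin 12)) ∈ cps),
      comm_of' (by decide : ((9 : Fin 12), (10 : Fin 12)) ∈ cps), xg_mul', xg_mul']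
  rw [e, nf_x2, nf_x3, nf_x4, nf_x5, nf_x6]
  congr 1 <;> ring

/-- the product law -/
theorem nf_mul (a1 a2 a3 a4 a5 a6 b1 b2 b3 b4 b5 b6 : F4) :
    nf a1 a2 a3 a4 a5 a6 * nf b1 b2 b3 b4 b5 b6 =
      nf (a1 + b1) (a2 + b2 + a6 * (b1 * b1 * b1) + b1 * a3 + b1 * b1 * a5) (a3 + b3 + a6 * (b1 * b1))
        (a4 + b4 + a6 ^ 2 * (b1 * b1 * b1) + b1 * (a5 * a5) + a6 * b2 + a6 * (b1 * b1 * a5) + b3 * a5 +
          a6 * (b3 * b1)) (a5 + b5 + a6 * b1) (a6 + b6) := by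
  have e : nf b1 b2 b3 b4 b5 b6 = xg 7 b1 * (xg 10 b2 * (xg 9 b3 * (xg 11 b4 * (xg 8 b5 * xg 6 b6)))) := rfl
  rw [e, ← mul_assoc, nf_x1, ← mul_assoc, nf_x2, ← mul_assoc, nf_x3, ← mul_assoc, nf_x4, ← mul_assoc, nf_x5,
    nf_x6]
  congr 1 <;> ring

/-- `x1 a1 ⋯ x6 a6` -/
def phi (a : Tup F4 F4) : GL6 := nf a.a1 a.a2 a.a3 a.a4 a.a5 a.a6

theorem phi_mul (a b : Tup F4 F4) : phi a * phi b = phi (C4.mul a b) := by
  unfold phi
  rw [nf_mul]
  simp only [Cubic.mul, C4_T, C4_sh, C4_N, C4_cr, add_zero, smul_eq_mul]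

theorem phi_mem (a : Tup F4 F4) : phi a ∈ L := by
  unfold phi; rw [nf_eq]; exact ev_mem _

/-! ### Injectivity -/

/-- the image of a vector under a word -/
def av (w : Wd) (n : ℕ) : ℕ := w.foldr (fun p m => app (xc p.1 p.2) m) n

theorem av_spec (w : Wd) {n : ℕ} (hn : n < 4096) : av w n < 4096 ∧ dec (av w n) = act (ev w) (dec n) := by
  induction w with
  | nil => exact ⟨hn, (act_one _).symm⟩
  | cons p w ih =>
    refine ⟨(isCode_gx p.1 p.2).app_lt _, ?_⟩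
    have e : ev (p :: w) = gx p.1 p.2 * ev w := rfl
    rw [e, act_mul, ← ih.2]
    exact (isCode_gx p.1 p.2).spec _ ih.1

/-- a coordinate of a vector -/
def fv (n i : ℕ) : F4 := ofBits (n.testBit (2 * i)) (n.testBit (2 * i + 1))

/-- reading the coordinates -/
def rd (m3 m4 m5 : ℕ) : F4 × F4 × F4 × F4 × F4 × F4 :=
  (fv m5 4, fv m5 2 + fv m5 4 * fv m5 4 * fv m5 3, fv m3 1, fv m5 1 + fv m3 1 * fv m5 3, fv m5 3, fv m4 3)

theorem chk_rd : ∀ a1 a2 a3 a4 a5 a6 : F4, rd (av (wd a1 a2 a3 a4 a5 a6) 64) (av (wd a1 a2 a3 a4 a5 a6) 256)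
    (av (wd a1 a2 a3 a4 a5 a6) 1024) = (a1, a2, a3, a4, a5, a6) := by decide +kernel

theorem phi_injective : Function.Injective phi := by
  intro a b h
  unfold phi at h
  rw [nf_eq, nf_eq] at h
  have key : ∀ n < 4096, av (wd a.a1 a.a2 a.a3 a.a4 a.a5 a.a6) n = av (wd b.a1 b.a2 b.a3 b.a4 b.a5 b.a6) n := by
    intro n hn
    obtain ⟨h1, h2⟩ := av_spec (wd a.a1 a.a2 a.a3 a.a4 a.a5 a.a6) hn
    obtain ⟨h3, h4⟩ := av_spec (wd b.a1 b.a2 b.a3 b.a4 b.a5 b.a6) hn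
    apply dec_inj h1 h3
    rw [h2, h4, h]
  have h1 := chk_rd a.a1 a.a2 a.a3 a.a4 a.a5 a.a6
  rw [key 64 (by norm_num), key 256 (by norm_num), key 1024 (by norm_num), chk_rd] at h1
  simp only [Prod.mk.injEq] at h1
  obtain ⟨e1, e2, e3, e4, e5, e6⟩ := h1
  exact Tup.ext e1.symm e2.symm e3.symm e4.symm e5.symm e6.symm

theorem phi_zero : phi ⟨0, 0, 0, 0, 0, 0⟩ = 1 := by
  simp only [phi, nf, xg_zero, one_mul]

instance : Finite GL6 := by
  have : Finite Mat := inferInstanceAs (Finite (Fin 6 → Fin 6 → F4))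
  exact Finite.of_injective (fun g : GL6 => (g : Mat)) Units.val_injective

/-- the Sylow 2-subgroup -/
def U : Subgroup GL6 where
  carrier := Set.range phi
  one_mem' := ⟨_, phi_zero⟩
  mul_mem' := by
    rintro _ _ ⟨a, rfl⟩ ⟨b, rfl⟩
    exact ⟨_, (phi_mul a b).symm⟩
  inv_mem' := by
    rintro _ ⟨a, rfl⟩
    have key : ∀ n : ℕ, ∃ b, phi b = phi a ^ n := by
      intro n
      induction n with
      | zero => exact ⟨_, by rw [pow_zero]; exact phi_zero⟩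
      | succ n ih =>
        obtain ⟨b, hb⟩ := ih
        exact ⟨C4.mul b a, by rw [← phi_mul, hb, pow_succ]⟩
    obtain ⟨b, hb⟩ := key (orderOf (phi a) - 1)
    refine ⟨b, ?_⟩
    rw [hb, eq_inv_iff_mul_eq_one, ← pow_succ, Nat.sub_add_cancel (orderOf_pos _), pow_orderOf_eq_one]

theorem U_le : U ≤ L := by
  rintro _ ⟨a, rfl⟩
  exact phi_mem a

/-- the coordinates -/
noncomputable def co : Coord C4 U where
  e := (Equiv.ofBijective (fun a : Tup F4 F4 => (⟨phi a, a, rfl⟩ : U))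
    ⟨fun a b h => phi_injective (congrArg Subtype.val h), fun ⟨_, a, h⟩ => ⟨a, Subtype.ext h⟩⟩).symm
  map_mul g h := by
    obtain ⟨g, a, rfl⟩ := g
    obtain ⟨h, b, rfl⟩ := h
    rw [Equiv.symm_apply_eq]
    apply Subtype.ext
    change phi a * phi b = phi (C4.mul _ _)
    rw [phi_mul]
    congr 2
    · symm; rw [Equiv.symm_apply_eq]; rfl
    · symm; rw [Equiv.symm_apply_eq]; rfl

theorem phi_mem_U (a : Tup F4 F4) : phi a ∈ U := ⟨a, rfl⟩

theorem cx_phi (a : Tup F4 F4) : HexEss.cx co (phi a) = a := by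
  rw [HexEss.cx_eq (phi_mem_U a)]
  change (Equiv.ofBijective _ _).symm _ = a
  rw [Equiv.symm_apply_eq]
  rfl

theorem reg : HexEss.Reg C4 := by
  intro b
  rw [C4_cr]
  change (0 : F4) = b + b
  linear_combination -b * two_F4

end Cfsg.Agent.GTwoFour.Coord6
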