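import Mathlib
import Cfsg.Prelude.Def_Local
import Cfsg.Agent.StdG24.Basic

/-!
# `Emb` for a standard subgroup with trivial centre
-/

set_option autoImplicit false

namespace Cfsg.Agent.GTwoFour.EmbOf

open Subgroup Cfsg.Agent.StdG24

variable {G : Type*} [Group G] {L : Type*} [Group L]

/-- the embedding given by an isomorphism of a subgroup with `L` -/
def emb {A : Subgroup G} (φ : A ≃* L) : L →* G := A.subtype.comp φ.symm.toMonoidHom

theorem emb_apply {A : Subgroup G} (φ : A ≃* L) (x : L) : emb φ x = (φ.symm x : G) := rfl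

theorem range_emb {A : Subgroup G} (φ : A ≃* L) : (emb φ).range = A := by
  ext x
  constructor
  · rintro ⟨y, rfl⟩
    exact (φ.symm y).2
  · intro hx
    exact ⟨φ ⟨x, hx⟩, by rw [emb_apply, MulEquiv.symm_apply_apply]⟩

theorem KK_emb {A : Subgroup G} (φ : A ≃* L) : KK (emb φ) = centralizer (A : Set G) := by
  rw [KK, range_emb]

theorem MM_emb {A : Subgroup G} (φ : A ≃* L) : MM (emb φ) = normalizer (A : Set G) := by
  rw [MM, range_emb]

/-- **`Emb` from `IsStandardSubgroup`.** -/
theorem emb_of_standard [Finite G] {A : Subgroup G} (hA : Cfsg.IsStandardSubgroup A) (φ : A ≃* L)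
    (hc : ∀ x : L, (∀ y, x * y = y * x) → x = 1) (hne : ∃ x : L, x ≠ 1) : Emb (emb φ) := by
  classical
  have : Fact (Nat.Prime 2) := ⟨Nat.prime_two⟩
  refine ⟨?_, ?_, ?_, ?_, ?_⟩
  · intro x y hxy
    rw [emb_apply, emb_apply] at hxy
    exact φ.symm.injective (Subtype.ext hxy)
  · intro k g hk k1 k2 hg
    rw [MM_emb, hA.2.2.2]
    rw [KK_emb] at hk hg
    by_contra hcon
    have hodd := hA.2.1.2 g hcon
    have h3 : g * k * g⁻¹ ∈ centralizer (A : Set G) ⊓
        (centralizer (A : Set G)).map (MulAut.conj g).toMonoidHom := mem_inf.2 ⟨hg, k, hk, rfl⟩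
    have h4 := Subgroup.orderOf_dvd_natCard _ h3
    have h5 : orderOf (g * k * g⁻¹) = 2 := by
      apply orderOf_eq_prime
      · rw [pow_two]
        calc g * k * g⁻¹ * (g * k * g⁻¹) = g * (k * k) * g⁻¹ := by group
          _ = 1 := by rw [k2]; group
      · intro h1
        apply k1
        calc k = g⁻¹ * (g * k * g⁻¹) * g := by group
          _ = 1 := by rw [h1]; group
    rw [h5] at h4
    exact (Nat.not_even_iff_odd.2 hodd) (even_iff_two_dvd.2 h4)
  · intro x hx
    rw [mem_KK] at hx
    apply hc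
    intro y
    have h1 := hx y
    rw [← map_mul, ← map_mul] at h1
    exact φ.symm.injective (Subtype.ext h1)
  · intro g hg
    by_cases hAg : A.map (MulAut.conj g).toMonoidHom = A
    · -- `A` would be commutative
      obtain ⟨x, hx⟩ := hne
      apply hx
      apply hc
      intro y
      have h1 : (φ.symm y : G) ∈ A.map (MulAut.conj g).toMonoidHom := by rw [hAg]; exact (φ.symm y).2
      obtain ⟨a, ha, hay⟩ := h1
      have h2 : g * a * g⁻¹ = (φ.symm y : G) := hay
      have h3 := hg x (φ ⟨a, ha⟩)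
      rw [emb_apply, emb_apply, MulEquiv.symm_apply_apply] at h3
      rw [h2] at h3
      exact φ.symm.injective (Subtype.ext (by rw [map_mul, map_mul]; exact h3))
    · apply hA.2.2.1 g hAg
      rw [commutator_eq_bot_iff_le_centralizer]
      intro a ha
      rw [mem_centralizer_iff]
      rintro _ ⟨b, hb, rfl⟩
      have h3 := hg (φ ⟨a, ha⟩) (φ ⟨b, hb⟩)
      rw [emb_apply, emb_apply, MulEquiv.symm_apply_apply, MulEquiv.symm_apply_apply] at h3
      exact h3.symm
  · obtain ⟨⟨t, htK⟩, ht⟩ := exists_prime_orderOf_dvd_card' (G := centralizer (A : Set G)) 2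
      (even_iff_two_dvd.1 hA.2.1.1)
    rw [← Subgroup.orderOf_coe] at ht
    refine ⟨t, by rw [KK_emb]; exact htK, ?_, ?_⟩
    · rintro rfl
      simp at ht
    · have h1 := pow_orderOf_eq_one t
      have h2 : orderOf t = 2 := ht
      rw [h2, pow_two] at h1
      exact h1

end Cfsg.Agent.GTwoFour.EmbOf
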