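import Cfsg.Agent.GTwoFour.Iface

/-!
# The additional facts on `A = G₂(4)` used at the end (`EndG`)
-/

set_option autoImplicit false

namespace Cfsg.Agent.GTwoFour.Iface

open Subgroup
open scoped commutatorElement

/-- additional facts on `Q1`, `U = Q1 Xa` (a Sylow 2-subgroup) -/
structure EndFacts {H : Type*} [Group H] (D : Data H) : Prop where
  /-- `[b, Q1] = Z` for `b ∈ Q1 \ Z` -/
  full_Q1 : ∀ b ∈ D.Q1, b ∉ D.Z → ∀ z ∈ D.Z, ∃ q ∈ D.Q1, ⁅b, q⁆ = z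
  /-- `|C_{Q1/Z}(u)| < 2^6` for `u ∈ U \ Q1` -/
  cent_U : ∀ u ∈ D.Q1 ⊔ D.Xa, u ∉ D.Q1 → ∀ C : Subgroup H, C ≤ D.Q1 → (∀ q ∈ C, ⁅u, q⁆ ∈ D.Z) →
    Nat.card C < 256
  card_U : Nat.card (D.Q1 ⊔ D.Xa : Subgroup H) = 2 ^ 12

end Cfsg.Agent.GTwoFour.Iface
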