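import Cfsg.Agent.GTwoFour.IfaceR
import Mathlib.Algebra.Group.Subgroup.Finite
import Mathlib.Tactic.Group

/-!
# The facts on the 2-group `⟨t⟩ R` used at the end of the rank one case (S1751)

`RT Q1 Z J R t` only speaks about elements of `⟨t⟩ R`; it is transported along injective homomorphisms.
`RT.of_facts` proves it in the group of the growth argument.
-/

set_option autoImplicit false

namespace Cfsg.Agent.GTwoFour.EndX

open Subgroup
open scoped commutatorElement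

structure RT {H : Type*} [Group H] (Q1 Z J R : Subgroup H) (t : H) : Prop where
  t_sq : t * t = 1
  t_Q1 : ∀ q ∈ Q1, q * t = t * q
  Z_le : Z ≤ Q1
  J_le : J ≤ R
  Z_le_J : Z ≤ J
  Q1_le_R : Q1 ≤ R
  card_R : Nat.card R = 2 ^ 20
  card_J : Nat.card J = 16
  J_sq : ∀ w ∈ J, w * w = 1
  J_comm : ∀ r ∈ R, ∀ w ∈ J, r * w = w * r
  J_t : ∀ w ∈ J, ⁅w, t⁆ ∈ Z
  J_onto : ∀ z ∈ Z, ∃ w ∈ J, ⁅w, t⁆ = z
  R_comm : ∀ r ∈ R, ∀ r' ∈ R, ⁅r, r'⁆ ∈ J
  R_sq : ∀ r ∈ R, r * r ∈ J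
  R_t : ∀ r ∈ R, ∃ q ∈ Q1, ∃ w ∈ J, ⁅r, t⁆ = q * w
  R_onto : ∀ q ∈ Q1, ∃ r ∈ R, ∃ w ∈ J, ⁅r, t⁆ = q * w
  R_inter : ∀ q ∈ Q1, q ∈ J → q ∈ Z
  R_center : ∀ r ∈ R, (∀ s ∈ R, r * s = s * r) → r ∈ J
  tR : ∀ r ∈ R, t * r * t⁻¹ ∈ R

namespace RT

variable {H : Type*} [Group H]

theorem map {Q1 Z J R : Subgroup H} {t : H} (h : RT Q1 Z J R t) {G : Type*} [Group G] (ψ : H →* G)
    (hψ : Function.Injective ψ) :
    RT (Q1.map ψ) (Z.map ψ) (J.map ψ) (R.map ψ) (ψ t) := by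
  have hc : ∀ X : Subgroup H, Nat.card (X.map ψ) = Nat.card X := fun X =>
    Nat.card_congr (X.equivMapOfInjective ψ hψ).toEquiv.symm
  have hm : ∀ (X : Subgroup H) (x : H), ψ x ∈ X.map ψ ↔ x ∈ X := by
    intro X x
    constructor
    · rintro ⟨y, hy, e⟩
      rwa [← hψ e]
    · exact fun hx => mem_map_of_mem ψ hx
  refine
    { t_sq := by rw [← map_mul, h.t_sq, map_one]
      t_Q1 := ?_
      Z_le := map_mono h.Z_le
      J_le := map_mono h.J_le
      Z_le_J := map_mono h.Z_le_J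
      Q1_le_R := map_mono h.Q1_le_R
      card_R := by rw [hc, h.card_R]
      card_J := by rw [hc, h.card_J]
      J_sq := ?_
      J_comm := ?_
      J_t := ?_
      J_onto := ?_
      R_comm := ?_
      R_sq := ?_
      R_t := ?_
      R_onto := ?_
      R_inter := ?_
      R_center := ?_
      tR := ?_ }
  · rintro _ ⟨q, hq, rfl⟩
    rw [← map_mul, ← map_mul, h.t_Q1 q hq]
  · rintro _ ⟨w, hw, rfl⟩
    rw [← map_mul, h.J_sq w hw, map_one]
  · rintro _ ⟨r, hr, rfl⟩ _ ⟨w, hw, rfl⟩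
    rw [← map_mul, ← map_mul, h.J_comm r hr w hw]
  · rintro _ ⟨w, hw, rfl⟩
    rw [← map_commutatorElement, hm]
    exact h.J_t w hw
  · rintro _ ⟨z, hz, rfl⟩
    obtain ⟨w, hw, e⟩ := h.J_onto z hz
    exact ⟨ψ w, mem_map_of_mem ψ hw, by rw [← map_commutatorElement, e]⟩
  · rintro _ ⟨r, hr, rfl⟩ _ ⟨r', hr', rfl⟩
    rw [← map_commutatorElement, hm]
    exact h.R_comm r hr r' hr'
  · rintro _ ⟨r, hr, rfl⟩
    rw [← map_mul, hm]
    exact h.R_sq r hr
  · rintro _ ⟨r, hr, rfl⟩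
    obtain ⟨q, hq, w, hw, e⟩ := h.R_t r hr
    exact ⟨ψ q, mem_map_of_mem ψ hq, ψ w, mem_map_of_mem ψ hw, by
      rw [← map_commutatorElement, e, map_mul]⟩
  · rintro _ ⟨q, hq, rfl⟩
    obtain ⟨r, hr, w, hw, e⟩ := h.R_onto q hq
    exact ⟨ψ r, mem_map_of_mem ψ hr, ψ w, mem_map_of_mem ψ hw, by
      rw [← map_commutatorElement, e, map_mul]⟩
  · rintro _ ⟨q, hq, rfl⟩ hqJ
    rw [hm] at hqJ ⊢
    exact h.R_inter q hq hqJ
  · rintro _ ⟨r, hr, rfl⟩ hrc
    rw [hm]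
    apply h.R_center r hr
    intro s hs
    apply hψ
    rw [map_mul, map_mul]
    exact hrc _ (mem_map_of_mem ψ hs)
  · rintro _ ⟨r, hr, rfl⟩
    rw [← map_inv, ← map_mul, ← map_mul, hm]
    exact h.tR r hr

/-- restriction to a subgroup containing `t` and `R` -/
theorem subgroupOf {Q1 Z J R : Subgroup H} {t : H} (h : RT Q1 Z J R t) (M : Subgroup H) (hR : R ≤ M)
    (ht : t ∈ M) : RT (Q1.subgroupOf M) (Z.subgroupOf M) (J.subgroupOf M) (R.subgroupOf M) ⟨t, ht⟩ := by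
  have hc : ∀ X : Subgroup H, X ≤ M → Nat.card (X.subgroupOf M) = Nat.card X := fun X hX =>
    Nat.card_congr (subgroupOfEquivOfLe hX).toEquiv
  have hQ : Q1 ≤ M := h.Q1_le_R.trans hR
  have hJ : J ≤ M := h.J_le.trans hR
  refine
    { t_sq := Subtype.ext h.t_sq
      t_Q1 := fun q hq => Subtype.ext (h.t_Q1 q hq)
      Z_le := fun x hx => h.Z_le hx
      J_le := fun x hx => h.J_le hx
      Z_le_J := fun x hx => h.Z_le_J hx
      Q1_le_R := fun x hx => h.Q1_le_R hx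
      card_R := by rw [hc R hR, h.card_R]
      card_J := by rw [hc J hJ, h.card_J]
      J_sq := fun w hw => Subtype.ext (h.J_sq w hw)
      J_comm := fun r hr w hw => Subtype.ext (h.J_comm r hr w hw)
      J_t := fun w hw => h.J_t w hw
      J_onto := ?_
      R_comm := fun r hr r' hr' => h.R_comm r hr r' hr'
      R_sq := fun r hr => h.R_sq r hr
      R_t := ?_
      R_onto := ?_
      R_inter := fun q hq hqJ => h.R_inter q hq hqJ
      R_center := ?_
      tR := fun r hr => h.tR r hr }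
  · intro z hz
    obtain ⟨w, hw, e⟩ := h.J_onto z hz
    exact ⟨⟨w, hJ hw⟩, hw, Subtype.ext e⟩
  · intro r hr
    obtain ⟨q, hq, w, hw, e⟩ := h.R_t r hr
    exact ⟨⟨q, hQ hq⟩, hq, ⟨w, hJ hw⟩, hw, Subtype.ext e⟩
  · intro q hq
    obtain ⟨r, hr, w, hw, e⟩ := h.R_onto q hq
    exact ⟨⟨r, hR hr⟩, hr, ⟨w, hJ hw⟩, hw, Subtype.ext e⟩
  · intro r hr hrc
    apply h.R_center r hr
    intro s hs
    exact congrArg Subtype.val (hrc ⟨s, hR hs⟩ hs)

open Iface in
/-- **the facts in the group of the growth argument** -/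
theorem of_facts {D : Data H} {t : H} {W0 V R : Subgroup H} (F : Facts D) (B : Big D t)
    (W : WFacts D t W0) (hV : VFacts D t W0 V) (hR : RFacts D t W0 V R) :
    RT D.Q1 D.Z W0 R t := by
  have tR' : ∀ r ∈ R, ⁅r, t⁆ ∈ R := by
    intro r hr
    obtain ⟨q, hq, w, hw, e⟩ := hR.comm_t r hr
    rw [e]
    exact R.mul_mem (hR.Q1_le hq) (hR.W0_le hw)
  have tR : ∀ r ∈ R, t * r * t⁻¹ ∈ R := by
    intro r hr
    have h1 := R.mul_mem (R.inv_mem (tR' r hr)) hr
    have e : ⁅r, t⁆⁻¹ * r = t * r * t⁻¹ := by rw [commutatorElement_def]; group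
    rwa [e] at h1
  refine
    { t_sq := B.t_sq
      t_Q1 := fun q hq => B.comm q (F.P_le (F.Q1_le hq))
      Z_le := F.Z_le
      J_le := hR.W0_le
      Z_le_J := W.Z_le
      Q1_le_R := hR.Q1_le
      card_R := hR.card
      card_J := W.card
      J_sq := fun w hw => hV.sq w (hV.le hw)
      J_comm := hR.cent_W0
      J_t := W.comm_t
      J_onto := W.onto
      R_comm := hR.comm
      R_sq := hR.sq
      R_t := hR.comm_t
      R_onto := hR.onto
      R_inter := hR.inter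
      R_center := ?_
      tR := tR }
  intro r hr hrc
  -- `t r t⁻¹` is central in `R`
  have h1 : ∀ s ∈ R, t * r⁻¹ * t⁻¹ * s = s * (t * r⁻¹ * t⁻¹) := by
    intro s hs
    have hs' : t⁻¹ * s * t ∈ R := by
      have ti : t⁻¹ = t := inv_eq_of_mul_eq_one_right B.t_sq
      have := tR s hs
      rw [ti] at this ⊢
      exact this
    have h2 := hrc _ hs'
    calc t * r⁻¹ * t⁻¹ * s = t * (r⁻¹ * (t⁻¹ * s * t * r) * r⁻¹) * t⁻¹ := by group
      _ = t * (r⁻¹ * (r * (t⁻¹ * s * t)) * r⁻¹) * t⁻¹ := by rw [h2]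
      _ = s * (t * r⁻¹ * t⁻¹) := by group
  have h3 : ∀ s ∈ R, ⁅r, t⁆ * s = s * ⁅r, t⁆ := by
    intro s hs
    calc ⁅r, t⁆ * s = r * (t * r⁻¹ * t⁻¹ * s) := by rw [commutatorElement_def]; group
      _ = r * s * (t * r⁻¹ * t⁻¹) := by rw [h1 s hs]; group
      _ = s * ⁅r, t⁆ := by rw [hrc s hs, commutatorElement_def]; group
  obtain ⟨q, hq, w, hw, e⟩ := hR.comm_t r hr
  have h4 : q ∈ D.Z := by
    apply F.center_Q1 q hq
    intro q' hq'
    have h5 := h3 q' (hR.Q1_le hq')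
    have h6 := hR.cent_W0 q' (hR.Q1_le hq') w hw
    rw [e] at h5
    have : q * q' * w = q' * q * w := by
      calc q * q' * w = q * (q' * w) := by group
        _ = q * w * q' := by rw [h6]; group
        _ = q' * (q * w) := h5
        _ = q' * q * w := by group
    exact mul_right_cancel this
  have h7 : ⁅r, t⁆ ∈ W0 := by
    rw [e]
    exact W0.mul_mem (W.Z_le h4) hw
  obtain ⟨q2, hq2, w2, hw2, e2⟩ := hR.ker r hr h7
  have h8 : q2 ∈ D.Z := by
    apply F.center_Q1 q2 hq2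
    intro q' hq'
    have h5 := hrc q' (hR.Q1_le hq')
    have h6 := hR.cent_W0 q' (hR.Q1_le hq') w2 hw2
    rw [e2] at h5
    have : q2 * q' * w2 = q' * q2 * w2 := by
      calc q2 * q' * w2 = q2 * (q' * w2) := by group
        _ = q2 * w2 * q' := by rw [h6]; group
        _ = q' * (q2 * w2) := h5
        _ = q' * q2 * w2 := by group
    exact mul_right_cancel this
  rw [e2]
  exact W0.mul_mem (W.Z_le h8) hw2

end RT

end Cfsg.Agent.GTwoFour.EndX
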