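import Cfsg.Agent.GTwoFour.Iface

/-!
# Transport of the facts on `G₂(4)` along injective homomorphisms

`Facts.map_iff`: `Facts (D.map φ) ↔ Facts D` for `φ` injective; `exists_of_equiv`: the facts for one group
`D.A` give the facts for every subgroup of any group isomorphic to `D.A`.
-/

set_option autoImplicit false

namespace Cfsg.Agent.GTwoFour.Iface

open Subgroup
open scoped commutatorElement

namespace Data

variable {H H' : Type*} [Group H] [Group H']

/-- the image of the data -/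
def map (φ : H →* H') (D : Data H) : Data H' where
  A := D.A.map φ
  P := D.P.map φ
  Q1 := D.Q1.map φ
  Q2 := D.Q2.map φ
  Z := D.Z.map φ
  Xe := D.Xe.map φ
  Xb := D.Xb.map φ
  Xa := D.Xa.map φ
  ns := φ D.ns
  nl := φ D.nl
  h := φ D.h
  f := φ D.f
  y := φ D.y
  a1 := φ D.a1
  a2 := φ D.a2

end Data

namespace FactsMap

variable {H H' : Type*} [Group H] [Group H'] {φ : H →* H'}

theorem fa {K : Subgroup H} {p : H' → Prop} : (∀ x ∈ K.map φ, p x) ↔ ∀ x ∈ K, p (φ x) :=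
  ⟨fun h x hx => h _ (mem_map_of_mem φ hx), fun h x hx => by
    obtain ⟨y, hy, rfl⟩ := mem_map.1 hx
    exact h y hy⟩

theorem ex {K : Subgroup H} {p : H' → Prop} : (∃ x ∈ K.map φ, p x) ↔ ∃ x ∈ K, p (φ x) :=
  ⟨fun ⟨x, hx, h⟩ => by
    obtain ⟨y, hy, rfl⟩ := mem_map.1 hx
    exact ⟨y, hy, h⟩, fun ⟨x, hx, h⟩ => ⟨_, mem_map_of_mem φ hx, h⟩⟩

theorem map_cent (hφ : Function.Injective φ) (A B : Subgroup H) :
    (A ⊓ centralizer (B : Set H)).map φ = A.map φ ⊓ centralizer (B.map φ : Set H') := by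
  ext x
  simp only [mem_map, mem_inf, mem_centralizer_iff]
  constructor
  · rintro ⟨y, ⟨hy, hc⟩, rfl⟩
    refine ⟨⟨y, hy, rfl⟩, ?_⟩
    rintro _ ⟨b, hb, rfl⟩
    rw [← map_mul, ← map_mul, hc b hb]
  · rintro ⟨⟨y, hy, rfl⟩, hc⟩
    refine ⟨y, ⟨hy, fun b hb => ?_⟩, rfl⟩
    apply hφ
    rw [map_mul, map_mul, hc _ ⟨b, hb, rfl⟩]

theorem map_W4 (D : Data H) : (D.map φ).W4 = D.W4.map φ := by
  simp only [Data.W4, Data.map, Subgroup.map_sup]

theorem map_L2 (hφ : Function.Injective φ) (D : Data H) : (D.map φ).L2 = D.L2.map φ := by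
  simp only [Data.L2, Data.map, map_cent hφ]

theorem map_Q12 (hφ : Function.Injective φ) (D : Data H) : (D.map φ).Q12 = D.Q12.map φ := by
  simp only [Data.Q12, Data.map, map_cent hφ]

theorem map_B (D : Data H) : (D.map φ).B = D.B.map φ := by
  simp only [Data.B, Data.map, Subgroup.map_sup, MonoidHom.map_zpowers]

theorem map_P2 (hφ : Function.Injective φ) (D : Data H) : (D.map φ).P2 = D.P2.map φ := by
  simp only [Data.P2, map_L2 hφ, Subgroup.map_sup, MonoidHom.map_zpowers]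
  rfl

theorem map_nrm (D : Data H) (x : H) : (D.map φ).nrm (φ x) = φ (D.nrm x) := by
  simp only [Data.nrm, Data.map, map_mul, map_inv]

theorem card_map (hφ : Function.Injective φ) (K : Subgroup H) : Nat.card (K.map φ) = Nat.card K :=
  Nat.card_congr (K.equivMapOfInjective φ hφ).toEquiv.symm

theorem le_iff (hφ : Function.Injective φ) {A B : Subgroup H} : A.map φ ≤ B.map φ ↔ A ≤ B :=
  map_le_map_iff_of_injective hφ

variable {D : Data H}

theorem pA : (D.map φ).A = D.A.map φ := rfl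
theorem pP : (D.map φ).P = D.P.map φ := rfl
theorem pQ1 : (D.map φ).Q1 = D.Q1.map φ := rfl
theorem pQ2 : (D.map φ).Q2 = D.Q2.map φ := rfl
theorem pZ : (D.map φ).Z = D.Z.map φ := rfl
theorem pXe : (D.map φ).Xe = D.Xe.map φ := rfl
theorem pXb : (D.map φ).Xb = D.Xb.map φ := rfl
theorem pXa : (D.map φ).Xa = D.Xa.map φ := rfl
theorem pns : (D.map φ).ns = φ D.ns := rfl
theorem pnl : (D.map φ).nl = φ D.nl := rfl
theorem ph : (D.map φ).h = φ D.h := rfl
theorem pf : (D.map φ).f = φ D.f := rfl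
theorem py : (D.map φ).y = φ D.y := rfl
theorem pa1 : (D.map φ).a1 = φ D.a1 := rfl
theorem pa2 : (D.map φ).a2 = φ D.a2 := rfl

end FactsMap

open FactsMap

/-- transport of the facts -/
theorem Facts.map_iff {H H' : Type*} [Group H] [Group H'] {φ : H →* H'} (hφ : Function.Injective φ)
    {D : Data H} : Facts (D.map φ) ↔ Facts D := by
  have e1 : ∀ x : H, φ x = 1 ↔ x = 1 := fun x => map_eq_one_iff φ hφ
  constructor
  · intro F
    exact {
      P_le := by
        simpa only [pA, pP, pQ1, pQ2, pZ, pXe, pXb, pXa, pns, pnl, ph, pf, py, pa1, pa2, map_W4, map_L2 hφ,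
        map_Q12 hφ, map_B, map_P2 hφ, map_nrm, card_map hφ, fa, ex, mem_map_iff_mem hφ, ← map_mul, ← map_inv,
        ← map_pow, ← map_commutatorElement, hφ.eq_iff, e1, le_iff hφ] using F.P_le
      Q1_le := by
        simpa only [pA, pP, pQ1, pQ2, pZ, pXe, pXb, pXa, pns, pnl, ph, pf, py, pa1, pa2, map_W4, map_L2 hφ,
        map_Q12 hφ, map_B, map_P2 hφ, map_nrm, card_map hφ, fa, ex, mem_map_iff_mem hφ, ← map_mul, ← map_inv,
        ← map_pow, ← map_commutatorElement, hφ.eq_iff, e1, le_iff hφ] using F.Q1_le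
      Z_le := by
        simpa only [pA, pP, pQ1, pQ2, pZ, pXe, pXb, pXa, pns, pnl, ph, pf, py, pa1, pa2, map_W4, map_L2 hφ,
        map_Q12 hφ, map_B, map_P2 hφ, map_nrm, card_map hφ, fa, ex, mem_map_iff_mem hφ, ← map_mul, ← map_inv,
        ← map_pow, ← map_commutatorElement, hφ.eq_iff, e1, le_iff hφ] using F.Z_le
      Xe_le := by
        simpa only [pA, pP, pQ1, pQ2, pZ, pXe, pXb, pXa, pns, pnl, ph, pf, py, pa1, pa2, map_W4, map_L2 hφ,
        map_Q12 hφ, map_B, map_P2 hφ, map_nrm, card_map hφ, fa, ex, mem_map_iff_mem hφ, ← map_mul, ← map_inv,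
        ← map_pow, ← map_commutatorElement, hφ.eq_iff, e1, le_iff hφ] using F.Xe_le
      Xb_le := by
        simpa only [pA, pP, pQ1, pQ2, pZ, pXe, pXb, pXa, pns, pnl, ph, pf, py, pa1, pa2, map_W4, map_L2 hφ,
        map_Q12 hφ, map_B, map_P2 hφ, map_nrm, card_map hφ, fa, ex, mem_map_iff_mem hφ, ← map_mul, ← map_inv,
        ← map_pow, ← map_commutatorElement, hφ.eq_iff, e1, le_iff hφ] using F.Xb_le
      Xa_le := by
        simpa only [pA, pP, pQ1, pQ2, pZ, pXe, pXb, pXa, pns, pnl, ph, pf, py, pa1, pa2, map_W4, map_L2 hφ,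
        map_Q12 hφ, map_B, map_P2 hφ, map_nrm, card_map hφ, fa, ex, mem_map_iff_mem hφ, ← map_mul, ← map_inv,
        ← map_pow, ← map_commutatorElement, hφ.eq_iff, e1, le_iff hφ] using F.Xa_le
      Q2_le := by
        simpa only [pA, pP, pQ1, pQ2, pZ, pXe, pXb, pXa, pns, pnl, ph, pf, py, pa1, pa2, map_W4, map_L2 hφ,
        map_Q12 hφ, map_B, map_P2 hφ, map_nrm, card_map hφ, fa, ex, mem_map_iff_mem hφ, ← map_mul, ← map_inv,
        ← map_pow, ← map_commutatorElement, hφ.eq_iff, e1, le_iff hφ] using F.Q2_le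
      ns_mem := by
        simpa only [pA, pP, pQ1, pQ2, pZ, pXe, pXb, pXa, pns, pnl, ph, pf, py, pa1, pa2, map_W4, map_L2 hφ,
        map_Q12 hφ, map_B, map_P2 hφ, map_nrm, card_map hφ, fa, ex, mem_map_iff_mem hφ, ← map_mul, ← map_inv,
        ← map_pow, ← map_commutatorElement, hφ.eq_iff, e1, le_iff hφ] using F.ns_mem
      f_mem := by
        simpa only [pA, pP, pQ1, pQ2, pZ, pXe, pXb, pXa, pns, pnl, ph, pf, py, pa1, pa2, map_W4, map_L2 hφ,
        map_Q12 hφ, map_B, map_P2 hφ, map_nrm, card_map hφ, fa, ex, mem_map_iff_mem hφ, ← map_mul, ← map_inv,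
        ← map_pow, ← map_commutatorElement, hφ.eq_iff, e1, le_iff hφ] using F.f_mem
      y_mem := by
        simpa only [pA, pP, pQ1, pQ2, pZ, pXe, pXb, pXa, pns, pnl, ph, pf, py, pa1, pa2, map_W4, map_L2 hφ,
        map_Q12 hφ, map_B, map_P2 hφ, map_nrm, card_map hφ, fa, ex, mem_map_iff_mem hφ, ← map_mul, ← map_inv,
        ← map_pow, ← map_commutatorElement, hφ.eq_iff, e1, le_iff hφ] using F.y_mem
      nl_mem := by
        simpa only [pA, pP, pQ1, pQ2, pZ, pXe, pXb, pXa, pns, pnl, ph, pf, py, pa1, pa2, map_W4, map_L2 hφ,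
        map_Q12 hφ, map_B, map_P2 hφ, map_nrm, card_map hφ, fa, ex, mem_map_iff_mem hφ, ← map_mul, ← map_inv,
        ← map_pow, ← map_commutatorElement, hφ.eq_iff, e1, le_iff hφ] using F.nl_mem
      h_mem := by
        simpa only [pA, pP, pQ1, pQ2, pZ, pXe, pXb, pXa, pns, pnl, ph, pf, py, pa1, pa2, map_W4, map_L2 hφ,
        map_Q12 hφ, map_B, map_P2 hφ, map_nrm, card_map hφ, fa, ex, mem_map_iff_mem hφ, ← map_mul, ← map_inv,
        ← map_pow, ← map_commutatorElement, hφ.eq_iff, e1, le_iff hφ] using F.h_mem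
      card_A := by
        simpa only [pA, pP, pQ1, pQ2, pZ, pXe, pXb, pXa, pns, pnl, ph, pf, py, pa1, pa2, map_W4, map_L2 hφ,
        map_Q12 hφ, map_B, map_P2 hφ, map_nrm, card_map hφ, fa, ex, mem_map_iff_mem hφ, ← map_mul, ← map_inv,
        ← map_pow, ← map_commutatorElement, hφ.eq_iff, e1, le_iff hφ] using F.card_A
      card_P := by
        simpa only [pA, pP, pQ1, pQ2, pZ, pXe, pXb, pXa, pns, pnl, ph, pf, py, pa1, pa2, map_W4, map_L2 hφ,
        map_Q12 hφ, map_B, map_P2 hφ, map_nrm, card_map hφ, fa, ex, mem_map_iff_mem hφ, ← map_mul, ← map_inv,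
        ← map_pow, ← map_commutatorElement, hφ.eq_iff, e1, le_iff hφ] using F.card_P
      card_Q1 := by
        simpa only [pA, pP, pQ1, pQ2, pZ, pXe, pXb, pXa, pns, pnl, ph, pf, py, pa1, pa2, map_W4, map_L2 hφ,
        map_Q12 hφ, map_B, map_P2 hφ, map_nrm, card_map hφ, fa, ex, mem_map_iff_mem hφ, ← map_mul, ← map_inv,
        ← map_pow, ← map_commutatorElement, hφ.eq_iff, e1, le_iff hφ] using F.card_Q1
      card_Q2 := by
        simpa only [pA, pP, pQ1, pQ2, pZ, pXe, pXb, pXa, pns, pnl, ph, pf, py, pa1, pa2, map_W4, map_L2 hφ,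
        map_Q12 hφ, map_B, map_P2 hφ, map_nrm, card_map hφ, fa, ex, mem_map_iff_mem hφ, ← map_mul, ← map_inv,
        ← map_pow, ← map_commutatorElement, hφ.eq_iff, e1, le_iff hφ] using F.card_Q2
      card_Q12 := by
        simpa only [pA, pP, pQ1, pQ2, pZ, pXe, pXb, pXa, pns, pnl, ph, pf, py, pa1, pa2, map_W4, map_L2 hφ,
        map_Q12 hφ, map_B, map_P2 hφ, map_nrm, card_map hφ, fa, ex, mem_map_iff_mem hφ, ← map_mul, ← map_inv,
        ← map_pow, ← map_commutatorElement, hφ.eq_iff, e1, le_iff hφ] using F.card_Q12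
      card_Z := by
        simpa only [pA, pP, pQ1, pQ2, pZ, pXe, pXb, pXa, pns, pnl, ph, pf, py, pa1, pa2, map_W4, map_L2 hφ,
        map_Q12 hφ, map_B, map_P2 hφ, map_nrm, card_map hφ, fa, ex, mem_map_iff_mem hφ, ← map_mul, ← map_inv,
        ← map_pow, ← map_commutatorElement, hφ.eq_iff, e1, le_iff hφ] using F.card_Z
      card_Xe := by
        simpa only [pA, pP, pQ1, pQ2, pZ, pXe, pXb, pXa, pns, pnl, ph, pf, py, pa1, pa2, map_W4, map_L2 hφ,
        map_Q12 hφ, map_B, map_P2 hφ, map_nrm, card_map hφ, fa, ex, mem_map_iff_mem hφ, ← map_mul, ← map_inv,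
        ← map_pow, ← map_commutatorElement, hφ.eq_iff, e1, le_iff hφ] using F.card_Xe
      card_Xb := by
        simpa only [pA, pP, pQ1, pQ2, pZ, pXe, pXb, pXa, pns, pnl, ph, pf, py, pa1, pa2, map_W4, map_L2 hφ,
        map_Q12 hφ, map_B, map_P2 hφ, map_nrm, card_map hφ, fa, ex, mem_map_iff_mem hφ, ← map_mul, ← map_inv,
        ← map_pow, ← map_commutatorElement, hφ.eq_iff, e1, le_iff hφ] using F.card_Xb
      card_Xa := by
        simpa only [pA, pP, pQ1, pQ2, pZ, pXe, pXb, pXa, pns, pnl, ph, pf, py, pa1, pa2, map_W4, map_L2 hφ,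
        map_Q12 hφ, map_B, map_P2 hφ, map_nrm, card_map hφ, fa, ex, mem_map_iff_mem hφ, ← map_mul, ← map_inv,
        ← map_pow, ← map_commutatorElement, hφ.eq_iff, e1, le_iff hφ] using F.card_Xa
      cent_Z := by
        simpa only [pA, pP, pQ1, pQ2, pZ, pXe, pXb, pXa, pns, pnl, ph, pf, py, pa1, pa2, map_W4, map_L2 hφ,
        map_Q12 hφ, map_B, map_P2 hφ, map_nrm, card_map hφ, fa, ex, mem_map_iff_mem hφ, ← map_mul, ← map_inv,
        ← map_pow, ← map_commutatorElement, hφ.eq_iff, e1, le_iff hφ] using F.cent_Z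
      sq_Z := by
        simpa only [pA, pP, pQ1, pQ2, pZ, pXe, pXb, pXa, pns, pnl, ph, pf, py, pa1, pa2, map_W4, map_L2 hφ,
        map_Q12 hφ, map_B, map_P2 hφ, map_nrm, card_map hφ, fa, ex, mem_map_iff_mem hφ, ← map_mul, ← map_inv,
        ← map_pow, ← map_commutatorElement, hφ.eq_iff, e1, le_iff hφ] using F.sq_Z
      sq_Xe := by
        simpa only [pA, pP, pQ1, pQ2, pZ, pXe, pXb, pXa, pns, pnl, ph, pf, py, pa1, pa2, map_W4, map_L2 hφ,
        map_Q12 hφ, map_B, map_P2 hφ, map_nrm, card_map hφ, fa, ex, mem_map_iff_mem hφ, ← map_mul, ← map_inv,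
        ← map_pow, ← map_commutatorElement, hφ.eq_iff, e1, le_iff hφ] using F.sq_Xe
      sq_Xb := by
        simpa only [pA, pP, pQ1, pQ2, pZ, pXe, pXb, pXa, pns, pnl, ph, pf, py, pa1, pa2, map_W4, map_L2 hφ,
        map_Q12 hφ, map_B, map_P2 hφ, map_nrm, card_map hφ, fa, ex, mem_map_iff_mem hφ, ← map_mul, ← map_inv,
        ← map_pow, ← map_commutatorElement, hφ.eq_iff, e1, le_iff hφ] using F.sq_Xb
      norm_Q1 := by
        simpa only [pA, pP, pQ1, pQ2, pZ, pXe, pXb, pXa, pns, pnl, ph, pf, py, pa1, pa2, map_W4, map_L2 hφ,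
        map_Q12 hφ, map_B, map_P2 hφ, map_nrm, card_map hφ, fa, ex, mem_map_iff_mem hφ, ← map_mul, ← map_inv,
        ← map_pow, ← map_commutatorElement, hφ.eq_iff, e1, le_iff hφ] using F.norm_Q1
      core_P := by
        intro N hN hn h2
        have h := F.core_P (N.map φ) (Subgroup.map_mono hN) (by
          rintro _ ⟨p, hp, rfl⟩ _ ⟨x, hx, rfl⟩
          exact ⟨p * x * p⁻¹, hn p hp x hx, by simp only [map_mul, map_inv]⟩) (h2.map φ)
        exact (le_iff hφ).1 h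
      perfect_P := by
        have h := F.perfect_P
        rw [pP, ← map_commutator, le_iff hφ] at h
        exact h
      center_PQ1 := by
        simpa only [pA, pP, pQ1, pQ2, pZ, pXe, pXb, pXa, pns, pnl, ph, pf, py, pa1, pa2, map_W4, map_L2 hφ,
        map_Q12 hφ, map_B, map_P2 hφ, map_nrm, card_map hφ, fa, ex, mem_map_iff_mem hφ, ← map_mul, ← map_inv,
        ← map_pow, ← map_commutatorElement, hφ.eq_iff, e1, le_iff hφ] using F.center_PQ1
      center_Q1 := by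
        simpa only [pA, pP, pQ1, pQ2, pZ, pXe, pXb, pXa, pns, pnl, ph, pf, py, pa1, pa2, map_W4, map_L2 hφ,
        map_Q12 hφ, map_B, map_P2 hφ, map_nrm, card_map hφ, fa, ex, mem_map_iff_mem hφ, ← map_mul, ← map_inv,
        ← map_pow, ← map_commutatorElement, hφ.eq_iff, e1, le_iff hφ] using F.center_Q1
      cent_Q1Z := by
        simpa only [pA, pP, pQ1, pQ2, pZ, pXe, pXb, pXa, pns, pnl, ph, pf, py, pa1, pa2, map_W4, map_L2 hφ,
        map_Q12 hφ, map_B, map_P2 hφ, map_nrm, card_map hφ, fa, ex, mem_map_iff_mem hφ, ← map_mul, ← map_inv,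
        ← map_pow, ← map_commutatorElement, hφ.eq_iff, e1, le_iff hφ] using F.cent_Q1Z
      comm_Q1 := by
        simpa only [pA, pP, pQ1, pQ2, pZ, pXe, pXb, pXa, pns, pnl, ph, pf, py, pa1, pa2, map_W4, map_L2 hφ,
        map_Q12 hφ, map_B, map_P2 hφ, map_nrm, card_map hφ, fa, ex, mem_map_iff_mem hφ, ← map_mul, ← map_inv,
        ← map_pow, ← map_commutatorElement, hφ.eq_iff, e1, le_iff hφ] using F.comm_Q1
      sq_Q1 := by
        simpa only [pA, pP, pQ1, pQ2, pZ, pXe, pXb, pXa, pns, pnl, ph, pf, py, pa1, pa2, map_W4, map_L2 hφ,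
        map_Q12 hφ, map_B, map_P2 hφ, map_nrm, card_map hφ, fa, ex, mem_map_iff_mem hφ, ← map_mul, ← map_inv,
        ← map_pow, ← map_commutatorElement, hφ.eq_iff, e1, le_iff hφ] using F.sq_Q1
      f_pow := by
        simpa only [pA, pP, pQ1, pQ2, pZ, pXe, pXb, pXa, pns, pnl, ph, pf, py, pa1, pa2, map_W4, map_L2 hφ,
        map_Q12 hφ, map_B, map_P2 hφ, map_nrm, card_map hφ, fa, ex, mem_map_iff_mem hφ, ← map_mul, ← map_inv,
        ← map_pow, ← map_commutatorElement, hφ.eq_iff, e1, le_iff hφ] using F.f_pow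
      f_Q1 := by
        simpa only [pA, pP, pQ1, pQ2, pZ, pXe, pXb, pXa, pns, pnl, ph, pf, py, pa1, pa2, map_W4, map_L2 hφ,
        map_Q12 hφ, map_B, map_P2 hφ, map_nrm, card_map hφ, fa, ex, mem_map_iff_mem hφ, ← map_mul, ← map_inv,
        ← map_pow, ← map_commutatorElement, hφ.eq_iff, e1, le_iff hφ] using F.f_Q1
      h_pow := by
        simpa only [pA, pP, pQ1, pQ2, pZ, pXe, pXb, pXa, pns, pnl, ph, pf, py, pa1, pa2, map_W4, map_L2 hφ,
        map_Q12 hφ, map_B, map_P2 hφ, map_nrm, card_map hφ, fa, ex, mem_map_iff_mem hφ, ← map_mul, ← map_inv,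
        ← map_pow, ← map_commutatorElement, hφ.eq_iff, e1, le_iff hφ] using F.h_pow
      h_P := by
        simpa only [pA, pP, pQ1, pQ2, pZ, pXe, pXb, pXa, pns, pnl, ph, pf, py, pa1, pa2, map_W4, map_L2 hφ,
        map_Q12 hφ, map_B, map_P2 hφ, map_nrm, card_map hφ, fa, ex, mem_map_iff_mem hφ, ← map_mul, ← map_inv,
        ← map_pow, ← map_commutatorElement, hφ.eq_iff, e1, le_iff hφ] using F.h_P
      h_Z := by
        simpa only [pA, pP, pQ1, pQ2, pZ, pXe, pXb, pXa, pns, pnl, ph, pf, py, pa1, pa2, map_W4, map_L2 hφ,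
        map_Q12 hφ, map_B, map_P2 hφ, map_nrm, card_map hφ, fa, ex, mem_map_iff_mem hφ, ← map_mul, ← map_inv,
        ← map_pow, ← map_commutatorElement, hφ.eq_iff, e1, le_iff hφ] using F.h_Z
      h_Z_fpf := by
        simpa only [pA, pP, pQ1, pQ2, pZ, pXe, pXb, pXa, pns, pnl, ph, pf, py, pa1, pa2, map_W4, map_L2 hφ,
        map_Q12 hφ, map_B, map_P2 hφ, map_nrm, card_map hφ, fa, ex, mem_map_iff_mem hφ, ← map_mul, ← map_inv,
        ← map_pow, ← map_commutatorElement, hφ.eq_iff, e1, le_iff hφ] using F.h_Z_fpf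
      h_Xe := by
        simpa only [pA, pP, pQ1, pQ2, pZ, pXe, pXb, pXa, pns, pnl, ph, pf, py, pa1, pa2, map_W4, map_L2 hφ,
        map_Q12 hφ, map_B, map_P2 hφ, map_nrm, card_map hφ, fa, ex, mem_map_iff_mem hφ, ← map_mul, ← map_inv,
        ← map_pow, ← map_commutatorElement, hφ.eq_iff, e1, le_iff hφ] using F.h_Xe
      h_Xe_fpf := by
        simpa only [pA, pP, pQ1, pQ2, pZ, pXe, pXb, pXa, pns, pnl, ph, pf, py, pa1, pa2, map_W4, map_L2 hφ,
        map_Q12 hφ, map_B, map_P2 hφ, map_nrm, card_map hφ, fa, ex, mem_map_iff_mem hφ, ← map_mul, ← map_inv,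
        ← map_pow, ← map_commutatorElement, hφ.eq_iff, e1, le_iff hφ] using F.h_Xe_fpf
      h_Xb := by
        simpa only [pA, pP, pQ1, pQ2, pZ, pXe, pXb, pXa, pns, pnl, ph, pf, py, pa1, pa2, map_W4, map_L2 hφ,
        map_Q12 hφ, map_B, map_P2 hφ, map_nrm, card_map hφ, fa, ex, mem_map_iff_mem hφ, ← map_mul, ← map_inv,
        ← map_pow, ← map_commutatorElement, hφ.eq_iff, e1, le_iff hφ] using F.h_Xb
      h_bilin := by
        simpa only [pA, pP, pQ1, pQ2, pZ, pXe, pXb, pXa, pns, pnl, ph, pf, py, pa1, pa2, map_W4, map_L2 hφ,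
        map_Q12 hφ, map_B, map_P2 hφ, map_nrm, card_map hφ, fa, ex, mem_map_iff_mem hφ, ← map_mul, ← map_inv,
        ← map_pow, ← map_commutatorElement, hφ.eq_iff, e1, le_iff hφ] using F.h_bilin
      Xe_Z := by
        simpa only [pA, pP, pQ1, pQ2, pZ, pXe, pXb, pXa, pns, pnl, ph, pf, py, pa1, pa2, map_W4, map_L2 hφ,
        map_Q12 hφ, map_B, map_P2 hφ, map_nrm, card_map hφ, fa, ex, mem_map_iff_mem hφ, ← map_mul, ← map_inv,
        ← map_pow, ← map_commutatorElement, hφ.eq_iff, e1, le_iff hφ] using F.Xe_Z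
      Xe_Xb := by
        simpa only [pA, pP, pQ1, pQ2, pZ, pXe, pXb, pXa, pns, pnl, ph, pf, py, pa1, pa2, map_W4, map_L2 hφ,
        map_Q12 hφ, map_B, map_P2 hφ, map_nrm, card_map hφ, fa, ex, mem_map_iff_mem hφ, ← map_mul, ← map_inv,
        ← map_pow, ← map_commutatorElement, hφ.eq_iff, e1, le_iff hφ] using F.Xe_Xb
      gen_Q1 := by
        intro K hZ hK
        have h := F.gen_Q1 (K.map φ) (Subgroup.map_mono hZ) (by
          rintro _ ⟨p, hp, rfl⟩ _ ⟨x, hx, rfl⟩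
          exact ⟨p * x * p⁻¹, hK p hp x hx, by simp only [map_mul, map_inv]⟩)
        exact (le_iff hφ).1 h
      decomp_Q1 := by
        simpa only [pA, pP, pQ1, pQ2, pZ, pXe, pXb, pXa, pns, pnl, ph, pf, py, pa1, pa2, map_W4, map_L2 hφ,
        map_Q12 hφ, map_B, map_P2 hφ, map_nrm, card_map hφ, fa, ex, mem_map_iff_mem hφ, ← map_mul, ← map_inv,
        ← map_pow, ← map_commutatorElement, hφ.eq_iff, e1, le_iff hφ] using F.decomp_Q1
      a1_mem := by
        simpa only [pA, pP, pQ1, pQ2, pZ, pXe, pXb, pXa, pns, pnl, ph, pf, py, pa1, pa2, map_W4, map_L2 hφ,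
        map_Q12 hφ, map_B, map_P2 hφ, map_nrm, card_map hφ, fa, ex, mem_map_iff_mem hφ, ← map_mul, ← map_inv,
        ← map_pow, ← map_commutatorElement, hφ.eq_iff, e1, le_iff hφ] using F.a1_mem
      a2_mem := by
        simpa only [pA, pP, pQ1, pQ2, pZ, pXe, pXb, pXa, pns, pnl, ph, pf, py, pa1, pa2, map_W4, map_L2 hφ,
        map_Q12 hφ, map_B, map_P2 hφ, map_nrm, card_map hφ, fa, ex, mem_map_iff_mem hφ, ← map_mul, ← map_inv,
        ← map_pow, ← map_commutatorElement, hφ.eq_iff, e1, le_iff hφ] using F.a2_mem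
      a1_sq := by
        simpa only [pA, pP, pQ1, pQ2, pZ, pXe, pXb, pXa, pns, pnl, ph, pf, py, pa1, pa2, map_W4, map_L2 hφ,
        map_Q12 hφ, map_B, map_P2 hφ, map_nrm, card_map hφ, fa, ex, mem_map_iff_mem hφ, ← map_mul, ← map_inv,
        ← map_pow, ← map_commutatorElement, hφ.eq_iff, e1, le_iff hφ] using F.a1_sq
      a2_sq := by
        simpa only [pA, pP, pQ1, pQ2, pZ, pXe, pXb, pXa, pns, pnl, ph, pf, py, pa1, pa2, map_W4, map_L2 hφ,
        map_Q12 hφ, map_B, map_P2 hφ, map_nrm, card_map hφ, fa, ex, mem_map_iff_mem hφ, ← map_mul, ← map_inv,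
        ← map_pow, ← map_commutatorElement, hφ.eq_iff, e1, le_iff hφ] using F.a2_sq
      a12 := by
        simpa only [pA, pP, pQ1, pQ2, pZ, pXe, pXb, pXa, pns, pnl, ph, pf, py, pa1, pa2, map_W4, map_L2 hφ,
        map_Q12 hφ, map_B, map_P2 hφ, map_nrm, card_map hφ, fa, ex, mem_map_iff_mem hφ, ← map_mul, ← map_inv,
        ← map_pow, ← map_commutatorElement, hφ.eq_iff, e1, le_iff hφ] using F.a12
      Xa_elts := by
        simpa only [pA, pP, pQ1, pQ2, pZ, pXe, pXb, pXa, pns, pnl, ph, pf, py, pa1, pa2, map_W4, map_L2 hφ,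
        map_Q12 hφ, map_B, map_P2 hφ, map_nrm, card_map hφ, fa, ex, mem_map_iff_mem hφ, ← map_mul, ← map_inv,
        ← map_pow, ← map_commutatorElement, hφ.eq_iff, e1, le_iff hφ] using F.Xa_elts
      cent_Xa := by
        simpa only [pA, pP, pQ1, pQ2, pZ, pXe, pXb, pXa, pns, pnl, ph, pf, py, pa1, pa2, map_W4, map_L2 hφ,
        map_Q12 hφ, map_B, map_P2 hφ, map_nrm, card_map hφ, fa, ex, mem_map_iff_mem hφ, ← map_mul, ← map_inv,
        ← map_pow, ← map_commutatorElement, hφ.eq_iff, e1, le_iff hφ] using F.cent_Xa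
      nrm_Xb := by
        simpa only [pA, pP, pQ1, pQ2, pZ, pXe, pXb, pXa, pns, pnl, ph, pf, py, pa1, pa2, map_W4, map_L2 hφ,
        map_Q12 hφ, map_B, map_P2 hφ, map_nrm, card_map hφ, fa, ex, mem_map_iff_mem hφ, ← map_mul, ← map_inv,
        ← map_pow, ← map_commutatorElement, hφ.eq_iff, e1, le_iff hφ] using F.nrm_Xb
      ns_sq := by
        simpa only [pA, pP, pQ1, pQ2, pZ, pXe, pXb, pXa, pns, pnl, ph, pf, py, pa1, pa2, map_W4, map_L2 hφ,
        map_Q12 hφ, map_B, map_P2 hφ, map_nrm, card_map hφ, fa, ex, mem_map_iff_mem hφ, ← map_mul, ← map_inv,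
        ← map_pow, ← map_commutatorElement, hφ.eq_iff, e1, le_iff hφ] using F.ns_sq
      ns_Xe := by
        simpa only [pA, pP, pQ1, pQ2, pZ, pXe, pXb, pXa, pns, pnl, ph, pf, py, pa1, pa2, map_W4, map_L2 hφ,
        map_Q12 hφ, map_B, map_P2 hφ, map_nrm, card_map hφ, fa, ex, mem_map_iff_mem hφ, ← map_mul, ← map_inv,
        ← map_pow, ← map_commutatorElement, hφ.eq_iff, e1, le_iff hφ] using F.ns_Xe
      ns_Xb := by
        simpa only [pA, pP, pQ1, pQ2, pZ, pXe, pXb, pXa, pns, pnl, ph, pf, py, pa1, pa2, map_W4, map_L2 hφ,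
        map_Q12 hφ, map_B, map_P2 hφ, map_nrm, card_map hφ, fa, ex, mem_map_iff_mem hφ, ← map_mul, ← map_inv,
        ← map_pow, ← map_commutatorElement, hφ.eq_iff, e1, le_iff hφ] using F.ns_Xb
      y_pow := by
        simpa only [pA, pP, pQ1, pQ2, pZ, pXe, pXb, pXa, pns, pnl, ph, pf, py, pa1, pa2, map_W4, map_L2 hφ,
        map_Q12 hφ, map_B, map_P2 hφ, map_nrm, card_map hφ, fa, ex, mem_map_iff_mem hφ, ← map_mul, ← map_inv,
        ← map_pow, ← map_commutatorElement, hφ.eq_iff, e1, le_iff hφ] using F.y_pow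
      ns_y := by
        simpa only [pA, pP, pQ1, pQ2, pZ, pXe, pXb, pXa, pns, pnl, ph, pf, py, pa1, pa2, map_W4, map_L2 hφ,
        map_Q12 hφ, map_B, map_P2 hφ, map_nrm, card_map hφ, fa, ex, mem_map_iff_mem hφ, ← map_mul, ← map_inv,
        ← map_pow, ← map_commutatorElement, hφ.eq_iff, e1, le_iff hφ] using F.ns_y
      y_Xa := by
        simpa only [pA, pP, pQ1, pQ2, pZ, pXe, pXb, pXa, pns, pnl, ph, pf, py, pa1, pa2, map_W4, map_L2 hφ,
        map_Q12 hφ, map_B, map_P2 hφ, map_nrm, card_map hφ, fa, ex, mem_map_iff_mem hφ, ← map_mul, ← map_inv,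
        ← map_pow, ← map_commutatorElement, hφ.eq_iff, e1, le_iff hφ] using F.y_Xa
      cent_y := by
        simpa only [pA, pP, pQ1, pQ2, pZ, pXe, pXb, pXa, pns, pnl, ph, pf, py, pa1, pa2, map_W4, map_L2 hφ,
        map_Q12 hφ, map_B, map_P2 hφ, map_nrm, card_map hφ, fa, ex, mem_map_iff_mem hφ, ← map_mul, ← map_inv,
        ← map_pow, ← map_commutatorElement, hφ.eq_iff, e1, le_iff hφ] using F.cent_y
      comm_y := by
        simpa only [pA, pP, pQ1, pQ2, pZ, pXe, pXb, pXa, pns, pnl, ph, pf, py, pa1, pa2, map_W4, map_L2 hφ,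
        map_Q12 hφ, map_B, map_P2 hφ, map_nrm, card_map hφ, fa, ex, mem_map_iff_mem hφ, ← map_mul, ← map_inv,
        ← map_pow, ← map_commutatorElement, hφ.eq_iff, e1, le_iff hφ] using F.comm_y
      bruhat := by
        simpa only [pA, pP, pQ1, pQ2, pZ, pXe, pXb, pXa, pns, pnl, ph, pf, py, pa1, pa2, map_W4, map_L2 hφ,
        map_Q12 hφ, map_B, map_P2 hφ, map_nrm, card_map hφ, fa, ex, mem_map_iff_mem hφ, ← map_mul, ← map_inv,
        ← map_pow, ← map_commutatorElement, hφ.eq_iff, e1, le_iff hφ] using F.bruhat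
      nl_sq := by
        simpa only [pA, pP, pQ1, pQ2, pZ, pXe, pXb, pXa, pns, pnl, ph, pf, py, pa1, pa2, map_W4, map_L2 hφ,
        map_Q12 hφ, map_B, map_P2 hφ, map_nrm, card_map hφ, fa, ex, mem_map_iff_mem hφ, ← map_mul, ← map_inv,
        ← map_pow, ← map_commutatorElement, hφ.eq_iff, e1, le_iff hφ] using F.nl_sq
      nl_Z := by
        simpa only [pA, pP, pQ1, pQ2, pZ, pXe, pXb, pXa, pns, pnl, ph, pf, py, pa1, pa2, map_W4, map_L2 hφ,
        map_Q12 hφ, map_B, map_P2 hφ, map_nrm, card_map hφ, fa, ex, mem_map_iff_mem hφ, ← map_mul, ← map_inv,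
        ← map_pow, ← map_commutatorElement, hφ.eq_iff, e1, le_iff hφ] using F.nl_Z
      nl_Xe := by
        simpa only [pA, pP, pQ1, pQ2, pZ, pXe, pXb, pXa, pns, pnl, ph, pf, py, pa1, pa2, map_W4, map_L2 hφ,
        map_Q12 hφ, map_B, map_P2 hφ, map_nrm, card_map hφ, fa, ex, mem_map_iff_mem hφ, ← map_mul, ← map_inv,
        ← map_pow, ← map_commutatorElement, hφ.eq_iff, e1, le_iff hφ] using F.nl_Xe
      center_L2 := by
        simpa only [pA, pP, pQ1, pQ2, pZ, pXe, pXb, pXa, pns, pnl, ph, pf, py, pa1, pa2, map_W4, map_L2 hφ,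
        map_Q12 hφ, map_B, map_P2 hφ, map_nrm, card_map hφ, fa, ex, mem_map_iff_mem hφ, ← map_mul, ← map_inv,
        ← map_pow, ← map_commutatorElement, hφ.eq_iff, e1, le_iff hφ] using F.center_L2
      decomp_Q2 := by
        simpa only [pA, pP, pQ1, pQ2, pZ, pXe, pXb, pXa, pns, pnl, ph, pf, py, pa1, pa2, map_W4, map_L2 hφ,
        map_Q12 hφ, map_B, map_P2 hφ, map_nrm, card_map hφ, fa, ex, mem_map_iff_mem hφ, ← map_mul, ← map_inv,
        ← map_pow, ← map_commutatorElement, hφ.eq_iff, e1, le_iff hφ] using F.decomp_Q2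
      Q12_le := by
        simpa only [pA, pP, pQ1, pQ2, pZ, pXe, pXb, pXa, pns, pnl, ph, pf, py, pa1, pa2, map_W4, map_L2 hφ,
        map_Q12 hφ, map_B, map_P2 hφ, map_nrm, card_map hφ, fa, ex, mem_map_iff_mem hφ, ← map_mul, ← map_inv,
        ← map_pow, ← map_commutatorElement, hφ.eq_iff, e1, le_iff hφ] using F.Q12_le
      norm_Q2 := by
        simpa only [pA, pP, pQ1, pQ2, pZ, pXe, pXb, pXa, pns, pnl, ph, pf, py, pa1, pa2, map_W4, map_L2 hφ,
        map_Q12 hφ, map_B, map_P2 hφ, map_nrm, card_map hφ, fa, ex, mem_map_iff_mem hφ, ← map_mul, ← map_inv,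
        ← map_pow, ← map_commutatorElement, hφ.eq_iff, e1, le_iff hφ] using F.norm_Q2
      comm_Q2 := by
        simpa only [pA, pP, pQ1, pQ2, pZ, pXe, pXb, pXa, pns, pnl, ph, pf, py, pa1, pa2, map_W4, map_L2 hφ,
        map_Q12 hφ, map_B, map_P2 hφ, map_nrm, card_map hφ, fa, ex, mem_map_iff_mem hφ, ← map_mul, ← map_inv,
        ← map_pow, ← map_commutatorElement, hφ.eq_iff, e1, le_iff hφ] using F.comm_Q2
      sq_Q2 := by
        simpa only [pA, pP, pQ1, pQ2, pZ, pXe, pXb, pXa, pns, pnl, ph, pf, py, pa1, pa2, map_W4, map_L2 hφ,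
        map_Q12 hφ, map_B, map_P2 hφ, map_nrm, card_map hφ, fa, ex, mem_map_iff_mem hφ, ← map_mul, ← map_inv,
        ← map_pow, ← map_commutatorElement, hφ.eq_iff, e1, le_iff hφ] using F.sq_Q2
      cent_Q2 := by
        simpa only [pA, pP, pQ1, pQ2, pZ, pXe, pXb, pXa, pns, pnl, ph, pf, py, pa1, pa2, map_W4, map_L2 hφ,
        map_Q12 hφ, map_B, map_P2 hφ, map_nrm, card_map hφ, fa, ex, mem_map_iff_mem hφ, ← map_mul, ← map_inv,
        ← map_pow, ← map_commutatorElement, hφ.eq_iff, e1, le_iff hφ] using F.cent_Q2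
      decomp_L2 := by
        simpa only [pA, pP, pQ1, pQ2, pZ, pXe, pXb, pXa, pns, pnl, ph, pf, py, pa1, pa2, map_W4, map_L2 hφ,
        map_Q12 hφ, map_B, map_P2 hφ, map_nrm, card_map hφ, fa, ex, mem_map_iff_mem hφ, ← map_mul, ← map_inv,
        ← map_pow, ← map_commutatorElement, hφ.eq_iff, e1, le_iff hφ] using F.decomp_L2
      conj_Q2 := by
        simpa only [pA, pP, pQ1, pQ2, pZ, pXe, pXb, pXa, pns, pnl, ph, pf, py, pa1, pa2, map_W4, map_L2 hφ,
        map_Q12 hφ, map_B, map_P2 hφ, map_nrm, card_map hφ, fa, ex, mem_map_iff_mem hφ, ← map_mul, ← map_inv,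
        ← map_pow, ← map_commutatorElement, hφ.eq_iff, e1, le_iff hφ] using F.conj_Q2 }
  · intro F
    exact {
      P_le := by
        simpa only [pA, pP, pQ1, pQ2, pZ, pXe, pXb, pXa, pns, pnl, ph, pf, py, pa1, pa2, map_W4, map_L2 hφ,
        map_Q12 hφ, map_B, map_P2 hφ, map_nrm, card_map hφ, fa, ex, mem_map_iff_mem hφ, ← map_mul, ← map_inv,
        ← map_pow, ← map_commutatorElement, hφ.eq_iff, e1, le_iff hφ] using F.P_le
      Q1_le := by
        simpa only [pA, pP, pQ1, pQ2, pZ, pXe, pXb, pXa, pns, pnl, ph, pf, py, pa1, pa2, map_W4, map_L2 hφ,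
        map_Q12 hφ, map_B, map_P2 hφ, map_nrm, card_map hφ, fa, ex, mem_map_iff_mem hφ, ← map_mul, ← map_inv,
        ← map_pow, ← map_commutatorElement, hφ.eq_iff, e1, le_iff hφ] using F.Q1_le
      Z_le := by
        simpa only [pA, pP, pQ1, pQ2, pZ, pXe, pXb, pXa, pns, pnl, ph, pf, py, pa1, pa2, map_W4, map_L2 hφ,
        map_Q12 hφ, map_B, map_P2 hφ, map_nrm, card_map hφ, fa, ex, mem_map_iff_mem hφ, ← map_mul, ← map_inv,
        ← map_pow, ← map_commutatorElement, hφ.eq_iff, e1, le_iff hφ] using F.Z_le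
      Xe_le := by
        simpa only [pA, pP, pQ1, pQ2, pZ, pXe, pXb, pXa, pns, pnl, ph, pf, py, pa1, pa2, map_W4, map_L2 hφ,
        map_Q12 hφ, map_B, map_P2 hφ, map_nrm, card_map hφ, fa, ex, mem_map_iff_mem hφ, ← map_mul, ← map_inv,
        ← map_pow, ← map_commutatorElement, hφ.eq_iff, e1, le_iff hφ] using F.Xe_le
      Xb_le := by
        simpa only [pA, pP, pQ1, pQ2, pZ, pXe, pXb, pXa, pns, pnl, ph, pf, py, pa1, pa2, map_W4, map_L2 hφ,
        map_Q12 hφ, map_B, map_P2 hφ, map_nrm, card_map hφ, fa, ex, mem_map_iff_mem hφ, ← map_mul, ← map_inv,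
        ← map_pow, ← map_commutatorElement, hφ.eq_iff, e1, le_iff hφ] using F.Xb_le
      Xa_le := by
        simpa only [pA, pP, pQ1, pQ2, pZ, pXe, pXb, pXa, pns, pnl, ph, pf, py, pa1, pa2, map_W4, map_L2 hφ,
        map_Q12 hφ, map_B, map_P2 hφ, map_nrm, card_map hφ, fa, ex, mem_map_iff_mem hφ, ← map_mul, ← map_inv,
        ← map_pow, ← map_commutatorElement, hφ.eq_iff, e1, le_iff hφ] using F.Xa_le
      Q2_le := by
        simpa only [pA, pP, pQ1, pQ2, pZ, pXe, pXb, pXa, pns, pnl, ph, pf, py, pa1, pa2, map_W4, map_L2 hφ,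
        map_Q12 hφ, map_B, map_P2 hφ, map_nrm, card_map hφ, fa, ex, mem_map_iff_mem hφ, ← map_mul, ← map_inv,
        ← map_pow, ← map_commutatorElement, hφ.eq_iff, e1, le_iff hφ] using F.Q2_le
      ns_mem := by
        simpa only [pA, pP, pQ1, pQ2, pZ, pXe, pXb, pXa, pns, pnl, ph, pf, py, pa1, pa2, map_W4, map_L2 hφ,
        map_Q12 hφ, map_B, map_P2 hφ, map_nrm, card_map hφ, fa, ex, mem_map_iff_mem hφ, ← map_mul, ← map_inv,
        ← map_pow, ← map_commutatorElement, hφ.eq_iff, e1, le_iff hφ] using F.ns_mem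
      f_mem := by
        simpa only [pA, pP, pQ1, pQ2, pZ, pXe, pXb, pXa, pns, pnl, ph, pf, py, pa1, pa2, map_W4, map_L2 hφ,
        map_Q12 hφ, map_B, map_P2 hφ, map_nrm, card_map hφ, fa, ex, mem_map_iff_mem hφ, ← map_mul, ← map_inv,
        ← map_pow, ← map_commutatorElement, hφ.eq_iff, e1, le_iff hφ] using F.f_mem
      y_mem := by
        simpa only [pA, pP, pQ1, pQ2, pZ, pXe, pXb, pXa, pns, pnl, ph, pf, py, pa1, pa2, map_W4, map_L2 hφ,
        map_Q12 hφ, map_B, map_P2 hφ, map_nrm, card_map hφ, fa, ex, mem_map_iff_mem hφ, ← map_mul, ← map_inv,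
        ← map_pow, ← map_commutatorElement, hφ.eq_iff, e1, le_iff hφ] using F.y_mem
      nl_mem := by
        simpa only [pA, pP, pQ1, pQ2, pZ, pXe, pXb, pXa, pns, pnl, ph, pf, py, pa1, pa2, map_W4, map_L2 hφ,
        map_Q12 hφ, map_B, map_P2 hφ, map_nrm, card_map hφ, fa, ex, mem_map_iff_mem hφ, ← map_mul, ← map_inv,
        ← map_pow, ← map_commutatorElement, hφ.eq_iff, e1, le_iff hφ] using F.nl_mem
      h_mem := by
        simpa only [pA, pP, pQ1, pQ2, pZ, pXe, pXb, pXa, pns, pnl, ph, pf, py, pa1, pa2, map_W4, map_L2 hφ,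
        map_Q12 hφ, map_B, map_P2 hφ, map_nrm, card_map hφ, fa, ex, mem_map_iff_mem hφ, ← map_mul, ← map_inv,
        ← map_pow, ← map_commutatorElement, hφ.eq_iff, e1, le_iff hφ] using F.h_mem
      card_A := by
        simpa only [pA, pP, pQ1, pQ2, pZ, pXe, pXb, pXa, pns, pnl, ph, pf, py, pa1, pa2, map_W4, map_L2 hφ,
        map_Q12 hφ, map_B, map_P2 hφ, map_nrm, card_map hφ, fa, ex, mem_map_iff_mem hφ, ← map_mul, ← map_inv,
        ← map_pow, ← map_commutatorElement, hφ.eq_iff, e1, le_iff hφ] using F.card_A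
      card_P := by
        simpa only [pA, pP, pQ1, pQ2, pZ, pXe, pXb, pXa, pns, pnl, ph, pf, py, pa1, pa2, map_W4, map_L2 hφ,
        map_Q12 hφ, map_B, map_P2 hφ, map_nrm, card_map hφ, fa, ex, mem_map_iff_mem hφ, ← map_mul, ← map_inv,
        ← map_pow, ← map_commutatorElement, hφ.eq_iff, e1, le_iff hφ] using F.card_P
      card_Q1 := by
        simpa only [pA, pP, pQ1, pQ2, pZ, pXe, pXb, pXa, pns, pnl, ph, pf, py, pa1, pa2, map_W4, map_L2 hφ,
        map_Q12 hφ, map_B, map_P2 hφ, map_nrm, card_map hφ, fa, ex, mem_map_iff_mem hφ, ← map_mul, ← map_inv,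
        ← map_pow, ← map_commutatorElement, hφ.eq_iff, e1, le_iff hφ] using F.card_Q1
      card_Q2 := by
        simpa only [pA, pP, pQ1, pQ2, pZ, pXe, pXb, pXa, pns, pnl, ph, pf, py, pa1, pa2, map_W4, map_L2 hφ,
        map_Q12 hφ, map_B, map_P2 hφ, map_nrm, card_map hφ, fa, ex, mem_map_iff_mem hφ, ← map_mul, ← map_inv,
        ← map_pow, ← map_commutatorElement, hφ.eq_iff, e1, le_iff hφ] using F.card_Q2
      card_Q12 := by
        simpa only [pA, pP, pQ1, pQ2, pZ, pXe, pXb, pXa, pns, pnl, ph, pf, py, pa1, pa2, map_W4, map_L2 hφ,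
        map_Q12 hφ, map_B, map_P2 hφ, map_nrm, card_map hφ, fa, ex, mem_map_iff_mem hφ, ← map_mul, ← map_inv,
        ← map_pow, ← map_commutatorElement, hφ.eq_iff, e1, le_iff hφ] using F.card_Q12
      card_Z := by
        simpa only [pA, pP, pQ1, pQ2, pZ, pXe, pXb, pXa, pns, pnl, ph, pf, py, pa1, pa2, map_W4, map_L2 hφ,
        map_Q12 hφ, map_B, map_P2 hφ, map_nrm, card_map hφ, fa, ex, mem_map_iff_mem hφ, ← map_mul, ← map_inv,
        ← map_pow, ← map_commutatorElement, hφ.eq_iff, e1, le_iff hφ] using F.card_Z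
      card_Xe := by
        simpa only [pA, pP, pQ1, pQ2, pZ, pXe, pXb, pXa, pns, pnl, ph, pf, py, pa1, pa2, map_W4, map_L2 hφ,
        map_Q12 hφ, map_B, map_P2 hφ, map_nrm, card_map hφ, fa, ex, mem_map_iff_mem hφ, ← map_mul, ← map_inv,
        ← map_pow, ← map_commutatorElement, hφ.eq_iff, e1, le_iff hφ] using F.card_Xe
      card_Xb := by
        simpa only [pA, pP, pQ1, pQ2, pZ, pXe, pXb, pXa, pns, pnl, ph, pf, py, pa1, pa2, map_W4, map_L2 hφ,
        map_Q12 hφ, map_B, map_P2 hφ, map_nrm, card_map hφ, fa, ex, mem_map_iff_mem hφ, ← map_mul, ← map_inv,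
        ← map_pow, ← map_commutatorElement, hφ.eq_iff, e1, le_iff hφ] using F.card_Xb
      card_Xa := by
        simpa only [pA, pP, pQ1, pQ2, pZ, pXe, pXb, pXa, pns, pnl, ph, pf, py, pa1, pa2, map_W4, map_L2 hφ,
        map_Q12 hφ, map_B, map_P2 hφ, map_nrm, card_map hφ, fa, ex, mem_map_iff_mem hφ, ← map_mul, ← map_inv,
        ← map_pow, ← map_commutatorElement, hφ.eq_iff, e1, le_iff hφ] using F.card_Xa
      cent_Z := by
        simpa only [pA, pP, pQ1, pQ2, pZ, pXe, pXb, pXa, pns, pnl, ph, pf, py, pa1, pa2, map_W4, map_L2 hφ,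
        map_Q12 hφ, map_B, map_P2 hφ, map_nrm, card_map hφ, fa, ex, mem_map_iff_mem hφ, ← map_mul, ← map_inv,
        ← map_pow, ← map_commutatorElement, hφ.eq_iff, e1, le_iff hφ] using F.cent_Z
      sq_Z := by
        simpa only [pA, pP, pQ1, pQ2, pZ, pXe, pXb, pXa, pns, pnl, ph, pf, py, pa1, pa2, map_W4, map_L2 hφ,
        map_Q12 hφ, map_B, map_P2 hφ, map_nrm, card_map hφ, fa, ex, mem_map_iff_mem hφ, ← map_mul, ← map_inv,
        ← map_pow, ← map_commutatorElement, hφ.eq_iff, e1, le_iff hφ] using F.sq_Z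
      sq_Xe := by
        simpa only [pA, pP, pQ1, pQ2, pZ, pXe, pXb, pXa, pns, pnl, ph, pf, py, pa1, pa2, map_W4, map_L2 hφ,
        map_Q12 hφ, map_B, map_P2 hφ, map_nrm, card_map hφ, fa, ex, mem_map_iff_mem hφ, ← map_mul, ← map_inv,
        ← map_pow, ← map_commutatorElement, hφ.eq_iff, e1, le_iff hφ] using F.sq_Xe
      sq_Xb := by
        simpa only [pA, pP, pQ1, pQ2, pZ, pXe, pXb, pXa, pns, pnl, ph, pf, py, pa1, pa2, map_W4, map_L2 hφ,
        map_Q12 hφ, map_B, map_P2 hφ, map_nrm, card_map hφ, fa, ex, mem_map_iff_mem hφ, ← map_mul, ← map_inv,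
        ← map_pow, ← map_commutatorElement, hφ.eq_iff, e1, le_iff hφ] using F.sq_Xb
      norm_Q1 := by
        simpa only [pA, pP, pQ1, pQ2, pZ, pXe, pXb, pXa, pns, pnl, ph, pf, py, pa1, pa2, map_W4, map_L2 hφ,
        map_Q12 hφ, map_B, map_P2 hφ, map_nrm, card_map hφ, fa, ex, mem_map_iff_mem hφ, ← map_mul, ← map_inv,
        ← map_pow, ← map_commutatorElement, hφ.eq_iff, e1, le_iff hφ] using F.norm_Q1
      core_P := by
        intro N hN hn h2
        have h := F.core_P (N.comap φ) (fun x hx => (mem_map_iff_mem hφ).1 (hN hx)) (by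
          intro p hp x hx
          rw [mem_comap] at hx ⊢
          rw [map_mul, map_mul, map_inv]
          exact hn _ (mem_map_of_mem φ hp) _ hx) (h2.comap_of_injective φ hφ)
        intro x hx
        obtain ⟨y, hy, rfl⟩ := mem_map.1 (hN hx)
        exact mem_map_of_mem φ (h hx)
      perfect_P := by
        rw [pP, ← map_commutator, le_iff hφ]
        exact F.perfect_P
      center_PQ1 := by
        simpa only [pA, pP, pQ1, pQ2, pZ, pXe, pXb, pXa, pns, pnl, ph, pf, py, pa1, pa2, map_W4, map_L2 hφ,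
        map_Q12 hφ, map_B, map_P2 hφ, map_nrm, card_map hφ, fa, ex, mem_map_iff_mem hφ, ← map_mul, ← map_inv,
        ← map_pow, ← map_commutatorElement, hφ.eq_iff, e1, le_iff hφ] using F.center_PQ1
      center_Q1 := by
        simpa only [pA, pP, pQ1, pQ2, pZ, pXe, pXb, pXa, pns, pnl, ph, pf, py, pa1, pa2, map_W4, map_L2 hφ,
        map_Q12 hφ, map_B, map_P2 hφ, map_nrm, card_map hφ, fa, ex, mem_map_iff_mem hφ, ← map_mul, ← map_inv,
        ← map_pow, ← map_commutatorElement, hφ.eq_iff, e1, le_iff hφ] using F.center_Q1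
      cent_Q1Z := by
        simpa only [pA, pP, pQ1, pQ2, pZ, pXe, pXb, pXa, pns, pnl, ph, pf, py, pa1, pa2, map_W4, map_L2 hφ,
        map_Q12 hφ, map_B, map_P2 hφ, map_nrm, card_map hφ, fa, ex, mem_map_iff_mem hφ, ← map_mul, ← map_inv,
        ← map_pow, ← map_commutatorElement, hφ.eq_iff, e1, le_iff hφ] using F.cent_Q1Z
      comm_Q1 := by
        simpa only [pA, pP, pQ1, pQ2, pZ, pXe, pXb, pXa, pns, pnl, ph, pf, py, pa1, pa2, map_W4, map_L2 hφ,
        map_Q12 hφ, map_B, map_P2 hφ, map_nrm, card_map hφ, fa, ex, mem_map_iff_mem hφ, ← map_mul, ← map_inv,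
        ← map_pow, ← map_commutatorElement, hφ.eq_iff, e1, le_iff hφ] using F.comm_Q1
      sq_Q1 := by
        simpa only [pA, pP, pQ1, pQ2, pZ, pXe, pXb, pXa, pns, pnl, ph, pf, py, pa1, pa2, map_W4, map_L2 hφ,
        map_Q12 hφ, map_B, map_P2 hφ, map_nrm, card_map hφ, fa, ex, mem_map_iff_mem hφ, ← map_mul, ← map_inv,
        ← map_pow, ← map_commutatorElement, hφ.eq_iff, e1, le_iff hφ] using F.sq_Q1
      f_pow := by
        simpa only [pA, pP, pQ1, pQ2, pZ, pXe, pXb, pXa, pns, pnl, ph, pf, py, pa1, pa2, map_W4, map_L2 hφ,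
        map_Q12 hφ, map_B, map_P2 hφ, map_nrm, card_map hφ, fa, ex, mem_map_iff_mem hφ, ← map_mul, ← map_inv,
        ← map_pow, ← map_commutatorElement, hφ.eq_iff, e1, le_iff hφ] using F.f_pow
      f_Q1 := by
        simpa only [pA, pP, pQ1, pQ2, pZ, pXe, pXb, pXa, pns, pnl, ph, pf, py, pa1, pa2, map_W4, map_L2 hφ,
        map_Q12 hφ, map_B, map_P2 hφ, map_nrm, card_map hφ, fa, ex, mem_map_iff_mem hφ, ← map_mul, ← map_inv,
        ← map_pow, ← map_commutatorElement, hφ.eq_iff, e1, le_iff hφ] using F.f_Q1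
      h_pow := by
        simpa only [pA, pP, pQ1, pQ2, pZ, pXe, pXb, pXa, pns, pnl, ph, pf, py, pa1, pa2, map_W4, map_L2 hφ,
        map_Q12 hφ, map_B, map_P2 hφ, map_nrm, card_map hφ, fa, ex, mem_map_iff_mem hφ, ← map_mul, ← map_inv,
        ← map_pow, ← map_commutatorElement, hφ.eq_iff, e1, le_iff hφ] using F.h_pow
      h_P := by
        simpa only [pA, pP, pQ1, pQ2, pZ, pXe, pXb, pXa, pns, pnl, ph, pf, py, pa1, pa2, map_W4, map_L2 hφ,
        map_Q12 hφ, map_B, map_P2 hφ, map_nrm, card_map hφ, fa, ex, mem_map_iff_mem hφ, ← map_mul, ← map_inv,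
        ← map_pow, ← map_commutatorElement, hφ.eq_iff, e1, le_iff hφ] using F.h_P
      h_Z := by
        simpa only [pA, pP, pQ1, pQ2, pZ, pXe, pXb, pXa, pns, pnl, ph, pf, py, pa1, pa2, map_W4, map_L2 hφ,
        map_Q12 hφ, map_B, map_P2 hφ, map_nrm, card_map hφ, fa, ex, mem_map_iff_mem hφ, ← map_mul, ← map_inv,
        ← map_pow, ← map_commutatorElement, hφ.eq_iff, e1, le_iff hφ] using F.h_Z
      h_Z_fpf := by
        simpa only [pA, pP, pQ1, pQ2, pZ, pXe, pXb, pXa, pns, pnl, ph, pf, py, pa1, pa2, map_W4, map_L2 hφ,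
        map_Q12 hφ, map_B, map_P2 hφ, map_nrm, card_map hφ, fa, ex, mem_map_iff_mem hφ, ← map_mul, ← map_inv,
        ← map_pow, ← map_commutatorElement, hφ.eq_iff, e1, le_iff hφ] using F.h_Z_fpf
      h_Xe := by
        simpa only [pA, pP, pQ1, pQ2, pZ, pXe, pXb, pXa, pns, pnl, ph, pf, py, pa1, pa2, map_W4, map_L2 hφ,
        map_Q12 hφ, map_B, map_P2 hφ, map_nrm, card_map hφ, fa, ex, mem_map_iff_mem hφ, ← map_mul, ← map_inv,
        ← map_pow, ← map_commutatorElement, hφ.eq_iff, e1, le_iff hφ] using F.h_Xe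
      h_Xe_fpf := by
        simpa only [pA, pP, pQ1, pQ2, pZ, pXe, pXb, pXa, pns, pnl, ph, pf, py, pa1, pa2, map_W4, map_L2 hφ,
        map_Q12 hφ, map_B, map_P2 hφ, map_nrm, card_map hφ, fa, ex, mem_map_iff_mem hφ, ← map_mul, ← map_inv,
        ← map_pow, ← map_commutatorElement, hφ.eq_iff, e1, le_iff hφ] using F.h_Xe_fpf
      h_Xb := by
        simpa only [pA, pP, pQ1, pQ2, pZ, pXe, pXb, pXa, pns, pnl, ph, pf, py, pa1, pa2, map_W4, map_L2 hφ,
        map_Q12 hφ, map_B, map_P2 hφ, map_nrm, card_map hφ, fa, ex, mem_map_iff_mem hφ, ← map_mul, ← map_inv,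
        ← map_pow, ← map_commutatorElement, hφ.eq_iff, e1, le_iff hφ] using F.h_Xb
      h_bilin := by
        simpa only [pA, pP, pQ1, pQ2, pZ, pXe, pXb, pXa, pns, pnl, ph, pf, py, pa1, pa2, map_W4, map_L2 hφ,
        map_Q12 hφ, map_B, map_P2 hφ, map_nrm, card_map hφ, fa, ex, mem_map_iff_mem hφ, ← map_mul, ← map_inv,
        ← map_pow, ← map_commutatorElement, hφ.eq_iff, e1, le_iff hφ] using F.h_bilin
      Xe_Z := by
        simpa only [pA, pP, pQ1, pQ2, pZ, pXe, pXb, pXa, pns, pnl, ph, pf, py, pa1, pa2, map_W4, map_L2 hφ,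
        map_Q12 hφ, map_B, map_P2 hφ, map_nrm, card_map hφ, fa, ex, mem_map_iff_mem hφ, ← map_mul, ← map_inv,
        ← map_pow, ← map_commutatorElement, hφ.eq_iff, e1, le_iff hφ] using F.Xe_Z
      Xe_Xb := by
        simpa only [pA, pP, pQ1, pQ2, pZ, pXe, pXb, pXa, pns, pnl, ph, pf, py, pa1, pa2, map_W4, map_L2 hφ,
        map_Q12 hφ, map_B, map_P2 hφ, map_nrm, card_map hφ, fa, ex, mem_map_iff_mem hφ, ← map_mul, ← map_inv,
        ← map_pow, ← map_commutatorElement, hφ.eq_iff, e1, le_iff hφ] using F.Xe_Xb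
      gen_Q1 := by
        intro K hZ hK
        have h := F.gen_Q1 (K.comap φ) (fun x hx => hZ (mem_map_of_mem φ hx)) (by
          intro p hp x hx
          rw [mem_comap, map_mul, map_mul, map_inv]
          exact hK _ (mem_map_of_mem φ hp) _ (mem_map_of_mem φ hx))
        rintro _ ⟨x, hx, rfl⟩
        exact h hx
      decomp_Q1 := by
        simpa only [pA, pP, pQ1, pQ2, pZ, pXe, pXb, pXa, pns, pnl, ph, pf, py, pa1, pa2, map_W4, map_L2 hφ,
        map_Q12 hφ, map_B, map_P2 hφ, map_nrm, card_map hφ, fa, ex, mem_map_iff_mem hφ, ← map_mul, ← map_inv,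
        ← map_pow, ← map_commutatorElement, hφ.eq_iff, e1, le_iff hφ] using F.decomp_Q1
      a1_mem := by
        simpa only [pA, pP, pQ1, pQ2, pZ, pXe, pXb, pXa, pns, pnl, ph, pf, py, pa1, pa2, map_W4, map_L2 hφ,
        map_Q12 hφ, map_B, map_P2 hφ, map_nrm, card_map hφ, fa, ex, mem_map_iff_mem hφ, ← map_mul, ← map_inv,
        ← map_pow, ← map_commutatorElement, hφ.eq_iff, e1, le_iff hφ] using F.a1_mem
      a2_mem := by
        simpa only [pA, pP, pQ1, pQ2, pZ, pXe, pXb, pXa, pns, pnl, ph, pf, py, pa1, pa2, map_W4, map_L2 hφ,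
        map_Q12 hφ, map_B, map_P2 hφ, map_nrm, card_map hφ, fa, ex, mem_map_iff_mem hφ, ← map_mul, ← map_inv,
        ← map_pow, ← map_commutatorElement, hφ.eq_iff, e1, le_iff hφ] using F.a2_mem
      a1_sq := by
        simpa only [pA, pP, pQ1, pQ2, pZ, pXe, pXb, pXa, pns, pnl, ph, pf, py, pa1, pa2, map_W4, map_L2 hφ,
        map_Q12 hφ, map_B, map_P2 hφ, map_nrm, card_map hφ, fa, ex, mem_map_iff_mem hφ, ← map_mul, ← map_inv,
        ← map_pow, ← map_commutatorElement, hφ.eq_iff, e1, le_iff hφ] using F.a1_sq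
      a2_sq := by
        simpa only [pA, pP, pQ1, pQ2, pZ, pXe, pXb, pXa, pns, pnl, ph, pf, py, pa1, pa2, map_W4, map_L2 hφ,
        map_Q12 hφ, map_B, map_P2 hφ, map_nrm, card_map hφ, fa, ex, mem_map_iff_mem hφ, ← map_mul, ← map_inv,
        ← map_pow, ← map_commutatorElement, hφ.eq_iff, e1, le_iff hφ] using F.a2_sq
      a12 := by
        simpa only [pA, pP, pQ1, pQ2, pZ, pXe, pXb, pXa, pns, pnl, ph, pf, py, pa1, pa2, map_W4, map_L2 hφ,
        map_Q12 hφ, map_B, map_P2 hφ, map_nrm, card_map hφ, fa, ex, mem_map_iff_mem hφ, ← map_mul, ← map_inv,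
        ← map_pow, ← map_commutatorElement, hφ.eq_iff, e1, le_iff hφ] using F.a12
      Xa_elts := by
        simpa only [pA, pP, pQ1, pQ2, pZ, pXe, pXb, pXa, pns, pnl, ph, pf, py, pa1, pa2, map_W4, map_L2 hφ,
        map_Q12 hφ, map_B, map_P2 hφ, map_nrm, card_map hφ, fa, ex, mem_map_iff_mem hφ, ← map_mul, ← map_inv,
        ← map_pow, ← map_commutatorElement, hφ.eq_iff, e1, le_iff hφ] using F.Xa_elts
      cent_Xa := by
        simpa only [pA, pP, pQ1, pQ2, pZ, pXe, pXb, pXa, pns, pnl, ph, pf, py, pa1, pa2, map_W4, map_L2 hφ,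
        map_Q12 hφ, map_B, map_P2 hφ, map_nrm, card_map hφ, fa, ex, mem_map_iff_mem hφ, ← map_mul, ← map_inv,
        ← map_pow, ← map_commutatorElement, hφ.eq_iff, e1, le_iff hφ] using F.cent_Xa
      nrm_Xb := by
        simpa only [pA, pP, pQ1, pQ2, pZ, pXe, pXb, pXa, pns, pnl, ph, pf, py, pa1, pa2, map_W4, map_L2 hφ,
        map_Q12 hφ, map_B, map_P2 hφ, map_nrm, card_map hφ, fa, ex, mem_map_iff_mem hφ, ← map_mul, ← map_inv,
        ← map_pow, ← map_commutatorElement, hφ.eq_iff, e1, le_iff hφ] using F.nrm_Xb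
      ns_sq := by
        simpa only [pA, pP, pQ1, pQ2, pZ, pXe, pXb, pXa, pns, pnl, ph, pf, py, pa1, pa2, map_W4, map_L2 hφ,
        map_Q12 hφ, map_B, map_P2 hφ, map_nrm, card_map hφ, fa, ex, mem_map_iff_mem hφ, ← map_mul, ← map_inv,
        ← map_pow, ← map_commutatorElement, hφ.eq_iff, e1, le_iff hφ] using F.ns_sq
      ns_Xe := by
        simpa only [pA, pP, pQ1, pQ2, pZ, pXe, pXb, pXa, pns, pnl, ph, pf, py, pa1, pa2, map_W4, map_L2 hφ,
        map_Q12 hφ, map_B, map_P2 hφ, map_nrm, card_map hφ, fa, ex, mem_map_iff_mem hφ, ← map_mul, ← map_inv,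
        ← map_pow, ← map_commutatorElement, hφ.eq_iff, e1, le_iff hφ] using F.ns_Xe
      ns_Xb := by
        simpa only [pA, pP, pQ1, pQ2, pZ, pXe, pXb, pXa, pns, pnl, ph, pf, py, pa1, pa2, map_W4, map_L2 hφ,
        map_Q12 hφ, map_B, map_P2 hφ, map_nrm, card_map hφ, fa, ex, mem_map_iff_mem hφ, ← map_mul, ← map_inv,
        ← map_pow, ← map_commutatorElement, hφ.eq_iff, e1, le_iff hφ] using F.ns_Xb
      y_pow := by
        simpa only [pA, pP, pQ1, pQ2, pZ, pXe, pXb, pXa, pns, pnl, ph, pf, py, pa1, pa2, map_W4, map_L2 hφ,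
        map_Q12 hφ, map_B, map_P2 hφ, map_nrm, card_map hφ, fa, ex, mem_map_iff_mem hφ, ← map_mul, ← map_inv,
        ← map_pow, ← map_commutatorElement, hφ.eq_iff, e1, le_iff hφ] using F.y_pow
      ns_y := by
        simpa only [pA, pP, pQ1, pQ2, pZ, pXe, pXb, pXa, pns, pnl, ph, pf, py, pa1, pa2, map_W4, map_L2 hφ,
        map_Q12 hφ, map_B, map_P2 hφ, map_nrm, card_map hφ, fa, ex, mem_map_iff_mem hφ, ← map_mul, ← map_inv,
        ← map_pow, ← map_commutatorElement, hφ.eq_iff, e1, le_iff hφ] using F.ns_y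
      y_Xa := by
        simpa only [pA, pP, pQ1, pQ2, pZ, pXe, pXb, pXa, pns, pnl, ph, pf, py, pa1, pa2, map_W4, map_L2 hφ,
        map_Q12 hφ, map_B, map_P2 hφ, map_nrm, card_map hφ, fa, ex, mem_map_iff_mem hφ, ← map_mul, ← map_inv,
        ← map_pow, ← map_commutatorElement, hφ.eq_iff, e1, le_iff hφ] using F.y_Xa
      cent_y := by
        simpa only [pA, pP, pQ1, pQ2, pZ, pXe, pXb, pXa, pns, pnl, ph, pf, py, pa1, pa2, map_W4, map_L2 hφ,
        map_Q12 hφ, map_B, map_P2 hφ, map_nrm, card_map hφ, fa, ex, mem_map_iff_mem hφ, ← map_mul, ← map_inv,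
        ← map_pow, ← map_commutatorElement, hφ.eq_iff, e1, le_iff hφ] using F.cent_y
      comm_y := by
        simpa only [pA, pP, pQ1, pQ2, pZ, pXe, pXb, pXa, pns, pnl, ph, pf, py, pa1, pa2, map_W4, map_L2 hφ,
        map_Q12 hφ, map_B, map_P2 hφ, map_nrm, card_map hφ, fa, ex, mem_map_iff_mem hφ, ← map_mul, ← map_inv,
        ← map_pow, ← map_commutatorElement, hφ.eq_iff, e1, le_iff hφ] using F.comm_y
      bruhat := by
        simpa only [pA, pP, pQ1, pQ2, pZ, pXe, pXb, pXa, pns, pnl, ph, pf, py, pa1, pa2, map_W4, map_L2 hφ,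
        map_Q12 hφ, map_B, map_P2 hφ, map_nrm, card_map hφ, fa, ex, mem_map_iff_mem hφ, ← map_mul, ← map_inv,
        ← map_pow, ← map_commutatorElement, hφ.eq_iff, e1, le_iff hφ] using F.bruhat
      nl_sq := by
        simpa only [pA, pP, pQ1, pQ2, pZ, pXe, pXb, pXa, pns, pnl, ph, pf, py, pa1, pa2, map_W4, map_L2 hφ,
        map_Q12 hφ, map_B, map_P2 hφ, map_nrm, card_map hφ, fa, ex, mem_map_iff_mem hφ, ← map_mul, ← map_inv,
        ← map_pow, ← map_commutatorElement, hφ.eq_iff, e1, le_iff hφ] using F.nl_sq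
      nl_Z := by
        simpa only [pA, pP, pQ1, pQ2, pZ, pXe, pXb, pXa, pns, pnl, ph, pf, py, pa1, pa2, map_W4, map_L2 hφ,
        map_Q12 hφ, map_B, map_P2 hφ, map_nrm, card_map hφ, fa, ex, mem_map_iff_mem hφ, ← map_mul, ← map_inv,
        ← map_pow, ← map_commutatorElement, hφ.eq_iff, e1, le_iff hφ] using F.nl_Z
      nl_Xe := by
        simpa only [pA, pP, pQ1, pQ2, pZ, pXe, pXb, pXa, pns, pnl, ph, pf, py, pa1, pa2, map_W4, map_L2 hφ,
        map_Q12 hφ, map_B, map_P2 hφ, map_nrm, card_map hφ, fa, ex, mem_map_iff_mem hφ, ← map_mul, ← map_inv,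
        ← map_pow, ← map_commutatorElement, hφ.eq_iff, e1, le_iff hφ] using F.nl_Xe
      center_L2 := by
        simpa only [pA, pP, pQ1, pQ2, pZ, pXe, pXb, pXa, pns, pnl, ph, pf, py, pa1, pa2, map_W4, map_L2 hφ,
        map_Q12 hφ, map_B, map_P2 hφ, map_nrm, card_map hφ, fa, ex, mem_map_iff_mem hφ, ← map_mul, ← map_inv,
        ← map_pow, ← map_commutatorElement, hφ.eq_iff, e1, le_iff hφ] using F.center_L2
      decomp_Q2 := by
        simpa only [pA, pP, pQ1, pQ2, pZ, pXe, pXb, pXa, pns, pnl, ph, pf, py, pa1, pa2, map_W4, map_L2 hφ,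
        map_Q12 hφ, map_B, map_P2 hφ, map_nrm, card_map hφ, fa, ex, mem_map_iff_mem hφ, ← map_mul, ← map_inv,
        ← map_pow, ← map_commutatorElement, hφ.eq_iff, e1, le_iff hφ] using F.decomp_Q2
      Q12_le := by
        simpa only [pA, pP, pQ1, pQ2, pZ, pXe, pXb, pXa, pns, pnl, ph, pf, py, pa1, pa2, map_W4, map_L2 hφ,
        map_Q12 hφ, map_B, map_P2 hφ, map_nrm, card_map hφ, fa, ex, mem_map_iff_mem hφ, ← map_mul, ← map_inv,
        ← map_pow, ← map_commutatorElement, hφ.eq_iff, e1, le_iff hφ] using F.Q12_le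
      norm_Q2 := by
        simpa only [pA, pP, pQ1, pQ2, pZ, pXe, pXb, pXa, pns, pnl, ph, pf, py, pa1, pa2, map_W4, map_L2 hφ,
        map_Q12 hφ, map_B, map_P2 hφ, map_nrm, card_map hφ, fa, ex, mem_map_iff_mem hφ, ← map_mul, ← map_inv,
        ← map_pow, ← map_commutatorElement, hφ.eq_iff, e1, le_iff hφ] using F.norm_Q2
      comm_Q2 := by
        simpa only [pA, pP, pQ1, pQ2, pZ, pXe, pXb, pXa, pns, pnl, ph, pf, py, pa1, pa2, map_W4, map_L2 hφ,
        map_Q12 hφ, map_B, map_P2 hφ, map_nrm, card_map hφ, fa, ex, mem_map_iff_mem hφ, ← map_mul, ← map_inv,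
        ← map_pow, ← map_commutatorElement, hφ.eq_iff, e1, le_iff hφ] using F.comm_Q2
      sq_Q2 := by
        simpa only [pA, pP, pQ1, pQ2, pZ, pXe, pXb, pXa, pns, pnl, ph, pf, py, pa1, pa2, map_W4, map_L2 hφ,
        map_Q12 hφ, map_B, map_P2 hφ, map_nrm, card_map hφ, fa, ex, mem_map_iff_mem hφ, ← map_mul, ← map_inv,
        ← map_pow, ← map_commutatorElement, hφ.eq_iff, e1, le_iff hφ] using F.sq_Q2
      cent_Q2 := by
        simpa only [pA, pP, pQ1, pQ2, pZ, pXe, pXb, pXa, pns, pnl, ph, pf, py, pa1, pa2, map_W4, map_L2 hφ,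
        map_Q12 hφ, map_B, map_P2 hφ, map_nrm, card_map hφ, fa, ex, mem_map_iff_mem hφ, ← map_mul, ← map_inv,
        ← map_pow, ← map_commutatorElement, hφ.eq_iff, e1, le_iff hφ] using F.cent_Q2
      decomp_L2 := by
        simpa only [pA, pP, pQ1, pQ2, pZ, pXe, pXb, pXa, pns, pnl, ph, pf, py, pa1, pa2, map_W4, map_L2 hφ,
        map_Q12 hφ, map_B, map_P2 hφ, map_nrm, card_map hφ, fa, ex, mem_map_iff_mem hφ, ← map_mul, ← map_inv,
        ← map_pow, ← map_commutatorElement, hφ.eq_iff, e1, le_iff hφ] using F.decomp_L2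
      conj_Q2 := by
        simpa only [pA, pP, pQ1, pQ2, pZ, pXe, pXb, pXa, pns, pnl, ph, pf, py, pa1, pa2, map_W4, map_L2 hφ,
        map_Q12 hφ, map_B, map_P2 hφ, map_nrm, card_map hφ, fa, ex, mem_map_iff_mem hφ, ← map_mul, ← map_inv,
        ← map_pow, ← map_commutatorElement, hφ.eq_iff, e1, le_iff hφ] using F.conj_Q2 }

/-- the data inside the group `D.A` -/
def Data.res {H : Type*} [Group H] (D : Data H) (F : Facts D) : Data D.A where
  A := ⊤
  P := D.P.subgroupOf D.A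
  Q1 := D.Q1.subgroupOf D.A
  Q2 := D.Q2.subgroupOf D.A
  Z := D.Z.subgroupOf D.A
  Xe := D.Xe.subgroupOf D.A
  Xb := D.Xb.subgroupOf D.A
  Xa := D.Xa.subgroupOf D.A
  ns := ⟨D.ns, F.P_le F.ns_mem⟩
  nl := ⟨D.nl, F.nl_mem⟩
  h := ⟨D.h, F.h_mem⟩
  f := ⟨D.f, F.P_le F.f_mem⟩
  y := ⟨D.y, F.P_le F.y_mem.1⟩
  a1 := ⟨D.a1, F.P_le (F.Q2_le (F.Xa_le F.a1_mem)).1⟩
  a2 := ⟨D.a2, F.P_le (F.Q2_le (F.Xa_le F.a2_mem)).1⟩

theorem Data.res_map {H : Type*} [Group H] (D : Data H) (F : Facts D) : (D.res F).map D.A.subtype = D := by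
  have e : ∀ K : Subgroup H, K ≤ D.A → (K.subgroupOf D.A).map D.A.subtype = K := fun K hK => by
    rw [subgroupOf_map_subtype, inf_eq_left.2 hK]
  have hQ1 := F.Q1_le.trans F.P_le
  have hQ2 : D.Q2 ≤ D.A := F.Q2_le.trans (inf_le_left.trans F.P_le)
  cases D
  simp only [Data.map, Data.res, Data.mk.injEq] at *
  refine ⟨?_, e _ F.P_le, e _ hQ1, e _ hQ2, e _ (F.Z_le.trans hQ1), e _ (F.Xe_le.trans hQ1),
    e _ (F.Xb_le.trans hQ1), e _ (F.Xa_le.trans hQ2), rfl, rfl, rfl, rfl, rfl, rfl, rfl⟩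
  rw [← MonoidHom.range_eq_map, range_subtype]

theorem Facts.res {H : Type*} [Group H] {D : Data H} (F : Facts D) : Facts (D.res F) :=
  (Facts.map_iff D.A.subtype_injective).1 (by rw [Data.res_map]; exact F)

/-- the facts for any subgroup isomorphic to `D.A` -/
theorem exists_of_equiv {M H : Type*} [Group M] [Group H] {D : Data M} (F : Facts D) {A : Subgroup H}
    (e : D.A ≃* A) : ∃ D' : Data H, D'.A = A ∧ Facts D' := by
  refine ⟨(D.res F).map (A.subtype.comp e.toMonoidHom), ?_, ?_⟩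
  · change (⊤ : Subgroup D.A).map (A.subtype.comp e.toMonoidHom) = A
    rw [← MonoidHom.range_eq_map, MonoidHom.range_comp, MonoidHom.range_eq_top.2 e.surjective,
      ← MonoidHom.range_eq_map, range_subtype]
  · have hinj : Function.Injective (A.subtype.comp e.toMonoidHom) := fun x y h =>
      e.injective (A.subtype_injective h)
    exact (Facts.map_iff hinj).2 F.res

end Cfsg.Agent.GTwoFour.Iface
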