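import Cfsg.Agent.GTwoFour.RedCore
import Cfsg.Agent.GTwoFour.FactsMap

set_option autoImplicit false

/-!
# Passage from `G` to `X = C_G(Θ)/Z(Θ)`

`Θ = O(C_K(t))`, `N = C_G(Θ)`, `X = N/(Θ ∩ N)`. The embedding `e : L → G` gives `φ : L → X` injective, and
`Iface.Facts`, `Iface.Big` hold in `X`.
-/

namespace Cfsg.Agent.GTwoFour.Lift

open Subgroup Cfsg.Agent.GTwoFour.Red Cfsg.Agent.GTwoFour.Iface
open Cfsg.Agent.StdG24 (KK MM mem_KK mem_MM Emb)
open scoped commutatorElement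

variable {L : Type*} [Group L] {G : Type*} [Group G]

/-- The output of the reduction. -/
structure RedOut (D : Data L) (e : L →* G) (t : G) (Θ : Subgroup G) : Prop where
  emb : Emb e
  core : Core e t Θ
  t_mem : t ∈ KK e
  t_ne : t ≠ 1
  t_sq : t * t = 1
  fus : ∃ k : G, (∀ x ∈ Θ, k * x = x * k) ∧ (∀ z ∈ D.Z, k * e z = e z * k) ∧
    ∃ z0 ∈ D.Z, z0 ≠ 1 ∧ k * t * k⁻¹ = t * e z0

/-- `N = C_G(Θ)` -/
abbrev NN (Θ : Subgroup G) : Subgroup G := centralizer (Θ : Set G)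

/-- `Θ ∩ N` as a subgroup of `N` -/
abbrev ZZ (Θ : Subgroup G) : Subgroup (NN Θ) := Θ.subgroupOf (NN Θ)

theorem mem_NN {Θ : Subgroup G} {x : G} : x ∈ NN Θ ↔ ∀ y ∈ Θ, x * y = y * x := by
  rw [mem_centralizer_iff]
  exact ⟨fun h y hy => (h y hy).symm, fun h y hy => (h y hy).symm⟩

theorem ZZ_comm {Θ : Subgroup G} {z x : NN Θ} (hz : z ∈ ZZ Θ) : x * z = z * x :=
  Subtype.ext (mem_NN.1 x.2 z (mem_subgroupOf.1 hz))

instance ZZ_normal (Θ : Subgroup G) : (ZZ Θ).Normal := by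
  refine ⟨fun z hz x => ?_⟩
  rw [ZZ_comm hz, mul_inv_cancel_right]
  exact hz

/-- `X = N/Z` -/
abbrev XX (Θ : Subgroup G) : Type _ := NN Θ ⧸ ZZ Θ

variable {D : Data L} {e : L →* G} {t : G} {Θ : Subgroup G}

namespace RedOut

theorem e_mem (O : RedOut D e t Θ) (x : L) : e x ∈ NN Θ :=
  mem_NN.2 fun y hy => (mem_KK.1 (O.core.le y hy) x).symm

theorem t_mem_N (O : RedOut D e t Θ) : t ∈ NN Θ :=
  mem_NN.2 fun y hy => (O.core.comm y hy).symm

/-- the corestriction of `e` -/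
def eN (O : RedOut D e t Θ) : L →* NN Θ := e.codRestrict (NN Θ) O.e_mem

@[simp] theorem eN_coe (O : RedOut D e t Θ) (x : L) : (O.eN x : G) = e x := rfl

/-- the embedding into `X` -/
def φ (O : RedOut D e t Θ) : L →* XX Θ := (QuotientGroup.mk' (ZZ Θ)).comp O.eN

/-- the involution of `X` -/
def tX (O : RedOut D e t Θ) : XX Θ := QuotientGroup.mk' (ZZ Θ) ⟨t, O.t_mem_N⟩

theorem mk_eq_one {n : NN Θ} : QuotientGroup.mk' (ZZ Θ) n = 1 ↔ (n : G) ∈ Θ := by
  rw [QuotientGroup.mk'_apply, QuotientGroup.eq_one_iff, mem_subgroupOf]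

theorem mk_eq {m n : NN Θ} : QuotientGroup.mk' (ZZ Θ) m = QuotientGroup.mk' (ZZ Θ) n ↔
    (m : G)⁻¹ * n ∈ Θ := by
  rw [QuotientGroup.mk'_apply, QuotientGroup.mk'_apply, QuotientGroup.eq, mem_subgroupOf]
  rfl

/-- odd order -/
theorem eq_one_of_sq (O : RedOut D e t Θ) [Finite G] {x : G} (hx : x ∈ Θ) (h2 : x * x = 1) : x = 1 := by
  have h1 : orderOf x ∣ Nat.card Θ := by
    rw [← Subgroup.orderOf_mk x hx]; exact orderOf_dvd_natCard _
  have h3 : orderOf x ∣ 2 := orderOf_dvd_of_pow_eq_one (by rw [pow_two, h2])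
  have h4 : Nat.Coprime 2 (Nat.card Θ) := by
    rw [Nat.coprime_two_left]; exact O.core.odd
  have h5 : orderOf x ∣ 1 := by
    rw [← h4]; exact Nat.dvd_gcd h3 h1
  exact orderOf_eq_one_iff.1 (Nat.dvd_one.1 h5)

theorem φ_inj (O : RedOut D e t Θ) : Function.Injective O.φ := by
  rw [injective_iff_map_eq_one]
  intro x hx
  have h1 : QuotientGroup.mk' (ZZ Θ) (O.eN x) = 1 := hx
  rw [mk_eq_one] at h1
  exact O.emb.disj x (O.core.le _ h1)

theorem facts (O : RedOut D e t Θ) (F : Facts D) : Facts (D.map O.φ) :=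
  (Facts.map_iff O.φ_inj).2 F

/-- elements of `N` commuting with `t` modulo `Θ` -/
theorem comm_of_mk (O : RedOut D e t Θ) [Finite G] {n : NN Θ}
    (h : QuotientGroup.mk' (ZZ Θ) n * O.tX = O.tX * QuotientGroup.mk' (ZZ Θ) n) :
    (n : G) * t = t * n := by
  rw [tX, ← map_mul, ← map_mul, mk_eq] at h
  have h1 : ((n : G) * t)⁻¹ * (t * n) ∈ Θ := h
  -- `d = t⁻¹ n⁻¹ t n`
  set d := ((n : G) * t)⁻¹ * (t * n) with hd
  have ht : t⁻¹ = t := inv_eq_of_mul_eq_one_right O.t_sq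
  have hdt : d * t = t * d := O.core.comm d h1
  have h2 : d * d = 1 := by
    have h3 : (n : G)⁻¹ * t * n = t * d := by
      rw [hd, mul_inv_rev]
      calc (n : G)⁻¹ * t * n = t * t⁻¹ * ((n : G)⁻¹ * (t * n)) := by group
        _ = t * (t⁻¹ * (n : G)⁻¹ * (t * n)) := by group
    have h4 : t * d * (t * d) = 1 := by
      rw [← h3]
      calc (n : G)⁻¹ * t * n * ((n : G)⁻¹ * t * n) = (n : G)⁻¹ * (t * t) * n := by group
        _ = 1 := by rw [O.t_sq]; group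
    calc d * d = t * t * d * d := by rw [O.t_sq, one_mul]
      _ = t * (t * d) * d := by group
      _ = t * (d * t) * d := by rw [hdt]
      _ = t * d * (t * d) := by group
      _ = 1 := h4
  have h5 := O.eq_one_of_sq h1 h2
  rw [hd, inv_mul_eq_one] at h5
  exact h5

/-- the structure of `C_X(⟨t⟩ Z)` -/
theorem big (O : RedOut D e t Θ) [Finite G] (F : Facts D) (R : RedFacts D) (hA : D.A = ⊤) :
    Big (D.map O.φ) O.tX where
  t_ne := by
    intro h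
    rw [tX, mk_eq_one] at h
    exact O.t_ne (O.eq_one_of_sq h O.t_sq)
  t_sq := by
    rw [tX, ← map_mul, mk_eq_one]
    show t * t ∈ Θ
    rw [O.t_sq]; exact one_mem _
  comm := by
    rintro _ ⟨x, hx, rfl⟩
    show QuotientGroup.mk' (ZZ Θ) (O.eN x) * O.tX = O.tX * QuotientGroup.mk' (ZZ Θ) (O.eN x)
    rw [tX, ← map_mul, ← map_mul]
    congr 1
    exact Subtype.ext (mem_KK.1 O.t_mem x).symm
  t_notMem := by
    rintro ⟨x, hx, h⟩
    have h1 : QuotientGroup.mk' (ZZ Θ) (O.eN x) = QuotientGroup.mk' (ZZ Θ) ⟨t, O.t_mem_N⟩ := h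
    rw [mk_eq] at h1
    have h2 : (e x)⁻¹ * t ∈ Θ := h1
    have h3 : e x ∈ KK e := by
      have : e x = t * ((e x)⁻¹ * t)⁻¹ := by group
      rw [this]; exact mul_mem O.t_mem (inv_mem (O.core.le _ h2))
    have h4 := O.emb.disj x h3
    rw [h4, map_one, inv_one, one_mul] at h2
    exact O.t_ne (O.eq_one_of_sq h2 O.t_sq)
  cent := by
    intro g hg hz
    obtain ⟨n, rfl⟩ := QuotientGroup.mk'_surjective (ZZ Θ) g
    have hnt := O.comm_of_mk hg
    have hnM : (n : G) ∈ MM e := O.emb.nrm O.t_mem O.t_ne O.t_sq hnt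
    obtain ⟨α, hα⟩ := O.emb.exists_aut hnM
    have hαZ : ∀ z ∈ D.Z, α z = z := by
      intro z hzZ
      have h1 := hz (O.φ z) (mem_map_of_mem O.φ hzZ)
      have h2 : QuotientGroup.mk' (ZZ Θ) n * QuotientGroup.mk' (ZZ Θ) (O.eN z) =
          QuotientGroup.mk' (ZZ Θ) (O.eN z) * QuotientGroup.mk' (ZZ Θ) n := h1
      rw [← map_mul, ← map_mul, mk_eq] at h2
      have h3 : ((n : G) * e z)⁻¹ * (e z * n) ∈ Θ := h2
      have h4 : e (α z)⁻¹ * e z ∈ KK e := by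
        have h5 : ((n : G) * (((n : G) * e z)⁻¹ * (e z * n)) * (n : G)⁻¹) ∈ KK e :=
          Emb.conj_KK hnM (O.core.le _ h3)
        have h6 : ((n : G) * (((n : G) * e z)⁻¹ * (e z * n)) * (n : G)⁻¹) = e (α z)⁻¹ * e z := by
          rw [map_inv, hα]; group
        rwa [h6] at h5
      rw [← map_mul] at h4
      exact inv_mul_eq_one.1 (O.emb.disj _ h4)
    obtain ⟨a, ha⟩ := R.autZ α hαZ
    have hk : (n : G) * (e a)⁻¹ ∈ KK e := Emb.mem_of_aut (fun x => by rw [← hα, ha])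
    have haZ : a ∈ D.P := by
      rw [← F.cent_Z a (by rw [hA]; trivial)]
      intro z hzZ
      have h1 := hαZ z hzZ
      rw [ha] at h1
      exact mul_inv_eq_iff_eq_mul.1 h1
    set k := (n : G) * (e a)⁻¹ with hkdef
    have hkt : k * t = t * k := by
      have h1 := mem_KK.1 O.t_mem a
      have h2 : (e a)⁻¹ * t = t * (e a)⁻¹ := by
        calc (e a)⁻¹ * t = (e a)⁻¹ * (t * e a) * (e a)⁻¹ := by group
          _ = t * (e a)⁻¹ := by rw [h1]; group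
      rw [hkdef]
      calc (n : G) * (e a)⁻¹ * t = (n : G) * ((e a)⁻¹ * t) := by group
        _ = (n : G) * t * (e a)⁻¹ := by rw [h2]; group
        _ = t * (n * (e a)⁻¹) := by rw [hnt]; group
    have hkN : k ∈ NN Θ := mul_mem n.2 (inv_mem (O.e_mem a))
    have hn : n = ⟨k, hkN⟩ * O.eN a := Subtype.ext (by
      show (n : G) = k * e a
      rw [hkdef]; group)
    rcases O.core.dec k hk hkt with h1 | h1
    · left
      refine ⟨a, haZ, ?_⟩
      show QuotientGroup.mk' (ZZ Θ) (O.eN a) = QuotientGroup.mk' (ZZ Θ) n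
      rw [hn, map_mul, mk_eq_one.2 (show ((⟨k, hkN⟩ : NN Θ) : G) ∈ Θ from h1), one_mul]
    · right
      refine ⟨a, haZ, ?_⟩
      show QuotientGroup.mk' (ZZ Θ) (O.eN a) = O.tX * QuotientGroup.mk' (ZZ Θ) n
      have h2 : QuotientGroup.mk' (ZZ Θ) (⟨t, O.t_mem_N⟩ * ⟨k, hkN⟩) = 1 := mk_eq_one.2 h1
      rw [map_mul] at h2
      rw [hn, map_mul, ← mul_assoc, tX, h2, one_mul]
  fus := by
    obtain ⟨k, hk1, hk2, z0, hz0, hz1, hkt⟩ := O.fus
    have hkN : k ∈ NN Θ := mem_NN.2 hk1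
    have hc : ⁅QuotientGroup.mk' (ZZ Θ) ⟨k, hkN⟩, O.tX⁆ = O.φ z0 := by
      rw [tX, ← map_commutatorElement]
      show _ = QuotientGroup.mk' (ZZ Θ) (O.eN z0)
      congr 1
      apply Subtype.ext
      show k * t * k⁻¹ * t⁻¹ = e z0
      rw [hkt, mem_KK.1 O.t_mem z0, mul_assoc, mul_inv_cancel, mul_one]
    refine ⟨QuotientGroup.mk' (ZZ Θ) ⟨k, hkN⟩, ?_, ?_, ?_⟩
    · rintro _ ⟨z, hz, rfl⟩
      show QuotientGroup.mk' (ZZ Θ) ⟨k, hkN⟩ * QuotientGroup.mk' (ZZ Θ) (O.eN z) =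
        QuotientGroup.mk' (ZZ Θ) (O.eN z) * QuotientGroup.mk' (ZZ Θ) ⟨k, hkN⟩
      rw [← map_mul, ← map_mul]
      congr 1
      exact Subtype.ext (hk2 z hz)
    · rw [hc]; exact mem_map_of_mem O.φ hz0
    · rw [hc]
      intro h
      exact hz1 ((injective_iff_map_eq_one O.φ).1 O.φ_inj z0 h)

end RedOut

end Cfsg.Agent.GTwoFour.Lift
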