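import Cfsg.Agent.GTwoFour.EndG
import Cfsg.Agent.GTwoFour.EndX
import Cfsg.Agent.GTwoFour.EndFacts
import Cfsg.Agent.GTwoFour.LiftX

/-!
# From the output of the reduction and the lifted group `R` to `EndG.Hyp`
-/

set_option autoImplicit false

namespace Cfsg.Agent.GTwoFour.EndAdapt

open Subgroup Cfsg.Agent.GTwoFour.Red Cfsg.Agent.GTwoFour.Iface
open Cfsg.Agent.StdG24 (KK MM mem_KK mem_MM Emb)
open Cfsg.Agent.GTwoFour.EndG Cfsg.Agent.GTwoFour.EndX Cfsg.Agent.GTwoFour.Lift
open scoped commutatorElement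

variable {L : Type*} [Group L] {G : Type*} [Group G]
variable {D : Data L} {e : L →* G} {t : G} {Θ : Subgroup G}

theorem mem_MM_of_comm (O : RedOut D e t Θ) {c : G} (hc : c * t = t * c) : c ∈ MM e :=
  O.emb.nrm O.t_mem O.t_ne O.t_sq hc

/-- `C_G(t) ∩ K A = ⟨t⟩ Θ A` -/
theorem dec_KA (O : RedOut D e t Θ) {c : G} (hc : c * t = t * c) (h : KA e c) :
    ∃ x : L, ∃ d ∈ Θ, c = e x * d ∨ c = t * (e x * d) := by
  obtain ⟨k, hk, x, rfl⟩ := h
  have h1 : k * t = t * k := by
    have h2 := mem_KK.1 O.t_mem x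
    have h3 : k * t * e x = t * k * e x := by
      calc k * t * e x = k * (t * e x) := by group
        _ = k * e x * t := by rw [h2]; group
        _ = t * (k * e x) := hc
        _ = t * k * e x := by group
    exact mul_right_cancel h3
  have hkx := mem_KK.1 hk x
  rcases O.core.dec k hk h1 with h4 | h4
  · exact ⟨x, k, h4, Or.inl hkx⟩
  · refine ⟨x, t * k, h4, Or.inr ?_⟩
    have h2 := mem_KK.1 O.t_mem x
    calc k * e x = e x * k := hkx
      _ = (t * t) * e x * k := by rw [O.t_sq, one_mul]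
      _ = t * (t * e x) * k := by group
      _ = t * (e x * (t * k)) := by rw [h2]; group

/-- 2-elements of `A ∪ tA`, times an element of `Θ` -/
theorem eq_one (O : RedOut D e t Θ) [Finite G] (hc : ∀ x : L, (∀ y, x * y = y * x) → x * x = 1)
    {g : G} (hg : ∃ k, g ^ 2 ^ k = 1) {x : L} {d : G} (hd : d ∈ Θ)
    (h : g = e x * d ∨ g = t * (e x * d)) : d = 1 := by
  obtain ⟨k, hk⟩ := hg
  have hk1 : g ^ 2 ^ (k + 1) = 1 := pow_two_pow hk (Nat.le_succ k)
  have hdx : ∀ y : L, d * e y = e y * d := fun y => mem_KK.1 (O.core.le d hd) y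
  have hdt := O.core.comm d hd
  have htx : ∀ y : L, t * e y = e y * t := fun y => mem_KK.1 O.t_mem y
  have e1 : g ^ 2 ^ (k + 1) = e x ^ 2 ^ (k + 1) * d ^ 2 ^ (k + 1) := by
    rcases h with h | h
    · rw [h]
      exact Commute.mul_pow (show Commute (e x) d from (hdx x).symm) _
    · have c1 : Commute t (e x * d) := by
        show t * (e x * d) = e x * d * t
        calc t * (e x * d) = t * e x * d := by group
          _ = e x * (t * d) := by rw [htx]; group
          _ = e x * d * t := by rw [← hdt]; group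
      rw [h, c1.mul_pow, Commute.mul_pow (show Commute (e x) d from (hdx x).symm)]
      have : t ^ 2 ^ (k + 1) = 1 := by
        rw [pow_succ', pow_mul, pow_two, O.t_sq, one_pow]
      rw [this, one_mul]
  rw [hk1] at e1
  have e2 : e (x ^ 2 ^ (k + 1)) = (d ^ 2 ^ (k + 1))⁻¹ := by
    rw [map_pow]
    exact eq_inv_of_mul_eq_one_left e1.symm
  have h1 : x ^ 2 ^ (k + 1) * x ^ 2 ^ (k + 1) = 1 := by
    apply hc
    intro y
    apply O.emb.inj
    rw [map_mul, map_mul, e2]
    exact mem_KK.1 (O.core.le _ (Θ.inv_mem (Θ.pow_mem hd _))) y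
  apply eq_one_of_mul O.core.odd hd (b := 1) (by group) ⟨0, by simp⟩
  refine ⟨k + 2, ?_⟩
  rw [one_mul, show k + 2 = k + 1 + 1 from rfl, pow_succ, pow_mul, pow_two]
  have : d ^ 2 ^ (k + 1) = (e (x ^ 2 ^ (k + 1)))⁻¹ := by rw [e2, inv_inv]
  rw [this, ← mul_inv_rev, ← map_mul, h1, map_one, inv_one]

/-- 2-subgroups of `C_G(t)` have order at most `2^14` -/
theorem card_C (O : RedOut D e t Θ) [Finite G] (RF : RedFacts D)
    (hc : ∀ x : L, (∀ y, x * y = y * x) → x * x = 1) (hcard : Nat.card L = 251596800)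
    {X : Subgroup G} (hX : IsPGroup 2 X) (hXt : ∀ x ∈ X, x * t = t * x) : Nat.card X < 2 ^ 16 := by
  classical
  have : Fact (Nat.Prime 2) := ⟨Nat.prime_two⟩
  set A : Subgroup G := e.range with hA
  have hA1 : ∀ x ∈ X, ∀ a ∈ A, x * a * x⁻¹ ∈ A := by
    rintro x hx _ ⟨y, rfl⟩
    obtain ⟨z, hz⟩ := (mem_MM.1 (mem_MM_of_comm O (hXt x hx))).1 y
    rw [hz]
    exact ⟨z, rfl⟩
  -- elements of `X` in `K A` are in `A` or `t A`
  have h1 : ∀ x ∈ X, KA e x → x ∈ A ∨ t * x ∈ A := by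
    intro x hx hk
    obtain ⟨y, d, hd, h2⟩ := dec_KA O (hXt x hx) hk
    have hd1 := eq_one O hc (exists_pow hX hx) hd h2
    rw [hd1, mul_one] at h2
    rcases h2 with h2 | h2
    · left; rw [h2]; exact ⟨y, rfl⟩
    · right; rw [h2, ← mul_assoc, O.t_sq, one_mul]; exact ⟨y, rfl⟩
  have htA : ∀ x y : G, x * t = t * x → t * x ∈ A → t * y ∈ A → x⁻¹ * y ∈ A := by
    intro x y hx h2 h3
    have h4 := A.mul_mem (A.inv_mem h2) h3
    have : (t * x)⁻¹ * (t * y) = x⁻¹ * y := by group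
    rwa [this] at h4
  -- the two-bit function
  have key : ∃ f : X → Bool × Bool, ∀ s s' : X, f s = f s' → (s : G)⁻¹ * s' ∈ (A ⊓ X : Subgroup G) := by
    by_cases hout : ∀ x ∈ X, KA e x
    · refine ⟨fun s => (true, decide ((s : G) ∈ A)), ?_⟩
      intro s s' hss
      have h2 : ((s : G) ∈ A) ↔ ((s' : G) ∈ A) := by simpa using hss
      refine ⟨?_, X.mul_mem (X.inv_mem s.2) s'.2⟩
      show (s : G)⁻¹ * s' ∈ A
      by_cases hs : (s : G) ∈ A
      · exact A.mul_mem (A.inv_mem hs) (h2.1 hs)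
      · exact htA _ _ (hXt _ s.2) ((h1 _ s.2 (hout _ s.2)).resolve_left hs)
          ((h1 _ s'.2 (hout _ s'.2)).resolve_left (fun hh => hs (h2.2 hh)))
    · push Not at hout
      obtain ⟨x0, hx0, hx0n⟩ := hout
      have hMM : ∀ x ∈ X, x ∈ MM e := fun x hx => mem_MM_of_comm O (hXt x hx)
      refine ⟨fun s => if KA e (s : G) then (true, decide ((s : G) ∈ A))
        else (false, decide ((s : G) * x0 ∈ A)), ?_⟩
      intro s s' hss
      refine ⟨?_, X.mul_mem (X.inv_mem s.2) s'.2⟩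
      show (s : G)⁻¹ * s' ∈ A
      by_cases hs : KA e (s : G) <;> by_cases hs' : KA e (s' : G)
      · simp only [hs, hs', if_true, Prod.mk.injEq, true_and, decide_eq_decide] at hss
        by_cases hsA : (s : G) ∈ A
        · exact A.mul_mem (A.inv_mem hsA) (hss.1 hsA)
        · exact htA _ _ (hXt _ s.2) ((h1 _ s.2 hs).resolve_left hsA)
            ((h1 _ s'.2 hs').resolve_left (fun hh => hsA (hss.2 hh)))
      · simp [hs, hs'] at hss
      · simp [hs, hs'] at hss
      · simp only [hs, hs', if_false, Prod.mk.injEq, true_and, decide_eq_decide] at hss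
        have h2 : ∀ x ∈ X, ¬ KA e x → KA e (x * x0) := by
          intro x hx hxn
          rcases KA_or RF O.emb (hMM x hx) (hMM x0 hx0) with hh | hh | hh
          · exact absurd hh hxn
          · exact absurd hh hx0n
          · exact hh
        have h3 : ((s : G) * x0)⁻¹ * (s' * x0) ∈ A := by
          by_cases hsA : (s : G) * x0 ∈ A
          · exact A.mul_mem (A.inv_mem hsA) (hss.1 hsA)
          · exact htA _ _ (hXt _ (X.mul_mem s.2 hx0))
              ((h1 _ (X.mul_mem s.2 hx0) (h2 _ s.2 hs)).resolve_left hsA)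
              ((h1 _ (X.mul_mem s'.2 hx0) (h2 _ s'.2 hs')).resolve_left (fun hh => hsA (hss.2 hh)))
        have h4 := hA1 x0 hx0 _ h3
        have : x0 * (((s : G) * x0)⁻¹ * (s' * x0)) * x0⁻¹ = (s : G)⁻¹ * s' := by group
        rwa [this] at h4
  obtain ⟨f, hf⟩ := key
  have h2 := card_le_of_fib (R := X) (X := A ⊓ X) inf_le_right f hf
  have h3 : Nat.card (Bool × Bool) = 4 := by simp
  rw [h3] at h2
  -- `|A ∩ X| ≤ 2^12`
  have h4 : Nat.card (A ⊓ X : Subgroup G) ∣ Nat.card A := Subgroup.card_dvd_of_le inf_le_left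
  have h5 : Nat.card A = 251596800 := by
    rw [← hcard]
    exact Nat.card_congr (MonoidHom.ofInjective O.emb.inj).toEquiv.symm
  obtain ⟨n, hn⟩ := (hX.to_le (inf_le_right : A ⊓ X ≤ X)).exists_card_eq
  rw [hn, h5] at h4
  have h6 : n ≤ 12 := by
    by_contra hlt
    push Not at hlt
    have h7 : 2 ^ 13 ∣ 251596800 := (pow_dvd_pow 2 hlt).trans h4
    norm_num at h7
  have h7 : Nat.card (A ⊓ X : Subgroup G) ≤ 2 ^ 12 := by
    rw [hn]
    exact Nat.pow_le_pow_right (by norm_num) h6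
  omega

end Cfsg.Agent.GTwoFour.EndAdapt
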