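import Cfsg.Agent.GTwoFour.TransferTL
import Mathlib

/-!
# The end of the rank one case of S1751: transfer to `N_G(R)`

`R` is the 2-group of order `2^20` (`IfaceR`), seen in `G` (it centralises the core `D = O(C_G(t))`),
`J = Z(R)` has order 16.  Every extremal conjugate `u` of `t` in `N_G(R)` with `|C_J(u)| ≤ 4` is conjugate
to `t` in `N_G(R)`.  bb R14 #6302.
-/

set_option autoImplicit false
set_option linter.unusedSectionVars false

namespace Cfsg.Agent.GTwoFour.EndG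

open Subgroup
open scoped commutatorElement

variable {G : Type*} [Group G]

/-- The situation in `G`. -/
structure Hyp (A P Q1 U Z D J R : Subgroup G) (t : G) : Prop where
  t_sq : t * t = 1
  P_le : P ≤ A
  U_le : U ≤ P
  Q1_le : Q1 ≤ U
  Z_le : Z ≤ Q1
  comm_A : ∀ a ∈ A, a * t = t * a
  -- facts on `A`
  cent_Z : ∀ a ∈ A, (∀ z ∈ Z, a * z = z * a) → a ∈ P
  P_Z : ∀ p ∈ P, ∀ z ∈ Z, p * z = z * p
  norm_Q1 : ∀ p ∈ P, ∀ q ∈ Q1, p * q * p⁻¹ ∈ Q1
  core_P : ∀ N : Subgroup G, N ≤ P → (∀ p ∈ P, ∀ x ∈ N, p * x * p⁻¹ ∈ N) → IsPGroup 2 N → N ≤ Q1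
  comm_Q1 : ∀ q ∈ Q1, ∀ q' ∈ Q1, ⁅q, q'⁆ ∈ Z
  cent_Q1Z : ∀ p ∈ P, (∀ q ∈ Q1, ⁅p, q⁆ ∈ Z) → p ∈ Q1
  center_Q1 : ∀ q ∈ Q1, (∀ q' ∈ Q1, q * q' = q' * q) → q ∈ Z
  full_Q1 : ∀ b ∈ Q1, b ∉ Z → ∀ z ∈ Z, ∃ q ∈ Q1, ⁅b, q⁆ = z
  cent_U : ∀ u ∈ U, u ∉ Q1 → ∀ C : Subgroup G, C ≤ Q1 → (∀ q ∈ C, ⁅u, q⁆ ∈ Z) → Nat.card C < 256
  gen : ∀ K : Subgroup G, (∀ q ∈ Q1, IsConj t (t * q) → q ∈ K) → Q1 ≤ K
  card_Z : Nat.card Z = 4
  card_Q1 : Nat.card Q1 = 2 ^ 10
  card_U : Nat.card U = 2 ^ 12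
  odd_A : Odd (U.relIndex A)
  -- the centralizer of `t`
  D_A : ∀ d ∈ D, ∀ a ∈ A, d * a = a * d
  D_t : ∀ d ∈ D, d * t = t * d
  D_odd : Odd (Nat.card D)
  A_norm : ∀ c, c * t = t * c → ∀ a ∈ A, c * a * c⁻¹ ∈ A
  cent : ∀ g, g * t = t * g → (∀ z ∈ Z, g * z = z * g) →
    ∃ p ∈ P, ∃ d ∈ D, g = p * d ∨ g = t * (p * d)
  card_C : ∀ X : Subgroup G, IsPGroup 2 X → (∀ x ∈ X, x * t = t * x) → Nat.card X < 2 ^ 16
  -- the grown group
  J_le : J ≤ R
  Z_le_J : Z ≤ J
  Q1_le_R : Q1 ≤ R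
  card_R : Nat.card R = 2 ^ 20
  card_J : Nat.card J = 16
  J_sq : ∀ w ∈ J, w * w = 1
  J_comm : ∀ r ∈ R, ∀ w ∈ J, r * w = w * r
  J_t : ∀ w ∈ J, ⁅w, t⁆ ∈ Z
  J_onto : ∀ z ∈ Z, ∃ w ∈ J, ⁅w, t⁆ = z
  R_D : ∀ r ∈ R, ∀ d ∈ D, r * d = d * r
  R_comm : ∀ r ∈ R, ∀ r' ∈ R, ⁅r, r'⁆ ∈ J
  R_sq : ∀ r ∈ R, r * r ∈ J
  R_t : ∀ r ∈ R, ∃ q ∈ Q1, ∃ w ∈ J, ⁅r, t⁆ = q * w
  R_onto : ∀ q ∈ Q1, ∃ r ∈ R, ∃ w ∈ J, ⁅r, t⁆ = q * w
  R_inter : ∀ q ∈ Q1, q ∈ J → q ∈ Z
  R_center : ∀ r ∈ R, (∀ s ∈ R, r * s = s * r) → r ∈ J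

/-! ## general lemmas -/

theorem card_le_of_fib [Finite G] {X R : Subgroup G} (hXR : X ≤ R) {β : Type*} [Finite β] (f : R → β)
    (hf : ∀ s s' : R, f s = f s' → (s : G)⁻¹ * s' ∈ X) : Nat.card R ≤ Nat.card X * Nat.card β := by
  have h1 : Nat.card (X.subgroupOf R) = Nat.card X := Nat.card_congr (subgroupOfEquivOfLe hXR).toEquiv
  have h2 := Subgroup.card_mul_index (X.subgroupOf R)
  rw [h1] at h2
  rw [← h2]
  apply Nat.mul_le_mul_left
  rw [Subgroup.index]
  -- injection of the quotient into `β`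
  let g : R ⧸ X.subgroupOf R → β := fun q => f q.out
  apply Nat.card_le_card_of_injective g
  intro a b hab
  have h3 := hf _ _ hab
  have h4 : (a.out : R)⁻¹ * b.out ∈ X.subgroupOf R := by
    rw [mem_subgroupOf]
    simpa using h3
  rw [← QuotientGroup.eq] at h4
  rw [QuotientGroup.out_eq', QuotientGroup.out_eq'] at h4
  exact h4

theorem pow_two_pow {x : G} {m n : ℕ} (h : x ^ 2 ^ m = 1) (hmn : m ≤ n) : x ^ 2 ^ n = 1 := by
  obtain ⟨k, rfl⟩ := Nat.exists_eq_add_of_le hmn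
  rw [pow_add, pow_mul, h, one_pow]

/-- `d` of odd order, `b`, `bd` of 2-power order, `b d = d b`: `d = 1` -/
theorem eq_one_of_mul [Finite G] {D : Subgroup G} (hD : Odd (Nat.card D)) {b d : G} (hd : d ∈ D)
    (hbd : b * d = d * b) (hb : ∃ k, b ^ 2 ^ k = 1) (hx : ∃ k, (b * d) ^ 2 ^ k = 1) : d = 1 := by
  obtain ⟨k, hk⟩ := hb
  obtain ⟨l, hl⟩ := hx
  have h1 := pow_two_pow hk (le_max_left k l)
  have h2 := pow_two_pow hl (le_max_right k l)
  have h3 : (b * d) ^ 2 ^ max k l = b ^ 2 ^ max k l * d ^ 2 ^ max k l :=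
    (Commute.mul_pow (show Commute b d from hbd) _)
  rw [h2, h1, one_mul] at h3
  have h4 : orderOf d ∣ 2 ^ max k l := orderOf_dvd_of_pow_eq_one h3.symm
  have h5 : orderOf d ∣ Nat.card D := by
    have := orderOf_dvd_natCard (⟨d, hd⟩ : D)
    rwa [Subgroup.orderOf_mk] at this
  have h6 : Nat.Coprime (2 ^ max k l) (Nat.card D) :=
    Nat.Coprime.pow_left _ (Nat.coprime_two_left.2 hD)
  exact orderOf_eq_one_iff.1 (Nat.eq_one_of_dvd_coprimes h6 h4 h5)

theorem exists_pow {X : Subgroup G} (hX : IsPGroup 2 X) {x : G} (hx : x ∈ X) : ∃ k, x ^ 2 ^ k = 1 := by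
  obtain ⟨k, hk⟩ := hX ⟨x, hx⟩
  exact ⟨k, by simpa using congrArg Subtype.val hk⟩

theorem isPGroup_of_card {X : Subgroup G} {n : ℕ} (h : Nat.card X = 2 ^ n) : IsPGroup 2 X :=
  IsPGroup.of_card h

theorem isPGroup_map {X : Subgroup G} (hX : IsPGroup 2 X) (g : G) :
    IsPGroup 2 (X.map (MulAut.conj g).toMonoidHom) := hX.map _

theorem mem_map_conj {X : Subgroup G} {g x : G} :
    x ∈ X.map (MulAut.conj g).toMonoidHom ↔ g⁻¹ * x * g ∈ X := by
  rw [mem_map_equiv, MulAut.conj_symm_apply]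

theorem card_map_conj (X : Subgroup G) (g : G) :
    Nat.card (X.map (MulAut.conj g).toMonoidHom) = Nat.card X :=
  Nat.card_congr (X.equivMapOfInjective _ (MulAut.conj g).injective).toEquiv.symm

theorem conj_comm (g a b : G) : ⁅g * a * g⁻¹, g * b * g⁻¹⁆ = g * ⁅a, b⁆ * g⁻¹ := by
  simp only [commutatorElement_def]; group

theorem conj_comm' (g a b : G) : ⁅g⁻¹ * a * g, g⁻¹ * b * g⁆ = g⁻¹ * ⁅a, b⁆ * g := by
  simp only [commutatorElement_def]; group

/-- a 2-group `U` normalising `N` of even order fixes a nontrivial element of `N` -/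
theorem exists_fix [Finite G] {U N : Subgroup G} (hU : IsPGroup 2 U)
    (hn : ∀ u ∈ U, ∀ n ∈ N, u * n * u⁻¹ ∈ N) (hN : 2 ∣ Nat.card N) :
    ∃ v ∈ N, v ≠ 1 ∧ ∀ u ∈ U, u * v * u⁻¹ = v := by
  have : Fact (Nat.Prime 2) := ⟨Nat.prime_two⟩
  let act : MulAction U N :=
    { smul := fun u n => ⟨(u : G) * n * (u : G)⁻¹, hn u u.2 n n.2⟩
      one_smul := fun n => Subtype.ext (by
        show (1 : G) * n * (1 : G)⁻¹ = n
        group)
      mul_smul := fun a b n => Subtype.ext (by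
        show ((a : G) * b) * n * ((a : G) * b)⁻¹ = (a : G) * ((b : G) * n * (b : G)⁻¹) * (a : G)⁻¹
        group) }
  have hone : (1 : N) ∈ MulAction.fixedPoints U N := by
    intro u
    apply Subtype.ext
    show (u : G) * 1 * (u : G)⁻¹ = 1
    group
  obtain ⟨v, hv, hv1⟩ := hU.exists_fixed_point_of_prime_dvd_card_of_fixed_point N hN hone
  refine ⟨v, v.2, fun h => hv1 (Subtype.ext h.symm), ?_⟩
  intro u hu
  exact congrArg Subtype.val (hv ⟨u, hu⟩)

/-- a 2-subgroup `U` of `C` is conjugate into a subgroup of odd index -/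
theorem exists_conj_le [Finite G] {U K C : Subgroup G} (hU : IsPGroup 2 U) (hUC : U ≤ C)
    (hodd : Odd (K.relIndex C)) : ∃ c ∈ C, ∀ u ∈ U, c⁻¹ * u * c ∈ K := by
  have : Fact (Nat.Prime 2) := ⟨Nat.prime_two⟩
  let act : MulAction U (C ⧸ K.subgroupOf C) := MulAction.compHom _ (inclusion hUC)
  have h1 : ¬ 2 ∣ Nat.card (C ⧸ K.subgroupOf C) := by
    change ¬ 2 ∣ K.relIndex C
    rw [Nat.two_dvd_ne_zero]
    exact Nat.odd_iff.1 hodd
  obtain ⟨q, hq⟩ := hU.nonempty_fixed_point_of_prime_not_dvd_card _ h1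
  obtain ⟨c, rfl⟩ := QuotientGroup.mk_surjective q
  refine ⟨c, c.2, ?_⟩
  intro u hu
  have h2 : (QuotientGroup.mk (inclusion hUC ⟨u, hu⟩ * c) : C ⧸ K.subgroupOf C) = QuotientGroup.mk c :=
    hq ⟨u, hu⟩
  rw [QuotientGroup.eq] at h2
  have h3 := K.inv_mem (mem_subgroupOf.1 h2)
  have : (((inclusion hUC ⟨u, hu⟩ * c)⁻¹ * c : C) : G)⁻¹ = (c : G)⁻¹ * u * c := by
    simp [mul_assoc]
  rwa [this] at h3

theorem le_of_odd [Finite G] {U M A : Subgroup G} (hUM : U ≤ M) (hMA : M ≤ A) (hM : IsPGroup 2 M)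
    (hodd : Odd (U.relIndex A)) : M ≤ U := by
  have h1 : U.relIndex M * M.relIndex A = U.relIndex A := Subgroup.relIndex_mul_relIndex U M A hUM hMA
  have h2 : Odd (U.relIndex M) := by
    rw [← h1] at hodd
    exact (Nat.odd_mul.1 hodd).1
  obtain ⟨n, hn⟩ := hM.exists_card_eq
  have h3 : U.relIndex M ∣ 2 ^ n := by
    rw [← hn]
    exact Subgroup.index_dvd_card _
  obtain ⟨k, _, hk⟩ := (Nat.dvd_prime_pow Nat.prime_two).1 h3
  have h4 : U.relIndex M = 1 := by
    rcases Nat.eq_zero_or_pos k with rfl | hk0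
    · simpa using hk
    · exfalso
      rw [hk] at h2
      have : Even (2 ^ k) := (Nat.even_pow.2 ⟨even_two, hk0.ne'⟩)
      exact (Nat.not_even_iff_odd.2 h2) this
  exact Subgroup.relIndex_eq_one.1 h4

/-- two commuting involutory conditions -/
theorem Tc {t : G} (ht : t * t = 1) (s : G) : t * ⁅s, t⁆ * t⁻¹ = ⁅s, t⁆⁻¹ := by
  have hi : t⁻¹ = t := inv_eq_of_mul_eq_one_right ht
  calc t * ⁅s, t⁆ * t⁻¹ = t * s * t * s⁻¹ * (t⁻¹ * t⁻¹) := by rw [commutatorElement_def]; group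
    _ = t * s * t * s⁻¹ := by
        have : t⁻¹ * t⁻¹ = 1 := by rw [hi, ht]
        rw [this, mul_one]
    _ = ⁅s, t⁆⁻¹ := by
        rw [commutatorElement_def, mul_inv_rev, mul_inv_rev, mul_inv_rev, inv_inv, inv_inv, hi]
        group

theorem mem_fix {X : Subgroup G} {t x : G} :
    x ∈ (X ⊓ centralizer {t} : Subgroup G) ↔ x ∈ X ∧ x * t = t * x := by
  rw [mem_inf, mem_centralizer_singleton_iff]

namespace Hyp

variable {A P Q1 U Z D J R : Subgroup G} {t : G}

variable (h : Hyp A P Q1 U Z D J R t)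
include h

theorem ti : t⁻¹ = t := inv_eq_of_mul_eq_one_right h.t_sq

theorem tP {p : G} (hp : p ∈ P) : p * t = t * p := h.comm_A p (h.P_le hp)

theorem Q1_leP : Q1 ≤ P := h.Q1_le.trans h.U_le

theorem Z_leP : Z ≤ P := h.Z_le.trans h.Q1_leP

theorem tQ {q : G} (hq : q ∈ Q1) : q * t = t * q := h.tP (h.Q1_leP hq)

theorem DP {d p : G} (hd : d ∈ D) (hp : p ∈ P) : d * p = p * d := h.D_A d hd p (h.P_le hp)

theorem R_two : IsPGroup 2 R := isPGroup_of_card h.card_R

/-- `Z ≠ 1` -/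
theorem exists_z : ∃ z ∈ Z, z ≠ 1 := by
  by_contra hne
  push Not at hne
  have : Z = ⊥ := (Subgroup.eq_bot_iff_forall Z).2 hne
  have h1 := h.card_Z
  rw [this] at h1
  simp at h1

theorem t_notMem_R : t ∉ R := by
  intro ht
  obtain ⟨z, hz, hz1⟩ := h.exists_z
  obtain ⟨w, hw, e⟩ := h.J_onto z hz
  apply hz1
  rw [← e, commutatorElement_def, ← h.J_comm t ht w hw]
  group

/-- `J` is not centralised by `t p`, `p ∈ Q1` -/
theorem not_cent {q : G} (hq : ∀ w ∈ J, q * w = w * q) (hc : ∀ w ∈ J, t * q * w = w * (t * q)) : False := by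
  obtain ⟨z, hz, hz1⟩ := h.exists_z
  obtain ⟨w, hw, e⟩ := h.J_onto z hz
  apply hz1
  have h1 : w * t = t * w := by
    have := hc w hw
    have h2 : w * t * q = t * w * q := by
      calc w * t * q = w * (t * q) := by group
        _ = t * q * w := this.symm
        _ = t * (q * w) := by group
        _ = t * w * q := by rw [hq w hw]; group
    exact mul_right_cancel h2
  rw [← e, commutatorElement_def, h1]
  group

theorem conj_t {w : G} (hw : w ∈ J) : w * t * w⁻¹ = t * ⁅w, t⁆ := by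
  have h1 := h.J_t w hw
  have h2 := h.tQ (h.Z_le h1)
  rw [← h2, commutatorElement_def]
  group

/-- `t z` is conjugate to `t` -/
theorem conj_tz {z : G} (hz : z ∈ Z) : IsConj t (t * z) := by
  obtain ⟨w, hw, e⟩ := h.J_onto z hz
  rw [isConj_iff]
  exact ⟨w, by rw [h.conj_t hw, e]⟩

/-- elements of `C(t) ∩ C(Q1)` -/
theorem cent_Q1 {c : G} (hct : c * t = t * c) (hcQ : ∀ q ∈ Q1, c * q = q * c) :
    ∃ z ∈ Z, ∃ d ∈ D, c = z * d ∨ c = t * (z * d) := by
  obtain ⟨p, hp, d, hd, e⟩ := h.cent c hct (fun z hz => hcQ z (h.Z_le hz))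
  have h1 : ∀ q ∈ Q1, p * q = q * p := by
    intro q hq
    have hdq := h.DP hd (h.Q1_leP hq)
    have htq := h.tQ hq
    have h2 := hcQ q hq
    rcases e with e | e
    · rw [e] at h2
      have h3 : p * q * d = q * p * d := by
        calc p * q * d = p * (q * d) := by group
          _ = p * d * q := by rw [← hdq]; group
          _ = q * (p * d) := h2
          _ = q * p * d := by group
      exact mul_right_cancel h3
    · rw [e] at h2
      have h3 : t * (p * q * d) = t * (q * p * d) := by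
        calc t * (p * q * d) = t * p * (q * d) := by group
          _ = t * (p * d) * q := by rw [← hdq]; group
          _ = q * (t * (p * d)) := h2
          _ = q * t * (p * d) := by group
          _ = t * (q * p * d) := by rw [htq]; group
      exact mul_right_cancel (mul_left_cancel h3)
  have h2 : p ∈ Q1 := by
    apply h.cent_Q1Z p hp
    intro q hq
    rw [commutatorElement_def, h1 q hq]
    have : q * p * p⁻¹ * q⁻¹ = 1 := by group
    rw [this]
    exact Z.one_mem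
  exact ⟨p, h.center_Q1 p h2 h1, d, hd, e⟩

/-- **uniqueness of `R`** -/
theorem le_R [Finite G] {X : Subgroup G} (hX : IsPGroup 2 X) (h1 : ∀ x ∈ X, ∀ w ∈ J, x * w = w * x)
    (h2 : ∀ x ∈ X, ∀ q ∈ Q1, ⁅x, q⁆ ∈ J) (h3 : ∀ x ∈ X, ∃ q ∈ Q1, ∃ w ∈ J, ⁅x, t⁆ = q * w) : X ≤ R := by
  intro x hx
  obtain ⟨q, hq, w, hw, e1⟩ := h3 x hx
  obtain ⟨r, hr, w', hw', e2⟩ := h.R_onto q hq
  -- `y = r⁻¹ x` moves `t` to `t w3`
  have ex : x * t * x⁻¹ = q * w * t := by
    rw [← e1, commutatorElement_def]; group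
  have er : r * t * r⁻¹ = q * w' * t := by
    rw [← e2, commutatorElement_def]; group
  have hJt : ∀ w ∈ J, t * w * t⁻¹ ∈ J := by
    intro w hw
    have hh := J.mul_mem (J.inv_mem (h.Z_le_J (h.J_t w hw))) hw
    have : ⁅w, t⁆⁻¹ * w = t * w * t⁻¹ := by rw [commutatorElement_def]; group
    rw [this] at hh
    exact hh
  have hw2 : w'⁻¹ * w ∈ J := J.mul_mem (J.inv_mem hw') hw
  have hw3 : t * (w'⁻¹ * w) * t⁻¹ ∈ J := hJt _ hw2
  rw [h.ti] at hw3
  -- x t x⁻¹ = (r t r⁻¹) (t w'' t)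
  have e3 : x * t * x⁻¹ = r * t * r⁻¹ * (t * (w'⁻¹ * w) * t) := by
    rw [ex, er]
    calc q * w * t = q * w' * (w'⁻¹ * w) * t := by group
      _ = q * w' * (t * t) * (w'⁻¹ * w) * t := by rw [h.t_sq]; group
      _ = q * w' * t * (t * (w'⁻¹ * w) * t) := by group
  set w3 := t * (w'⁻¹ * w) * t with hw3def
  have e4 : r⁻¹ * x * t * (r⁻¹ * x)⁻¹ = t * w3 := by
    calc r⁻¹ * x * t * (r⁻¹ * x)⁻¹ = r⁻¹ * (x * t * x⁻¹) * r := by group
      _ = r⁻¹ * (r * t * r⁻¹ * w3) * r := by rw [e3]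
      _ = t * (r⁻¹ * (w3 * r)) := by group
      _ = t * w3 := by rw [← h.J_comm r hr w3 hw3]; group
  have e5 : t * w3 * (t * w3) = 1 := by
    rw [← e4]
    calc r⁻¹ * x * t * (r⁻¹ * x)⁻¹ * (r⁻¹ * x * t * (r⁻¹ * x)⁻¹) = r⁻¹ * x * (t * t) * (r⁻¹ * x)⁻¹ := by
          group
      _ = 1 := by rw [h.t_sq]; group
  have e6 : w3 * t = t * w3 := by
    have h4 : w3⁻¹ = w3 := inv_eq_of_mul_eq_one_right (h.J_sq _ hw3)
    have h5 : (t * w3)⁻¹ = t * w3 := inv_eq_of_mul_eq_one_right e5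
    rw [mul_inv_rev, h4, h.ti] at h5
    exact h5
  -- w3 ∈ Z
  have h6 : w3 ∈ Z := by
    obtain ⟨z, hz, d, hd, e⟩ := h.cent_Q1 e6 (fun q hq => (h.J_comm q (h.Q1_le_R hq) _ hw3).symm)
    have hdz := h.DP hd (h.Z_leP hz)
    rcases e with e | e
    · have : d = 1 := by
        apply eq_one_of_mul h.D_odd hd hdz.symm
          (exists_pow h.R_two (h.Q1_le_R (h.Z_le hz)))
        rw [← e]
        exact exists_pow h.R_two (h.J_le hw3)
      rw [e, this, mul_one]; exact hz
    · exfalso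
      have hdt := h.D_t d hd
      have htz := h.tQ (h.Z_le hz)
      have : d = 1 := by
        apply eq_one_of_mul h.D_odd hd (b := t * z)
        · calc t * z * d = t * (z * d) := by group
            _ = t * d * z := by rw [← hdz]; group
            _ = d * (t * z) := by rw [← hdt]; group
        · refine ⟨1, ?_⟩
          obtain ⟨wz, hwz, ez⟩ := h.J_onto z hz
          have h7 : z * z = 1 := h.J_sq z (h.Z_le_J hz)
          calc (t * z) ^ 2 ^ 1 = t * z * (t * z) := by simp [pow_two]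
            _ = t * (z * t) * z := by group
            _ = t * t * (z * z) := by rw [htz]; group
            _ = 1 := by rw [h.t_sq, h7, one_mul]
        · have : t * z * d = w3 := by rw [e]; group
          rw [this]
          exact exists_pow h.R_two (h.J_le hw3)
      rw [this, mul_one] at e
      apply h.t_notMem_R
      have h8 : t = w3 * z⁻¹ := by rw [e]; group
      rw [h8]
      exact R.mul_mem (h.J_le hw3) (R.inv_mem (h.J_le (h.Z_le_J hz)))
  obtain ⟨w4, hw4, e7⟩ := h.J_onto w3 h6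
  have e8 : w4 * t * w4⁻¹ = t * w3 := by rw [h.conj_t hw4, e7]
  set c := w4⁻¹ * (r⁻¹ * x) with hc
  have hct : c * t = t * c := by
    have : c * t * c⁻¹ = t := by
      calc c * t * c⁻¹ = w4⁻¹ * (r⁻¹ * x * t * (r⁻¹ * x)⁻¹) * w4 := by rw [hc]; group
        _ = w4⁻¹ * (w4 * t * w4⁻¹) * w4 := by rw [e4, e8]
        _ = t := by group
    calc c * t = c * t * c⁻¹ * c := by group
      _ = t * c := by rw [this]
  have hcJ : ∀ w ∈ J, c * w = w * c := by
    intro w hw
    have a1 := h1 x hx w hw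
    have a2 := h.J_comm r⁻¹ (R.inv_mem hr) w hw
    have a3 := h.J_comm w4⁻¹ (R.inv_mem (h.J_le hw4)) w hw
    calc c * w = w4⁻¹ * (r⁻¹ * (x * w)) := by rw [hc]; group
      _ = w4⁻¹ * (r⁻¹ * w) * x := by rw [a1]; group
      _ = w4⁻¹ * w * r⁻¹ * x := by rw [a2]; group
      _ = w * c := by rw [a3, hc]; group
  obtain ⟨p, hp, d, hd, e⟩ := h.cent c hct (fun z hz => hcJ z (h.Z_le_J hz))
  -- commutators with Q1
  have hcQ : ∀ q ∈ Q1, ⁅c, q⁆ ∈ J := by
    intro q hq
    have a1 := h2 x hx q hq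
    have a2 := h.R_comm r⁻¹ (R.inv_mem hr) q (h.Q1_le_R hq)
    have hxq : x * q * x⁻¹ = ⁅x, q⁆ * q := by rw [commutatorElement_def]; group
    have hrq : r⁻¹ * q * r = ⁅r⁻¹, q⁆ * q := by rw [commutatorElement_def]; group
    have a3 := h.J_comm r⁻¹ (R.inv_mem hr) _ a1
    have a4 := h.J_comm w4⁻¹ (R.inv_mem (h.J_le hw4)) _ a1
    have a5 := h.J_comm w4⁻¹ (R.inv_mem (h.J_le hw4)) _ a2
    have a6 := h.J_comm q (h.Q1_le_R hq) w4⁻¹ (J.inv_mem hw4)
    have : ⁅c, q⁆ = ⁅x, q⁆ * ⁅r⁻¹, q⁆ := by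
      calc ⁅c, q⁆ = w4⁻¹ * (r⁻¹ * (x * q * x⁻¹) * r) * w4 * q⁻¹ := by
            rw [commutatorElement_def, hc]; group
        _ = w4⁻¹ * (r⁻¹ * ⁅x, q⁆ * q * r) * w4 * q⁻¹ := by rw [hxq]; group
        _ = w4⁻¹ * (⁅x, q⁆ * (r⁻¹ * q * r)) * w4 * q⁻¹ := by rw [a3]; group
        _ = w4⁻¹ * ⁅x, q⁆ * ⁅r⁻¹, q⁆ * q * w4 * q⁻¹ := by rw [hrq]; group
        _ = ⁅x, q⁆ * (w4⁻¹ * ⁅r⁻¹, q⁆) * q * w4 * q⁻¹ := by rw [a4]; group
        _ = ⁅x, q⁆ * ⁅r⁻¹, q⁆ * (w4⁻¹ * q) * w4 * q⁻¹ := by rw [a5]; group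
        _ = ⁅x, q⁆ * ⁅r⁻¹, q⁆ := by rw [← a6]; group
    rw [this]
    exact J.mul_mem a1 a2
  have hpQ : p ∈ Q1 := by
    apply h.cent_Q1Z p hp
    intro q hq
    have hdq := h.DP hd (h.Q1_leP hq)
    have htq := h.tQ hq
    have a1 : ⁅c, q⁆ = ⁅p, q⁆ := by
      have hdq' : d * q * d⁻¹ = q := by rw [hdq]; group
      have htq' : ∀ y ∈ Q1, t * y * t⁻¹ = y := by
        intro y hy; rw [← h.tQ hy]; group
      rcases e with e | e
      · calc ⁅c, q⁆ = p * (d * q * d⁻¹) * p⁻¹ * q⁻¹ := by rw [commutatorElement_def, e]; group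
          _ = ⁅p, q⁆ := by rw [hdq', commutatorElement_def]
      · calc ⁅c, q⁆ = t * (p * (d * q * d⁻¹) * p⁻¹) * t⁻¹ * q⁻¹ := by
              rw [commutatorElement_def, e]; group
          _ = t * (p * q * p⁻¹) * t⁻¹ * q⁻¹ := by rw [hdq']
          _ = p * q * p⁻¹ * q⁻¹ := by rw [htq' _ (h.norm_Q1 p hp q hq)]
          _ = ⁅p, q⁆ := by rw [commutatorElement_def]
    have a2 := hcQ q hq
    rw [a1] at a2
    apply h.R_inter _ _ a2
    rw [commutatorElement_def]
    exact Q1.mul_mem (h.norm_Q1 p hp q hq) (Q1.inv_mem hq)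
  -- the case `c = t p d` is impossible
  have e9 : c = p * d := by
    rcases e with e | e
    · exact e
    · exfalso
      apply h.not_cent (q := p * d)
      · intro w hw
        have b1 := h.J_comm p (h.Q1_le_R hpQ) w hw
        have b2 := h.R_D w (h.J_le hw) d hd
        calc p * d * w = p * (d * w) := by group
          _ = p * w * d := by rw [← b2]; group
          _ = w * (p * d) := by rw [b1]; group
      · intro w hw
        have := hcJ w hw
        rw [e] at this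
        exact this
  have hb : r * w4 * p ∈ R := R.mul_mem (R.mul_mem hr (h.J_le hw4)) (h.Q1_le_R hpQ)
  have e10 : x = r * w4 * p * d := by
    have : x = r * (w4 * c) := by rw [hc]; group
    rw [this, e9]; group
  have : d = 1 := by
    apply eq_one_of_mul h.D_odd hd (h.R_D _ hb d hd) (exists_pow h.R_two hb)
    rw [← e10]
    exact exists_pow hX hx
  rw [e10, this, mul_one]
  exact hb

/-- **uniqueness of `J`** -/
theorem eq_J [Finite G] {X : Subgroup G} (hX : Nat.card X = 16)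
    (hc : ∀ x ∈ X, ∀ y ∈ X, x * y = y * x) (h1 : ∀ x ∈ X, ∀ q ∈ Q1, x * q = q * x)
    (h2 : ∀ x ∈ X, ⁅x, t⁆ ∈ Z) : X = J := by
  have hXp : IsPGroup 2 X := isPGroup_of_card (n := 4) (by rw [hX]; norm_num)
  -- every element of `X` is in `J` or `J t`
  have key : ∀ x ∈ X, x ∈ J ∨ x * t ∈ J := by
    intro x hx
    obtain ⟨w, hw, e⟩ := h.J_onto _ (h2 x hx)
    have hct : w⁻¹ * x * t = t * (w⁻¹ * x) := by
      have h3 : x * t * x⁻¹ * t⁻¹ = w * t * w⁻¹ * t⁻¹ := by
        rw [← commutatorElement_def, ← commutatorElement_def, e]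
      have h4 : x * t * x⁻¹ = w * t * w⁻¹ := mul_right_cancel h3
      calc w⁻¹ * x * t = w⁻¹ * (x * t * x⁻¹) * x := by group
        _ = t * (w⁻¹ * x) := by rw [h4]; group
    have hcQ : ∀ q ∈ Q1, w⁻¹ * x * q = q * (w⁻¹ * x) := by
      intro q hq
      have a1 := h1 x hx q hq
      have a2 := h.J_comm q (h.Q1_le_R hq) w⁻¹ (J.inv_mem hw)
      calc w⁻¹ * x * q = w⁻¹ * (x * q) := by group
        _ = w⁻¹ * q * x := by rw [a1]; group
        _ = q * (w⁻¹ * x) := by rw [← a2]; group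
    obtain ⟨z, hz, d, hd, e2⟩ := h.cent_Q1 hct hcQ
    have hdz := h.DP hd (h.Z_leP hz)
    have hdw := h.R_D w (h.J_le hw) d hd
    have hdt := h.D_t d hd
    have hwz : w * z ∈ J := J.mul_mem hw (h.Z_le_J hz)
    rcases e2 with e2 | e2
    · left
      have e3 : x = w * z * d := by
        have : x = w * (w⁻¹ * x) := by group
        rw [this, e2]; group
      have : d = 1 := by
        apply eq_one_of_mul h.D_odd hd (h.R_D _ (h.J_le hwz) d hd) (exists_pow h.R_two (h.J_le hwz))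
        rw [← e3]
        exact exists_pow hXp hx
      rw [e3, this, mul_one]; exact hwz
    · right
      have htz := h.tQ (h.Z_le hz)
      have e3 : x = w * z * t * d := by
        have : x = w * (w⁻¹ * x) := by group
        rw [this, e2]
        calc w * (t * (z * d)) = w * (t * z) * d := by group
          _ = w * z * t * d := by rw [← htz]; group
      have : d = 1 := by
        apply eq_one_of_mul h.D_odd hd (b := w * z * t)
        · calc w * z * t * d = w * z * (t * d) := by group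
            _ = w * z * d * t := by rw [← hdt]; group
            _ = d * (w * z * t) := by rw [h.R_D _ (h.J_le hwz) d hd]; group
        · -- `(w z t)^4 = 1`
          refine ⟨2, ?_⟩
          have hj := h.conj_t hwz
          have hz' := h.J_t _ hwz
          have htz' := h.tQ (h.Z_le hz')
          have hzz : ⁅w * z, t⁆ * ⁅w * z, t⁆ = 1 := h.J_sq _ (h.Z_le_J hz')
          have hww : w * z * (w * z) = 1 := h.J_sq _ hwz
          have hwi : (w * z)⁻¹ = w * z := inv_eq_of_mul_eq_one_right hww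
          have h5 : w * z * t * (w * z * t) = ⁅w * z, t⁆ := by
            rw [commutatorElement_def, h.ti, hwi]
            group
          calc (w * z * t) ^ 2 ^ 2 = (w * z * t * (w * z * t)) * (w * z * t * (w * z * t)) := by
                rw [show (2 : ℕ) ^ 2 = 2 + 2 from rfl, pow_add, pow_two]
            _ = 1 := by rw [h5, hzz]
        · rw [← e3]
          exact exists_pow hXp hx
      have e4 : x * t = w * z := by
        rw [e3, this, mul_one, mul_assoc, h.t_sq, mul_one]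
      rw [e4]; exact hwz
  -- `C_J(t) = Z`
  have hJt : ∀ w ∈ J, w * t = t * w → w ∈ Z := by
    intro w hw hwt
    obtain ⟨z, hz, d, hd, e⟩ := h.cent_Q1 hwt (fun q hq => (h.J_comm q (h.Q1_le_R hq) _ hw).symm)
    have hdz := h.DP hd (h.Z_leP hz)
    rcases e with e | e
    · have : d = 1 := by
        apply eq_one_of_mul h.D_odd hd hdz.symm
          (exists_pow h.R_two (h.Q1_le_R (h.Z_le hz)))
        rw [← e]
        exact exists_pow h.R_two (h.J_le hw)
      rw [e, this, mul_one]; exact hz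
    · exfalso
      apply h.not_cent (q := z * d)
      · intro w' hw'
        have b1 := h.J_comm z (h.Q1_le_R (h.Z_le hz)) w' hw'
        have b2 := h.R_D w' (h.J_le hw') d hd
        calc z * d * w' = z * (d * w') := by group
          _ = z * w' * d := by rw [← b2]; group
          _ = w' * (z * d) := by rw [b1]; group
      · intro w' hw'
        rw [← e]
        exact h.J_comm w (h.J_le hw) w' hw'
  have hle : X ≤ J := by
    by_contra hne
    obtain ⟨x, hx, hxJ⟩ := SetLike.not_le_iff_exists.1 hne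
    have hxt : x * t ∈ J := (key x hx).resolve_left hxJ
    -- `X ⊆ Z ∪ Z x`
    have h5 : ∀ y ∈ X, y ∈ J → y ∈ Z := by
      intro y hy hyJ
      apply hJt y hyJ
      have a1 := hc y hy x hx
      have a2 := h.J_comm y (h.J_le hyJ) _ hxt
      have : x * (y * t) = x * (t * y) := by
        calc x * (y * t) = (x * y) * t := by group
          _ = y * x * t := by rw [← a1]
          _ = y * (x * t) := by group
          _ = x * t * y := a2
          _ = x * (t * y) := by group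
      exact mul_left_cancel this
    have h6 : ∀ y ∈ X, y ∉ J → y * x⁻¹ ∈ Z := by
      intro y hy hyJ
      apply h5 _ (X.mul_mem hy (X.inv_mem hx))
      have hyt : y * t ∈ J := (key y hy).resolve_left hyJ
      have : y * x⁻¹ = y * t * (x * t)⁻¹ := by group
      rw [this]
      exact J.mul_mem hyt (J.inv_mem hxt)
    classical
    have h7 : Nat.card X ≤ Nat.card (Z ⊓ X : Subgroup G) * Nat.card Bool := by
      apply card_le_of_fib inf_le_right (fun y : X => decide ((y : G) ∈ J))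
      intro s s' hss
      have h8 : ((s : G) ∈ J) ↔ ((s' : G) ∈ J) := by simpa using hss
      refine ⟨?_, X.mul_mem (X.inv_mem s.2) s'.2⟩
      by_cases hs : (s : G) ∈ J
      · exact Z.mul_mem (Z.inv_mem (h5 _ s.2 hs)) (h5 _ s'.2 (h8.1 hs))
      · have b1 := h6 _ s.2 hs
        have b2 := h6 _ s'.2 (fun hh => hs (h8.2 hh))
        have b3 := Z.mul_mem (Z.inv_mem b1) b2
        have b4 : (s : G)⁻¹ * s' = x⁻¹ * (((s : G) * x⁻¹)⁻¹ * ((s' : G) * x⁻¹)) * x := by group
        have b5 : (s : G)⁻¹ * s' = ((s : G) * x⁻¹)⁻¹ * ((s' : G) * x⁻¹) := by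
          rw [b4]
          have b6 := h.Z_le b3
          have b7 := h1 x hx _ b6
          calc x⁻¹ * (((s : G) * x⁻¹)⁻¹ * ((s' : G) * x⁻¹)) * x
              = x⁻¹ * ((((s : G) * x⁻¹)⁻¹ * ((s' : G) * x⁻¹)) * x) := by group
            _ = _ := by rw [← b7]; group
        show (s : G)⁻¹ * s' ∈ Z
        rw [b5]; exact b3
    have h9 : Nat.card (Z ⊓ X : Subgroup G) ≤ Nat.card Z := Subgroup.card_le_of_le inf_le_left
    rw [h.card_Z] at h9
    rw [hX] at h7
    have : Nat.card Bool = 2 := by simp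
    rw [this] at h7
    omega
  exact Subgroup.eq_of_le_of_card_ge hle (by rw [h.card_J, hX])

/-- `C_J(t) = Z` -/
theorem cent_J [Finite G] {w : G} (hw : w ∈ J) (hwt : w * t = t * w) : w ∈ Z := by
  obtain ⟨z, hz, d, hd, e⟩ := h.cent_Q1 hwt (fun q hq => (h.J_comm q (h.Q1_le_R hq) _ hw).symm)
  have hdz := h.DP hd (h.Z_leP hz)
  rcases e with e | e
  · have : d = 1 := by
      apply eq_one_of_mul h.D_odd hd hdz.symm
        (exists_pow h.R_two (h.Q1_le_R (h.Z_le hz)))
      rw [← e]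
      exact exists_pow h.R_two (h.J_le hw)
    rw [e, this, mul_one]; exact hz
  · exfalso
    apply h.not_cent (q := z * d)
    · intro w' hw'
      have b1 := h.J_comm z (h.Q1_le_R (h.Z_le hz)) w' hw'
      have b2 := h.R_D w' (h.J_le hw') d hd
      calc z * d * w' = z * (d * w') := by group
        _ = z * w' * d := by rw [← b2]; group
        _ = w' * (z * d) := by rw [b1]; group
    · intro w' hw'
      rw [← e]
      exact h.J_comm w (h.J_le hw) w' hw'

/-- elements of `C(t)` normalising `Z` normalise `P` -/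
theorem conj_P {c : G} (hct : c * t = t * c) (hcZ : ∀ z ∈ Z, c⁻¹ * z * c ∈ Z) {p : G} (hp : p ∈ P) :
    c * p * c⁻¹ ∈ P := by
  apply h.cent_Z _ (h.A_norm c hct p (h.P_le hp))
  intro z hz
  have h1 := h.P_Z p hp _ (hcZ z hz)
  calc c * p * c⁻¹ * z = c * (p * (c⁻¹ * z * c)) * c⁻¹ := by group
    _ = z * (c * p * c⁻¹) := by rw [h1]; group

theorem conj_Q1 {c : G} (hct : c * t = t * c) (hcZ : ∀ z ∈ Z, c⁻¹ * z * c ∈ Z)
    (hcZ' : ∀ z ∈ Z, c * z * c⁻¹ ∈ Z) {q : G} (hq : q ∈ Q1) : c * q * c⁻¹ ∈ Q1 := by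
  have hct' : c⁻¹ * t = t * c⁻¹ := by
    calc c⁻¹ * t = c⁻¹ * (t * c) * c⁻¹ := by group
      _ = t * c⁻¹ := by rw [← hct]; group
  have key : Q1.map (MulAut.conj c).toMonoidHom ≤ Q1 := by
    apply h.core_P
    · intro x hx
      rw [mem_map_conj] at hx
      have := h.conj_P hct hcZ (h.Q1_leP hx)
      have e : c * (c⁻¹ * x * c) * c⁻¹ = x := by group
      rwa [e] at this
    · intro p hp x hx
      rw [mem_map_conj] at hx ⊢
      have h2 := h.conj_P hct' (c := c⁻¹) (by simpa using hcZ') hp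
      have e : c⁻¹ * (p * x * p⁻¹) * c = c⁻¹ * p * c⁻¹⁻¹ * (c⁻¹ * x * c) * (c⁻¹ * p * c⁻¹⁻¹)⁻¹ := by
        group
      rw [e]
      exact h.norm_Q1 _ h2 _ hx
    · exact isPGroup_map (isPGroup_of_card h.card_Q1) c
  apply key
  rw [mem_map_conj]
  have : c⁻¹ * (c * q * c⁻¹) * c = q := by group
  rw [this]; exact hq

/-- elements of `C(t)` normalising `Z` normalise `R` -/
theorem mem_normalizer [Finite G] {c : G} (hct : c * t = t * c) (hcZ : ∀ z ∈ Z, c⁻¹ * z * c ∈ Z)
    (hcZ' : ∀ z ∈ Z, c * z * c⁻¹ ∈ Z) : c ∈ normalizer (R : Set G) := by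
  have hct' : c⁻¹ * t = t * c⁻¹ := by
    calc c⁻¹ * t = c⁻¹ * (t * c) * c⁻¹ := by group
      _ = t * c⁻¹ := by rw [← hct]; group
  have hQ : ∀ q ∈ Q1, c * q * c⁻¹ ∈ Q1 := fun q hq => h.conj_Q1 hct hcZ hcZ' hq
  have hQ' : ∀ q ∈ Q1, c⁻¹ * q * c ∈ Q1 := by
    intro q hq
    have := h.conj_Q1 hct' (c := c⁻¹) (by simpa using hcZ') (by simpa using hcZ) hq
    simpa using this
  have ht1 : c⁻¹ * t * c = t := by rw [hct']; group
  have hJ : J.map (MulAut.conj c).toMonoidHom = J := by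
    apply h.eq_J
    · rw [card_map_conj, h.card_J]
    · intro x hx y hy
      rw [mem_map_conj] at hx hy
      have := h.J_comm _ (h.J_le hx) _ hy
      calc x * y = c * ((c⁻¹ * x * c) * (c⁻¹ * y * c)) * c⁻¹ := by group
        _ = y * x := by rw [this]; group
    · intro x hx q hq
      rw [mem_map_conj] at hx
      have := h.J_comm _ (h.Q1_le_R (hQ' q hq)) _ hx
      calc x * q = c * ((c⁻¹ * x * c) * (c⁻¹ * q * c)) * c⁻¹ := by group
        _ = q * x := by rw [← this]; group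
    · intro x hx
      rw [mem_map_conj] at hx
      have h1 := hcZ' _ (h.J_t _ hx)
      have h2 : c * ⁅c⁻¹ * x * c, t⁆ * c⁻¹ = ⁅x, t⁆ := by
        conv_lhs => rw [← ht1, conj_comm']
        group
      rwa [h2] at h1
  have hJ1 : ∀ w ∈ J, c * w * c⁻¹ ∈ J := by
    intro w hw
    rw [← hJ, mem_map_conj]
    have : c⁻¹ * (c * w * c⁻¹) * c = w := by group
    rw [this]; exact hw
  have hJ2 : ∀ w ∈ J, c⁻¹ * w * c ∈ J := by
    intro w hw
    rw [← hJ, mem_map_conj] at hw
    exact hw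
  have hR : R.map (MulAut.conj c).toMonoidHom ≤ R := by
    apply h.le_R (isPGroup_map h.R_two c)
    · intro x hx w hw
      rw [mem_map_conj] at hx
      have := h.J_comm _ hx _ (hJ2 w hw)
      calc x * w = c * ((c⁻¹ * x * c) * (c⁻¹ * w * c)) * c⁻¹ := by group
        _ = w * x := by rw [this]; group
    · intro x hx q hq
      rw [mem_map_conj] at hx
      have := hJ1 _ (h.R_comm _ hx _ (h.Q1_le_R (hQ' q hq)))
      rw [conj_comm'] at this
      have e : c * (c⁻¹ * ⁅x, q⁆ * c) * c⁻¹ = ⁅x, q⁆ := by group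
      rwa [e] at this
    · intro x hx
      rw [mem_map_conj] at hx
      obtain ⟨q, hq, w, hw, e⟩ := h.R_t _ hx
      refine ⟨_, hQ q hq, _, hJ1 w hw, ?_⟩
      have h2 : ⁅c⁻¹ * x * c, t⁆ = c⁻¹ * ⁅x, t⁆ * c := by
        conv_lhs => rw [← ht1, conj_comm']
      rw [h2] at e
      calc ⁅x, t⁆ = c * (c⁻¹ * ⁅x, t⁆ * c) * c⁻¹ := by group
        _ = c * q * c⁻¹ * (c * w * c⁻¹) := by rw [e]; group
  have hR' : R.map (MulAut.conj c).toMonoidHom = R :=
    Subgroup.eq_of_le_of_card_ge hR (by rw [card_map_conj])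
  rw [mem_normalizer_iff]
  intro r
  constructor
  · intro hr
    rw [← SetLike.mem_coe, SetLike.mem_coe] at *
    apply hR
    rw [mem_map_conj]
    have : c⁻¹ * (c * r * c⁻¹) * c = r := by group
    rw [this]; exact hr
  · intro hr
    rw [← hR', mem_map_conj] at hr
    have : c⁻¹ * (c * r * c⁻¹) * c = r := by group
    rwa [this] at hr

/-- `C_A(U) ≤ Z` -/
theorem center_U {a : G} (ha : a ∈ A) (hc : ∀ u ∈ U, a * u = u * a) : a ∈ Z := by
  have h1 : a ∈ P := h.cent_Z a ha (fun z hz => hc z (h.Q1_le (h.Z_le hz)))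
  have h2 : a ∈ Q1 := by
    apply h.cent_Q1Z a h1
    intro q hq
    have : ⁅a, q⁆ = 1 := by
      rw [commutatorElement_def, hc q (h.Q1_le hq)]; group
    rw [this]; exact Z.one_mem
  exact h.center_Q1 a h2 (fun q hq => hc q (h.Q1_le hq))

theorem U_two : IsPGroup 2 U := isPGroup_of_card h.card_U

/-- **the index of `C_{N(R)}(t)` in `C(t)` is odd** -/
theorem odd_index [Finite G] : Odd ((normalizer (R : Set G)).relIndex (centralizer {t})) := by
  have : Fact (Nat.Prime 2) := ⟨Nat.prime_two⟩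
  set C := centralizer ({t} : Set G) with hC
  have hCt : ∀ c ∈ C, c * t = t * c := by
    intro c hc
    rw [hC, mem_centralizer_singleton_iff] at hc
    exact hc
  have hUC : U ≤ C := by
    intro u hu
    rw [hC, mem_centralizer_singleton_iff]
    exact h.tP (h.U_le hu)
  have hU' : IsPGroup 2 (U.subgroupOf C) := by
    apply IsPGroup.of_card (n := 12)
    rw [← h.card_U]
    exact Nat.card_congr (subgroupOfEquivOfLe hUC).toEquiv
  obtain ⟨T, hT⟩ := hU'.exists_le_sylow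
  set T1 : Subgroup G := (T : Subgroup C).map C.subtype with hT1
  have hT1C : T1 ≤ C := by
    rintro x hx
    obtain ⟨y, _, rfl⟩ := mem_map.1 hx
    exact y.2
  have hUT : U ≤ T1 := by
    intro u hu
    exact mem_map.2 ⟨⟨u, hUC hu⟩, hT (by rw [mem_subgroupOf]; exact hu), rfl⟩
  have hT1p : IsPGroup 2 T1 := T.isPGroup'.map _
  have hTA : T1 ⊓ A ≤ U :=
    le_of_odd (le_inf hUT (h.U_le.trans h.P_le)) inf_le_right
      (hT1p.to_le inf_le_left) h.odd_A
  have hTn : T1 ≤ normalizer (R : Set G) := by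
    have key : ∀ c ∈ T1, ∀ z ∈ Z, c * z * c⁻¹ ∈ Z := by
      intro c hc z hz
      have hzU : z ∈ U := h.Q1_le (h.Z_le hz)
      have hcU : ∀ c ∈ T1, ∀ u ∈ U, c * u * c⁻¹ ∈ U := by
        intro c hc u hu
        apply hTA
        exact ⟨T1.mul_mem (T1.mul_mem hc (hUT hu)) (T1.inv_mem hc),
          h.A_norm c (hCt c (hT1C hc)) u (h.P_le (h.U_le hu))⟩
      apply h.center_U (h.A_norm c (hCt c (hT1C hc)) z (h.P_le (h.Z_leP hz)))
      intro u hu
      have h2 := hcU c⁻¹ (T1.inv_mem hc) u hu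
      rw [inv_inv] at h2
      have h3 := h.P_Z _ (h.U_le h2) z hz
      calc c * z * c⁻¹ * u = c * (z * (c⁻¹ * u * c)) * c⁻¹ := by group
        _ = u * (c * z * c⁻¹) := by rw [← h3]; group
    intro c hc
    apply h.mem_normalizer (hCt c (hT1C hc))
    · intro z hz
      have := key c⁻¹ (T1.inv_mem hc) z hz
      rwa [inv_inv] at this
    · exact key c hc
  have h1 : (normalizer (R : Set G)).relIndex C ∣ T1.relIndex C :=
    Subgroup.relIndex_dvd_of_le_left C hTn
  have h2 : T1.relIndex C = (T : Subgroup C).index := by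
    rw [Subgroup.relIndex]
    congr 1
    ext x
    rw [mem_subgroupOf, hT1, mem_map]
    constructor
    · rintro ⟨y, hy, e⟩
      have : y = x := Subtype.ext e
      rwa [← this]
    · intro hx
      exact ⟨x, hx, rfl⟩
  have h3 : Odd (T : Subgroup C).index := by
    rw [← Nat.not_even_iff_odd]
    intro he
    exact T.not_dvd_index he.two_dvd
  rw [h2] at h1
  exact Odd.of_dvd_nat h3 h1

/-- **no conjugate of `t` lies in `R`** -/
theorem no_conj [Finite G] {r : G} (hr : r ∈ R) : ¬ IsConj t r := by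
  intro hc
  obtain ⟨g, hg⟩ := isConj_iff.1 hc
  -- `C_R(r)` has order at least `2^16`
  have h1 : Nat.card R ≤ Nat.card (R ⊓ centralizer {r} : Subgroup G) * Nat.card J := by
    apply card_le_of_fib inf_le_left (fun s : R => (⟨⁅(s : G), r⁆, h.R_comm s s.2 r hr⟩ : J))
    intro s s' e
    have e1 : (s : G) * r * (s : G)⁻¹ * r⁻¹ = s' * r * (s' : G)⁻¹ * r⁻¹ := by
      have := congrArg Subtype.val e
      simpa only [commutatorElement_def] using this
    have e2 : (s : G) * r * (s : G)⁻¹ = s' * r * (s' : G)⁻¹ := mul_right_cancel e1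
    refine ⟨R.mul_mem (R.inv_mem s.2) s'.2, ?_⟩
    show (s : G)⁻¹ * s' ∈ centralizer {r}
    rw [mem_centralizer_singleton_iff]
    calc (s : G)⁻¹ * s' * r = (s : G)⁻¹ * (s' * r * (s' : G)⁻¹) * s' := by group
      _ = r * ((s : G)⁻¹ * s') := by rw [← e2]; group
  rw [h.card_R, h.card_J] at h1
  set X := (R ⊓ centralizer {r} : Subgroup G) with hX
  have h2 : IsPGroup 2 (X.map (MulAut.conj g⁻¹).toMonoidHom) :=
    isPGroup_map (h.R_two.to_le inf_le_left) _
  have h3 := h.card_C _ h2 (by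
    intro x hx
    rw [mem_map_conj] at hx
    have h4 : g⁻¹⁻¹ * x * g⁻¹ * r = r * (g⁻¹⁻¹ * x * g⁻¹) := by
      have := hx.2
      exact mem_centralizer_singleton_iff.1 this
    rw [← hg, inv_inv] at h4
    calc x * t = g⁻¹ * (g * x * g⁻¹ * (g * t * g⁻¹)) * g := by group
      _ = t * x := by rw [h4]; group)
  rw [card_map_conj] at h3
  have : (2 : ℕ) ^ 20 = 2 ^ 16 * 16 := by norm_num
  rw [this] at h1
  have := Nat.le_of_mul_le_mul_right h1 (by norm_num)
  omega

/-- elements of 2-power order of `C(t) ∩ C(Z)` -/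
theorem cent_two [Finite G] {g : G} (hgt : g * t = t * g) (hgZ : ∀ z ∈ Z, g * z = z * g)
    (hg2 : ∃ k, g ^ 2 ^ k = 1) : g ∈ P ∨ t * g ∈ P := by
  obtain ⟨p, hp, d, hd, e⟩ := h.cent g hgt hgZ
  obtain ⟨k, hk⟩ := hg2
  have hk1 : g ^ 2 ^ (k + 1) = 1 := pow_two_pow hk (Nat.le_succ k)
  have hdp := h.DP hd hp
  have hdt := h.D_t d hd
  have htp := h.tP hp
  have e1 : g ^ 2 ^ (k + 1) = p ^ 2 ^ (k + 1) * d ^ 2 ^ (k + 1) := by
    rcases e with e | e
    · rw [e]
      exact Commute.mul_pow (show Commute p d from hdp.symm) _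
    · have c1 : Commute t (p * d) := by
        show t * (p * d) = p * d * t
        calc t * (p * d) = t * p * d := by group
          _ = p * (t * d) := by rw [← htp]; group
          _ = p * d * t := by rw [← hdt]; group
      rw [e, c1.mul_pow, Commute.mul_pow (show Commute p d from hdp.symm)]
      have : t ^ 2 ^ (k + 1) = 1 := by
        rw [pow_succ', pow_mul, pow_two, h.t_sq, one_pow]
      rw [this, one_mul]
  rw [hk1] at e1
  have e2 : p ^ 2 ^ (k + 1) = (d ^ 2 ^ (k + 1))⁻¹ := eq_inv_of_mul_eq_one_left e1.symm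
  have h1 : p ^ 2 ^ (k + 1) ∈ Z := by
    apply h.center_U (A.pow_mem (h.P_le hp) _)
    intro u hu
    rw [e2]
    exact h.D_A _ (D.inv_mem (D.pow_mem hd _)) u (h.P_le (h.U_le hu))
  have h2 : p ^ 2 ^ (k + 1) * p ^ 2 ^ (k + 1) = 1 := h.J_sq _ (h.Z_le_J h1)
  have h3 : d = 1 := by
    apply eq_one_of_mul h.D_odd hd (b := 1) (by group) ⟨0, by simp⟩
    refine ⟨k + 2, ?_⟩
    rw [one_mul, show k + 2 = k + 1 + 1 from rfl, pow_succ, pow_mul, pow_two]
    have : d ^ 2 ^ (k + 1) = (p ^ 2 ^ (k + 1))⁻¹ := by rw [e2, inv_inv]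
    rw [this, ← mul_inv_rev, h2, inv_one]
  rw [h3, mul_one] at e
  rcases e with e | e
  · left; rw [e]; exact hp
  · right
    rw [e, ← mul_assoc, h.t_sq, one_mul]
    exact hp

/-- `C_P(U)`, `p` with `[p, u]` taking at most the values `1, v` for `u ∈ U`, `v ∈ Z`, lies in `Z`. -/
theorem mem_Z_of_comm {p v : G} (hp : p ∈ P) (hv : v ∈ Z) (hpu : ∀ u ∈ U, ⁅p, u⁆ = 1 ∨ ⁅p, u⁆ = v) :
    p ∈ Z := by
  have h1 : p ∈ Q1 := by
    apply h.cent_Q1Z p hp
    intro q hq
    rcases hpu q (h.Q1_le hq) with e | e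
    · rw [e]; exact Z.one_mem
    · rw [e]; exact hv
  by_contra hpZ
  -- an element of `Z` different from `1`, `v`
  have h2 : ∃ z ∈ Z, z ≠ 1 ∧ z ≠ v := by
    by_contra hne
    push Not at hne
    have h3 : Nat.card Z ≤ 2 := by
      classical
      have : Nat.card Z ≤ Nat.card Bool := by
        have hinj : Function.Injective (fun z : Z => decide ((z : G) = 1)) := by
          intro a b hab
          have h4 : ((a : G) = 1) ↔ ((b : G) = 1) := by simpa using hab
          apply Subtype.ext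
          by_cases ha : (a : G) = 1
          · rw [ha, h4.1 ha]
          · rw [hne a a.2 ha, hne b b.2 (fun hb => ha (h4.2 hb))]
        exact Nat.card_le_card_of_injective _ hinj
      simpa using this
    have := h.card_Z
    omega
  obtain ⟨z, hz, hz1, hzv⟩ := h2
  obtain ⟨q, hq, e⟩ := h.full_Q1 p h1 hpZ z hz
  rcases hpu q (h.Q1_le hq) with e' | e'
  · exact hz1 (by rw [← e, e'])
  · exact hzv (by rw [← e, e'])

/-- an element acting on `Q1` with `[x, q] ∈ {1, v}`, `v ∈ Z`, centralises `Z` -/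
theorem comm_Z_of_comm {x v : G} (hv : v ∈ Z) (hxq : ∀ q ∈ Q1, ⁅x, q⁆ = 1 ∨ ⁅x, q⁆ = v) :
    ∀ z ∈ Z, x * z = z * x := by
  intro z hz
  -- `z` is a commutator
  by_cases hQ : ∀ b ∈ Q1, b ∈ Z
  · exfalso
    have : Nat.card Q1 ≤ Nat.card Z := by
      have hle : Q1 ≤ Z := hQ
      have : Q1 = Z := le_antisymm hle h.Z_le
      rw [this]
    rw [h.card_Q1, h.card_Z] at this
    omega
  push Not at hQ
  obtain ⟨b, hb, hbZ⟩ := hQ
  obtain ⟨q, hq, e⟩ := h.full_Q1 b hb hbZ z hz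
  have hx : ∀ y ∈ Q1, ∃ i : G, i ∈ Z ∧ x * y * x⁻¹ = i * y := by
    intro y hy
    have e0 : x * y * x⁻¹ = ⁅x, y⁆ * y := by rw [commutatorElement_def]; group
    rcases hxq y hy with e' | e'
    · exact ⟨1, Z.one_mem, by rw [e0, e']⟩
    · exact ⟨v, hv, by rw [e0, e']⟩
  obtain ⟨i, hi, ei⟩ := hx b hb
  obtain ⟨j, hj, ej⟩ := hx q hq
  have hib := h.P_Z b (h.Q1_leP hb) i hi
  have hiq := h.P_Z q (h.Q1_leP hq) i hi
  have hjb := h.P_Z b (h.Q1_leP hb) j hj
  have hjq := h.P_Z q (h.Q1_leP hq) j hj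
  have hij := h.P_Z i (h.Z_leP hi) j hj
  have e2 : x * z * x⁻¹ = z := by
    calc x * z * x⁻¹ = ⁅x * b * x⁻¹, x * q * x⁻¹⁆ := by rw [conj_comm, e]
      _ = ⁅b, q⁆ := by
        rw [ei, ej]
        have c1 : Commute i b := hib.symm
        have c2 : Commute i q := hiq.symm
        have c3 : Commute j b := hjb.symm
        have c4 : Commute j q := hjq.symm
        have c5 : Commute i j := hij
        rw [commutatorElement_def, commutatorElement_def, mul_inv_rev, mul_inv_rev]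
        calc i * b * (j * q) * (b⁻¹ * i⁻¹) * (q⁻¹ * j⁻¹)
            = i * (b * j) * q * b⁻¹ * (i⁻¹ * q⁻¹) * j⁻¹ := by group
          _ = i * (j * b) * q * b⁻¹ * (q⁻¹ * i⁻¹) * j⁻¹ := by
              rw [hjb, (c2.inv_left.inv_right).eq]
          _ = (i * j) * (b * q * b⁻¹ * q⁻¹) * i⁻¹ * j⁻¹ := by group
          _ = (b * q * b⁻¹ * q⁻¹) * (i * j) * i⁻¹ * j⁻¹ := by
              have hc : ⁅b, q⁆ ∈ Z := h.comm_Q1 b hb q hq
              rw [commutatorElement_def] at hc
              have hQ := h.Z_leP hc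
              have := h.P_Z _ hQ (i * j) (Z.mul_mem hi hj)
              rw [this]
          _ = b * q * b⁻¹ * q⁻¹ * ((i * j) * (j * i)⁻¹) := by group
          _ = b * q * b⁻¹ * q⁻¹ := by rw [hij]; group
      _ = z := e
  calc x * z = x * z * x⁻¹ * x := by group
    _ = z * x := by rw [e2]

/-- the projection of `C_S(t)` to `P` -/
def F1 (S : Subgroup G) : Subgroup G where
  carrier := {p | p ∈ P ∧ (p ∈ (S ⊓ centralizer {t} : Subgroup G) ∨
    t * p ∈ (S ⊓ centralizer {t} : Subgroup G))}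
  one_mem' := ⟨P.one_mem, Or.inl (Subgroup.one_mem _)⟩
  mul_mem' := by
    rintro a b ⟨ha, ha'⟩ ⟨hb, hb'⟩
    refine ⟨P.mul_mem ha hb, ?_⟩
    have hta := h.tP ha
    rcases ha' with ha' | ha' <;> rcases hb' with hb' | hb'
    · exact Or.inl (Subgroup.mul_mem _ ha' hb')
    · right
      have : t * (a * b) = a * (t * b) := by rw [← mul_assoc, ← hta]; group
      rw [this]
      exact Subgroup.mul_mem _ ha' hb'
    · right
      rw [← mul_assoc]
      exact Subgroup.mul_mem _ ha' hb'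
    · left
      have : a * b = t * a * (t * b) := by
        calc a * b = t * t * (a * b) := by rw [h.t_sq, one_mul]
          _ = t * (t * a) * b := by group
          _ = t * (a * t) * b := by rw [hta]
          _ = t * a * (t * b) := by group
      rw [this]
      exact Subgroup.mul_mem _ ha' hb'
  inv_mem' := by
    rintro a ⟨ha, ha'⟩
    refine ⟨P.inv_mem ha, ?_⟩
    rcases ha' with ha' | ha'
    · exact Or.inl (Subgroup.inv_mem _ ha')
    · right
      have h1 := Subgroup.inv_mem _ ha'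
      have h2 := h.tP (P.inv_mem ha)
      have : t * a⁻¹ = (t * a)⁻¹ := by rw [mul_inv_rev, h.ti, h2]
      rw [this]; exact h1

theorem mem_F1 {S : Subgroup G} {p : G} : p ∈ h.F1 S ↔ p ∈ P ∧ (p ∈ (S ⊓ centralizer {t} : Subgroup G) ∨
    t * p ∈ (S ⊓ centralizer {t} : Subgroup G)) := Iff.rfl

end Hyp

/-- The conjugate configuration `S = R^g`, `I = J^g`. -/
structure Conj (U J R : Subgroup G) (t : G) (S I : Subgroup G) (g : G) : Prop where
  hS : S = R.map (MulAut.conj g).toMonoidHom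
  hI : I = J.map (MulAut.conj g).toMonoidHom
  tS : ∀ s ∈ S, t * s * t⁻¹ ∈ S
  US : ∀ u ∈ U, ∀ s ∈ S, u * s * u⁻¹ ∈ S
  fix : Nat.card (I ⊓ centralizer {t} : Subgroup G) ≤ 4

namespace Conj

variable {A P Q1 U Z D J R S I : Subgroup G} {t g : G}
variable (c : Conj U J R t S I g) (h : Hyp A P Q1 U Z D J R t)
include c h

theorem mem_S {x : G} : x ∈ S ↔ g⁻¹ * x * g ∈ R := by rw [c.hS, mem_map_conj]

theorem mem_I {x : G} : x ∈ I ↔ g⁻¹ * x * g ∈ J := by rw [c.hI, mem_map_conj]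

theorem card_S : Nat.card S = 2 ^ 20 := by rw [c.hS, card_map_conj, h.card_R]

theorem card_I : Nat.card I = 16 := by rw [c.hI, card_map_conj, h.card_J]

theorem S_two : IsPGroup 2 S := isPGroup_of_card (c.card_S h)

theorem I_le : I ≤ S := by
  intro x hx
  rw [c.mem_I h] at hx
  rw [c.mem_S h]
  exact h.J_le hx

theorem S_comm {s s' : G} (hs : s ∈ S) (hs' : s' ∈ S) : ⁅s, s'⁆ ∈ I := by
  rw [c.mem_S h] at hs hs'
  rw [c.mem_I h, ← conj_comm']
  exact h.R_comm _ hs _ hs'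

theorem S_sq {s : G} (hs : s ∈ S) : s * s ∈ I := by
  rw [c.mem_S h] at hs
  rw [c.mem_I h]
  have := h.R_sq _ hs
  have e : g⁻¹ * s * g * (g⁻¹ * s * g) = g⁻¹ * (s * s) * g := by group
  rwa [e] at this

theorem I_comm {s i : G} (hs : s ∈ S) (hi : i ∈ I) : s * i = i * s := by
  rw [c.mem_S h] at hs
  rw [c.mem_I h] at hi
  have := h.J_comm _ hs _ hi
  calc s * i = g * ((g⁻¹ * s * g) * (g⁻¹ * i * g)) * g⁻¹ := by group
    _ = i * s := by rw [this]; group

theorem I_sq {i : G} (hi : i ∈ I) : i * i = 1 := by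
  rw [c.mem_I h] at hi
  have := h.J_sq _ hi
  calc i * i = g * ((g⁻¹ * i * g) * (g⁻¹ * i * g)) * g⁻¹ := by group
    _ = 1 := by rw [this]; group

theorem I_center {s : G} (hs : s ∈ S) (hc : ∀ s' ∈ S, s * s' = s' * s) : s ∈ I := by
  rw [c.mem_I h]
  rw [c.mem_S h] at hs
  apply h.R_center _ hs
  intro r hr
  have hr' : g * r * g⁻¹ ∈ S := by
    rw [c.mem_S h]
    have : g⁻¹ * (g * r * g⁻¹) * g = r := by group
    rw [this]; exact hr
  have := hc _ hr'
  calc g⁻¹ * s * g * r = g⁻¹ * (s * (g * r * g⁻¹)) * g := by group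
    _ = r * (g⁻¹ * s * g) := by rw [this]; group

theorem no_conj [Finite G] {s : G} (hs : s ∈ S) : ¬ IsConj t s := by
  intro hc
  rw [c.mem_S h] at hs
  apply h.no_conj hs
  refine hc.trans ?_
  rw [isConj_iff]
  exact ⟨g⁻¹, by rw [inv_inv]⟩

theorem conj_I {x : G} (hx : ∀ s ∈ S, x * s * x⁻¹ ∈ S) (hx' : ∀ s ∈ S, x⁻¹ * s * x ∈ S) {i : G}
    (hi : i ∈ I) : x * i * x⁻¹ ∈ I := by
  apply c.I_center h (hx _ (c.I_le h hi))
  intro s hs
  have := c.I_comm h (hx' s hs) hi
  calc x * i * x⁻¹ * s = x * (i * (x⁻¹ * s * x)) * x⁻¹ := by group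
    _ = s * (x * i * x⁻¹) := by rw [← this]; group

theorem tS' {s : G} (hs : s ∈ S) : t⁻¹ * s * t ∈ S := by
  have := c.tS s hs
  rw [h.ti] at this ⊢
  exact this

theorem tI {i : G} (hi : i ∈ I) : t * i * t⁻¹ ∈ I :=
  c.conj_I h c.tS (fun _ hs => c.tS' h hs) hi

theorem UI {u i : G} (hu : u ∈ U) (hi : i ∈ I) : u * i * u⁻¹ ∈ I := by
  apply c.conj_I h (c.US u hu) (fun s hs => ?_) hi
  have := c.US u⁻¹ (U.inv_mem hu) s hs
  rwa [inv_inv] at this

theorem comm_t_mem {s : G} (hs : s ∈ S) : ⁅s, t⁆ ∈ S := by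
  have : ⁅s, t⁆ = s * (t * s⁻¹ * t⁻¹) := by rw [commutatorElement_def]; group
  rw [this]
  exact S.mul_mem hs (c.tS _ (S.inv_mem hs))

theorem comm_t_fix {s : G} (hs : ⁅s, t⁆ ∈ I) : ⁅s, t⁆ * t = t * ⁅s, t⁆ := by
  have h1 := Tc h.t_sq s
  have h2 : ⁅s, t⁆⁻¹ = ⁅s, t⁆ := inv_eq_of_mul_eq_one_right (c.I_sq h hs)
  rw [h2] at h1
  calc ⁅s, t⁆ * t = t * ⁅s, t⁆ * t⁻¹ * t := by rw [h1]
    _ = t * ⁅s, t⁆ := by group

/-- `C_I(t)` -/
theorem card_fix_I [Finite G] : Nat.card (I ⊓ centralizer {t} : Subgroup G) = 4 := by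
  apply le_antisymm c.fix
  have h1 : Nat.card I ≤ Nat.card (I ⊓ centralizer {t} : Subgroup G) *
      Nat.card (I ⊓ centralizer {t} : Subgroup G) := by
    have hm : ∀ i ∈ I, ⁅i, t⁆ ∈ (I ⊓ centralizer {t} : Subgroup G) := by
      intro i hi
      have h2 : ⁅i, t⁆ ∈ I := by
        have : ⁅i, t⁆ = i * (t * i⁻¹ * t⁻¹) := by rw [commutatorElement_def]; group
        rw [this]
        exact I.mul_mem hi (c.tI h (I.inv_mem hi))
      exact mem_fix.2 ⟨h2, c.comm_t_fix h h2⟩
    apply card_le_of_fib inf_le_left (fun i : I => (⟨⁅(i : G), t⁆, hm i i.2⟩ :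
      (I ⊓ centralizer {t} : Subgroup G)))
    intro i i' e
    have e1 : (i : G) * t * (i : G)⁻¹ * t⁻¹ = i' * t * (i' : G)⁻¹ * t⁻¹ := by
      have := congrArg Subtype.val e
      simpa only [commutatorElement_def] using this
    have e2 := mul_right_cancel e1
    refine ⟨I.mul_mem (I.inv_mem i.2) i'.2, ?_⟩
    show (i : G)⁻¹ * i' ∈ centralizer {t}
    rw [mem_centralizer_singleton_iff]
    calc (i : G)⁻¹ * i' * t = (i : G)⁻¹ * (i' * t * (i' : G)⁻¹) * i' := by group
      _ = t * ((i : G)⁻¹ * i') := by rw [← e2]; group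
  rw [c.card_I h] at h1
  nlinarith [h1]

/-- the elements of `S` centralised by `t` modulo `I` -/
def K : Subgroup G where
  carrier := {s | s ∈ S ∧ ⁅s, t⁆ ∈ I}
  one_mem' := ⟨S.one_mem, by
    have : ⁅(1 : G), t⁆ = 1 := by rw [commutatorElement_def]; group
    rw [this]; exact I.one_mem⟩
  mul_mem' := by
    rintro a b ⟨ha, ha'⟩ ⟨hb, hb'⟩
    refine ⟨S.mul_mem ha hb, ?_⟩
    have e : ⁅a * b, t⁆ = ⁅b, t⁆ * ⁅a, t⁆ := by
      have h1 := c.I_comm h ha hb'
      calc ⁅a * b, t⁆ = a * ⁅b, t⁆ * (t * a⁻¹ * t⁻¹) := by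
            rw [commutatorElement_def, commutatorElement_def]; group
        _ = ⁅b, t⁆ * a * (t * a⁻¹ * t⁻¹) := by rw [h1]
        _ = ⁅b, t⁆ * ⁅a, t⁆ := by rw [commutatorElement_def a]; group
    rw [e]
    exact I.mul_mem hb' ha'
  inv_mem' := by
    rintro a ⟨ha, ha'⟩
    refine ⟨S.inv_mem ha, ?_⟩
    have h1 := c.I_comm h (S.inv_mem ha) (I.inv_mem ha')
    have e : ⁅a⁻¹, t⁆ = ⁅a, t⁆⁻¹ := by
      calc ⁅a⁻¹, t⁆ = a⁻¹ * (⁅a, t⁆⁻¹ * a) := by
            rw [commutatorElement_def, commutatorElement_def]; group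
        _ = ⁅a, t⁆⁻¹ := by rw [← mul_assoc, h1]; group
    rw [e]
    exact I.inv_mem ha'

theorem mem_K {s : G} : s ∈ c.K h ↔ s ∈ S ∧ ⁅s, t⁆ ∈ I := Iff.rfl

theorem comm_t_mem_K {s : G} (hs : s ∈ S) : ⁅s, t⁆ ∈ c.K h := by
  refine ⟨c.comm_t_mem h hs, ?_⟩
  have h1 := Tc h.t_sq s
  have : ⁅⁅s, t⁆, t⁆ = ⁅s, t⁆ * ⁅s, t⁆ := by
    calc ⁅⁅s, t⁆, t⁆ = ⁅s, t⁆ * (t * ⁅s, t⁆ * t⁻¹)⁻¹ := by
          rw [commutatorElement_def ⁅s, t⁆ t]; group
      _ = ⁅s, t⁆ * ⁅s, t⁆ := by rw [h1, inv_inv]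
  rw [this]
  exact c.S_sq h (c.comm_t_mem h hs)

theorem I_le_K : I ≤ c.K h := by
  intro i hi
  refine ⟨c.I_le h hi, ?_⟩
  have : ⁅i, t⁆ = i * (t * i⁻¹ * t⁻¹) := by rw [commutatorElement_def]; group
  rw [this]
  exact I.mul_mem hi (c.tI h (I.inv_mem hi))

theorem card_K [Finite G] : 2 ^ 12 ≤ Nat.card (c.K h) := by
  have h1 : Nat.card S ≤ Nat.card (c.K h) * Nat.card (↥(c.K h) ⧸ I.subgroupOf (c.K h)) := by
    apply card_le_of_fib (X := c.K h) (fun x hx => ((c.mem_K h).1 hx).1)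
      (fun s : S => (QuotientGroup.mk (⟨⁅(s : G), t⁆, c.comm_t_mem_K h s.2⟩ : c.K h) :
        ↥(c.K h) ⧸ I.subgroupOf (c.K h)))
    intro s s' e
    rw [QuotientGroup.eq, mem_subgroupOf] at e
    have e1 : ⁅(s : G), t⁆⁻¹ * ⁅(s' : G), t⁆ ∈ I := e
    refine ⟨S.mul_mem (S.inv_mem s.2) s'.2, ?_⟩
    have hts : t * (s : G) * t⁻¹ ∈ S := c.tS _ s.2
    have h2 := c.I_comm h hts e1
    have e2 : ⁅(s : G)⁻¹ * s', t⁆ =
        (t * s * t⁻¹)⁻¹ * (⁅(s : G), t⁆⁻¹ * ⁅(s' : G), t⁆) * (t * s * t⁻¹) := by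
      simp only [commutatorElement_def]; group
    have e3 : ⁅(s : G)⁻¹ * s', t⁆ = ⁅(s : G), t⁆⁻¹ * ⁅(s' : G), t⁆ := by
      rw [e2, mul_assoc, ← h2]; group
    rw [e3]; exact e1
  have h2 : Nat.card (↥(c.K h) ⧸ I.subgroupOf (c.K h)) * 16 = Nat.card (c.K h) := by
    have h3 := Subgroup.index_mul_card (I.subgroupOf (c.K h))
    have h4 : Nat.card (I.subgroupOf (c.K h)) = 16 := by
      rw [← c.card_I h]
      exact Nat.card_congr (subgroupOfEquivOfLe (c.I_le_K h)).toEquiv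
    rw [h4] at h3
    exact h3
  rw [c.card_S h] at h1
  set k := Nat.card (c.K h) with hk
  set m := Nat.card (↥(c.K h) ⧸ I.subgroupOf (c.K h)) with hm
  by_contra hlt
  push Not at hlt
  have : k * m < 2 ^ 20 := by
    have h5 : m < 2 ^ 8 := by omega
    calc k * m ≤ 2 ^ 12 * m := Nat.mul_le_mul_right _ hlt.le
      _ < 2 ^ 12 * 2 ^ 8 := Nat.mul_lt_mul_of_pos_left h5 (by norm_num)
      _ = 2 ^ 20 := by norm_num
  omega

theorem card_F [Finite G] : 2 ^ 10 ≤ Nat.card (S ⊓ centralizer {t} : Subgroup G) := by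
  have hm : ∀ s ∈ c.K h, ⁅s, t⁆ ∈ (I ⊓ centralizer {t} : Subgroup G) := by
    intro s hs
    exact mem_fix.2 ⟨hs.2, c.comm_t_fix h hs.2⟩
  have h1 : Nat.card (c.K h) ≤ Nat.card (S ⊓ centralizer {t} : Subgroup G) *
      Nat.card (I ⊓ centralizer {t} : Subgroup G) := by
    apply card_le_of_fib _ (fun s : c.K h => (⟨⁅(s : G), t⁆, hm s s.2⟩ :
      (I ⊓ centralizer {t} : Subgroup G)))
    · intro s s' e
      have e1 : (s : G) * t * (s : G)⁻¹ * t⁻¹ = s' * t * (s' : G)⁻¹ * t⁻¹ := by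
        have := congrArg Subtype.val e
        simpa only [commutatorElement_def] using this
      have e2 := mul_right_cancel e1
      refine ⟨S.mul_mem (S.inv_mem s.2.1) s'.2.1, ?_⟩
      show (s : G)⁻¹ * s' ∈ centralizer {t}
      rw [mem_centralizer_singleton_iff]
      calc (s : G)⁻¹ * s' * t = (s : G)⁻¹ * (s' * t * (s' : G)⁻¹) * s' := by group
        _ = t * ((s : G)⁻¹ * s') := by rw [← e2]; group
    · intro s hs'
      obtain ⟨hs, hst⟩ := mem_fix.1 hs'
      refine ⟨hs, ?_⟩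
      have : ⁅s, t⁆ = 1 := by rw [commutatorElement_def, hst]; group
      rw [this]; exact I.one_mem
  rw [c.card_fix_I h] at h1
  have h2 := c.card_K h
  have : (2 : ℕ) ^ 12 = 2 ^ 10 * 4 := by norm_num
  rw [this] at h2
  exact Nat.le_of_mul_le_mul_right (h2.trans h1) (by norm_num)

theorem exists_pow_S {s : G} (hs : s ∈ S) : ∃ k, s ^ 2 ^ k = 1 := exists_pow (c.S_two h) hs

/-- `t z` and `t` are not in `S` -/
theorem tz_notMem [Finite G] {z : G} (hz : z ∈ Z) : t * z ∉ S := fun hh => c.no_conj h hh (h.conj_tz hz)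

/-- **Step 1**: `C_I(t) = Z` -/
theorem fix_eq_Z [Finite G] : (I ⊓ centralizer {t} : Subgroup G) = Z := by
  set Z' := (I ⊓ centralizer {t} : Subgroup G) with hZ'
  have hcard : Nat.card Z' = 4 := c.card_fix_I h
  have hUZ : ∀ u ∈ U, ∀ n ∈ Z', u * n * u⁻¹ ∈ Z' := by
    intro u hu n hn
    obtain ⟨hn1, hn2⟩ := mem_fix.1 hn
    refine mem_fix.2 ⟨c.UI h hu hn1, ?_⟩
    have htu := h.tP (h.U_le hu)
    calc u * n * u⁻¹ * t = u * n * (u⁻¹ * t * u) * u⁻¹ := by group
      _ = u * n * t * u⁻¹ := by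
          have : u⁻¹ * t * u = t := by
            rw [mul_assoc, ← htu]; group
          rw [this]
      _ = u * t * n * u⁻¹ := by rw [mul_assoc u n t, hn2]; group
      _ = t * (u * n * u⁻¹) := by rw [htu]; group
  obtain ⟨v, hv, hv1, hvU⟩ := exists_fix h.U_two hUZ (by rw [hcard]; norm_num)
  obtain ⟨hvI, hvt⟩ := mem_fix.1 hv
  have hvU' : ∀ u ∈ U, v * u = u * v := by
    intro u hu
    have := hvU u hu
    calc v * u = u * v * u⁻¹ * u := by rw [this]
      _ = u * v := by group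
  -- `v ∈ Z`
  have hvZ : v ∈ Z := by
    have h1 := h.cent_two hvt (fun z hz => hvU' z (h.Q1_le (h.Z_le hz)))
      (c.exists_pow_S h (c.I_le h hvI))
    rcases h1 with h1 | h1
    · exact h.center_U (h.P_le h1) hvU'
    · exfalso
      have h2 : t * v ∈ Z := by
        apply h.center_U (h.P_le h1)
        intro u hu
        have htu := h.tP (h.U_le hu)
        calc t * v * u = t * (v * u) := by group
          _ = t * u * v := by rw [hvU' u hu]; group
          _ = u * (t * v) := by rw [← htu]; group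
      apply c.tz_notMem h h2
      have : t * (t * v) = v := by rw [← mul_assoc, h.t_sq, one_mul]
      rw [this]
      exact c.I_le h hvI
  -- the values of `[u, n]`
  have hval : ∀ n ∈ Z', ∀ u ∈ U, ⁅n, u⁆ = 1 ∨ ⁅n, u⁆ = v := by
    intro n hn u hu
    have hn2 : n * n = 1 := c.I_sq h (mem_fix.1 hn).1
    have hni : n⁻¹ = n := inv_eq_of_mul_eq_one_right hn2
    have hvi : v * v = 1 := c.I_sq h hvI
    have hcomm : ∀ a ∈ Z', ∀ b ∈ Z', a * b = b * a := by
      intro a ha b hb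
      exact c.I_comm h (c.I_le h (mem_fix.1 ha).1) (mem_fix.1 hb).1
    -- `Z' = {1, v, n, n v}` unless `n ∈ {1, v}`
    by_cases hn1 : n = 1
    · left; rw [hn1, commutatorElement_def]; group
    by_cases hnv : n = v
    · left
      rw [hnv, commutatorElement_def, hvU' u hu]; group
    have hall : ∀ m ∈ Z', m = 1 ∨ m = v ∨ m = n ∨ m = n * v := by
      classical
      intro m hm
      by_contra hne
      push Not at hne
      obtain ⟨m1, m2, m3, m4⟩ := hne
      have hnv' : n * v ∈ Z' := Z'.mul_mem hn hv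
      have hfin : Finite Z' := inferInstance
      have : ({⟨1, Z'.one_mem⟩, ⟨v, hv⟩, ⟨n, hn⟩, ⟨n * v, hnv'⟩, ⟨m, hm⟩} : Finset Z').card = 5 := by
        rw [Finset.card_insert_of_notMem, Finset.card_insert_of_notMem,
          Finset.card_insert_of_notMem, Finset.card_insert_of_notMem, Finset.card_singleton]
        · simp only [Finset.mem_singleton, Subtype.mk.injEq]
          exact fun e => m4 e.symm
        · simp only [Finset.mem_insert, Finset.mem_singleton, Subtype.mk.injEq, not_or]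
          refine ⟨fun e => hv1 ?_, fun e => m3 e.symm⟩
          have : n * v = n * 1 := by rw [← e, mul_one]
          exact mul_left_cancel this
        · simp only [Finset.mem_insert, Finset.mem_singleton, Subtype.mk.injEq, not_or]
          refine ⟨fun e => hnv e.symm, fun e => hn1 ?_, fun e => m2 e.symm⟩
          have : n * v = 1 * v := by rw [← e, one_mul]
          exact mul_right_cancel this
        · simp only [Finset.mem_insert, Finset.mem_singleton, Subtype.mk.injEq, not_or]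
          refine ⟨fun e => hv1 e.symm, fun e => hn1 e.symm, fun e => hnv ?_, fun e => m1 e.symm⟩
          have h3 : n = v⁻¹ := eq_inv_of_mul_eq_one_left e.symm
          rw [h3]
          exact inv_eq_of_mul_eq_one_right hvi
      have hft : Fintype Z' := Fintype.ofFinite _
      have h4 := Finset.card_le_univ
        ({⟨1, Z'.one_mem⟩, ⟨v, hv⟩, ⟨n, hn⟩, ⟨n * v, hnv'⟩, ⟨m, hm⟩} : Finset Z')
      rw [this, ← Nat.card_eq_fintype_card, hcard] at h4
      omega
    have hvu := hvU u hu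
    have h5 := hUZ u hu n hn
    have h6 : ⁅n, u⁆ = n * (u * n * u⁻¹) := by
      calc ⁅n, u⁆ = n * (u * n⁻¹ * u⁻¹) := by rw [commutatorElement_def]; group
        _ = n * (u * n * u⁻¹) := by rw [hni]
    rw [h6]
    rcases hall _ h5 with e | e | e | e
    · exfalso
      apply hn1
      calc n = u⁻¹ * (u * n * u⁻¹) * u := by group
        _ = 1 := by rw [e]; group
    · exfalso
      apply hnv
      calc n = u⁻¹ * (u * n * u⁻¹) * u := by group
        _ = u⁻¹ * (u * v * u⁻¹) * u := by rw [e, hvu]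
        _ = v := by group
    · left; rw [e, hn2]
    · right; rw [e, ← mul_assoc, hn2, one_mul]
  -- every element of `Z'` is in `Z`
  have hle : Z' ≤ Z := by
    intro n hn
    obtain ⟨hnI, hnt⟩ := mem_fix.1 hn
    have h1 := h.comm_Z_of_comm hvZ (fun q hq => hval n hn q (h.Q1_le hq))
    rcases h.cent_two hnt h1 (c.exists_pow_S h (c.I_le h hnI)) with h2 | h2
    · exact h.mem_Z_of_comm h2 hvZ (hval n hn)
    · exfalso
      have h3 : t * n ∈ Z := by
        apply h.mem_Z_of_comm h2 hvZ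
        intro u hu
        have htu := h.tP (h.U_le hu)
        have e : ⁅t * n, u⁆ = ⁅n, u⁆ := by
          have h4 : ⁅n, u⁆ * t = t * ⁅n, u⁆ := by
            rcases hval n hn u hu with e | e
            · rw [e]; group
            · rw [e]; exact hvt
          calc ⁅t * n, u⁆ = t * (n * u * n⁻¹) * t⁻¹ * u⁻¹ := by rw [commutatorElement_def]; group
            _ = t * ⁅n, u⁆ * (u * t⁻¹) * u⁻¹ := by rw [commutatorElement_def]; group
            _ = t * ⁅n, u⁆ * (t⁻¹ * u) * u⁻¹ := by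
                rw [h.ti, htu]
            _ = ⁅n, u⁆ := by rw [← h4]; group
        rw [e]
        exact hval n hn u hu
      apply c.tz_notMem h h3
      have : t * (t * n) = n := by rw [← mul_assoc, h.t_sq, one_mul]
      rw [this]
      exact c.I_le h hnI
  exact Subgroup.eq_of_le_of_card_ge hle (by rw [hcard, h.card_Z])

theorem fix_cases [Finite G] {f : G} (hf : f ∈ (S ⊓ centralizer {t} : Subgroup G)) :
    f ∈ P ∨ t * f ∈ P := by
  obtain ⟨hfS, hft⟩ := mem_fix.1 hf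
  apply h.cent_two hft _ (c.exists_pow_S h hfS)
  intro z hz
  rw [← c.fix_eq_Z h] at hz
  exact c.I_comm h hfS (mem_fix.1 hz).1

theorem t_notMem [Finite G] : t ∉ S := fun hh => c.no_conj h hh (IsConj.refl t)

/-- every element of `F1` is `f` or `t f`, `f ∈ C_S(t)` -/
theorem exists_f {p : G} (hp : p ∈ h.F1 S) :
    ∃ f ∈ (S ⊓ centralizer {t} : Subgroup G), p = f ∨ p = t * f := by
  rcases hp.2 with hh | hh
  · exact ⟨p, hh, Or.inl rfl⟩
  · exact ⟨_, hh, Or.inr (by rw [← mul_assoc, h.t_sq, one_mul])⟩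

theorem F1_two : IsPGroup 2 (h.F1 S) := by
  rintro ⟨p, hp⟩
  obtain ⟨f, hf, e⟩ := c.exists_f h hp
  obtain ⟨hfS, hft⟩ := mem_fix.1 hf
  obtain ⟨k, hk⟩ := c.exists_pow_S h hfS
  refine ⟨k + 1, ?_⟩
  apply Subtype.ext
  rw [Subgroup.coe_pow, Subgroup.coe_one]
  show p ^ 2 ^ (k + 1) = 1
  have h1 : f ^ 2 ^ (k + 1) = 1 := pow_two_pow hk (Nat.le_succ k)
  rcases e with e | e
  · rw [e, h1]
  · rw [e, Commute.mul_pow (show Commute t f from hft.symm), h1, mul_one, pow_succ', pow_mul,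
      pow_two, h.t_sq, one_pow]

theorem F1_comm [Finite G] {p p' : G} (hp : p ∈ h.F1 S) (hp' : p' ∈ h.F1 S) : ⁅p, p'⁆ ∈ Z := by
  obtain ⟨f, hf, e⟩ := c.exists_f h hp
  obtain ⟨f', hf', e'⟩ := c.exists_f h hp'
  obtain ⟨hfS, hft⟩ := mem_fix.1 hf
  obtain ⟨hfS', hft'⟩ := mem_fix.1 hf'
  have h1 : ⁅p, p'⁆ = ⁅f, f'⁆ := by
    have c1 : Commute t f := hft.symm
    have c2 : Commute t f' := hft'.symm
    have e1 : ∀ a b : G, Commute t a → Commute t b → ⁅t * a, b⁆ = ⁅a, b⁆ := by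
      intro a b ha hb
      have c3 : Commute t (a * b * a⁻¹) := (ha.mul_right hb).mul_right ha.inv_right
      calc ⁅t * a, b⁆ = t * (a * b * a⁻¹) * t⁻¹ * b⁻¹ := by rw [commutatorElement_def]; group
        _ = ⁅a, b⁆ := by rw [c3.eq, commutatorElement_def]; group
    have e2 : ∀ a b : G, Commute t a → Commute t b → ⁅a, t * b⁆ = ⁅a, b⁆ := by
      intro a b ha hb
      rw [← commutatorElement_inv, e1 b a hb ha, commutatorElement_inv]
    rcases e with e | e <;> rcases e' with e' | e'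
    · rw [e, e']
    · rw [e, e', e2 _ _ c1 c2]
    · rw [e, e', e1 _ _ c1 c2]
    · rw [e, e', e1 _ _ c1 ((Commute.refl t).mul_right c2), e2 _ _ c1 c2]
  rw [h1, ← c.fix_eq_Z h]
  refine mem_fix.2 ⟨c.S_comm h hfS hfS', ?_⟩
  have c1 : Commute t f := hft.symm
  have c2 : Commute t f' := hft'.symm
  rw [commutatorElement_def]
  exact (((c1.mul_right c2).mul_right c1.inv_right).mul_right c2.inv_right).eq.symm

theorem F1_le_U [Finite G] : h.F1 S ≤ U := by
  have h1 : U ≤ normalizer (h.F1 S : Set G) := by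
    have key : ∀ u ∈ U, ∀ p ∈ h.F1 S, u * p * u⁻¹ ∈ h.F1 S := by
      intro u hu p hp
      refine ⟨P.mul_mem (P.mul_mem (h.U_le hu) hp.1) (P.inv_mem (h.U_le hu)), ?_⟩
      have htu := h.tP (h.U_le hu)
      have h2 : ∀ f ∈ (S ⊓ centralizer {t} : Subgroup G),
          u * f * u⁻¹ ∈ (S ⊓ centralizer {t} : Subgroup G) := by
        intro f hf
        obtain ⟨hfS, hft⟩ := mem_fix.1 hf
        refine mem_fix.2 ⟨c.US u hu f hfS, ?_⟩
        have c1 : Commute t f := hft.symm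
        have c2 : Commute t u := htu.symm
        exact ((c2.mul_right c1).mul_right c2.inv_right).eq.symm
      rcases hp.2 with hh | hh
      · exact Or.inl (h2 _ hh)
      · right
        have := h2 _ hh
        have e : u * (t * p) * u⁻¹ = t * (u * p * u⁻¹) := by
          calc u * (t * p) * u⁻¹ = (u * t) * p * u⁻¹ := by group
            _ = t * (u * p * u⁻¹) := by rw [htu]; group
        rwa [e] at this
    intro u hu
    rw [mem_normalizer_iff]
    intro p
    constructor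
    · exact key u hu p
    · intro hp
      have := key u⁻¹ (U.inv_mem hu) _ hp
      have e : u⁻¹ * (u * p * u⁻¹) * u⁻¹⁻¹ = p := by group
      rwa [e] at this
  have h2 : IsPGroup 2 (U ⊔ h.F1 S : Subgroup G) := h.U_two.to_sup_of_normal_right' (c.F1_two h) h1
  have h3 : U ⊔ h.F1 S ≤ A := sup_le (h.U_le.trans h.P_le) (fun p hp => h.P_le hp.1)
  exact le_trans le_sup_right (le_of_odd le_sup_left h3 h2 h.odd_A)

theorem card_F1 [Finite G] : 2 ^ 10 ≤ Nat.card (h.F1 S) := by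
  classical
  refine (c.card_F h).trans ?_
  have hm : ∀ f : (S ⊓ centralizer {t} : Subgroup G),
      (if (f : G) ∈ P then (f : G) else t * f) ∈ h.F1 S := by
    rintro ⟨f, hf⟩
    by_cases hfP : f ∈ P
    · rw [if_pos hfP]
      exact ⟨hfP, Or.inl hf⟩
    · rw [if_neg hfP]
      refine ⟨(c.fix_cases h hf).resolve_left hfP, Or.inr ?_⟩
      rw [← mul_assoc, h.t_sq, one_mul]
      exact hf
  apply Nat.card_le_card_of_injective
    (fun f : (S ⊓ centralizer {t} : Subgroup G) => (⟨_, hm f⟩ : h.F1 S))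
  rintro ⟨f, hf⟩ ⟨f', hf'⟩ e
  have e1 : (if f ∈ P then f else t * f) = (if f' ∈ P then f' else t * f') := congrArg Subtype.val e
  apply Subtype.ext
  have hS := (mem_fix.1 hf).1
  have hS' := (mem_fix.1 hf').1
  by_cases h1 : f ∈ P <;> by_cases h2 : f' ∈ P
  · rwa [if_pos h1, if_pos h2] at e1
  · exfalso
    rw [if_pos h1, if_neg h2] at e1
    apply c.t_notMem h
    have : t = f * f'⁻¹ := by rw [e1]; group
    rw [this]
    exact S.mul_mem hS (S.inv_mem hS')
  · exfalso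
    rw [if_neg h1, if_pos h2] at e1
    apply c.t_notMem h
    have : t = f' * f⁻¹ := by rw [← e1]; group
    rw [this]
    exact S.mul_mem hS' (S.inv_mem hS)
  · rw [if_neg h1, if_neg h2] at e1
    exact mul_left_cancel e1

theorem F1_eq [Finite G] : h.F1 S = Q1 := by
  have hle : h.F1 S ≤ Q1 := by
    by_contra hne
    obtain ⟨u, hu, huQ⟩ := SetLike.not_le_iff_exists.1 hne
    have h1 := h.cent_U u (c.F1_le_U h hu) huQ (h.F1 S ⊓ Q1) inf_le_right
      (fun q hq => c.F1_comm h hu hq.1)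
    have h2 : Nat.card (h.F1 S) ≤ Nat.card (h.F1 S ⊓ Q1 : Subgroup G) *
        Nat.card (↥U ⧸ Q1.subgroupOf U) := by
      apply card_le_of_fib inf_le_left (fun p : h.F1 S =>
        (QuotientGroup.mk (⟨p, c.F1_le_U h p.2⟩ : U) : ↥U ⧸ Q1.subgroupOf U))
      intro p p' e
      rw [QuotientGroup.eq, mem_subgroupOf] at e
      exact ⟨(h.F1 S).mul_mem ((h.F1 S).inv_mem p.2) p'.2, e⟩
    have h3 : Nat.card (↥U ⧸ Q1.subgroupOf U) = 4 := by
      have h4 := Subgroup.index_mul_card (Q1.subgroupOf U)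
      have h5 : Nat.card (Q1.subgroupOf U) = 2 ^ 10 := by
        rw [← h.card_Q1]
        exact Nat.card_congr (subgroupOfEquivOfLe h.Q1_le).toEquiv
      rw [h5, h.card_U] at h4
      have : (Q1.subgroupOf U).index = 4 := by omega
      exact this
    rw [h3] at h2
    have := c.card_F1 h
    omega
  exact Subgroup.eq_of_le_of_card_ge hle (by rw [h.card_Q1]; exact c.card_F1 h)

/-- **Step 2**: `C_S(t) = Q1` -/
theorem fix_eq_Q1 [Finite G] : (S ⊓ centralizer {t} : Subgroup G) = Q1 := by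
  have hle : Q1 ≤ (S ⊓ centralizer {t} : Subgroup G) := by
    apply h.gen
    intro q hq hqt
    have hq1 : q ∈ h.F1 S := by rw [c.F1_eq h]; exact hq
    rcases hq1.2 with hh | hh
    · exact hh
    · exact absurd hqt (c.no_conj h (mem_fix.1 hh).1)
  apply le_antisymm _ hle
  intro f hf
  rcases c.fix_cases h hf with hP | hP
  · have : f ∈ h.F1 S := ⟨hP, Or.inl hf⟩
    rwa [c.F1_eq h] at this
  · exfalso
    have h1 : t * f ∈ h.F1 S := ⟨hP, Or.inr (by rw [← mul_assoc, h.t_sq, one_mul]; exact hf)⟩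
    rw [c.F1_eq h] at h1
    have h2 := (mem_fix.1 (hle h1)).1
    apply c.t_notMem h
    have : t = t * f * f⁻¹ := by group
    rw [this]
    exact S.mul_mem h2 (S.inv_mem (mem_fix.1 hf).1)

theorem Q1_le_S [Finite G] : Q1 ≤ S := by
  rw [← c.fix_eq_Q1 h]
  exact inf_le_left

/-- **Step 3**: `I = J` -/
theorem I_eq_J [Finite G] : I = J := by
  apply h.eq_J (c.card_I h)
  · intro x hx y hy
    exact c.I_comm h (c.I_le h hx) hy
  · intro x hx q hq
    exact (c.I_comm h (c.Q1_le_S h hq) hx).symm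
  · intro x hx
    rw [← c.fix_eq_Z h]
    have h1 : ⁅x, t⁆ ∈ I := (c.I_le_K h hx).2
    exact mem_fix.2 ⟨h1, c.comm_t_fix h h1⟩

/-- **Step 4**: `S = R` -/
theorem S_eq_R [Finite G] : S = R := by
  have hle : S ≤ R := by
    apply h.le_R (c.S_two h)
    · intro s hs w hw
      rw [← c.I_eq_J h] at hw
      exact c.I_comm h hs hw
    · intro s hs q hq
      rw [← c.I_eq_J h]
      exact c.S_comm h hs (c.Q1_le_S h hq)
    · intro s hs
      set k := ⁅s, t⁆ with hk
      have hkK := c.comm_t_mem_K h hs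
      rw [← hk] at hkK
      have h1 : ⁅k, t⁆ ∈ Z := by
        rw [← c.fix_eq_Z h]
        exact mem_fix.2 ⟨hkK.2, c.comm_t_fix h hkK.2⟩
      obtain ⟨w, hw, e⟩ := h.J_onto _ h1
      have hwS : w ∈ S := c.I_le h (by rw [c.I_eq_J h]; exact hw)
      have h2 : w⁻¹ * k ∈ Q1 := by
        rw [← c.fix_eq_Q1 h]
        refine mem_fix.2 ⟨S.mul_mem (S.inv_mem hwS) hkK.1, ?_⟩
        have e1 : w * t * w⁻¹ * t⁻¹ = k * t * k⁻¹ * t⁻¹ := by
          rw [← commutatorElement_def, ← commutatorElement_def]; exact e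
        have e2 := mul_right_cancel e1
        calc w⁻¹ * k * t = w⁻¹ * (k * t * k⁻¹) * k := by group
          _ = t * (w⁻¹ * k) := by rw [← e2]; group
      refine ⟨w⁻¹ * k, h2, w, hw, ?_⟩
      have h3 := h.J_comm _ (h.Q1_le_R h2) w hw
      rw [h3]; group
  exact Subgroup.eq_of_le_of_card_ge hle (by rw [h.card_R, c.card_S h])

end Conj

/-- **The end**: transfer to `N_G(R)`. `χ` is a homomorphism on `Aut(R)` which detects `t` and such that
involutory automorphisms `d` with `χ d ≠ 1` have at most four fixed points on `Z(R)`. -/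
theorem false_of_hyp [Finite G] {A P Q1 U Z D J R : Subgroup G} {t : G}
    (h : Hyp A P Q1 U Z D J R t) (htR : ∀ r ∈ R, t * r * t⁻¹ ∈ R)
    {B : Type*} [CommGroup B] (χ : MulAut R →* B) (hG : ∀ f : G →* B, f t = 1)
    (hχt : ∀ T : MulAut R, (∀ r : R, ((T r : R) : G) = t * r * t⁻¹) → χ T ≠ 1)
    (hχ : ∀ d : MulAut R, d * d = 1 → χ d ≠ 1 →
      Nat.card {z : Subgroup.center R // d z = z} ≤ 4) : False := by
  classical
  have htN : t ∈ normalizer (R : Set G) := by
    rw [mem_normalizer_iff]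
    intro r
    constructor
    · exact htR r
    · intro hr
      have := htR _ hr
      have e : t * (t * r * t⁻¹) * t⁻¹ = r := by
        calc t * (t * r * t⁻¹) * t⁻¹ = (t * t) * r * (t * t)⁻¹ := by group
          _ = r := by rw [h.t_sq]; group
      rwa [e] at this
  let φ : normalizer (R : Set G) →* B := χ.comp (normalizerMonoidHom R)
  have hφt : φ ⟨t, htN⟩ ≠ 1 := by
    apply hχt
    intro r
    rfl
  obtain ⟨g, hg, h1, h2, h3⟩ := TransferTL.exists_extremal (normalizer (R : Set G)) φ t hG h.t_sq htN hφt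
    h.odd_index
  set u := g⁻¹ * t * g with hu
  have hut : g * u * g⁻¹ = t := by rw [hu]; group
  have huu : u * u = 1 := by
    calc u * u = g⁻¹ * (t * t) * g := by rw [hu]; group
      _ = 1 := by rw [h.t_sq]; group
  -- fixed points of `u` on `J`
  have hfix : Nat.card (J ⊓ centralizer {u} : Subgroup G) ≤ 4 := by
    have h4 := hχ (normalizerMonoidHom R ⟨u, hg⟩) (by
      rw [← map_mul]
      have : (⟨u, hg⟩ * ⟨u, hg⟩ : normalizer (R : Set G)) = 1 := Subtype.ext huu
      rw [this, map_one]) h1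
    refine le_trans ?_ h4
    have hm : ∀ x ∈ (J ⊓ centralizer {u} : Subgroup G), ∃ z : {z : Subgroup.center R //
        (normalizerMonoidHom R ⟨u, hg⟩) z = z}, (((z : Subgroup.center R) : R) : G) = x := by
      intro x hx
      obtain ⟨hxJ, hxu⟩ := mem_fix.1 hx
      refine ⟨⟨⟨⟨x, h.J_le hxJ⟩, ?_⟩, ?_⟩, rfl⟩
      · rw [mem_center_iff]
        intro r
        apply Subtype.ext
        exact h.J_comm r r.2 x hxJ
      · apply Subtype.ext
        show u * x * u⁻¹ = x
        rw [← hxu]; group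
    choose f hf using hm
    have : Nat.card (J ⊓ centralizer {u} : Subgroup G) ≤ Nat.card {z : Subgroup.center R //
        (normalizerMonoidHom R ⟨u, hg⟩) z = z} := by
      apply Nat.card_le_card_of_injective (fun x : (J ⊓ centralizer {u} : Subgroup G) => f x x.2)
      intro x y hxy
      apply Subtype.ext
      rw [← hf x x.2, ← hf y y.2]
      exact congrArg (fun z : {z : Subgroup.center R // (normalizerMonoidHom R ⟨u, hg⟩) z = z} =>
        (((z : Subgroup.center R) : R) : G)) hxy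
    exact this
  -- conjugate `U` into `N(R^g)`
  set R1 := R.map (MulAut.conj g).toMonoidHom with hR1
  have hodd1 : Odd ((normalizer (R1 : Set G)).relIndex (centralizer {t})) := by
    have e1 : normalizer (R1 : Set G) = (normalizer (R : Set G)).map (MulAut.conj g).toMonoidHom := by
      ext x
      rw [mem_map_conj, mem_normalizer_iff, mem_normalizer_iff]
      constructor
      · intro hx r
        have := hx (g * r * g⁻¹)
        rw [hR1, mem_map_conj, mem_map_conj] at this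
        have e2 : g⁻¹ * (g * r * g⁻¹) * g = r := by group
        have e3 : g⁻¹ * (x * (g * r * g⁻¹) * x⁻¹) * g = g⁻¹ * x * g * r * (g⁻¹ * x * g)⁻¹ := by group
        rwa [e2, e3] at this
      · intro hx r
        rw [hR1, mem_map_conj, mem_map_conj]
        have := hx (g⁻¹ * r * g)
        have e3 : g⁻¹ * x * g * (g⁻¹ * r * g) * (g⁻¹ * x * g)⁻¹ = g⁻¹ * (x * r * x⁻¹) * g := by group
        rwa [e3] at this
    have e2 : centralizer ({t} : Set G) = (centralizer {u}).map (MulAut.conj g).toMonoidHom := by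
      ext x
      rw [mem_map_conj, mem_centralizer_singleton_iff, mem_centralizer_singleton_iff]
      constructor
      · intro hx
        calc g⁻¹ * x * g * u = g⁻¹ * (x * t) * g := by rw [← hut]; group
          _ = u * (g⁻¹ * x * g) := by rw [hx, ← hut]; group
      · intro hx
        calc x * t = g * (g⁻¹ * x * g * u) * g⁻¹ := by rw [← hut]; group
          _ = t * x := by rw [hx, ← hut]; group
    rw [e1, e2, relIndex_map_map_of_injective _ _ (MulAut.conj g).injective]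
    exact h2
  have hUC : U ≤ centralizer ({t} : Set G) := by
    intro x hx
    rw [mem_centralizer_singleton_iff]
    exact h.tP (h.U_le hx)
  obtain ⟨a, ha, haU⟩ := exists_conj_le h.U_two hUC hodd1
  rw [mem_centralizer_singleton_iff] at ha
  have hta : a⁻¹ * t * a = t := by rw [mul_assoc, ← ha]; group
  set k := a * g with hk
  have hku : k⁻¹ * t * k = u := by
    calc k⁻¹ * t * k = g⁻¹ * (a⁻¹ * t * a) * g := by rw [hk]; group
      _ = g⁻¹ * t * g := by rw [hta]
      _ = u := hu.symm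
  have hconj : Conj U J R t (R.map (MulAut.conj k).toMonoidHom) (J.map (MulAut.conj k).toMonoidHom) k :=
    { hS := rfl
      hI := rfl
      tS := by
        intro s hs
        rw [mem_map_conj] at hs ⊢
        have e : k⁻¹ * (t * s * t⁻¹) * k = u * (k⁻¹ * s * k) * u⁻¹ := by rw [← hku]; group
        rw [e]
        exact (mem_normalizer_iff.1 hg _).1 hs
      US := by
        intro x hx s hs
        rw [mem_map_conj] at hs ⊢
        have h5 := haU x hx
        have h6 := (mem_normalizer_iff.1 h5 (a⁻¹ * s * a)).1 (by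
          rw [hR1, mem_map_conj]
          have e : g⁻¹ * (a⁻¹ * s * a) * g = k⁻¹ * s * k := by rw [hk]; group
          rw [e]; exact hs)
        rw [hR1, mem_map_conj] at h6
        have e : g⁻¹ * (a⁻¹ * x * a * (a⁻¹ * s * a) * (a⁻¹ * x * a)⁻¹) * g =
            k⁻¹ * (x * s * x⁻¹) * k := by
          rw [hk]; group
        rw [e] at h6
        exact h6
      fix := by
        have e : (J.map (MulAut.conj k).toMonoidHom ⊓ centralizer {t} : Subgroup G) =
            (J ⊓ centralizer {u} : Subgroup G).map (MulAut.conj k).toMonoidHom := by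
          ext x
          rw [mem_fix, mem_map_conj, mem_map_conj, mem_fix]
          constructor
          · rintro ⟨hx1, hx2⟩
            refine ⟨hx1, ?_⟩
            calc k⁻¹ * x * k * u = k⁻¹ * (x * t) * k := by rw [← hku]; group
              _ = u * (k⁻¹ * x * k) := by rw [hx2, ← hku]; group
          · rintro ⟨hx1, hx2⟩
            refine ⟨hx1, ?_⟩
            have hkt : k * u * k⁻¹ = t := by rw [← hku]; group
            calc x * t = k * (k⁻¹ * x * k * u) * k⁻¹ := by rw [← hkt]; group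
              _ = t * x := by rw [hx2, ← hkt]; group
        rw [e, card_map_conj]
        exact hfix }
  have hS := hconj.S_eq_R h
  have hkN : k ∈ normalizer (R : Set G) := by
    rw [mem_normalizer_iff]
    intro r
    constructor
    · intro hr
      rw [← hS, mem_map_conj]
      have : k⁻¹ * (k * r * k⁻¹) * k = r := by group
      rw [this]; exact hr
    · intro hr
      rw [← hS, mem_map_conj] at hr
      have : k⁻¹ * (k * r * k⁻¹) * k = r := by group
      rwa [this] at hr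
  exact h3 k hkN hku.symm

end Cfsg.Agent.GTwoFour.EndG
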