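import Cfsg.Prelude.Def_ClassificationK
import Cfsg.Prelude.Def_Local
import Cfsg.Prelude.Def_CaseTheorems
import Cfsg.Prelude.Def_Spor_Conway
import Cfsg.Agent.Lib.Cores

/-!
Glue for S1751: a simple group with a standard subgroup `L`; noncyclic case = S1767, rank one = False.
-/

set_option autoImplicit false

namespace Cfsg.Agent.GTwoFour.Glue

open Cfsg

variable {G : Type*} [Group G]

theorem not_comm_of_quasisimple {L : Type*} [Group L] (h : IsQuasisimple L) :
    ¬ ∀ a b : L, a * b = b * a := by
  intro hc
  have h2 := h.2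
  have h1 : Subgroup.center L = ⊤ := by
    rw [eq_top_iff]
    intro a _
    rw [Subgroup.mem_center_iff]
    intro b
    exact hc b a
  have h3 : Subsingleton (L ⧸ Subgroup.center L) := by
    rw [h1]
    exact QuotientGroup.subsingleton_quotient_top
  exact not_nontrivial_iff_subsingleton.2 h3 h2.toNontrivial

/-- the centre of a nonabelian simple group -/
theorem center_eq_bot [IsSimpleGroup G] (hG : ¬ IsMulCommutative G) : Subgroup.center G = ⊥ := by
  rcases (inferInstance : (Subgroup.center G).Normal).eq_bot_or_eq_top with h | h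
  · exact h
  · exfalso
    apply hG
    refine ⟨⟨fun a b => ?_⟩⟩
    have : b ∈ Subgroup.center G := by rw [h]; trivial
    exact (Subgroup.mem_center_iff.1 this a)

theorem not_normal [Finite G] [IsSimpleGroup G] (hG : ¬ IsMulCommutative G) {L : Subgroup G}
    (hL : IsStandardSubgroup L) : ¬ L.Normal := by
  intro hN
  rcases hN.eq_bot_or_eq_top with h | h
  · apply not_comm_of_quasisimple hL.1
    rw [h]
    intro a b
    exact Subsingleton.elim _ _
  · have h1 := hL.2.1.1
    rw [h] at h1
    have h2 : Subgroup.centralizer ((⊤ : Subgroup G) : Set G) = ⊥ := by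
      rw [Subgroup.coe_top, Subgroup.centralizer_univ, center_eq_bot hG]
    rw [h2, Subgroup.card_bot] at h1
    norm_num at h1

theorem oddCore_eq_bot [Finite G] [IsSimpleGroup G] {L : Subgroup G}
    (hL : IsStandardSubgroup L) : oddCore G = ⊥ := by
  rcases (Cfsg.pPrimeCore_normal 2 G).eq_bot_or_eq_top with h | h
  · exact h
  · exfalso
    have h1 := Cfsg.Agent.Lib.Cores.pPrimeCore_coprime (G := G) 2
    rw [h, Subgroup.card_top] at h1
    have h2 : 2 ∣ Nat.card G :=
      (even_iff_two_dvd.1 hL.2.1.1).trans (Subgroup.card_subgroup_dvd_card _)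
    have h3 := Nat.coprime_two_right.1 h1
    exact (Nat.not_even_iff_odd.2 h3) (even_iff_two_dvd.2 h2)

theorem normalClosure_eq_top [IsSimpleGroup G] {L : Subgroup G} (hL : IsStandardSubgroup L) :
    Subgroup.normalClosure (L : Set G) = ⊤ := by
  rcases (Subgroup.normalClosure_normal (s := (L : Set G))).eq_bot_or_eq_top with h | h
  · exfalso
    apply not_comm_of_quasisimple hL.1
    have h1 : L ≤ ⊥ := by
      rw [← h]; exact Subgroup.subset_normalClosure
    intro a b
    apply Subtype.ext
    have ha := Subgroup.mem_bot.1 (h1 a.2)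
    have hb := Subgroup.mem_bot.1 (h1 b.2)
    show (a : G) * b = b * a
    rw [ha, hb]
  · exact h

theorem glue [Finite G] [IsSimpleGroup G] (hG : ¬ IsMulCommutative G) {L : Subgroup G}
    (hL : IsStandardSubgroup L)
    (h1 : PRankLE 2 1 ↥(Subgroup.centralizer (L : Set G)) → False)
    (h2 : ¬ PRankLE 2 1 ↥(Subgroup.centralizer (L : Set G)) →
      L.Normal ∨ Spor.IsoCo1 ↥(Subgroup.normalClosure (L : Set G))) : Spor.IsoCo1 G := by
  by_cases hR : PRankLE 2 1 ↥(Subgroup.centralizer (L : Set G))
  · exact (h1 hR).elim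
  · rcases h2 hR with h3 | h3
    · exact absurd h3 (not_normal hG hL)
    · obtain ⟨e⟩ : Nonempty (↥(Subgroup.normalClosure (L : Set G)) ≃* Spor.Co1) := h3
      have h4 := normalClosure_eq_top hL
      exact ⟨(Subgroup.topEquiv.symm.trans (MulEquiv.subgroupCongr h4.symm)).trans e⟩

end Cfsg.Agent.GTwoFour.Glue
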