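import Cfsg.Agent.GTwoFour.IfaceR
import Mathlib.GroupTheory.QuotientGroup.Basic
import Mathlib.GroupTheory.Coset.Card
import Mathlib.GroupTheory.Index
import Mathlib.Tactic.Group

/-!
# Step (3) of the growth argument: the group `R` of order `2^20`
-/

set_option autoImplicit false

namespace Cfsg.Agent.GTwoFour.GrowR

open Subgroup Iface
open scoped commutatorElement

variable {H : Type*} [Group H] {D : Data H} {t : H} {W0 V : Subgroup H}

/-! ## Generalities -/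

lemma comm_mul_left (a b c : H) : ⁅a * b, c⁆ = a * ⁅b, c⁆ * a⁻¹ * ⁅a, c⁆ := by
  simp only [commutatorElement_def]; group

lemma comm_mul_right (a b c : H) : ⁅a, b * c⁆ = ⁅a, b⁆ * (b * ⁅a, c⁆ * b⁻¹) := by
  simp only [commutatorElement_def]; group

lemma comm_inv_left (a b : H) : ⁅a⁻¹, b⁆ = a⁻¹ * ⁅a, b⁆⁻¹ * a := by
  simp only [commutatorElement_def]; group

lemma conj_comm (p a b : H) : p * ⁅a, b⁆ * p⁻¹ = ⁅p * a * p⁻¹, p * b * p⁻¹⁆ := by
  simp only [commutatorElement_def]; group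

lemma conj_of_comm {p a : H} (h : p * a = a * p) : p * a * p⁻¹ = a := by
  rw [h]; group

lemma P_t (F : Facts D) (B : Big D t) {p : H} (hp : p ∈ D.P) : p * t = t * p :=
  B.comm p (F.P_le hp)

lemma Xa_P (F : Facts D) {x : H} (hx : x ∈ D.Xa) : x ∈ D.P := (F.Q2_le (F.Xa_le hx)).1

lemma W4_Q1 (F : Facts D) : D.W4 ≤ D.Q1 := sup_le F.Z_le F.Xe_le

lemma P_Z (F : Facts D) {p : H} (hp : p ∈ D.P) {z : H} (hz : z ∈ D.Z) : p * z = z * p :=
  (F.cent_Z p (F.P_le hp)).2 hp z hz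

lemma mem_W4 (F : Facts D) {x : H} (hx : x ∈ D.W4) : ∃ z ∈ D.Z, ∃ e ∈ D.Xe, x = z * e := by
  let N : Subgroup H :=
    { carrier := {x | ∃ z ∈ D.Z, ∃ e ∈ D.Xe, x = z * e}
      one_mem' := ⟨1, one_mem _, 1, one_mem _, by simp⟩
      mul_mem' := by
        rintro _ _ ⟨z, hz, e, he, rfl⟩ ⟨z', hz', e', he', rfl⟩
        refine ⟨z * z', mul_mem hz hz', e * e', mul_mem he he', ?_⟩
        have := P_Z F (F.Q1_le (F.Xe_le he)) hz'
        calc z * e * (z' * e') = z * (e * z') * e' := by group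
          _ = z * z' * (e * e') := by rw [this]; group
      inv_mem' := by
        rintro _ ⟨z, hz, e, he, rfl⟩
        refine ⟨z⁻¹, inv_mem hz, e⁻¹, inv_mem he, ?_⟩
        rw [mul_inv_rev]
        exact P_Z F (F.Q1_le (F.Xe_le (inv_mem he))) (inv_mem hz) }
  have hle : D.W4 ≤ N :=
    sup_le (fun q hq => ⟨q, hq, 1, one_mem _, by simp⟩)
      (fun w hw => ⟨1, one_mem _, w, hw, by simp⟩)
  exact hle hx

lemma mem_N (F : Facts D) (W : WFacts D t W0) {x : H} :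
    x ∈ D.Q1 ⊔ W0 ↔ ∃ q ∈ D.Q1, ∃ w ∈ W0, x = q * w := by
  constructor
  · intro hx
    let N : Subgroup H :=
      { carrier := {x | ∃ q ∈ D.Q1, ∃ w ∈ W0, x = q * w}
        one_mem' := ⟨1, one_mem _, 1, one_mem _, by simp⟩
        mul_mem' := by
          rintro _ _ ⟨q, hq, w, hw, rfl⟩ ⟨q', hq', w', hw', rfl⟩
          refine ⟨q * q', mul_mem hq hq', w * w', mul_mem hw hw', ?_⟩
          have := W.cent_P w hw q' (F.Q1_le hq')
          calc q * w * (q' * w') = q * (w * q') * w' := by group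
            _ = q * q' * (w * w') := by rw [this]; group
        inv_mem' := by
          rintro _ ⟨q, hq, w, hw, rfl⟩
          refine ⟨q⁻¹, inv_mem hq, w⁻¹, inv_mem hw, ?_⟩
          rw [mul_inv_rev]
          exact W.cent_P _ (inv_mem hw) _ (F.Q1_le (inv_mem hq)) }
    have hle : D.Q1 ⊔ W0 ≤ N :=
      sup_le (fun q hq => ⟨q, hq, 1, one_mem _, by simp⟩)
        (fun w hw => ⟨1, one_mem _, w, hw, by simp⟩)
    exact hle hx
  · rintro ⟨q, hq, w, hw, rfl⟩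
    exact mul_mem (mem_sup_left hq) (mem_sup_right hw)

/-! ## `Q1 ∩ W0 = Z` -/

/-- `w ↦ [w, t]` on `W0` -/
def tHom (W : WFacts D t W0) : W0 →* D.Z where
  toFun w := ⟨⁅(w : H), t⁆, W.comm_t w w.2⟩
  map_one' := by ext; simp
  map_mul' a b := by
    ext
    simp only [Subgroup.coe_mul]
    rw [comm_mul_left]
    have h1 : (a : H) * ⁅(b : H), t⁆ = ⁅(b : H), t⁆ * a :=
      W.comm a a.2 _ (W.Z_le (W.comm_t b b.2))
    rw [h1, mul_inv_cancel_right]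
    exact W.comm _ (W.Z_le (W.comm_t b b.2)) _ (W.Z_le (W.comm_t a a.2))

lemma tHom_surj (W : WFacts D t W0) : Function.Surjective (tHom W) := by
  rintro ⟨z, hz⟩
  obtain ⟨w, hw, h⟩ := W.onto z hz
  exact ⟨⟨w, hw⟩, Subtype.ext h⟩

lemma cent_t_W0 [Finite H] (F : Facts D) (B : Big D t) (W : WFacts D t W0) {w : H} (hw : w ∈ W0)
    (h : w * t = t * w) : w ∈ D.Z := by
  have hle : D.Z.subgroupOf W0 ≤ (tHom W).ker := by
    intro z hz
    rw [mem_subgroupOf] at hz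
    rw [MonoidHom.mem_ker]
    ext
    change ⁅(z : H), t⁆ = 1
    rw [commutatorElement_eq_one_iff_mul_comm]
    exact P_t F B (F.Q1_le (F.Z_le hz))
  have hc : Nat.card (tHom W).ker = 4 := by
    have h1 := Subgroup.card_eq_card_quotient_mul_card_subgroup (tHom W).ker
    have h2 := Nat.card_congr
      (QuotientGroup.quotientKerEquivOfSurjective (tHom W) (tHom_surj W)).toEquiv
    rw [h2, W.card, F.card_Z] at h1
    omega
  have hcZ : Nat.card (D.Z.subgroupOf W0) = 4 := by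
    rw [Nat.card_congr (Subgroup.subgroupOfEquivOfLe W.Z_le).toEquiv, F.card_Z]
  have he : D.Z.subgroupOf W0 = (tHom W).ker :=
    Subgroup.eq_of_le_of_card_ge hle (by rw [hc, hcZ])
  have : (⟨w, hw⟩ : W0) ∈ (tHom W).ker := by
    rw [MonoidHom.mem_ker]
    ext
    change ⁅(w : H), t⁆ = 1
    rw [commutatorElement_eq_one_iff_mul_comm]
    exact h
  rw [← he, mem_subgroupOf] at this
  exact this

lemma inter [Finite H] (F : Facts D) (B : Big D t) (W : WFacts D t W0) {q : H} (hq : q ∈ D.Q1)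
    (hw : q ∈ W0) : q ∈ D.Z :=
  cent_t_W0 F B W hw (P_t F B (F.Q1_le hq))

/-! ## The group `R` -/

lemma conj_N (F : Facts D) (W : WFacts D t W0) {r : H} (h1 : ∀ w ∈ W0, r * w = w * r)
    (h2 : ∀ q ∈ D.Q1, ⁅r, q⁆ ∈ W0) {n : H} (hn : n ∈ D.Q1 ⊔ W0) :
    ∃ w ∈ W0, r * n * r⁻¹ = w * n := by
  obtain ⟨q, hq, w, hw, rfl⟩ := (mem_N F W).1 hn
  refine ⟨⁅r, q⁆, h2 q hq, ?_⟩
  have h3 := conj_of_comm (h1 w hw)
  calc r * (q * w) * r⁻¹ = (r * q * r⁻¹) * (r * w * r⁻¹) := by group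
    _ = (r * q * r⁻¹) * w := by rw [h3]
    _ = ⁅r, q⁆ * (q * w) := by simp only [commutatorElement_def]; group

lemma conj_N_mem (F : Facts D) (W : WFacts D t W0) {r : H} (h1 : ∀ w ∈ W0, r * w = w * r)
    (h2 : ∀ q ∈ D.Q1, ⁅r, q⁆ ∈ W0) {n : H} (hn : n ∈ D.Q1 ⊔ W0) :
    r * n * r⁻¹ ∈ D.Q1 ⊔ W0 := by
  obtain ⟨w, hw, h⟩ := conj_N F W h1 h2 hn
  rw [h]
  exact mul_mem (mem_sup_right hw) hn

/-- the subgroup `R` -/
def rGrp (F : Facts D) (W : WFacts D t W0) : Subgroup H where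
  carrier := {r | (∀ w ∈ W0, r * w = w * r) ∧ (∀ q ∈ D.Q1, ⁅r, q⁆ ∈ W0) ∧ ⁅r, t⁆ ∈ D.Q1 ⊔ W0}
  one_mem' := by
    refine ⟨fun w _ => by simp, fun q _ => by simp, by simp⟩
  mul_mem' := by
    rintro a b ⟨a1, a2, a3⟩ ⟨b1, b2, b3⟩
    refine ⟨fun w hw => ?_, fun q hq => ?_, ?_⟩
    · rw [mul_assoc, b1 w hw, ← mul_assoc, a1 w hw, mul_assoc]
    · rw [comm_mul_left, conj_of_comm (a1 _ (b2 q hq))]
      exact mul_mem (b2 q hq) (a2 q hq)
    · rw [comm_mul_left]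
      exact mul_mem (conj_N_mem F W a1 a2 b3) a3
  inv_mem' := by
    rintro a ⟨a1, a2, a3⟩
    have i1 : ∀ w ∈ W0, a⁻¹ * w = w * a⁻¹ := fun w hw => by
      have := a1 w hw
      calc a⁻¹ * w = a⁻¹ * (w * a) * a⁻¹ := by group
        _ = w * a⁻¹ := by rw [← this]; group
    have i2 : ∀ q ∈ D.Q1, ⁅a⁻¹, q⁆ ∈ W0 := fun q hq => by
      rw [comm_inv_left, i1 _ (inv_mem (a2 q hq)), inv_mul_cancel_right]
      exact inv_mem (a2 q hq)
    refine ⟨i1, i2, ?_⟩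
    rw [comm_inv_left]
    have := conj_N_mem F W i1 i2 (inv_mem a3)
    rwa [inv_inv] at this

lemma mem_R (F : Facts D) (W : WFacts D t W0) {r : H} :
    r ∈ rGrp F W ↔ (∀ w ∈ W0, r * w = w * r) ∧ (∀ q ∈ D.Q1, ⁅r, q⁆ ∈ W0) ∧ ⁅r, t⁆ ∈ D.Q1 ⊔ W0 :=
  Iff.rfl

lemma R_conj_N (F : Facts D) (W : WFacts D t W0) {r : H} (hr : r ∈ rGrp F W) {n : H}
    (hn : n ∈ D.Q1 ⊔ W0) : ∃ w ∈ W0, r * n * r⁻¹ = w * n :=
  conj_N F W hr.1 hr.2.1 hn

lemma W0_R (F : Facts D) (W : WFacts D t W0) : W0 ≤ rGrp F W := by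
  intro w hw
  refine ⟨fun w' hw' => W.comm w hw w' hw', fun q hq => ?_, ?_⟩
  · have : ⁅w, q⁆ = 1 := by
      rw [commutatorElement_eq_one_iff_mul_comm]
      exact W.cent_P w hw q (F.Q1_le hq)
    rw [this]; exact one_mem _
  · exact mem_sup_right (W.Z_le (W.comm_t w hw))

lemma Q1_R (F : Facts D) (B : Big D t) (W : WFacts D t W0) : D.Q1 ≤ rGrp F W := by
  intro q hq
  refine ⟨fun w' hw' => (W.cent_P w' hw' q (F.Q1_le hq)).symm, fun q' hq' => ?_, ?_⟩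
  · exact W.Z_le (F.comm_Q1 q hq q' hq')
  · have : ⁅q, t⁆ = 1 := by
      rw [commutatorElement_eq_one_iff_mul_comm]
      exact P_t F B (F.Q1_le hq)
    rw [this]; exact one_mem _

lemma N_R (F : Facts D) (B : Big D t) (W : WFacts D t W0) : D.Q1 ⊔ W0 ≤ rGrp F W :=
  sup_le (Q1_R F B W) (W0_R F W)

lemma P_R (F : Facts D) (B : Big D t) (W : WFacts D t W0) {p : H} (hp : p ∈ D.P) {r : H}
    (hr : r ∈ rGrp F W) : p * r * p⁻¹ ∈ rGrp F W := by
  have hW : ∀ w ∈ W0, p * w * p⁻¹ = w := fun w hw => conj_of_comm (W.cent_P w hw p hp).symm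
  have hN : ∀ n ∈ D.Q1 ⊔ W0, p * n * p⁻¹ ∈ D.Q1 ⊔ W0 := by
    intro n hn
    obtain ⟨q, hq, w, hw, rfl⟩ := (mem_N F W).1 hn
    have : p * (q * w) * p⁻¹ = (p * q * p⁻¹) * (p * w * p⁻¹) := by group
    rw [this, hW w hw]
    exact mul_mem (mem_sup_left (F.norm_Q1 p hp q hq)) (mem_sup_right hw)
  obtain ⟨h1, h2, h3⟩ := hr
  refine ⟨fun w hw => ?_, fun q hq => ?_, ?_⟩
  · have e1 := W.cent_P w hw p hp
    have e2 := W.cent_P w hw p⁻¹ (inv_mem hp)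
    calc p * r * p⁻¹ * w = p * r * (w * p⁻¹) := by rw [mul_assoc, ← e2]
      _ = p * (w * r) * p⁻¹ := by rw [← h1 w hw]; group
      _ = w * (p * r * p⁻¹) := by rw [← mul_assoc, ← e1]; group
  · have hq' : p⁻¹ * q * p ∈ D.Q1 := by
      have := F.norm_Q1 p⁻¹ (inv_mem hp) q hq
      rwa [inv_inv] at this
    have : ⁅p * r * p⁻¹, q⁆ = p * ⁅r, p⁻¹ * q * p⁆ * p⁻¹ := by
      rw [conj_comm]; congr 1; group
    rw [this, hW _ (h2 _ hq')]
    exact h2 _ hq'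
  · have : ⁅p * r * p⁻¹, t⁆ = p * ⁅r, t⁆ * p⁻¹ := by
      rw [conj_comm, conj_of_comm (P_t F B hp)]
    rw [this]
    exact hN _ h3

lemma V_R (F : Facts D) (W : WFacts D t W0) (hV : VFacts D t W0 V) :
    V ≤ rGrp F W := by
  intro v hv
  refine ⟨fun w hw => hV.comm v hv w (hV.le hw), fun q hq => ?_, ?_⟩
  · obtain ⟨x, hx, q', hq', rfl⟩ := F.decomp_Q1 q hq
    rw [comm_mul_right]
    have h1 : ⁅v, q'⁆ = 1 := by
      rw [commutatorElement_eq_one_iff_mul_comm]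
      exact hV.cent_L2 v hv q' (F.Q2_le (F.Q12_le hq'))
    rw [h1, mul_one, mul_inv_cancel, mul_one]
    exact hV.Xb_mem x hx v hv
  · exact mem_sup_left (W4_Q1 F (hV.comm_t v hv))

lemma t_notMem_R (F : Facts D) (W : WFacts D t W0) : t ∉ rGrp F W := by
  intro h
  have h1 : D.Z = ⊥ := by
    rw [eq_bot_iff]
    intro z hz
    obtain ⟨w, hw, hwz⟩ := W.onto z hz
    rw [mem_bot, ← hwz, commutatorElement_eq_one_iff_mul_comm]
    exact (h.1 w hw).symm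
  have h2 := F.card_Z
  rw [h1] at h2
  simp at h2

/-! ## Counting -/

lemma relIndex_mul_card' (N R : Subgroup H) (h : N ≤ R) :
    N.relIndex R * Nat.card N = Nat.card R := by
  have h1 := (N.subgroupOf R).index_mul_card
  rw [Nat.card_congr (Subgroup.subgroupOfEquivOfLe h).toEquiv] at h1
  exact h1

/-- comparison of the number of cosets along a map -/
lemma relIndex_eq_of_map {R N K L : Subgroup H} (g : H → H)
    (hg : ∀ r ∈ R, g r ∈ K) (h : ∀ r ∈ R, ∀ r' ∈ R, r⁻¹ * r' ∈ N ↔ (g r)⁻¹ * g r' ∈ L)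
    (hs : ∀ k ∈ K, ∃ r ∈ R, (g r)⁻¹ * k ∈ L) : N.relIndex R = L.relIndex K := by
  let G : R → K := fun r => ⟨g r, hg r r.2⟩
  have key : ∀ a b : R, (QuotientGroup.leftRel (N.subgroupOf R)) a b ↔
      (QuotientGroup.leftRel (L.subgroupOf K)) (G a) (G b) := by
    intro a b
    rw [QuotientGroup.leftRel_apply, QuotientGroup.leftRel_apply, mem_subgroupOf, mem_subgroupOf]
    exact h a a.2 b b.2
  let Φ : (R ⧸ N.subgroupOf R) → (K ⧸ L.subgroupOf K) :=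
    Quotient.map' G (fun a b hab => (key a b).1 hab)
  have hΦ : Function.Bijective Φ := by
    constructor
    · intro a b
      refine Quotient.inductionOn₂' a b ?_
      intro a b hab
      exact Quotient.sound' ((key a b).2 (Quotient.exact' hab))
    · intro k
      refine Quotient.inductionOn' k ?_
      rintro ⟨k, hk⟩
      obtain ⟨r, hr, hrk⟩ := hs k hk
      refine ⟨Quotient.mk'' ⟨r, hr⟩, ?_⟩
      refine Quotient.sound' ?_
      rw [QuotientGroup.leftRel_apply, mem_subgroupOf]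
      exact hrk
  exact Nat.card_congr (Equiv.ofBijective Φ hΦ)

lemma relIndex_Z_Q1 [Finite H] (F : Facts D) : D.Z.relIndex D.Q1 = 256 := by
  have h := relIndex_mul_card' D.Z D.Q1 F.Z_le
  rw [F.card_Z, F.card_Q1] at h
  omega

lemma relIndex_W0_N [Finite H] (F : Facts D) (B : Big D t) (W : WFacts D t W0) :
    W0.relIndex (D.Q1 ⊔ W0) = 256 := by
  rw [← relIndex_Z_Q1 F]
  symm
  refine relIndex_eq_of_map id (fun r hr => mem_sup_left hr) ?_ ?_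
  · intro r hr r' hr'
    exact ⟨fun h => W.Z_le h, fun h => inter F B W (mul_mem (inv_mem hr) hr') h⟩
  · intro k hk
    obtain ⟨q, hq, w, hw, rfl⟩ := (mem_N F W).1 hk
    exact ⟨q, hq, by simpa using hw⟩

lemma card_N [Finite H] (F : Facts D) (B : Big D t) (W : WFacts D t W0) :
    Nat.card (D.Q1 ⊔ W0 : Subgroup H) = 4096 := by
  have h := relIndex_mul_card' W0 (D.Q1 ⊔ W0) le_sup_right
  rw [relIndex_W0_N F B W, W.card] at h
  omega

/-! ## The kernel of `r ↦ [r, t] W0` -/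

lemma ker_of_mem_N (F : Facts D) (B : Big D t) (W : WFacts D t W0) {n : H}
    (hn : n ∈ D.Q1 ⊔ W0) : ⁅n, t⁆ ∈ W0 := by
  obtain ⟨q, hq, w, hw, rfl⟩ := (mem_N F W).1 hn
  rw [comm_mul_left]
  have h1 : ⁅q, t⁆ = 1 := by
    rw [commutatorElement_eq_one_iff_mul_comm]
    exact P_t F B (F.Q1_le hq)
  rw [h1, mul_one]
  have h2 := W.cent_P _ (W.Z_le (W.comm_t w hw)) q (F.Q1_le hq)
  rw [conj_of_comm h2.symm]
  exact W.Z_le (W.comm_t w hw)

lemma ker_R [Finite H] (F : Facts D) (B : Big D t) (W : WFacts D t W0) (hV : VFacts D t W0 V)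
    {r : H} (hr : r ∈ rGrp F W) (h : ⁅r, t⁆ ∈ W0) : r ∈ D.Q1 ⊔ W0 := by
  -- `w := [r,t]` is inverted by `t`, so centralised by `t`
  set w := ⁅r, t⁆ with hw
  have e1 : r * t * r⁻¹ = w * t := by
    rw [hw, commutatorElement_def]; group
  have e2 : (w * t) * (w * t) = 1 := by
    rw [← e1]
    calc r * t * r⁻¹ * (r * t * r⁻¹) = r * (t * t) * r⁻¹ := by group
      _ = 1 := by rw [B.t_sq]; group
  have e3 : w * w = 1 := hV.sq w (hV.le h)
  have e4 : w * t = t * w := by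
    have ht : t⁻¹ = t := inv_eq_of_mul_eq_one_right B.t_sq
    have hw' : w⁻¹ = w := inv_eq_of_mul_eq_one_right e3
    have : (w * t)⁻¹ = w * t := inv_eq_of_mul_eq_one_right e2
    rw [← this, mul_inv_rev, ht, hw']
  have e5 : w ∈ D.Z := cent_t_W0 F B W h e4
  obtain ⟨w', hw', hww⟩ := W.onto w e5
  -- `g := w'⁻¹ r` commutes with `t`
  have e6 : w' * t * w'⁻¹ = w * t := by
    rw [← hww, commutatorElement_def]; group
  have e7 : (w'⁻¹ * r) * t = t * (w'⁻¹ * r) := by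
    have : r * t = w' * t * w'⁻¹ * r := by
      rw [e6, ← e1]; group
    calc w'⁻¹ * r * t = w'⁻¹ * (r * t) := by group
      _ = t * (w'⁻¹ * r) := by rw [this]; group
  have hgR : w'⁻¹ * r ∈ rGrp F W := mul_mem (inv_mem (W0_R F W hw')) hr
  have e8 : ∀ z ∈ D.Z, (w'⁻¹ * r) * z = z * (w'⁻¹ * r) := fun z hz => hgR.1 z (W.Z_le hz)
  have e9 : w'⁻¹ * r ∈ D.P := by
    rcases B.cent _ e7 e8 with h | h
    · exact h
    · exfalso
      refine t_notMem_R F W ?_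
      have h1 : t = (t * (w'⁻¹ * r)) * (w'⁻¹ * r)⁻¹ := by group
      have hcent : ∀ w ∈ W0, t * w = w * t := by
        intro w1 hw1
        have a1 := (W.cent_P w1 hw1 _ h)
        have a2 := ((inv_mem hgR) : (w'⁻¹ * r)⁻¹ ∈ rGrp F W).1 w1 hw1
        rw [h1]
        calc t * (w'⁻¹ * r) * (w'⁻¹ * r)⁻¹ * w1 = t * (w'⁻¹ * r) * ((w'⁻¹ * r)⁻¹ * w1) := by group
          _ = (t * (w'⁻¹ * r) * w1) * (w'⁻¹ * r)⁻¹ := by rw [a2]; group
          _ = w1 * (t * (w'⁻¹ * r) * (w'⁻¹ * r)⁻¹) := by rw [← a1]; group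
      exfalso
      have hZ : D.Z = ⊥ := by
        rw [eq_bot_iff]
        intro z hz
        obtain ⟨w, hw, hwz⟩ := W.onto z hz
        rw [mem_bot, ← hwz, commutatorElement_eq_one_iff_mul_comm]
        exact (hcent w hw).symm
      have h2 := F.card_Z
      rw [hZ] at h2
      simp at h2
  have e10 : w'⁻¹ * r ∈ D.Q1 := by
    refine F.cent_Q1Z _ e9 (fun q hq => ?_)
    refine inter F B W ?_ (hgR.2.1 q hq)
    rw [commutatorElement_def]
    exact mul_mem (F.norm_Q1 _ e9 q hq) (inv_mem hq)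
  have : r = w' * (w'⁻¹ * r) := by group
  rw [this]
  exact mul_mem (mem_sup_right hw') (mem_sup_left e10)

/-! ## Surjectivity, generation -/

/-- elements of `Q1` which are hit by `K ≤ R` -/
lemma onto_of [Finite H] (F : Facts D) (B : Big D t) (W : WFacts D t W0) (hV : VFacts D t W0 V)
    (K : Subgroup H) (hK : K ≤ rGrp F W) (hW : W0 ≤ K)
    (hP : ∀ p ∈ D.P, ∀ v ∈ V, p * v * p⁻¹ ∈ K) :
    ∀ q ∈ D.Q1, ∃ r ∈ K, ∃ w ∈ W0, ⁅r, t⁆ = q * w := by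
  let M : Subgroup H :=
    { carrier := {q | q ∈ D.Q1 ∧ ∃ r ∈ K, ∃ w ∈ W0, ⁅r, t⁆ = q * w}
      one_mem' := ⟨one_mem _, 1, one_mem _, 1, one_mem _, by simp⟩
      mul_mem' := by
        rintro q q' ⟨hq, r, hr, w, hw, h⟩ ⟨hq', r', hr', w', hw', h'⟩
        refine ⟨mul_mem hq hq', ?_⟩
        refine ⟨r * r', mul_mem hr hr', ?_⟩
        obtain ⟨w1, hw1, h1⟩ := R_conj_N F W (hK hr)
          (mul_mem (mem_sup_left hq') (mem_sup_right hw') : q' * w' ∈ D.Q1 ⊔ W0)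
        rw [comm_mul_left, h, h', h1]
        have hc : ⁅q', q⁆ ∈ W0 := W.Z_le (F.comm_Q1 q' hq' q hq)
        refine ⟨w1 * w' * w * ⁅q', q⁆, mul_mem (mul_mem (mul_mem hw1 hw') hw) hc, ?_⟩
        have c1 := W.cent_P _ hc (q * q') (mul_mem (F.Q1_le hq) (F.Q1_le hq'))
        have c2 := W.cent_P _ (mul_mem hw1 hw') (q' * q) (mul_mem (F.Q1_le hq') (F.Q1_le hq))
        have c3 := W.cent_P _ hw' q (F.Q1_le hq)
        have c4 := W.comm _ (mul_mem (mul_mem hw1 hw') hw) _ hc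
        have c5 : q' * q = ⁅q', q⁆ * (q * q') := by
          rw [commutatorElement_def]; group
        calc w1 * (q' * w') * (q * w) = w1 * q' * (w' * q) * w := by group
          _ = w1 * (q' * q) * w' * w := by rw [c3]; group
          _ = w1 * (⁅q', q⁆ * (q * q')) * w' * w := by rw [c5]
          _ = (w1 * ((q * q') * ⁅q', q⁆)) * w' * w := by rw [c1]
          _ = (w1 * (q * q')) * ⁅q', q⁆ * w' * w := by group
          _ = ((q * q') * w1) * ⁅q', q⁆ * w' * w := by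
            rw [W.cent_P _ hw1 (q * q') (mul_mem (F.Q1_le hq) (F.Q1_le hq'))]
          _ = (q * q') * (w1 * (⁅q', q⁆ * (w' * w))) := by group
          _ = (q * q') * (w1 * ((w' * w) * ⁅q', q⁆)) := by
            rw [W.comm _ hc _ (mul_mem hw' hw)]
          _ = q * q' * (w1 * w' * w * ⁅q', q⁆) := by group
      inv_mem' := by
        rintro q ⟨hq, r, hr, w, hw, h⟩
        refine ⟨inv_mem hq, r⁻¹, inv_mem hr, ?_⟩
        have hn : (q * w)⁻¹ ∈ D.Q1 ⊔ W0 := inv_mem (mul_mem (mem_sup_left hq) (mem_sup_right hw))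
        obtain ⟨w1, hw1, h1⟩ := R_conj_N F W (inv_mem (hK hr)) hn
        rw [inv_inv] at h1
        refine ⟨w1 * w⁻¹, mul_mem hw1 (inv_mem hw), ?_⟩
        rw [comm_inv_left, h, h1]
        have c1 := W.cent_P _ (mul_mem hw1 (inv_mem hw)) q⁻¹ (F.Q1_le (inv_mem hq))
        rw [← c1, mul_inv_rev]; group }
  have hle : D.Q1 ≤ M := by
    refine F.gen_Q1 M ?_ ?_
    · intro z hz
      obtain ⟨w, hw, h⟩ := W.onto z hz
      exact ⟨F.Z_le hz, w, hW hw, 1, one_mem _, by rw [h, mul_one]⟩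
    · intro p hp e he
      obtain ⟨v, hv, h⟩ := hV.onto e (mem_sup_right he)
      refine ⟨F.norm_Q1 p hp e (F.Xe_le he), p * v * p⁻¹, hP p hp v hv, 1, one_mem _, ?_⟩
      have : ⁅p * v * p⁻¹, t⁆ = p * ⁅v, t⁆ * p⁻¹ := by
        rw [conj_comm, conj_of_comm (P_t F B hp)]
      rw [this, h, mul_one]
  exact fun q hq => (hle hq).2

lemma gen_R [Finite H] (F : Facts D) (B : Big D t) (W : WFacts D t W0) (hV : VFacts D t W0 V)
    (K : Subgroup H) (hQ : D.Q1 ≤ K) (hW : W0 ≤ K)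
    (hP : ∀ p ∈ D.P, ∀ v ∈ V, p * v * p⁻¹ ∈ K) : rGrp F W ≤ K := by
  intro r hr
  obtain ⟨q, hq, w, hw, h⟩ := (mem_N F W).1 hr.2.2
  obtain ⟨s, ⟨hs, hsR⟩, w', hw', h'⟩ := onto_of F B W hV (K ⊓ rGrp F W) inf_le_right
    (le_inf hW (W0_R F W)) (fun p hp v hv => ⟨hP p hp v hv, P_R F B W hp (V_R F W hV hv)⟩) q hq
  have hN : s⁻¹ * r ∈ D.Q1 ⊔ W0 := by
    refine ker_R F B W hV (mul_mem (inv_mem hsR) hr) ?_
    have hn : q * w ∈ D.Q1 ⊔ W0 := mul_mem (mem_sup_left hq) (mem_sup_right hw)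
    have hn' : (q * w')⁻¹ ∈ D.Q1 ⊔ W0 :=
      inv_mem (mul_mem (mem_sup_left hq) (mem_sup_right hw'))
    obtain ⟨w1, hw1, h1⟩ := R_conj_N F W (inv_mem hsR) hn
    obtain ⟨w2, hw2, h2⟩ := R_conj_N F W (inv_mem hsR) hn'
    rw [inv_inv] at h1 h2
    rw [comm_mul_left, comm_inv_left, h, h', inv_inv, h1, h2]
    have : w1 * (q * w) * (w2 * (q * w')⁻¹) = w1 * (w2 * (w * w'⁻¹)) := by
      have c3 : (q * w) * w2 = w2 * (q * w) := by
        have := W.cent_P _ hw2 q (F.Q1_le hq)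
        have := W.comm _ hw2 _ hw
        grind
      have c4 : q * (w * w'⁻¹) * q⁻¹ = w * w'⁻¹ :=
        conj_of_comm (W.cent_P _ (mul_mem hw (inv_mem hw')) q (F.Q1_le hq)).symm
      calc w1 * (q * w) * (w2 * (q * w')⁻¹) = w1 * ((q * w) * w2) * (w'⁻¹ * q⁻¹) := by
            rw [mul_inv_rev]; group
        _ = w1 * (w2 * (q * (w * w'⁻¹) * q⁻¹)) := by rw [c3]; group
        _ = w1 * (w2 * (w * w'⁻¹)) := by rw [c4]
    rw [this]
    exact mul_mem hw1 (mul_mem hw2 (mul_mem hw (inv_mem hw')))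
  have hle : D.Q1 ⊔ W0 ≤ K := sup_le hQ hW
  have : r = s * (s⁻¹ * r) := by group
  rw [this]
  exact mul_mem hs (hle hN)

lemma card_R [Finite H] (F : Facts D) (B : Big D t) (W : WFacts D t W0) (hV : VFacts D t W0 V) :
    Nat.card (rGrp F W) = 2 ^ 20 := by
  have h1 : (D.Q1 ⊔ W0).relIndex (rGrp F W) = 256 := by
    rw [← relIndex_W0_N F B W]
    refine relIndex_eq_of_map (fun r => ⁅r, t⁆) (fun r hr => hr.2.2) ?_ ?_
    · intro r hr r' hr'
      have hs : r⁻¹ * r' ∈ rGrp F W := mul_mem (inv_mem hr) hr'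
      have e1 : ⁅r', t⁆ = r * ⁅r⁻¹ * r', t⁆ * r⁻¹ * ⁅r, t⁆ := by
        rw [← comm_mul_left]; congr 1; group
      obtain ⟨w, hw, e2⟩ := R_conj_N F W hr hs.2.2
      have hcent : ∀ n ∈ D.Q1 ⊔ W0, ∀ w ∈ W0, n⁻¹ * w * n = w := by
        intro n hn w hw
        have := ((inv_mem (N_R F B W hn)) : n⁻¹ ∈ rGrp F W).1 w hw
        rw [this]; group
      change r⁻¹ * r' ∈ D.Q1 ⊔ W0 ↔ ⁅r, t⁆⁻¹ * ⁅r', t⁆ ∈ W0
      rw [e1, e2]
      constructor
      · intro h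
        have h3 := ker_of_mem_N F B W h
        rw [← mul_assoc, hcent _ hr.2.2 _ (mul_mem hw h3)]
        exact mul_mem hw h3
      · intro h
        refine ker_R F B W hV hs ?_
        have h4 := hcent _ (inv_mem hr.2.2) _ h
        have h5 : (⁅r, t⁆⁻¹)⁻¹ * (⁅r, t⁆⁻¹ * (w * ⁅r⁻¹ * r', t⁆ * ⁅r, t⁆)) * ⁅r, t⁆⁻¹
            = w * ⁅r⁻¹ * r', t⁆ := by group
        rw [h5] at h4
        rw [← h4] at h
        exact (mul_mem_cancel_left hw).1 h
    · intro k hk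
      obtain ⟨q, hq, w, hw, rfl⟩ := (mem_N F W).1 hk
      obtain ⟨r, hr, w', hw', h'⟩ := onto_of F B W hV (rGrp F W) le_rfl (W0_R F W)
        (fun p hp v hv => P_R F B W hp (V_R F W hV hv)) q hq
      refine ⟨r, hr, ?_⟩
      rw [h']
      have : (q * w')⁻¹ * (q * w) = w'⁻¹ * w := by group
      rw [this]
      exact mul_mem (inv_mem hw') hw
  have h2 := relIndex_mul_card' (D.Q1 ⊔ W0) (rGrp F W) (N_R F B W)
  rw [h1, card_N F B W] at h2
  omega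

/-! ## Commutators -/

lemma comm_R_N (F : Facts D) (W : WFacts D t W0) {r : H} (hr : r ∈ rGrp F W) {n : H}
    (hn : n ∈ D.Q1 ⊔ W0) : ⁅r, n⁆ ∈ W0 := by
  obtain ⟨w, hw, h⟩ := R_conj_N F W hr hn
  rw [commutatorElement_def, h, mul_inv_cancel_right]
  exact hw

lemma comm_N_R (F : Facts D) (W : WFacts D t W0) {r : H} (hr : r ∈ rGrp F W) {n : H}
    (hn : n ∈ D.Q1 ⊔ W0) : ⁅n, r⁆ ∈ W0 := by
  rw [← commutatorElement_inv]
  exact inv_mem (comm_R_N F W hr hn)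

lemma comm_mem_N [Finite H] (F : Facts D) (B : Big D t) (W : WFacts D t W0)
    (hV : VFacts D t W0 V) {r s : H} (hr : r ∈ rGrp F W) (hs : s ∈ rGrp F W) :
    ⁅r, s⁆ ∈ D.Q1 ⊔ W0 := by
  -- `[rs, t]` and `[sr, t]` agree mod `W0`
  have key : ∀ a ∈ rGrp F W, ∀ b ∈ rGrp F W, ∃ w ∈ W0, ⁅a * b, t⁆ = w * (⁅b, t⁆ * ⁅a, t⁆) := by
    intro a ha b hb
    obtain ⟨w, hw, h⟩ := R_conj_N F W ha hb.2.2
    exact ⟨w, hw, by rw [comm_mul_left, h]; group⟩
  have e : r * s = ⁅r, s⁆ * (s * r) := by rw [commutatorElement_def]; group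
  have hsr : s * r ∈ rGrp F W := mul_mem hs hr
  have hc : ⁅r, s⁆ ∈ rGrp F W := by
    rw [commutatorElement_def]
    exact mul_mem (mul_mem (mul_mem hr hs) (inv_mem hr)) (inv_mem hs)
  refine ker_R F B W hV hc ?_
  obtain ⟨w1, hw1, h1⟩ := key r hr s hs
  obtain ⟨w2, hw2, h2⟩ := key s hs r hr
  obtain ⟨w3, hw3, h3⟩ := key _ hc _ hsr
  rw [← e, h1, h2] at h3
  -- w1 [s,t][r,t] = w3 w2 [r,t][s,t] [c,t]
  set x := ⁅r, t⁆ with hx
  set y := ⁅s, t⁆ with hy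
  have hxy : ⁅y, x⁆ ∈ W0 := comm_N_R F W (N_R F B W hr.2.2) hs.2.2
  have h4 : ⁅⁅r, s⁆, t⁆ = (x * y)⁻¹ * ((w3 * w2)⁻¹ * w1 * ⁅y, x⁆) * (x * y) := by
    have h5 : y * x = ⁅y, x⁆ * (x * y) := by rw [commutatorElement_def]; group
    rw [h5] at h3
    calc ⁅⁅r, s⁆, t⁆ = (x * y)⁻¹ * (w3 * w2)⁻¹ * (w3 * (w2 * (x * y) * ⁅⁅r, s⁆, t⁆)) := by group
      _ = (x * y)⁻¹ * (w3 * w2)⁻¹ * (w1 * (⁅y, x⁆ * (x * y))) := by rw [h3]
      _ = _ := by group
  have hn : (x * y)⁻¹ ∈ rGrp F W := inv_mem (mul_mem (N_R F B W hr.2.2) (N_R F B W hs.2.2))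
  have hw : (w3 * w2)⁻¹ * w1 * ⁅y, x⁆ ∈ W0 := mul_mem (mul_mem (inv_mem (mul_mem hw3 hw2)) hw1) hxy
  rw [h4, hn.1 _ hw, inv_mul_cancel_right]
  exact hw

/-- commutators are bimultiplicative mod `W0` -/
lemma comm_mul_right_R [Finite H] (F : Facts D) (B : Big D t) (W : WFacts D t W0)
    (hV : VFacts D t W0 V) {r s s' : H} (hr : r ∈ rGrp F W) (hs : s ∈ rGrp F W)
    (hs' : s' ∈ rGrp F W) : ∃ w ∈ W0, ⁅r, s * s'⁆ = w * (⁅r, s⁆ * ⁅r, s'⁆) := by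
  obtain ⟨w, hw, h⟩ := R_conj_N F W hs (comm_mem_N F B W hV hr hs')
  refine ⟨w, hw, ?_⟩
  rw [comm_mul_right, h]
  have := (N_R F B W (comm_mem_N F B W hV hr hs)).1 w hw
  rw [← mul_assoc, this, mul_assoc]

/-- the subgroup of elements of `R` commuting with `s` mod `W0` -/
def centMod [Finite H] (F : Facts D) (B : Big D t) (W : WFacts D t W0)
    (hV : VFacts D t W0 V) (s : H) (hs : s ∈ rGrp F W) : Subgroup H where
  carrier := {r | r ∈ rGrp F W ∧ ⁅s, r⁆ ∈ W0}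
  one_mem' := ⟨one_mem _, by simp⟩
  mul_mem' := by
    rintro a b ⟨ha, ha'⟩ ⟨hb, hb'⟩
    refine ⟨mul_mem ha hb, ?_⟩
    obtain ⟨w, hw, h⟩ := comm_mul_right_R F B W hV hs ha hb
    rw [h]
    exact mul_mem hw (mul_mem ha' hb')
  inv_mem' := by
    rintro a ⟨ha, ha'⟩
    refine ⟨inv_mem ha, ?_⟩
    have : ⁅s, a⁻¹⁆ = a⁻¹ * ⁅s, a⁆⁻¹ * a := by simp only [commutatorElement_def]; group
    rw [this, ((inv_mem ha) : a⁻¹ ∈ rGrp F W).1 _ (inv_mem ha'), inv_mul_cancel_right]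
    exact inv_mem ha'

lemma centMod_le [Finite H] (F : Facts D) (B : Big D t) (W : WFacts D t W0)
    (hV : VFacts D t W0 V) {s : H} (hs : s ∈ rGrp F W)
    (h : ∀ p ∈ D.P, ∀ v ∈ V, ⁅s, p * v * p⁻¹⁆ ∈ W0) {r : H} (hr : r ∈ rGrp F W) : ⁅s, r⁆ ∈ W0 := by
  have hle : rGrp F W ≤ centMod F B W hV s hs := by
    refine gen_R F B W hV _ ?_ ?_ ?_
    · exact fun q hq => ⟨Q1_R F B W hq, comm_R_N F W hs (mem_sup_left hq)⟩
    · exact fun q hq => ⟨W0_R F W hq, comm_R_N F W hs (mem_sup_right hq)⟩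
    · exact fun p hp v hv => ⟨P_R F B W hp (V_R F W hV hv), h p hp v hv⟩
  exact (hle hr).2

/-- `r ↦ [r,t]` is multiplicative mod `W0` -/
lemma tau_mul (F : Facts D) (B : Big D t) (W : WFacts D t W0) {a b : H}
    (ha : a ∈ rGrp F W) (hb : b ∈ rGrp F W) : ∃ w ∈ W0, ⁅a * b, t⁆ = w * (⁅a, t⁆ * ⁅b, t⁆) := by
  obtain ⟨w, hw, h⟩ := R_conj_N F W ha hb.2.2
  have hc : ⁅⁅b, t⁆, ⁅a, t⁆⁆ ∈ W0 := comm_N_R F W (N_R F B W ha.2.2) hb.2.2
  refine ⟨w * ⁅⁅b, t⁆, ⁅a, t⁆⁆, mul_mem hw hc, ?_⟩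
  rw [comm_mul_left, h]
  have : ⁅b, t⁆ * ⁅a, t⁆ = ⁅⁅b, t⁆, ⁅a, t⁆⁆ * (⁅a, t⁆ * ⁅b, t⁆) := by
    rw [commutatorElement_def ⁅b, t⁆]; group
  rw [mul_assoc w, this]; group

/-- conjugates of an element by `Xa` -/
lemma conj_Xa_P (F : Facts D) : D.a1 ∈ D.P ∧ D.a2 ∈ D.P ∧ D.a1 * D.a2 ∈ D.P :=
  ⟨Xa_P F F.a1_mem, Xa_P F F.a2_mem, mul_mem (Xa_P F F.a1_mem) (Xa_P F F.a2_mem)⟩

/-- if `σ` is multiplicative mod `W0` on `R` and commutes with the action of `Xa`, then it commutes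
with the norm mod `W0` -/
lemma nrm_of_mul (F : Facts D) (B : Big D t) (W : WFacts D t W0) (σ : H → H)
    (h : ∀ r ∈ rGrp F W, ∀ s ∈ rGrp F W, ∃ w ∈ W0, σ (r * s) = w * (σ r * σ s))
    (ha : ∀ a ∈ D.Xa, ∀ r ∈ rGrp F W, σ (a * r * a⁻¹) = a * σ r * a⁻¹) {u : H}
    (hu : u ∈ rGrp F W) : ∃ w ∈ W0, σ (D.nrm u) = w * D.nrm (σ u) := by
  obtain ⟨p1, p2, p3⟩ := conj_Xa_P F
  have u1 := P_R F B W p1 hu
  have u2 := P_R F B W p2 hu
  have u3 := P_R F B W p3 hu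
  obtain ⟨w1, hw1, h1⟩ := h _ (mul_mem (mul_mem hu u1) u2) _ u3
  obtain ⟨w2, hw2, h2⟩ := h _ (mul_mem hu u1) _ u2
  obtain ⟨w3, hw3, h3⟩ := h _ hu _ u1
  refine ⟨w1 * (w2 * w3), mul_mem hw1 (mul_mem hw2 hw3), ?_⟩
  rw [Data.nrm, h1, h2, h3, ha _ F.a1_mem _ hu, ha _ F.a2_mem _ hu,
    ha _ (mul_mem F.a1_mem F.a2_mem) _ hu, Data.nrm]
  group

lemma nrm_mul (F : Facts D) (B : Big D t) (W : WFacts D t W0) {x m : H} (hx : x ∈ D.Q1)
    (hm : m ∈ rGrp F W) (h1 : ∀ a ∈ D.Xa, a * m = m * a) (h2 : m * m ∈ W0) :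
    ∃ w ∈ W0, D.nrm (x * m) = w * D.nrm x := by
  obtain ⟨p1, p2, p3⟩ := conj_Xa_P F
  have q1 := F.norm_Q1 _ p1 _ hx
  have q2 := F.norm_Q1 _ p2 _ hx
  have q3 := F.norm_Q1 _ p3 _ hx
  have hc : ∀ a ∈ D.Xa, a * (x * m) * a⁻¹ = a * x * a⁻¹ * m := by
    intro a ha
    have := conj_of_comm (h1 a ha)
    calc a * (x * m) * a⁻¹ = a * x * a⁻¹ * (a * m * a⁻¹) := by group
      _ = _ := by rw [this]
  rw [Data.nrm, Data.nrm, hc _ F.a1_mem, hc _ F.a2_mem, hc _ (mul_mem F.a1_mem F.a2_mem)]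
  set x1 := D.a1 * x * D.a1⁻¹
  set x2 := D.a2 * x * D.a2⁻¹
  set x3 := D.a1 * D.a2 * x * (D.a1 * D.a2)⁻¹
  have c1 : ⁅m, x1⁆ ∈ W0 := hm.2.1 _ q1
  have c3 : ⁅m, x3⁆ ∈ W0 := hm.2.1 _ q3
  have e1 : m * x1 = ⁅m, x1⁆ * x1 * m := by rw [commutatorElement_def]; group
  have e3 : m * x3 = ⁅m, x3⁆ * x3 * m := by rw [commutatorElement_def]; group
  have k1 := (Q1_R F B W hx).1
  have k2 := (mul_mem (mul_mem (Q1_R F B W hx) (Q1_R F B W q1)) (Q1_R F B W q2)).1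
  have k3 := (mul_mem (mul_mem (mul_mem (Q1_R F B W hx) (Q1_R F B W q1)) (Q1_R F B W q2))
    (Q1_R F B W q3)).1
  have k4 := (mul_mem (Q1_R F B W hx) (Q1_R F B W q1)).1
  refine ⟨⁅m, x1⁆ * (m * m) * ⁅m, x3⁆ * (m * m),
    mul_mem (mul_mem (mul_mem c1 h2) c3) h2, ?_⟩
  calc x * m * (x1 * m) * (x2 * m) * (x3 * m)
      = x * (m * x1) * m * x2 * (m * x3) * m := by group
    _ = (x * ⁅m, x1⁆) * x1 * m * m * x2 * (⁅m, x3⁆ * x3 * m) * m := by rw [e1, e3]; group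
    _ = ⁅m, x1⁆ * (x * x1 * (m * m)) * x2 * ⁅m, x3⁆ * x3 * (m * m) := by rw [k1 _ c1]; group
    _ = ⁅m, x1⁆ * (m * m) * ((x * x1 * x2) * ⁅m, x3⁆) * x3 * (m * m) := by rw [k4 _ h2]; group
    _ = ⁅m, x1⁆ * (m * m) * ⁅m, x3⁆ * ((x * x1 * x2 * x3) * (m * m)) := by rw [k2 _ c3]; group
    _ = _ := by rw [k3 _ h2]; group

/-- `[V, V^ns] ≤ W4 W0` -/
lemma comm_V_ns_aux [Finite H] (F : Facts D) (B : Big D t) (W : WFacts D t W0)
    (hV : VFacts D t W0 V) {v u0 : H} (hv : v ∈ V) (hu0 : u0 ∈ V) :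
    ∃ m ∈ D.W4, ∃ w ∈ W0, ⁅v, D.ns * u0 * D.ns⁻¹⁆ = m * w := by
  set u := D.ns * u0 * D.ns⁻¹ with hu
  have huR : u ∈ rGrp F W := P_R F B W F.ns_mem (V_R F W hV hu0)
  have hvR : v ∈ rGrp F W := V_R F W hV hv
  set c := ⁅v, u⁆ with hc
  have hcN : c ∈ D.Q1 ⊔ W0 := comm_mem_N F B W hV hvR huR
  -- `y` centralises `c`
  have hyP : D.y ∈ D.P := F.y_mem.1
  have hyv : D.y * v * D.y⁻¹ = v := conj_of_comm (hV.cent_L2 v hv _ F.y_mem).symm
  have hyu : D.y * u * D.y⁻¹ = u := by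
    have e1 : D.y * D.ns = D.ns * D.y⁻¹ := by
      have := F.ns_y
      have hns : D.ns⁻¹ = D.ns := inv_eq_of_mul_eq_one_right F.ns_sq
      calc D.y * D.ns = (D.ns * D.ns) * D.y * D.ns⁻¹ := by rw [F.ns_sq, hns]; group
        _ = D.ns * (D.ns * D.y * D.ns⁻¹) := by group
        _ = D.ns * D.y⁻¹ := by rw [this]
    have e2 : D.y⁻¹ * u0 * D.y = u0 := by
      have := hV.cent_L2 u0 hu0 _ (inv_mem F.y_mem)
      rw [← this]; group
    have e3 : D.ns⁻¹ * D.y⁻¹ = D.y * D.ns⁻¹ := by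
      rw [← mul_inv_rev, e1, mul_inv_rev, inv_inv]
    calc D.y * u * D.y⁻¹ = D.y * D.ns * u0 * (D.ns⁻¹ * D.y⁻¹) := by rw [hu]; group
      _ = D.ns * (D.y⁻¹ * u0 * D.y) * D.ns⁻¹ := by rw [e1, e3]; group
      _ = u := by rw [e2]
  have hyc : D.y * c * D.y⁻¹ = c := by rw [hc, conj_comm, hyv, hyu]
  obtain ⟨q, hq, w, hw, hqw⟩ := (mem_N F W).1 hcN
  have hyw : D.y * w * D.y⁻¹ = w := conj_of_comm (W.cent_P w hw _ hyP).symm
  have hyq : ⁅q, D.y⁆ = 1 := by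
    rw [commutatorElement_eq_one_iff_mul_comm]
    have e : D.y * q * D.y⁻¹ = q := by
      have h1 : q = c * w⁻¹ := by rw [hqw]; group
      calc D.y * q * D.y⁻¹ = (D.y * c * D.y⁻¹) * (D.y * w * D.y⁻¹)⁻¹ := by rw [h1]; group
        _ = q := by rw [hyc, hyw, h1]
    calc q * D.y = D.y * q * D.y⁻¹ * D.y := by rw [e]
      _ = D.y * q := by group
  obtain ⟨x, hx, m, hm, hxm⟩ := F.cent_y q hq (by rw [hyq]; exact one_mem _)
  -- the norm of `c`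
  have hXa : ∀ a ∈ D.Xa, a * v * a⁻¹ = v := fun a ha =>
    conj_of_comm (hV.cent_L2 v hv _ (F.Q2_le (F.Xa_le ha))).symm
  obtain ⟨w1, hw1, h1⟩ := nrm_of_mul F B W (fun r => ⁅v, r⁆)
    (fun r hr s hs => comm_mul_right_R F B W hV hvR hr hs)
    (fun a ha r _ => by rw [conj_comm, hXa a ha]) huR
  obtain ⟨w2, hw2, h2⟩ := nrm_of_mul F B W (fun r => ⁅r, t⁆)
    (fun r hr s hs => tau_mul F B W hr hs)
    (fun a ha r _ => by rw [conj_comm, conj_of_comm (P_t F B (Xa_P F ha))]) huR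
  -- `[u, t] = x' z`
  obtain ⟨z, hz, e, he, hze⟩ := mem_W4 F (hV.comm_t u0 hu0)
  have hut : ⁅u, t⁆ = (D.ns * e * D.ns⁻¹) * z := by
    have h3 : ⁅u, t⁆ = D.ns * ⁅u0, t⁆ * D.ns⁻¹ := by
      rw [conj_comm, conj_of_comm (P_t F B F.ns_mem)]
    have h4 : D.ns * z * D.ns⁻¹ = z := conj_of_comm (P_Z F F.ns_mem hz)
    rw [h3, hze]
    calc D.ns * (z * e) * D.ns⁻¹ = (D.ns * z * D.ns⁻¹) * (D.ns * e * D.ns⁻¹) := by group
      _ = _ := by
        rw [h4]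
        exact (P_Z F (F.Q1_le (F.Xb_le (F.ns_Xe e he))) hz).symm
  obtain ⟨w3, hw3, h3⟩ := nrm_mul F B W (x := D.ns * e * D.ns⁻¹) (m := z)
    (F.Xb_le (F.ns_Xe e he)) (W0_R F W (W.Z_le hz)) (fun a ha => P_Z F (Xa_P F ha) hz)
    (by rw [F.sq_Z z hz]; exact one_mem _)
  rw [hut, h3] at h2
  obtain ⟨v1, hv1, h4⟩ := hV.onto _ (F.nrm_Xb _ (F.ns_Xe e he)).1
  have hnu : D.nrm u ∈ rGrp F W := by
    obtain ⟨p1, p2, p3⟩ := conj_Xa_P F
    exact mul_mem (mul_mem (mul_mem huR (P_R F B W p1 huR)) (P_R F B W p2 huR))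
      (P_R F B W p3 huR)
  have hv1R : v1 ∈ rGrp F W := V_R F W hV hv1
  have hn : v1⁻¹ * D.nrm u ∈ D.Q1 ⊔ W0 := by
    refine ker_R F B W hV (mul_mem (inv_mem hv1R) hnu) ?_
    obtain ⟨w5, hw5, h5⟩ := tau_mul F B W (inv_mem hv1R) hnu
    obtain ⟨w6, hw6, h6⟩ := tau_mul F B W (inv_mem hv1R) hv1R
    have h7 : ⁅v1⁻¹, t⁆ = w6⁻¹ * ⁅v1, t⁆⁻¹ := by
      rw [inv_mul_cancel, commutatorElement_one_left] at h6
      calc ⁅v1⁻¹, t⁆ = w6⁻¹ * (w6 * (⁅v1⁻¹, t⁆ * ⁅v1, t⁆)) * ⁅v1, t⁆⁻¹ := by group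
        _ = _ := by rw [← h6]; group
    rw [h5, h7, h2, ← h4]
    have h8 : ⁅v1, t⁆⁻¹ * (w2 * w3) = (w2 * w3) * ⁅v1, t⁆⁻¹ :=
      (inv_mem (N_R F B W hv1R.2.2) : ⁅v1, t⁆⁻¹ ∈ rGrp F W).1 _ (mul_mem hw2 hw3)
    have h9 : w5 * (w6⁻¹ * ⁅v1, t⁆⁻¹ * (w2 * (w3 * ⁅v1, t⁆))) = w5 * (w6⁻¹ * (w2 * w3)) := by
      calc w5 * (w6⁻¹ * ⁅v1, t⁆⁻¹ * (w2 * (w3 * ⁅v1, t⁆)))
          = w5 * (w6⁻¹ * (⁅v1, t⁆⁻¹ * (w2 * w3)) * ⁅v1, t⁆) := by group
        _ = _ := by rw [h8]; group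
    rw [h9]
    exact mul_mem hw5 (mul_mem (inv_mem hw6) (mul_mem hw2 hw3))
  -- so `[v, nrm u] ∈ W0`
  have h10 : ⁅v, D.nrm u⁆ ∈ W0 := by
    have e1 : D.nrm u = v1 * (v1⁻¹ * D.nrm u) := by group
    rw [e1, comm_mul_right]
    have e2 : ⁅v, v1⁆ = 1 := by
      rw [commutatorElement_eq_one_iff_mul_comm]; exact hV.comm v hv v1 hv1
    have e3 := comm_R_N F W hvR hn
    rw [e2, one_mul, conj_of_comm (hv1R.1 _ e3)]
    exact e3
  have h11 : D.nrm c ∈ W0 := by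
    rw [h1] at h10
    exact (mul_mem_cancel_left hw1).1 h10
  -- `nrm c ≡ nrm x`
  have hmR : m * w ∈ rGrp F W := mul_mem (Q1_R F B W (W4_Q1 F hm)) (W0_R F W hw)
  have hmL : ∀ a ∈ D.Xa, a * m = m * a := by
    intro a ha
    obtain ⟨z, hz, e, he, rfl⟩ := mem_W4 F hm
    have c1 := P_Z F (Xa_P F ha) hz
    have c2 : e * a = a * e := (F.Q2_le (F.Xa_le ha)).2 e he
    calc a * (z * e) = (a * z) * e := by group
      _ = z * (a * e) := by rw [c1]; group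
      _ = z * e * a := by rw [← c2]; group
  have hmm : m * m = 1 := by
    obtain ⟨z, hz, e, he, rfl⟩ := mem_W4 F hm
    have c1 := P_Z F (F.Q1_le (F.Xe_le he)) hz
    calc z * e * (z * e) = z * (e * z) * e := by group
      _ = (z * z) * (e * e) := by rw [c1]; group
      _ = 1 := by rw [F.sq_Z z hz, F.sq_Xe e he, one_mul]
  obtain ⟨w4, hw4, h12⟩ := nrm_mul F B W (x := x) (m := m * w) (F.Xb_le hx) hmR
    (fun a ha => by
      have c1 := hmL a ha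
      have c2 := W.cent_P w hw a (Xa_P F ha)
      calc a * (m * w) = (a * m) * w := by group
        _ = m * (a * w) := by rw [c1]; group
        _ = m * w * a := by rw [← c2]; group)
    (by
      have c1 := (Q1_R F B W (W4_Q1 F hm)).1 w hw
      have : m * w * (m * w) = (m * m) * (w * w) := by
        calc m * w * (m * w) = m * (w * m) * w := by group
          _ = (m * m) * (w * w) := by rw [← c1]; group
      rw [this, hmm, one_mul]
      exact mul_mem hw hw)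
  have hcx : c = x * (m * w) := by rw [hqw, hxm]; group
  rw [hcx, h12] at h11
  have h13 : D.nrm x ∈ W0 := (mul_mem_cancel_left hw4).1 h11
  obtain ⟨hn1, hn2⟩ := F.nrm_Xb x hx
  have hx1 : x = 1 := hn2 (inter F B W (W4_Q1 F hn1) h13)
  exact ⟨m, hm, w, hw, by rw [hcx, hx1, one_mul]⟩

/-- `[V, V^ns] ≤ W0` -/
lemma comm_V_ns [Finite H] (F : Facts D) (B : Big D t) (W : WFacts D t W0)
    (hV : VFacts D t W0 V) {v u0 : H} (hv : v ∈ V) (hu0 : u0 ∈ V) :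
    ⁅v, D.ns * u0 * D.ns⁻¹⁆ ∈ W0 := by
  have hns : D.ns⁻¹ = D.ns := inv_eq_of_mul_eq_one_right F.ns_sq
  obtain ⟨m, hm, w, hw, h⟩ := comm_V_ns_aux F B W hV hv hu0
  obtain ⟨m', hm', w', hw', h'⟩ := comm_V_ns_aux F B W hV hu0 hv
  -- conjugate by `ns`
  have e1 : ⁅v, D.ns * u0 * D.ns⁻¹⁆ = D.ns * (m' * w')⁻¹ * D.ns⁻¹ := by
    rw [← h', commutatorElement_inv, conj_comm]
    congr 1
    rw [hns]
    calc v = (D.ns * D.ns) * v * (D.ns * D.ns) := by rw [F.ns_sq]; group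
      _ = D.ns * (D.ns * v * D.ns) * D.ns := by group
  obtain ⟨z, hz, e, he, rfl⟩ := mem_W4 F hm
  obtain ⟨z', hz', e', he', rfl⟩ := mem_W4 F hm'
  have hW : ∀ w ∈ W0, D.ns * w * D.ns⁻¹ = w := fun w hw =>
    conj_of_comm (W.cent_P w hw _ F.ns_mem).symm
  have hx : D.ns * e'⁻¹ * D.ns⁻¹ ∈ D.Xb := F.ns_Xe _ (inv_mem he')
  -- `e = x * w1`
  have hzw : z' * w' ∈ W0 := mul_mem (W.Z_le hz') hw'
  have e2 : D.ns * (z' * e' * w')⁻¹ * D.ns⁻¹ = (D.ns * e'⁻¹ * D.ns⁻¹) * (z' * w')⁻¹ := by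
    have c1 := (Q1_R F B W (F.Xe_le he')).1 w' hw'
    have c2 : (z' * e' * w')⁻¹ = e'⁻¹ * (z' * w')⁻¹ := by
      have : z' * e' * w' = z' * w' * e' := by rw [mul_assoc, c1]; group
      rw [this, mul_inv_rev]
    calc D.ns * (z' * e' * w')⁻¹ * D.ns⁻¹
        = (D.ns * e'⁻¹ * D.ns⁻¹) * (D.ns * (z' * w')⁻¹ * D.ns⁻¹) := by rw [c2]; group
      _ = _ := by rw [hW _ (inv_mem hzw)]
  set x := D.ns * e'⁻¹ * D.ns⁻¹ with hxdef
  have e3 : z * e * w = x * (z' * w')⁻¹ := by rw [← h, e1, e2]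
  have c3 : e * w = w * e := (Q1_R F B W (F.Xe_le he)).1 w hw
  -- `e⁻¹ x ∈ W0`
  have e4 : x⁻¹ * e = (z' * w')⁻¹ * (z * w)⁻¹ := by
    have c4 := (Q1_R F B W (F.Xe_le he)).1 _ (mul_mem (W.Z_le hz) hw)
    have c5 : z * e * w = e * (z * w) := by rw [mul_assoc, c3, c4]; group
    rw [c5] at e3
    calc x⁻¹ * e = x⁻¹ * (e * (z * w)) * (z * w)⁻¹ := by group
      _ = _ := by rw [e3]; group
  have e5 : x⁻¹ * e ∈ D.Z := by
    refine inter F B W (mul_mem (inv_mem (F.Xb_le hx)) (F.Xe_le he)) ?_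
    rw [e4]
    exact mul_mem (inv_mem hzw) (inv_mem (mul_mem (W.Z_le hz) hw))
  have e6 : e * x = x * e := by
    have c6 := P_Z F (F.Q1_le (F.Xb_le hx)) e5
    calc e * x = x * (x⁻¹ * e * x) := by group
      _ = x * (x * (x⁻¹ * e)) := by rw [c6]
      _ = x * e := by group
  have e7 : e = 1 := by
    rcases F.Xe_Xb e he x hx e6 with h | h
    · exact h
    · rw [h, inv_one, one_mul] at e5
      exact F.Xe_Z e he e5
  rw [h, e7, mul_one]
  exact mul_mem (W.Z_le hz) hw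

lemma conj_V_of_R (F : Facts D) (W : WFacts D t W0) (hV : VFacts D t W0 V)
    {q : H} (hq : q ∈ D.Q1) {v : H} (hv : v ∈ V) : q * v * q⁻¹ ∈ V := by
  have h1 : ⁅q, v⁆ ∈ W0 := by
    rw [← commutatorElement_inv]
    exact inv_mem ((V_R F W hV hv).2.1 q hq)
  have : q * v * q⁻¹ = ⁅q, v⁆ * v := by rw [commutatorElement_def]; group
  rw [this]
  exact mul_mem (hV.le h1) hv

/-- `B = Q1 Xa ⟨y⟩` normalises `V` -/
lemma conj_V_of_B (F : Facts D) (W : WFacts D t W0) (hV : VFacts D t W0 V)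
    {b : H} (hb : b ∈ D.B) {v : H} (hv : v ∈ V) : b * v * b⁻¹ ∈ V ∧ b⁻¹ * v * b ∈ V := by
  let N : Subgroup H :=
    { carrier := {b | ∀ v ∈ V, b * v * b⁻¹ ∈ V ∧ b⁻¹ * v * b ∈ V}
      one_mem' := fun v hv => by simpa using hv
      mul_mem' := by
        intro a b ha hb v hv
        constructor
        · have : a * b * v * (a * b)⁻¹ = a * (b * v * b⁻¹) * a⁻¹ := by group
          rw [this]
          exact (ha _ (hb v hv).1).1
        · have : (a * b)⁻¹ * v * (a * b) = b⁻¹ * (a⁻¹ * v * a) * b := by group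
          rw [this]
          exact (hb _ (ha v hv).2).2
      inv_mem' := by
        intro a ha v hv
        have := ha v hv
        rw [inv_inv]
        exact ⟨this.2, this.1⟩ }
  have hL : ∀ l ∈ D.L2, l ∈ N := by
    intro l hl v hv
    have c1 := hV.cent_L2 v hv l hl
    have c2 := hV.cent_L2 v hv _ (inv_mem hl)
    constructor
    · rw [← c1]; simpa using hv
    · rw [← c2]; simpa using hv
  have hle : D.B ≤ N := by
    refine sup_le (sup_le ?_ ?_) ?_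
    · intro q hq v hv
      refine ⟨conj_V_of_R F W hV hq hv, ?_⟩
      have := conj_V_of_R F W hV (inv_mem hq) hv
      rwa [inv_inv] at this
    · exact fun a ha => hL a (F.Q2_le (F.Xa_le ha))
    · rw [zpowers_le]
      exact hL _ F.y_mem
  exact hle hb v hv

lemma comm_V_conj [Finite H] (F : Facts D) (B : Big D t) (W : WFacts D t W0)
    (hV : VFacts D t W0 V) {p : H} (hp : p ∈ D.P) {v u : H} (hv : v ∈ V) (hu : u ∈ V) :
    ⁅v, p * u * p⁻¹⁆ ∈ W0 := by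
  rcases F.bruhat p hp with hb | ⟨b, hb, b', hb', rfl⟩
  · have h1 := (conj_V_of_B F W hV hb hu).1
    have : ⁅v, p * u * p⁻¹⁆ = 1 := by
      rw [commutatorElement_eq_one_iff_mul_comm]
      exact hV.comm v hv _ h1
    rw [this]; exact one_mem _
  · have h1 := (conj_V_of_B F W hV hb' hu).1
    have h2 := (conj_V_of_B F W hV hb hv).2
    have h3 := comm_V_ns F B W hV h2 h1
    have hbP : b ∈ D.P := by
      have hle : D.B ≤ D.P := sup_le (sup_le F.Q1_le (fun a ha => Xa_P F ha))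
        (by rw [zpowers_le]; exact F.y_mem.1)
      exact hle hb
    have h4 : ⁅v, b * D.ns * b' * u * (b * D.ns * b')⁻¹⁆
        = b * ⁅b⁻¹ * v * b, D.ns * (b' * u * b'⁻¹) * D.ns⁻¹⁆ * b⁻¹ := by
      rw [conj_comm]
      congr 1 <;> group
    rw [h4, conj_of_comm (W.cent_P _ h3 b hbP).symm]
    exact h3

lemma comm_R [Finite H] (F : Facts D) (B : Big D t) (W : WFacts D t W0)
    (hV : VFacts D t W0 V) {r s : H} (hr : r ∈ rGrp F W) (hs : s ∈ rGrp F W) : ⁅r, s⁆ ∈ W0 := by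
  -- first `s = p v p⁻¹`
  have h1 : ∀ v ∈ V, ∀ r ∈ rGrp F W, ⁅v, r⁆ ∈ W0 := fun v hv r hr =>
    centMod_le F B W hV (V_R F W hV hv) (fun p hp u hu => comm_V_conj F B W hV hp hv hu) hr
  refine centMod_le F B W hV hr (fun p hp v hv => ?_) hs
  have e1 : ⁅r, p * v * p⁻¹⁆ = p * ⁅v, p⁻¹ * r * p⁆⁻¹ * p⁻¹ := by
    rw [commutatorElement_inv, conj_comm]
    congr 1; group
  have e2 : p⁻¹ * r * p ∈ rGrp F W := by
    have := P_R F B W (inv_mem hp) hr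
    rwa [inv_inv] at this
  have e3 := inv_mem (h1 v hv _ e2)
  rw [e1, conj_of_comm (W.cent_P _ e3 p hp).symm]
  exact e3

lemma sq_R [Finite H] (F : Facts D) (B : Big D t) (W : WFacts D t W0)
    (hV : VFacts D t W0 V) {r : H} (hr : r ∈ rGrp F W) : r * r ∈ W0 := by
  let K : Subgroup H :=
    { carrier := {r | r ∈ rGrp F W ∧ r * r ∈ W0}
      one_mem' := ⟨one_mem _, by rw [one_mul]; exact one_mem _⟩
      mul_mem' := by
        rintro a b ⟨ha, ha'⟩ ⟨hb, hb'⟩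
        refine ⟨mul_mem ha hb, ?_⟩
        have hc := comm_R F B W hV hb ha
        have e1 : b * a = ⁅b, a⁆ * (a * b) := by rw [commutatorElement_def]; group
        have c1 := ha.1 _ hc
        have c2 := (mul_mem ha ha).1 _ hb'
        have : a * b * (a * b) = ⁅b, a⁆ * ((a * a) * (b * b)) := by
          calc a * b * (a * b) = a * (b * a) * b := by group
            _ = (a * ⁅b, a⁆) * (a * b) * b := by rw [e1]; group
            _ = _ := by rw [c1]; group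
        rw [this]
        exact mul_mem hc (mul_mem ha' hb')
      inv_mem' := by
        rintro a ⟨ha, ha'⟩
        refine ⟨inv_mem ha, ?_⟩
        rw [← mul_inv_rev]
        exact inv_mem ha' }
  have hle : rGrp F W ≤ K := by
    refine gen_R F B W hV _ ?_ ?_ ?_
    · exact fun q hq => ⟨Q1_R F B W hq, W.Z_le (F.sq_Q1 q hq)⟩
    · exact fun w hw => ⟨W0_R F W hw, mul_mem hw hw⟩
    · intro p hp v hv
      refine ⟨P_R F B W hp (V_R F W hV hv), ?_⟩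
      have : p * v * p⁻¹ * (p * v * p⁻¹) = 1 := by
        calc p * v * p⁻¹ * (p * v * p⁻¹) = p * (v * v) * p⁻¹ := by group
          _ = 1 := by rw [hV.sq v hv]; group
      rw [this]; exact one_mem _
  exact (hle hr).2

/-- Step (3): existence of `R` -/
theorem rFacts [Finite H] (F : Facts D) (B : Big D t) (W : WFacts D t W0)
    (hV : VFacts D t W0 V) : RFacts D t W0 V (rGrp F W) where
  mem_iff _ := Iff.rfl
  Q1_le := Q1_R F B W
  W0_le := W0_R F W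
  V_le := V_R F W hV
  P_mem _ hp _ hr := P_R F B W hp hr
  card := card_R F B W hV
  cent_W0 _ hr := hr.1
  comm_Q1 _ hr := hr.2.1
  comm_t _ hr := (mem_N F W).1 hr.2.2
  onto := onto_of F B W hV (rGrp F W) le_rfl (W0_R F W)
    (fun _ hp _ hv => P_R F B W hp (V_R F W hV hv))
  ker _ hr h := (mem_N F W).1 (ker_R F B W hV hr h)
  inter _ hq hw := inter F B W hq hw
  gen := gen_R F B W hV
  comm _ hr _ hs := comm_R F B W hV hr hs
  sq _ hr := sq_R F B W hV hr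
  V_mem r hr v hv := by
    have : r * v * r⁻¹ = ⁅r, v⁆ * v := by rw [commutatorElement_def]; group
    rw [this]
    exact mul_mem (hV.le (comm_R F B W hV hr (V_R F W hV hv))) hv
  t_notMem := t_notMem_R F W

end Cfsg.Agent.GTwoFour.GrowR
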