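import Cfsg.Agent.GTwoFour.GrowW

/-!
The second growth step for S1751 (rank one): `V = W0 × W0^{nl}` is elementary abelian of order `2^8`,
normalised by `nl` and `Xb`, with `[V, t] = W4`, `t ∉ V`.
-/

set_option autoImplicit false

namespace Cfsg.Agent.GTwoFour.GrowV

open Subgroup Iface
open GrowW hiding W W0
open scoped commutatorElement

variable {H : Type*} [Group H] {D : Data H} {t : H} {W0 : Subgroup H}

section Basic

variable (F : Facts D) (B : Big D t) (W : WFacts D t W0)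

include F in
theorem nl_inv : D.nl⁻¹ = D.nl := inv_eq_of_mul_eq_one_left F.nl_sq

include F in
theorem nl_nl (x : H) : D.nl * (D.nl * x * D.nl⁻¹) * D.nl⁻¹ = x := by
  have h1 : D.nl * (D.nl * x * D.nl⁻¹) * D.nl⁻¹ = D.nl * D.nl * x * (D.nl * D.nl)⁻¹ := by group
  rw [h1, F.nl_sq]; group

include F in
theorem Xe_comm {e e' : H} (he : e ∈ D.Xe) (he' : e' ∈ D.Xe) : e * e' = e' * e := by
  have h1 := inv_eq_of_mul_eq_one_left (F.sq_Xe _ (D.Xe.mul_mem he he'))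
  have h2 := inv_eq_of_mul_eq_one_left (F.sq_Xe _ he)
  have h3 := inv_eq_of_mul_eq_one_left (F.sq_Xe _ he')
  rw [← h1, mul_inv_rev, h2, h3]

include F in
theorem Xe_le_L2 : D.Xe ≤ D.L2 := fun e he => mem_inf.2 ⟨Xe_le_P F he, by
  rw [mem_centralizer_iff]
  intro e' he'
  exact Xe_comm F he' he⟩

include F in
theorem Z_le_L2 : D.Z ≤ D.L2 := fun z hz => mem_inf.2 ⟨Z_le_P F hz, by
  rw [mem_centralizer_iff]
  intro e' he'
  exact P_Z F (Xe_le_P F he') hz⟩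

include F in
theorem W4_le_L2 : D.W4 ≤ D.L2 := sup_le (Z_le_L2 F) (Xe_le_L2 F)

theorem Z_le_W4 : D.Z ≤ D.W4 := le_sup_left

theorem Xe_le_W4 : D.Xe ≤ D.W4 := le_sup_right

include F in
theorem W4_sq {w : H} (hw : w ∈ D.W4) : w * w = 1 := by
  obtain ⟨z, hz, e, he, rfl⟩ := (mem_W4 F).1 hw
  calc z * e * (z * e) = z * (e * z) * e := by group
    _ = (z * z) * (e * e) := by rw [P_Z F (Xe_le_P F he) hz]; group
    _ = 1 := by rw [F.sq_Z z hz, F.sq_Xe e he, one_mul]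

include F in
theorem W4_comm {w w' : H} (hw : w ∈ D.W4) (hw' : w' ∈ D.W4) : w * w' = w' * w :=
  L2_W4 F (W4_le_L2 F hw) hw'

include F in
/-- `L2 = C_A(W4)` -/
theorem mem_L2_iff {l : H} : l ∈ D.L2 ↔ l ∈ D.A ∧ ∀ w ∈ D.W4, l * w = w * l := by
  constructor
  · intro hl
    exact ⟨F.P_le (L2_le_P hl), fun w hw => L2_W4 F hl hw⟩
  · rintro ⟨hA, hc⟩
    refine mem_inf.2 ⟨(F.cent_Z l hA).1 fun z hz => hc z (Z_le_W4 hz), ?_⟩
    rw [mem_centralizer_iff]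
    intro e he
    exact (hc e (Xe_le_W4 he)).symm

/-- `V2 = {v ∈ C(L2) | [v,t] ∈ W4}` -/
def V2 : Subgroup H where
  carrier := {v | (∀ l ∈ D.L2, v * l = l * v) ∧ ⁅v, t⁆ ∈ D.W4}
  one_mem' := by
    refine ⟨fun z _ => by simp, ?_⟩
    rw [commutatorElement_one_left]; exact D.W4.one_mem
  mul_mem' := by
    rintro a b ⟨ha, ha'⟩ ⟨hb, hb'⟩
    refine ⟨fun z hz => by rw [mul_assoc, hb z hz, ← mul_assoc, ha z hz, mul_assoc], ?_⟩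
    have h1 : ⁅a * b, t⁆ = a * ⁅b, t⁆ * a⁻¹ * ⁅a, t⁆ := by
      simp only [commutatorElement_def]; group
    have h2 : a * ⁅b, t⁆ * a⁻¹ = ⁅b, t⁆ := by rw [ha _ (W4_le_L2 F hb')]; group
    rw [h1, h2]
    exact D.W4.mul_mem hb' ha'
  inv_mem' := by
    rintro a ⟨ha, ha'⟩
    have ha2 : ∀ z ∈ D.L2, a⁻¹ * z = z * a⁻¹ := by
      intro z hz
      calc a⁻¹ * z = a⁻¹ * (z * a) * a⁻¹ := by group
        _ = a⁻¹ * (a * z) * a⁻¹ := by rw [ha z hz]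
        _ = z * a⁻¹ := by group
    refine ⟨ha2, ?_⟩
    have h1 : ⁅a⁻¹, t⁆ = a⁻¹ * ⁅a, t⁆⁻¹ * a := by
      simp only [commutatorElement_def]; group
    rw [h1, ha2 _ (D.L2.inv_mem (W4_le_L2 F ha')), inv_mul_cancel_right]
    exact D.W4.inv_mem ha'

theorem mem_V2 {v : H} : v ∈ V2 (t := t) F ↔ (∀ l ∈ D.L2, v * l = l * v) ∧ ⁅v, t⁆ ∈ D.W4 := Iff.rfl

theorem V2_W4 {v w : H} (hv : v ∈ V2 (t := t) F) (hw : w ∈ D.W4) : v * w = w * v :=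
  hv.1 w (W4_le_L2 F hw)

theorem V2_comm_mul {a b : H} (ha : a ∈ V2 (t := t) F) (hb : b ∈ V2 (t := t) F) :
    ⁅a * b, t⁆ = ⁅a, t⁆ * ⁅b, t⁆ := by
  have h1 : ⁅a * b, t⁆ = a * ⁅b, t⁆ * a⁻¹ * ⁅a, t⁆ := by
    simp only [commutatorElement_def]; group
  have h2 : a * ⁅b, t⁆ * a⁻¹ = ⁅b, t⁆ := by rw [V2_W4 F ha hb.2]; group
  rw [h1, h2, W4_comm F hb.2 ha.2]

include B in
theorem t_mem_V2 : t ∈ V2 (t := t) F :=
  ⟨fun _ hl => (t_P F B (L2_le_P hl)).symm, by rw [commutatorElement_self]; exact D.W4.one_mem⟩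

include B in
theorem W4_le_V2 : D.W4 ≤ V2 (t := t) F := fun _ hw =>
  ⟨fun _ hl => (L2_W4 F hl hw).symm, by
    rw [commutatorElement_eq_one_iff_mul_comm.2 (t_P F B (F.Q1_le (W4_le_Q1 F hw)))]
    exact D.W4.one_mem⟩

include B in
/-- the kernel of `[·,t]` on `V2` is `⟨t⟩ W4` -/
theorem V2_ker {v : H} (hv : v ∈ V2 (t := t) F) (h : ⁅v, t⁆ = 1) : v ∈ D.W4 ∨ t * v ∈ D.W4 := by
  have key : ∀ x ∈ D.P, x ∈ V2 (t := t) F → x ∈ D.W4 := by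
    intro x hx hxV
    have hxL : x ∈ D.L2 := mem_inf.2 ⟨hx, by
      rw [mem_centralizer_iff]
      intro e he
      exact (hxV.1 e (Xe_le_L2 F he)).symm⟩
    exact F.center_L2 x hxL hxV.1
  rcases B.cent v (commutatorElement_eq_one_iff_mul_comm.1 h)
    (fun z hz => hv.1 z (Z_le_L2 F hz)) with h1 | h1
  · exact Or.inl (key v h1 hv)
  · exact Or.inr (key _ h1 ((V2 F).mul_mem (t_mem_V2 F B) hv))

include B in
theorem V2_sq {w : H} (hw : w ∈ V2 (t := t) F) : w * w ∈ D.W4 := by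
  have h1 : ⁅w * w, t⁆ = 1 := by
    rw [V2_comm_mul F hw hw]; exact W4_sq F hw.2
  rcases V2_ker F B ((V2 F).mul_mem hw hw) h1 with h2 | h2
  · exact h2
  · -- `w` commutes with `t`
    have h3 : w * t = t * w := by
      have h4 := V2_W4 F hw h2
      have h5 : w * t * (w * w) = t * w * (w * w) := by
        calc w * t * (w * w) = w * (t * (w * w)) := by group
          _ = t * (w * w) * w := h4
          _ = t * w * (w * w) := by group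
      exact mul_right_cancel h5
    rcases V2_ker F B hw (commutatorElement_eq_one_iff_mul_comm.2 h3) with h4 | h4
    · exact D.W4.mul_mem h4 h4
    · have h5 := D.W4.mul_mem h4 h4
      have h6 : t * w * (t * w) = w * w := by
        calc t * w * (t * w) = t * (w * t) * w := by group
          _ = (t * t) * (w * w) := by rw [h3]; group
          _ = w * w := by rw [B.t_sq, one_mul]
      rwa [h6] at h5

include B in
/-- commutators of `V2` lie in `W4` -/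
theorem V2_comm {a b : H} (ha : a ∈ V2 (t := t) F) (hb : b ∈ V2 (t := t) F) : ⁅a, b⁆ ∈ D.W4 := by
  have h1 := V2_sq F B ((V2 F).mul_mem ha hb)
  have h2 := V2_sq F B ha
  have h3 := V2_sq F B hb
  have e : ⁅a, b⁆ = (a * b * (a * b)) * (b⁻¹ * (a * a)⁻¹ * b) * (b * b)⁻¹ := by
    rw [commutatorElement_def]; group
  have e2 : b⁻¹ * (a * a)⁻¹ * b = (a * a)⁻¹ := by
    rw [V2_W4 F ((V2 F).inv_mem hb) (D.W4.inv_mem h2), inv_mul_cancel_right]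
  rw [e, e2]
  exact D.W4.mul_mem (D.W4.mul_mem h1 (D.W4.inv_mem h2)) (D.W4.inv_mem h3)

/-! ### `nl` and `Xb` act on `V2` -/

include F in
theorem nl_W4 {w : H} (hw : w ∈ D.W4) : D.nl * w * D.nl⁻¹ ∈ D.W4 := by
  obtain ⟨z, hz, e, he, rfl⟩ := (mem_W4 F).1 hw
  have h1 : D.nl * (z * e) * D.nl⁻¹ = (D.nl * z * D.nl⁻¹) * (D.nl * e * D.nl⁻¹) := by group
  rw [h1]
  exact D.W4.mul_mem (Xe_le_W4 (F.nl_Z z hz)) (Z_le_W4 (F.nl_Xe e he))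

include F B in
theorem nl_t : D.nl * t = t * D.nl := B.comm _ F.nl_mem

include F in
/-- an element of `A` normalising `W4` normalises `L2`. -/
theorem L2_of_norm {g l : H} (hg : g ∈ D.A) (hgW : ∀ w ∈ D.W4, g⁻¹ * w * g ∈ D.W4)
    (hl : l ∈ D.L2) : g * l * g⁻¹ ∈ D.L2 := by
  rw [mem_L2_iff F] at hl ⊢
  refine ⟨D.A.mul_mem (D.A.mul_mem hg hl.1) (D.A.inv_mem hg), fun w hw => ?_⟩
  have h1 := hl.2 _ (hgW w hw)
  calc g * l * g⁻¹ * w = g * (l * (g⁻¹ * w * g)) * g⁻¹ := by group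
    _ = g * ((g⁻¹ * w * g) * l) * g⁻¹ := by rw [h1]
    _ = w * (g * l * g⁻¹) := by group

include B in
/-- an element of `A` normalising `W4` normalises `V2`. -/
theorem V2_of_norm {g v : H} (hg : g ∈ D.A) (hgW : ∀ w ∈ D.W4, g * w * g⁻¹ ∈ D.W4)
    (hv : v ∈ V2 (t := t) F) : g * v * g⁻¹ ∈ V2 (t := t) F := by
  refine ⟨fun l hl => ?_, ?_⟩
  · have h0 := L2_of_norm F (D.A.inv_mem hg) (fun w hw => by rw [inv_inv]; exact hgW w hw) hl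
    rw [inv_inv] at h0
    have h1 := hv.1 _ h0
    calc g * v * g⁻¹ * l = g * (v * (g⁻¹ * l * g)) * g⁻¹ := by group
      _ = g * ((g⁻¹ * l * g) * v) * g⁻¹ := by rw [h1]
      _ = l * (g * v * g⁻¹) := by group
  · have h1 : ⁅g * v * g⁻¹, t⁆ = g * ⁅v, t⁆ * g⁻¹ := by
      have h2 : g⁻¹ * t * g = t := by
        rw [mul_assoc, ← B.comm g hg]; group
      have h3 : g⁻¹ * t⁻¹ * g = t⁻¹ := by
        calc g⁻¹ * t⁻¹ * g = (g⁻¹ * t * g)⁻¹ := by group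
          _ = t⁻¹ := by rw [h2]
      rw [commutatorElement_def, commutatorElement_def]
      calc g * v * g⁻¹ * t * (g * v * g⁻¹)⁻¹ * t⁻¹
          = g * (v * (g⁻¹ * t * g) * v⁻¹ * (g⁻¹ * t⁻¹ * g)) * g⁻¹ := by group
        _ = g * (v * t * v⁻¹ * t⁻¹) * g⁻¹ := by rw [h2, h3]
    rw [h1]
    exact hgW _ hv.2

include F in
theorem Xb_le_P : D.Xb ≤ D.P := F.Xb_le.trans F.Q1_le

include F in
theorem Xb_W4 {x w : H} (hx : x ∈ D.Xb) (hw : w ∈ D.W4) : x * w * x⁻¹ ∈ D.W4 := by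
  have h1 : x * w * x⁻¹ = ⁅x, w⁆ * w := by rw [commutatorElement_def]; group
  rw [h1]
  exact D.W4.mul_mem (Z_le_W4 (F.comm_Q1 x (F.Xb_le hx) w (W4_le_Q1 F hw))) hw

include B in
theorem comm_conj {g v : H} (hg : g ∈ D.A) : ⁅g * v * g⁻¹, t⁆ = g * ⁅v, t⁆ * g⁻¹ := by
  have h2 : g⁻¹ * t * g = t := by
    rw [mul_assoc, ← B.comm g hg]; group
  have h3 : g⁻¹ * t⁻¹ * g = t⁻¹ := by
    calc g⁻¹ * t⁻¹ * g = (g⁻¹ * t * g)⁻¹ := by group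
      _ = t⁻¹ := by rw [h2]
  rw [commutatorElement_def, commutatorElement_def]
  calc g * v * g⁻¹ * t * (g * v * g⁻¹)⁻¹ * t⁻¹
      = g * (v * (g⁻¹ * t * g) * v⁻¹ * (g⁻¹ * t⁻¹ * g)) * g⁻¹ := by group
    _ = g * (v * t * v⁻¹ * t⁻¹) * g⁻¹ := by rw [h2, h3]

include B in
theorem nl_V2 {v : H} (hv : v ∈ V2 (t := t) F) : D.nl * v * D.nl⁻¹ ∈ V2 (t := t) F :=
  V2_of_norm F B F.nl_mem (fun _ hw => nl_W4 F hw) hv

include B in
theorem Xb_V2 {x v : H} (hx : x ∈ D.Xb) (hv : v ∈ V2 (t := t) F) : x * v * x⁻¹ ∈ V2 (t := t) F :=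
  V2_of_norm F B (F.P_le (Xb_le_P F hx)) (fun _ hw => Xb_W4 F hx hw) hv

include W in
theorem W0_le_V2 : W0 ≤ V2 (t := t) F := fun w hw =>
  ⟨fun _ hl => W.cent_P w hw _ (L2_le_P hl), Z_le_W4 (W.comm_t w hw)⟩

include F B W in
theorem W0_ker {w : H} (hw : w ∈ W0) (h : ⁅w, t⁆ = 1) : w ∈ D.Z := by
  have key : ∀ x ∈ D.P, (∀ p ∈ D.P, x * p = p * x) → x ∈ D.Z := by
    intro x hx hc
    apply F.center_Q1 x
    · apply F.center_PQ1 x hx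
      intro p hp
      rw [commutatorElement_eq_one_iff_mul_comm.2 (hc p hp)]
      exact D.Q1.one_mem
    · intro q hq
      exact hc q (F.Q1_le hq)
  rcases B.cent w (commutatorElement_eq_one_iff_mul_comm.1 h)
    (fun z hz => W.cent_P w hw z (Z_le_P F hz)) with h1 | h1
  · exact key w h1 (W.cent_P w hw)
  · exfalso
    apply W.t_notMem
    have h2 : t * w ∈ D.Z := by
      apply key _ h1
      intro p hp
      rw [mul_assoc, W.cent_P w hw p hp, ← mul_assoc, ← mul_assoc, t_P F B hp]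
    have h3 := W0.mul_mem (W.Z_le h2) (W0.inv_mem hw)
    rwa [mul_inv_cancel_right] at h3

/-- `M = W0 W4`. -/
def M : Subgroup H where
  carrier := {x | ∃ w ∈ W0, ∃ e ∈ D.Xe, x = w * e}
  one_mem' := ⟨1, W0.one_mem, 1, D.Xe.one_mem, (mul_one 1).symm⟩
  mul_mem' := by
    rintro _ _ ⟨w, hw, e, he, rfl⟩ ⟨w', hw', e', he', rfl⟩
    refine ⟨w * w', W0.mul_mem hw hw', e * e', D.Xe.mul_mem he he', ?_⟩
    calc w * e * (w' * e') = w * (e * w') * e' := by group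
      _ = w * w' * (e * e') := by rw [← W.cent_P w' hw' e (Xe_le_P F he)]; group
  inv_mem' := by
    rintro _ ⟨w, hw, e, he, rfl⟩
    refine ⟨w⁻¹, W0.inv_mem hw, e⁻¹, D.Xe.inv_mem he, ?_⟩
    rw [mul_inv_rev, W.cent_P w⁻¹ (W0.inv_mem hw) e⁻¹ (Xe_le_P F (D.Xe.inv_mem he))]

theorem mem_M {x : H} : x ∈ M F W ↔ ∃ w ∈ W0, ∃ e ∈ D.Xe, x = w * e := Iff.rfl

theorem W0_le_M : W0 ≤ M F W := fun w hw => ⟨w, hw, 1, D.Xe.one_mem, (mul_one w).symm⟩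

theorem W4_le_M : D.W4 ≤ M F W := fun w hw => by
  obtain ⟨z, hz, e, he, rfl⟩ := (mem_W4 F).1 hw
  exact ⟨z, W.Z_le hz, e, he, rfl⟩

theorem Xb_M {x m : H} (hx : x ∈ D.Xb) (hm : m ∈ M F W) : x * m * x⁻¹ ∈ M F W := by
  obtain ⟨w, hw, e, he, rfl⟩ := hm
  have h1 : x * (w * e) * x⁻¹ = (x * w * x⁻¹) * (x * e * x⁻¹) := by group
  have h2 : x * w * x⁻¹ = w := by rw [← W.cent_P w hw x (Xb_le_P F hx), mul_inv_cancel_right]
  rw [h1, h2]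
  exact (M F W).mul_mem (W0_le_M F W hw) (W4_le_M F W (Xb_W4 F hx (Xe_le_W4 he)))

include B in
theorem t_M {m : H} (hm : m ∈ M F W) : t * m * t⁻¹ ∈ M F W := by
  obtain ⟨w, hw, e, he, rfl⟩ := hm
  have h2 : t * (w * e) * t⁻¹ = ⁅w, t⁆⁻¹ * w * (t * e * t⁻¹) := by
    rw [commutatorElement_def]; group
  have h3 : t * e * t⁻¹ = e := by rw [← t_P F B (Xe_le_P F he), mul_inv_cancel_right]
  rw [h2, h3]
  exact (M F W).mul_mem ((M F W).mul_mem (W0_le_M F W (W0.inv_mem (W.Z_le (W.comm_t w hw))))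
    (W0_le_M F W hw)) (W4_le_M F W (Xe_le_W4 he))

include B in
/-- for `v ∈ V2` with `[v,t] ∈ Xe` and `x ∈ Xb`: `[v,x] ∈ W0 W4` or `t [v,x] ∈ W0 W4` -/
theorem comm_Xb {v x : H} (hv : v ∈ V2 (t := t) F) (hvt : ⁅v, t⁆ ∈ D.Xe) (hx : x ∈ D.Xb) :
    ⁅v, x⁆ ∈ M F W ∨ t * ⁅v, x⁆ ∈ M F W := by
  have hu : ⁅v, x⁆ ∈ V2 (t := t) F := by
    have h1 : ⁅v, x⁆ = v * (x * v⁻¹ * x⁻¹) := by rw [commutatorElement_def]; group
    rw [h1]
    exact (V2 F).mul_mem hv (Xb_V2 F B hx ((V2 F).inv_mem hv))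
  have h1 : ⁅⁅v, x⁆, t⁆ ∈ D.Z := by
    have h2 : ⁅v, x⁆ = v * (x * v⁻¹ * x⁻¹) := by rw [commutatorElement_def]; group
    rw [h2, V2_comm_mul F hv (Xb_V2 F B hx ((V2 F).inv_mem hv)),
      comm_conj B (F.P_le (Xb_le_P F hx))]
    have h3 : ⁅v⁻¹, t⁆ = ⁅v, t⁆⁻¹ := by
      have h := V2_comm_mul F hv ((V2 F).inv_mem hv)
      rw [mul_inv_cancel, commutatorElement_one_left] at h
      exact (inv_eq_of_mul_eq_one_right h.symm).symm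
    have h4 : ⁅v, t⁆ * (x * ⁅v, t⁆⁻¹ * x⁻¹) = ⁅⁅v, t⁆, x⁆ := by
      rw [commutatorElement_def ⁅v, t⁆ x]; group
    rw [h3, h4]
    exact F.comm_Q1 _ (F.Xe_le hvt) _ (F.Xb_le hx)
  obtain ⟨w, hw, hwt⟩ := W.onto _ h1
  have hwV := W0_le_V2 F W hw
  have h2 : ⁅w⁻¹ * ⁅v, x⁆, t⁆ = 1 := by
    have h := V2_comm_mul F hwV ((V2 F).mul_mem ((V2 F).inv_mem hwV) hu)
    rw [mul_inv_cancel_left, hwt] at h
    exact (mul_eq_left.1 h.symm)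
  rcases V2_ker F B ((V2 F).mul_mem ((V2 F).inv_mem hwV) hu) h2 with h3 | h3
  · left
    have h4 : ⁅v, x⁆ = w * (w⁻¹ * ⁅v, x⁆) := by group
    rw [h4]
    exact (M F W).mul_mem (W0_le_M F W hw) (W4_le_M F W h3)
  · right
    have h4 : t * ⁅v, x⁆ = (t * w * t⁻¹) * (t * (w⁻¹ * ⁅v, x⁆)) := by group
    rw [h4]
    exact (M F W).mul_mem (t_M F B W (W0_le_M F W hw)) (W4_le_M F W h3)

include F in
/-- `Xb` has two elements `x1 ≠ 1`, `x2 ≠ 1` with `x1 x2 ≠ 1`. -/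
theorem Xb_two : ∃ x1 ∈ D.Xb, ∃ x2 ∈ D.Xb, x1 ≠ 1 ∧ x2 ≠ 1 ∧ x1 * x2 ≠ 1 := by
  classical
  have h4 := F.card_Xb
  have hfin : Finite D.Xb := Nat.finite_of_card_ne_zero (by rw [h4]; norm_num)
  have hnt : 1 < Nat.card D.Xb := by rw [h4]; norm_num
  have hnt' : Nontrivial D.Xb := Finite.one_lt_card_iff_nontrivial.1 hnt
  obtain ⟨x1, hx1⟩ := exists_ne (1 : D.Xb)
  have h3 : ∃ x2 : D.Xb, x2 ≠ 1 ∧ x2 ≠ x1 := by
    by_contra hcon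
    push Not at hcon
    have : Nat.card D.Xb ≤ 2 := by
      have hf : Function.Surjective (fun i : Fin 2 => if i = 0 then (1 : D.Xb) else x1) := by
        intro y
        by_cases hy : y = 1
        · exact ⟨0, by simp [hy]⟩
        · exact ⟨1, by simp [hcon y hy]⟩
      have := Nat.card_le_card_of_surjective _ hf
      simpa using this
    omega
  obtain ⟨x2, hx2, hx21⟩ := h3
  refine ⟨x1, x1.2, x2, x2.2, fun h => hx1 (Subtype.ext h), fun h => hx2 (Subtype.ext h), ?_⟩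
  intro h
  apply hx21
  apply Subtype.ext
  have h5 := F.sq_Xb _ x1.2
  exact (mul_left_cancel (h5.trans h.symm)).symm

include B in
/-- `v ∈ V2`, `[v,t] ∈ Xe`: `[v,x0] ∈ M` for some `x0 ≠ 1` in `Xb`. -/
theorem exists_x0 {v : H} (hv : v ∈ V2 (t := t) F) (hvt : ⁅v, t⁆ ∈ D.Xe) :
    ∃ x ∈ D.Xb, x ≠ 1 ∧ ⁅v, x⁆ ∈ M F W := by
  obtain ⟨x1, hx1, x2, hx2, h1, h2, h12⟩ := Xb_two F
  rcases comm_Xb F B W hv hvt hx1 with h3 | h3
  · exact ⟨x1, hx1, h1, h3⟩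
  rcases comm_Xb F B W hv hvt hx2 with h4 | h4
  · exact ⟨x2, hx2, h2, h4⟩
  refine ⟨x1 * x2, D.Xb.mul_mem hx1 hx2, h12, ?_⟩
  have e1 : ⁅v, x1 * x2⁆ = ⁅v, x1⁆ * (x1 * ⁅v, x2⁆ * x1⁻¹) := by
    simp only [commutatorElement_def]; group
  have hc : x1⁻¹ * t * x1 = t := by
    rw [mul_assoc, ← t_P F B (Xb_le_P F hx1)]; group
  have e2 : t * (x1 * ⁅v, x2⁆ * x1⁻¹) = x1 * (t * ⁅v, x2⁆) * x1⁻¹ := by
    calc t * (x1 * ⁅v, x2⁆ * x1⁻¹) = x1 * ((x1⁻¹ * t * x1) * ⁅v, x2⁆) * x1⁻¹ := by group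
      _ = x1 * (t * ⁅v, x2⁆) * x1⁻¹ := by rw [hc]
  have h5 : t * (x1 * ⁅v, x2⁆ * x1⁻¹) ∈ M F W := by
    rw [e2]; exact Xb_M F W hx1 h4
  have h6 := (M F W).mul_mem (t_M F B W h3) h5
  have e3 : t * (t * ⁅v, x1⁆) * t⁻¹ * (t * (x1 * ⁅v, x2⁆ * x1⁻¹)) =
      (t * t) * (⁅v, x1⁆ * (x1 * ⁅v, x2⁆ * x1⁻¹)) := by group
  rw [e3, B.t_sq, one_mul, ← e1] at h6
  exact h6

/-- elements of `M` commute with `W0`. -/
theorem M_W0 {m w : H} (hm : m ∈ M F W) (hw : w ∈ W0) : w * m = m * w := by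
  obtain ⟨w', hw', e, he, rfl⟩ := hm
  rw [← mul_assoc, W.comm w hw w' hw', mul_assoc, W.cent_P w hw e (Xe_le_P F he), ← mul_assoc]

include B W in
/-- `x [w,v] x⁻¹ = [w,[v,x]⁻¹] [w,v]`. -/
theorem conj_comm {w v x : H} (hw : w ∈ W0) (hv : v ∈ V2 (t := t) F) (hx : x ∈ D.Xb) :
    x * ⁅w, v⁆ * x⁻¹ = ⁅w, ⁅v, x⁆⁻¹⁆ * ⁅w, v⁆ := by
  have hwx : x * w = w * x := (W.cent_P w hw x (Xb_le_P F hx)).symm
  have hu : ⁅v, x⁆ ∈ V2 (t := t) F := by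
    have h1 : ⁅v, x⁆ = v * (x * v⁻¹ * x⁻¹) := by rw [commutatorElement_def]; group
    rw [h1]
    exact (V2 F).mul_mem hv (Xb_V2 F B hx ((V2 F).inv_mem hv))
  have h1 : x * v * x⁻¹ = ⁅v, x⁆⁻¹ * v := by rw [commutatorElement_def]; group
  have h2 : x * w * x⁻¹ = w := by rw [hwx, mul_inv_cancel_right]
  have h3 : x * ⁅w, v⁆ * x⁻¹ = ⁅x * w * x⁻¹, x * v * x⁻¹⁆ := by
    simp only [commutatorElement_def]; group
  rw [h3, h1, h2]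
  set u := ⁅v, x⁆ with hud
  have h4 : ⁅w, u⁻¹ * v⁆ = ⁅w, u⁻¹⁆ * (u⁻¹ * ⁅w, v⁆ * u) := by
    simp only [commutatorElement_def]; group
  have h5 : u⁻¹ * ⁅w, v⁆ * u = ⁅w, v⁆ := by
    have h6 := V2_comm F B (W0_le_V2 F W hw) hv
    rw [V2_W4 F ((V2 F).inv_mem hu) h6, inv_mul_cancel_right]
  rw [h4, h5]

include B W in
/-- `[W0, v] ≤ Z` for `v ∈ V2`, `[v,t] ∈ Xe`. -/
theorem comm_W0_Z {w v : H} (hw : w ∈ W0) (hv : v ∈ V2 (t := t) F) (hvt : ⁅v, t⁆ ∈ D.Xe) :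
    ⁅w, v⁆ ∈ D.Z := by
  obtain ⟨x, hx, hx1, hxM⟩ := exists_x0 F B W hv hvt
  have h1 := conj_comm F B W hw hv hx
  have h2 : ⁅w, ⁅v, x⁆⁻¹⁆ = 1 :=
    commutatorElement_eq_one_iff_mul_comm.2 (M_W0 F W ((M F W).inv_mem hxM) hw)
  rw [h2, one_mul] at h1
  have h3 := V2_comm F B (W0_le_V2 F W hw) hv
  obtain ⟨z, hz, e, he, hze⟩ := (mem_W4 F).1 h3
  rw [hze] at h1 ⊢
  have h4 : x * z = z * x := P_Z F (Xb_le_P F hx) hz
  have h5 : x * e * x⁻¹ = e := by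
    have h6 : x * (z * e) * x⁻¹ = z * (x * e * x⁻¹) := by
      calc x * (z * e) * x⁻¹ = (x * z) * e * x⁻¹ := by group
        _ = z * (x * e * x⁻¹) := by rw [h4]; group
    rw [h6] at h1
    exact mul_left_cancel h1
  have h6 : e * x = x * e := by
    calc e * x = (x * e * x⁻¹) * x := by rw [h5]
      _ = x * e := by group
  rcases F.Xe_Xb e he x hx h6 with h7 | h7
  · rw [h7, mul_one]; exact hz
  · exact absurd h7 hx1

include B in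
/-- `[v, x] ∈ M` for all `x ∈ Xb`. -/
theorem comm_Xb_M {v x : H} (hv : v ∈ V2 (t := t) F) (hvt : ⁅v, t⁆ ∈ D.Xe) (hx : x ∈ D.Xb) :
    ⁅v, x⁆ ∈ M F W := by
  rcases comm_Xb F B W hv hvt hx with h | h
  · exact h
  exfalso
  -- all `w ∈ W0` commute with `⁅v,x⁆`, hence with `t`
  have key : ∀ w ∈ W0, ⁅w, t⁆ = 1 := by
    intro w hw
    have h1 := conj_comm F B W hw hv hx
    have h2 := comm_W0_Z F B W hw hv hvt
    have h3 : x * ⁅w, v⁆ * x⁻¹ = ⁅w, v⁆ := by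
      rw [P_Z F (Xb_le_P F hx) h2, mul_inv_cancel_right]
    rw [h3] at h1
    have h4 : ⁅w, ⁅v, x⁆⁻¹⁆ = 1 := mul_eq_right.1 h1.symm
    have h5 : w * ⁅v, x⁆⁻¹ = ⁅v, x⁆⁻¹ * w := commutatorElement_eq_one_iff_mul_comm.1 h4
    have h6 : w * (t * ⁅v, x⁆) = t * ⁅v, x⁆ * w := M_W0 F W h hw
    apply commutatorElement_eq_one_iff_mul_comm.2
    calc w * t = (w * (t * ⁅v, x⁆)) * ⁅v, x⁆⁻¹ := by group
      _ = (t * ⁅v, x⁆ * w) * ⁅v, x⁆⁻¹ := by rw [h6]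
      _ = t * ⁅v, x⁆ * (w * ⁅v, x⁆⁻¹) := by group
      _ = t * ⁅v, x⁆ * (⁅v, x⁆⁻¹ * w) := by rw [h5]
      _ = t * w := by group
  have h7 : D.Z ≤ ⊥ := by
    intro z hz
    obtain ⟨w, hw, hwz⟩ := W.onto z hz
    rw [mem_bot, ← hwz]
    exact key w hw
  have h8 := F.card_Z
  rw [le_bot_iff.1 h7, card_bot] at h8
  norm_num at h8

/-! ### `W_- = W0^{nl}` -/

include B W in
theorem nl_W0_V2 {w : H} (hw : w ∈ W0) : D.nl * w * D.nl⁻¹ ∈ V2 (t := t) F :=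
  nl_V2 F B (W0_le_V2 F W hw)

include F B W in
theorem nl_W0_t {w : H} (hw : w ∈ W0) : ⁅D.nl * w * D.nl⁻¹, t⁆ ∈ D.Xe := by
  rw [comm_conj B F.nl_mem]
  exact F.nl_Z _ (W.comm_t w hw)

include F B W in
/-- `W0` and `W0^{nl}` commute. -/
theorem W0_nl_comm {w w' : H} (hw : w ∈ W0) (hw' : w' ∈ W0) :
    w * (D.nl * w' * D.nl⁻¹) = (D.nl * w' * D.nl⁻¹) * w := by
  apply commutatorElement_eq_one_iff_mul_comm.1
  have h1 := comm_W0_Z F B W hw (nl_W0_V2 F B W hw') (nl_W0_t F B W hw')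
  have h2 := comm_W0_Z F B W hw' (nl_W0_V2 F B W hw) (nl_W0_t F B W hw)
  have h3 : ⁅w, D.nl * w' * D.nl⁻¹⁆ = D.nl * ⁅w', D.nl * w * D.nl⁻¹⁆⁻¹ * D.nl⁻¹ := by
    have h4 : D.nl * ⁅w', D.nl * w * D.nl⁻¹⁆⁻¹ * D.nl⁻¹ =
        ⁅D.nl * (D.nl * w * D.nl⁻¹) * D.nl⁻¹, D.nl * w' * D.nl⁻¹⁆ := by
      simp only [commutatorElement_def]; group
    rw [h4, nl_nl F]
  apply F.Xe_Z _ _ h1
  rw [h3]
  exact F.nl_Z _ (D.Z.inv_mem h2)

/-- `V = W0 W0^{nl}` -/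
def V : Subgroup H where
  carrier := {x | ∃ w ∈ W0, ∃ w' ∈ W0, x = w * (D.nl * w' * D.nl⁻¹)}
  one_mem' := ⟨1, W0.one_mem, 1, W0.one_mem, by group⟩
  mul_mem' := by
    rintro _ _ ⟨w, hw, u, hu, rfl⟩ ⟨w', hw', u', hu', rfl⟩
    refine ⟨w * w', W0.mul_mem hw hw', u * u', W0.mul_mem hu hu', ?_⟩
    calc w * (D.nl * u * D.nl⁻¹) * (w' * (D.nl * u' * D.nl⁻¹))
        = w * ((D.nl * u * D.nl⁻¹) * w') * (D.nl * u' * D.nl⁻¹) := by group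
      _ = w * w' * (D.nl * (u * u') * D.nl⁻¹) := by
          rw [← W0_nl_comm F B W hw' hu]; group
  inv_mem' := by
    rintro _ ⟨w, hw, u, hu, rfl⟩
    refine ⟨w⁻¹, W0.inv_mem hw, u⁻¹, W0.inv_mem hu, ?_⟩
    rw [W0_nl_comm F B W (W0.inv_mem hw) (W0.inv_mem hu)]; group

theorem mem_V {x : H} : x ∈ V F B W ↔ ∃ w ∈ W0, ∃ w' ∈ W0, x = w * (D.nl * w' * D.nl⁻¹) := Iff.rfl

theorem W0_le_V : W0 ≤ V F B W := fun w hw => ⟨w, hw, 1, W0.one_mem, by group⟩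

theorem nl_W0_V {w : H} (hw : w ∈ W0) : D.nl * w * D.nl⁻¹ ∈ V F B W :=
  ⟨1, W0.one_mem, w, hw, by group⟩

theorem Xe_le_V : D.Xe ≤ V F B W := by
  intro e he
  have h1 := nl_W0_V F B W (W.Z_le (F.nl_Xe e he))
  rwa [nl_nl F] at h1

theorem M_le_V : M F W ≤ V F B W := by
  rintro _ ⟨w, hw, e, he, rfl⟩
  exact (V F B W).mul_mem (W0_le_V F B W hw) (Xe_le_V F B W he)

theorem W4_le_V : D.W4 ≤ V F B W := (W4_le_M F W).trans (M_le_V F B W)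

theorem V_le_V2 : V F B W ≤ V2 (t := t) F := by
  rintro _ ⟨w, hw, u, hu, rfl⟩
  exact (V2 F).mul_mem (W0_le_V2 F W hw) (nl_W0_V2 F B W hu)

theorem V_comm {a b : H} (ha : a ∈ V F B W) (hb : b ∈ V F B W) : a * b = b * a := by
  obtain ⟨w, hw, u, hu, rfl⟩ := ha
  obtain ⟨w', hw', u', hu', rfl⟩ := hb
  have h1 := W0_nl_comm F B W hw hu'
  have h2 := W0_nl_comm F B W hw' hu
  have h3 : (D.nl * u * D.nl⁻¹) * (D.nl * u' * D.nl⁻¹) =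
      (D.nl * u' * D.nl⁻¹) * (D.nl * u * D.nl⁻¹) := by
    have h4 : (D.nl * u * D.nl⁻¹) * (D.nl * u' * D.nl⁻¹) = D.nl * (u * u') * D.nl⁻¹ := by group
    rw [h4, W.comm u hu u' hu']; group
  set U := D.nl * u * D.nl⁻¹
  set U' := D.nl * u' * D.nl⁻¹
  calc w * U * (w' * U') = w * (U * w') * U' := by group
    _ = w * (w' * U) * U' := by rw [h2]
    _ = (w * w') * (U * U') := by group
    _ = (w' * w) * (U' * U) := by rw [W.comm w hw w' hw', h3]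
    _ = w' * (w * U') * U := by group
    _ = w' * (U' * w) * U := by rw [h1]
    _ = w' * U' * (w * U) := by group

theorem nl_V {v : H} (hv : v ∈ V F B W) : D.nl * v * D.nl⁻¹ ∈ V F B W := by
  obtain ⟨w, hw, u, hu, rfl⟩ := hv
  have h1 : D.nl * (w * (D.nl * u * D.nl⁻¹)) * D.nl⁻¹ =
      (D.nl * w * D.nl⁻¹) * (D.nl * (D.nl * u * D.nl⁻¹) * D.nl⁻¹) := by group
  rw [h1, nl_nl F]
  exact (V F B W).mul_mem (nl_W0_V F B W hw) (W0_le_V F B W hu)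

/-- `Xb` normalises `V`. -/
theorem Xb_V {x v : H} (hx : x ∈ D.Xb) (hv : v ∈ V F B W) : x * v * x⁻¹ ∈ V F B W := by
  obtain ⟨w, hw, u, hu, rfl⟩ := hv
  have h2 : x * w * x⁻¹ = w := by rw [← W.cent_P w hw x (Xb_le_P F hx), mul_inv_cancel_right]
  have h3 := comm_Xb_M F B W (nl_W0_V2 F B W hu) (nl_W0_t F B W hu) hx
  have h1 : x * (w * (D.nl * u * D.nl⁻¹)) * x⁻¹ =
      (x * w * x⁻¹) * (⁅D.nl * u * D.nl⁻¹, x⁆⁻¹ * (D.nl * u * D.nl⁻¹)) := by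
    rw [commutatorElement_def]; group
  rw [h1, h2]
  exact (V F B W).mul_mem (W0_le_V F B W hw) ((V F B W).mul_mem
    ((V F B W).inv_mem (M_le_V F B W h3)) (nl_W0_V F B W hu))

include F W in
/-- `W0 ∩ Xe = 1` -/
theorem W0_Xe {e : H} (he : e ∈ D.Xe) (heW : e ∈ W0) : e = 1 := by
  obtain ⟨x1, hx1, -, -, h1, -, -⟩ := Xb_two F
  rcases F.Xe_Xb e he x1 hx1 (W.cent_P e heW x1 (Xb_le_P F hx1)) with h | h
  · exact h
  · exact absurd h h1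

include F B W in
/-- the decomposition of `⁅w', x⁆`. -/
theorem comm_eq {u x : H} (hu : u ∈ W0) (hx : x ∈ D.Xb) (hx1 : x ≠ 1) :
    ∃ w ∈ W0, ⁅D.nl * u * D.nl⁻¹, x⁆ = w * (D.nl * (u * u) * D.nl⁻¹) := by
  have hUV := nl_W0_V F B W hu
  obtain ⟨w, hw, e, he, hwe⟩ := comm_Xb_M F B W (nl_W0_V2 F B W hu) (nl_W0_t F B W hu) hx
  refine ⟨w, hw, ?_⟩
  have hU2 : D.nl * (u * u) * D.nl⁻¹ ∈ D.Xe := F.nl_Z _ (W.sq_mem u hu)
  have hUU : D.nl * (u * u) * D.nl⁻¹ = (D.nl * u * D.nl⁻¹) * (D.nl * u * D.nl⁻¹) := by group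
  rw [hUU] at hU2 ⊢
  set U := D.nl * u * D.nl⁻¹ with hU
  -- (1) `⁅U,x⁆² = ⁅U²,x⁆`
  have hxU : x * U⁻¹ * x⁻¹ ∈ V F B W := Xb_V F B W hx ((V F B W).inv_mem hUV)
  have e0 : ⁅U, x⁆ = U * (x * U⁻¹ * x⁻¹) := by rw [commutatorElement_def]; group
  have e1 : ⁅U, x⁆ * ⁅U, x⁆ = ⁅U * U, x⁆ := by
    have c1 := V_comm F B W hUV hxU
    have e2 : ⁅U * U, x⁆ = U * U * ((x * U⁻¹ * x⁻¹) * (x * U⁻¹ * x⁻¹)) := by
      rw [commutatorElement_def]; group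
    rw [e2, e0]
    calc U * (x * U⁻¹ * x⁻¹) * (U * (x * U⁻¹ * x⁻¹))
        = U * ((x * U⁻¹ * x⁻¹) * U) * (x * U⁻¹ * x⁻¹) := by group
      _ = U * (U * (x * U⁻¹ * x⁻¹)) * (x * U⁻¹ * x⁻¹) := by rw [c1]
      _ = U * U * ((x * U⁻¹ * x⁻¹) * (x * U⁻¹ * x⁻¹)) := by group
  -- (2) `x ⁅U,x⁆ x⁻¹ = ⁅U,x⁆⁻¹`
  have hxx := F.sq_Xb x hx
  have hxi : x⁻¹ = x := inv_eq_of_mul_eq_one_left hxx
  have e3 : x * ⁅U, x⁆ * x⁻¹ = ⁅U, x⁆⁻¹ := by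
    have e4 : ⁅U, x⁆⁻¹ = x * U * x⁻¹ * U⁻¹ := by rw [commutatorElement_def]; group
    rw [e4, commutatorElement_def]
    calc x * (U * x * U⁻¹ * x⁻¹) * x⁻¹ = x * U * x * U⁻¹ * (x * x)⁻¹ := by group
      _ = x * U * x⁻¹ * U⁻¹ := by rw [hxx, hxi]; group
  -- `w * w = ⁅e, x⁆`
  have hee := F.sq_Xe e he
  have hei : e⁻¹ = e := inv_eq_of_mul_eq_one_left hee
  have cwe : w * e = e * w := W.cent_P w hw e (Xe_le_P F he)
  have hz := F.comm_Q1 e (F.Xe_le he) x (F.Xb_le hx)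
  have hzi : ⁅e, x⁆⁻¹ = ⁅e, x⁆ := inv_eq_of_mul_eq_one_left (F.sq_Z _ hz)
  have e5 : w * w = ⁅e, x⁆ := by
    rw [hwe] at e3
    have h2 : x * w * x⁻¹ = w := by rw [← W.cent_P w hw x (Xb_le_P F hx), mul_inv_cancel_right]
    have h3 : x * (w * e) * x⁻¹ = (x * w * x⁻¹) * (⁅e, x⁆⁻¹ * e) := by
      rw [commutatorElement_def]; group
    rw [h3, h2, mul_inv_rev, hei, hzi] at e3
    -- `w * (⁅e,x⁆ * e) = e * w⁻¹`
    have h4 : e * w⁻¹ = w⁻¹ * e := by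
      have := W.cent_P w⁻¹ (W0.inv_mem hw) e (Xe_le_P F he)
      exact this.symm
    rw [h4] at e3
    have h5 : w * ⁅e, x⁆ = w⁻¹ := by
      have h6 : (w * ⁅e, x⁆) * e = w⁻¹ * e := by rw [mul_assoc]; exact e3
      exact mul_right_cancel h6
    have h6 : w * w * ⁅e, x⁆ = 1 := by rw [mul_assoc, h5, mul_inv_cancel]
    rw [← hzi]
    exact (inv_eq_of_mul_eq_one_left h6).symm
  -- `⁅U*U, x⁆ = ⁅e, x⁆`
  have e6 : ⁅U * U, x⁆ = ⁅e, x⁆ := by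
    rw [← e1, hwe, ← e5]
    calc w * e * (w * e) = w * (e * w) * e := by group
      _ = (w * w) * (e * e) := by rw [← cwe]; group
      _ = w * w := by rw [hee, mul_one]
  have e7 : (U * U * e⁻¹) * x = x * (U * U * e⁻¹) := by
    apply commutatorElement_eq_one_iff_mul_comm.1
    have h1 : ⁅U * U * e⁻¹, x⁆ = (U * U) * ⁅e⁻¹, x⁆ * (U * U)⁻¹ * ⁅U * U, x⁆ := by
      simp only [commutatorElement_def]; group
    have h2 : (U * U) * ⁅e⁻¹, x⁆ * (U * U)⁻¹ = ⁅e⁻¹, x⁆ := by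
      rw [P_Z F (Xe_le_P F hU2) (F.comm_Q1 _ (F.Xe_le (D.Xe.inv_mem he)) x (F.Xb_le hx)),
        mul_inv_cancel_right]
    rw [h1, h2, e6, hei]
    exact F.sq_Z _ hz
  rcases F.Xe_Xb _ (D.Xe.mul_mem hU2 (D.Xe.inv_mem he)) x hx e7 with h | h
  · rw [hwe, mul_inv_eq_one.1 h]
  · exact absurd h hx1

include F B W in
/-- `W0` is elementary abelian. -/
theorem W0_sq {u : H} (hu : u ∈ W0) : u * u = 1 := by
  obtain ⟨x1, hx1, x2, hx2, h1, h2, h12⟩ := Xb_two F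
  obtain ⟨w1, hw1, e1⟩ := comm_eq F B W hu hx1 h1
  obtain ⟨w2, hw2, e2⟩ := comm_eq F B W hu hx2 h2
  obtain ⟨w3, hw3, e3⟩ := comm_eq F B W hu (D.Xb.mul_mem hx1 hx2) h12
  have hU2 : D.nl * (u * u) * D.nl⁻¹ ∈ D.Xe := F.nl_Z _ (W.sq_mem u hu)
  set E := D.nl * (u * u) * D.nl⁻¹ with hE
  have hEE := F.sq_Xe E hU2
  have e4 : ⁅D.nl * u * D.nl⁻¹, x1 * x2⁆ =
      ⁅D.nl * u * D.nl⁻¹, x1⁆ * (x1 * ⁅D.nl * u * D.nl⁻¹, x2⁆ * x1⁻¹) := by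
    simp only [commutatorElement_def]; group
  rw [e1, e2, e3] at e4
  have h5 : x1 * w2 * x1⁻¹ = w2 := by
    rw [← W.cent_P w2 hw2 x1 (Xb_le_P F hx1), mul_inv_cancel_right]
  have h6 : x1 * (w2 * E) * x1⁻¹ = (x1 * w2 * x1⁻¹) * (⁅x1, E⁆ * E) := by
    rw [commutatorElement_def]; group
  have hz := F.comm_Q1 x1 (F.Xb_le hx1) E (F.Xe_le hU2)
  have hzW := W.Z_le hz
  rw [h6, h5] at e4
  have c1 : w2 * E = E * w2 := W.cent_P w2 hw2 E (Xe_le_P F hU2)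
  have c2 : E * ⁅x1, E⁆ = ⁅x1, E⁆ * E := P_Z F (Xe_le_P F hU2) hz
  have h7 : w1 * E * (w2 * (⁅x1, E⁆ * E)) = w1 * w2 * ⁅x1, E⁆ := by
    calc w1 * E * (w2 * (⁅x1, E⁆ * E)) = w1 * (E * w2) * (⁅x1, E⁆ * E) := by group
      _ = w1 * w2 * (E * ⁅x1, E⁆) * E := by rw [← c1]; group
      _ = w1 * w2 * ⁅x1, E⁆ * (E * E) := by rw [c2]; group
      _ = w1 * w2 * ⁅x1, E⁆ := by rw [hEE, mul_one]
  rw [h7] at e4
  have h8 : E ∈ W0 := by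
    have h9 : E = w3⁻¹ * (w1 * w2 * ⁅x1, E⁆) := by rw [← e4]; group
    rw [h9]
    exact W0.mul_mem (W0.inv_mem hw3) (W0.mul_mem (W0.mul_mem hw1 hw2) hzW)
  have h9 := W0_Xe F W hU2 h8
  have h10 : u * u = D.nl⁻¹ * E * D.nl := by rw [hE]; group
  rw [h10, h9]; group

theorem V_sq {v : H} (hv : v ∈ V F B W) : v * v = 1 := by
  obtain ⟨w, hw, u, hu, rfl⟩ := hv
  calc w * (D.nl * u * D.nl⁻¹) * (w * (D.nl * u * D.nl⁻¹))
      = w * ((D.nl * u * D.nl⁻¹) * w) * (D.nl * u * D.nl⁻¹) := by group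
    _ = (w * w) * (D.nl * (u * u) * D.nl⁻¹) := by rw [← W0_nl_comm F B W hw hu]; group
    _ = 1 := by rw [W0_sq F B W hw, W0_sq F B W hu]; group

theorem Xb_V_W0 {x v : H} (hx : x ∈ D.Xb) (hv : v ∈ V F B W) : ⁅v, x⁆ ∈ W0 := by
  by_cases hx1 : x = 1
  · rw [hx1, commutatorElement_one_right]; exact W0.one_mem
  obtain ⟨w, hw, u, hu, rfl⟩ := hv
  obtain ⟨w2, hw2, e⟩ := comm_eq F B W hu hx hx1
  rw [W0_sq F B W hu, mul_one, mul_inv_cancel, mul_one] at e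
  have h1 : ⁅w * (D.nl * u * D.nl⁻¹), x⁆ =
      w * ⁅D.nl * u * D.nl⁻¹, x⁆ * w⁻¹ * ⁅w, x⁆ := by
    simp only [commutatorElement_def]; group
  have h2 : ⁅w, x⁆ = 1 :=
    commutatorElement_eq_one_iff_mul_comm.2 (W.cent_P w hw x (Xb_le_P F hx))
  rw [h1, e, h2, mul_one]
  exact W0.mul_mem (W0.mul_mem hw hw2) (W0.inv_mem hw)

theorem V_cent_t {v : H} (hv : v ∈ V F B W) (h : ⁅v, t⁆ = 1) : v ∈ D.W4 := by
  obtain ⟨w, hw, u, hu, rfl⟩ := hv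
  have hwV := W0_le_V2 F W hw
  have huV := nl_W0_V2 F B W hu
  rw [V2_comm_mul F hwV huV] at h
  have h1 := W.comm_t w hw
  have h2 := nl_W0_t F B W hu
  have h3 : ⁅D.nl * u * D.nl⁻¹, t⁆ = 1 := by
    apply F.Xe_Z _ h2
    rw [← inv_eq_of_mul_eq_one_right h]
    exact D.Z.inv_mem h1
  rw [h3, mul_one] at h
  have h4 := W0_ker F B W hw h
  have h5 : ⁅u, t⁆ = 1 := by
    rw [comm_conj B F.nl_mem] at h3
    have h6 : ⁅u, t⁆ = D.nl⁻¹ * (D.nl * ⁅u, t⁆ * D.nl⁻¹) * D.nl := by group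
    rw [h6, h3]; group
  have h6 := W0_ker F B W hu h5
  exact D.W4.mul_mem (Z_le_W4 h4) (Xe_le_W4 (F.nl_Z u h6))

theorem t_notMem_V : t ∉ V F B W := by
  intro h
  have h1 := V_cent_t F B W h (commutatorElement_self t)
  exact B.t_notMem (F.P_le (F.Q1_le (W4_le_Q1 F h1)))

theorem V_onto : ∀ w ∈ D.W4, ∃ v ∈ V F B W, ⁅v, t⁆ = w := by
  intro w hw
  obtain ⟨z, hz, e, he, rfl⟩ := (mem_W4 F).1 hw
  obtain ⟨a, ha, haz⟩ := W.onto z hz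
  obtain ⟨b, hb, hbz⟩ := W.onto _ (F.nl_Xe e he)
  refine ⟨a * (D.nl * b * D.nl⁻¹), ⟨a, ha, b, hb, rfl⟩, ?_⟩
  rw [V2_comm_mul F (W0_le_V2 F W ha) (nl_W0_V2 F B W hb), haz, comm_conj B F.nl_mem, hbz,
    nl_nl F]

include F in
theorem card_W4 : Nat.card D.W4 = 16 := by
  have e : (D.Z × D.Xe) ≃ D.W4 := by
    refine Equiv.ofBijective (fun p => ⟨p.1 * p.2, D.W4.mul_mem (Z_le_W4 p.1.2) (Xe_le_W4 p.2.2)⟩)
      ⟨?_, ?_⟩
    · rintro ⟨z, e⟩ ⟨z', e'⟩ h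
      have h1 : (z : H) * e = z' * e' := congrArg Subtype.val h
      have h2 : (e : H) * (e' : H)⁻¹ = (z : H)⁻¹ * z' := by
        calc (e : H) * (e' : H)⁻¹ = (z : H)⁻¹ * (z * e) * (e' : H)⁻¹ := by group
          _ = (z : H)⁻¹ * z' := by rw [h1]; group
      have h3 : (e : H) * (e' : H)⁻¹ = 1 := by
        apply F.Xe_Z _ (D.Xe.mul_mem e.2 (D.Xe.inv_mem e'.2))
        rw [h2]
        exact D.Z.mul_mem (D.Z.inv_mem z.2) z'.2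
      have h4 : e = e' := Subtype.ext (mul_inv_eq_one.1 h3)
      subst h4
      have h5 : z = z' := Subtype.ext (mul_right_cancel h1)
      rw [h5]
    · rintro ⟨w, hw⟩
      obtain ⟨z, hz, e, he, rfl⟩ := (mem_W4 F).1 hw
      exact ⟨(⟨z, hz⟩, ⟨e, he⟩), rfl⟩
  rw [← Nat.card_congr e, Nat.card_prod, F.card_Z, F.card_Xe]

theorem card_V : Nat.card (V F B W) = 256 := by
  have h := Tools.card_mul_eq (Y := V F B W) (K := D.W4)
    (C := D.W4) (B := ⊥) (fun y => ⁅y, t⁆) (fun y hy => (V_le_V2 F B W hy).2) (W4_le_V F B W)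
    bot_le ?_ ?_ ?_
  · rw [card_W4 F, card_bot, mul_one] at h
    rw [h]
  · intro y hy y' hy'
    rw [mem_bot, V2_comm_mul F (V_le_V2 F B W hy) (V_le_V2 F B W hy'), inv_mul_cancel]
  · intro q hq
    obtain ⟨y, hy, hyq⟩ := V_onto F B W q hq
    refine ⟨y, hy, ?_⟩
    rw [mem_bot, hyq, inv_mul_cancel]
  · intro y hy
    rw [mem_bot]
    constructor
    · exact V_cent_t F B W hy
    · intro h1
      exact commutatorElement_eq_one_iff_mul_comm.2 (t_P F B (F.Q1_le (W4_le_Q1 F h1)))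

/-- **Step 2 of the growth.** -/
theorem vFacts : VFacts D t W0 (V F B W) where
  le := W0_le_V F B W
  card := card_V F B W
  comm := fun _ hw _ hw' => V_comm F B W hw hw'
  sq := fun _ hw => V_sq F B W hw
  cent_L2 := fun _ hv _ hl => (V_le_V2 F B W hv).1 _ hl
  nl_mem := fun _ hv => nl_V F B W hv
  Xb_mem := fun _ hx _ hv => Xb_V_W0 F B W hx hv
  comm_t := fun _ hv => (V_le_V2 F B W hv).2
  onto := V_onto F B W
  cent_t := fun _ hv h => V_cent_t F B W hv (commutatorElement_eq_one_iff_mul_comm.2 h)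
  t_notMem := t_notMem_V F B W

end Basic

end Cfsg.Agent.GTwoFour.GrowV
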