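import Cfsg.Agent.GTwoFour.Iface
import Cfsg.Agent.GTwoFour.Tools

/-!
The first growth step for S1751 (rank one): from `Facts D`, `Big D t` we construct `W0 ≤ C_H(P)` of
order 16 with `[W0, t] = Z`, `t ∉ W0`.
-/

set_option autoImplicit false

namespace Cfsg.Agent.GTwoFour.GrowW

open Subgroup Iface
open scoped commutatorElement

variable {H : Type*} [Group H] {D : Data H} {t : H}

section Basic

variable (F : Facts D) (B : Big D t)

include F in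
theorem Z_le_P : D.Z ≤ D.P := F.Z_le.trans F.Q1_le

include F in
theorem P_Z {p z : H} (hp : p ∈ D.P) (hz : z ∈ D.Z) : p * z = z * p :=
  (F.cent_Z p (F.P_le hp)).2 hp z hz

include F in
theorem Z_comm {z z' : H} (hz : z ∈ D.Z) (hz' : z' ∈ D.Z) : z * z' = z' * z :=
  P_Z F (Z_le_P F hz) hz'

include F in
theorem Xe_le_P : D.Xe ≤ D.P := F.Xe_le.trans F.Q1_le

include F in
theorem Xa_le_L2 : D.Xa ≤ D.L2 := F.Xa_le.trans F.Q2_le

theorem L2_le_P : D.L2 ≤ D.P := inf_le_left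

theorem L2_Xe {l e : H} (hl : l ∈ D.L2) (he : e ∈ D.Xe) : l * e = e * l :=
  ((mem_centralizer_iff.1 (mem_inf.1 hl).2) e he).symm

include F B in
theorem t_P {p : H} (hp : p ∈ D.P) : p * t = t * p := B.comm p (F.P_le hp)

include B in
theorem t_inv : t⁻¹ = t := inv_eq_of_mul_eq_one_left B.t_sq

include F B in
theorem t_Z {z : H} (hz : z ∈ D.Z) : z * t = t * z := t_P F B (Z_le_P F hz)

/-- `N0 = {n | [n, Z] = 1, [n, t] ∈ Z}`. -/
def N0 (D : Data H) (t : H) : Subgroup H where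
  carrier := {n | (∀ z ∈ D.Z, n * z = z * n) ∧ ⁅n, t⁆ ∈ D.Z}
  one_mem' := by
    refine ⟨fun z _ => by simp, ?_⟩
    rw [commutatorElement_one_left]; exact D.Z.one_mem
  mul_mem' := by
    rintro a b ⟨ha, ha'⟩ ⟨hb, hb'⟩
    refine ⟨fun z hz => by rw [mul_assoc, hb z hz, ← mul_assoc, ha z hz, mul_assoc], ?_⟩
    have h1 : ⁅a * b, t⁆ = a * ⁅b, t⁆ * a⁻¹ * ⁅a, t⁆ := by
      simp only [commutatorElement_def]; group
    have h2 : a * ⁅b, t⁆ * a⁻¹ = ⁅b, t⁆ := by rw [ha _ hb']; group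
    rw [h1, h2]
    exact D.Z.mul_mem hb' ha'
  inv_mem' := by
    rintro a ⟨ha, ha'⟩
    have ha2 : ∀ z ∈ D.Z, a⁻¹ * z = z * a⁻¹ := by
      intro z hz
      calc a⁻¹ * z = a⁻¹ * (z * a) * a⁻¹ := by group
        _ = a⁻¹ * (a * z) * a⁻¹ := by rw [ha z hz]
        _ = z * a⁻¹ := by group
    refine ⟨ha2, ?_⟩
    have h1 : ⁅a⁻¹, t⁆ = a⁻¹ * ⁅a, t⁆⁻¹ * a := by
      simp only [commutatorElement_def]; group
    rw [h1, ha2 _ (D.Z.inv_mem ha'), inv_mul_cancel_right]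
    exact D.Z.inv_mem ha'

theorem mem_N0 {n : H} : n ∈ N0 D t ↔ (∀ z ∈ D.Z, n * z = z * n) ∧ ⁅n, t⁆ ∈ D.Z := Iff.rfl

include F

/-- `n ↦ [n,t]` is multiplicative on `N0`. -/
theorem comm_mul {a b : H} (ha : a ∈ N0 D t) (hb : b ∈ N0 D t) :
    ⁅a * b, t⁆ = ⁅a, t⁆ * ⁅b, t⁆ := by
  have h1 : ⁅a * b, t⁆ = a * ⁅b, t⁆ * a⁻¹ * ⁅a, t⁆ := by
    simp only [commutatorElement_def]; group
  have h2 : a * ⁅b, t⁆ * a⁻¹ = ⁅b, t⁆ := by rw [ha.1 _ hb.2]; group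
  rw [h1, h2, Z_comm F hb.2 ha.2]

theorem comm_inv {a : H} (ha : a ∈ N0 D t) : ⁅a⁻¹, t⁆ = ⁅a, t⁆⁻¹ := by
  have h := comm_mul F ha ((N0 D t).inv_mem ha)
  rw [mul_inv_cancel, commutatorElement_one_left] at h
  exact (inv_eq_of_mul_eq_one_right h.symm).symm

include B in
theorem P_le_N0 : D.P ≤ N0 D t := fun p hp =>
  ⟨fun _ hz => P_Z F hp hz, by
    rw [commutatorElement_eq_one_iff_mul_comm.2 (t_P F B hp)]; exact D.Z.one_mem⟩

include B in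
theorem t_mem_N0 : t ∈ N0 D t :=
  ⟨fun _ hz => (t_Z F B hz).symm, by rw [commutatorElement_self]; exact D.Z.one_mem⟩

include B in
/-- the kernel of `n ↦ [n,t]` -/
theorem ker_N0 {n : H} (hn : n ∈ N0 D t) (h : ⁅n, t⁆ = 1) : n ∈ D.P ∨ t * n ∈ D.P :=
  B.cent n (commutatorElement_eq_one_iff_mul_comm.1 h) hn.1

/-- `K1 = C_H(⟨t⟩ Z)` -/
def K1 (D : Data H) (t : H) : Subgroup H := centralizer {t} ⊓ centralizer (D.Z : Set H)

omit F in
theorem mem_K1 {g : H} : g ∈ K1 D t ↔ g * t = t * g ∧ ∀ z ∈ D.Z, g * z = z * g := by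
  rw [K1, mem_inf, mem_centralizer_iff, mem_centralizer_iff]
  constructor
  · rintro ⟨h1, h2⟩
    exact ⟨(h1 t rfl).symm, fun z hz => (h2 z hz).symm⟩
  · rintro ⟨h1, h2⟩
    refine ⟨?_, fun z hz => (h2 z hz).symm⟩
    intro x hx
    rw [Set.mem_singleton_iff.1 hx]
    exact h1.symm

include F B in
theorem commutator_K1 : ⁅K1 D t, K1 D t⁆ ≤ D.P := by
  rw [commutator_le]
  intro g hg g' hg'
  have htt := B.t_sq
  rcases B.cent g (mem_K1.1 hg).1 (mem_K1.1 hg).2 with h1 | h1 <;>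
  rcases B.cent g' (mem_K1.1 hg').1 (mem_K1.1 hg').2 with h2 | h2
  · rw [commutatorElement_def]
    exact D.P.mul_mem (D.P.mul_mem (D.P.mul_mem h1 h2) (D.P.inv_mem h1)) (D.P.inv_mem h2)
  · have h3 : ⁅g, g'⁆ = ⁅g, t * g'⁆ := by
      have h4 := t_P F B h1
      rw [commutatorElement_def, commutatorElement_def]
      have : g * (t * g') * g⁻¹ * (t * g')⁻¹ = (g * t) * g' * g⁻¹ * g'⁻¹ * t⁻¹ := by group
      rw [this, h4]
      have h5 : t * g * g' * g⁻¹ * g'⁻¹ * t⁻¹ = t * (g * g' * g⁻¹ * g'⁻¹) * t⁻¹ := by group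
      rw [h5]
      have h6 : t * (g * g' * g⁻¹ * g'⁻¹) = (g * g' * g⁻¹ * g'⁻¹) * t := by
        have h7 : (g * g' * g⁻¹ * g'⁻¹) ∈ K1 D t := by
          have := (K1 D t).mul_mem ((K1 D t).mul_mem ((K1 D t).mul_mem hg hg') ((K1 D t).inv_mem hg))
            ((K1 D t).inv_mem hg')
          exact this
        exact (mem_K1.1 h7).1.symm
      rw [h6, mul_inv_cancel_right]
    rw [h3, commutatorElement_def]
    exact D.P.mul_mem (D.P.mul_mem (D.P.mul_mem h1 h2) (D.P.inv_mem h1)) (D.P.inv_mem h2)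
  · have h3 : ⁅g, g'⁆ = ⁅t * g, g'⁆ := by
      have h4 : g' * t = t * g' := (mem_K1.1 hg').1
      have h8 : t⁻¹ * g'⁻¹ = g'⁻¹ * t⁻¹ := by
        rw [← mul_inv_rev, ← mul_inv_rev, h4]
      rw [commutatorElement_def, commutatorElement_def]
      have : t * g * g' * (t * g)⁻¹ * g'⁻¹ = t * (g * g' * g⁻¹) * (t⁻¹ * g'⁻¹) := by group
      rw [this, h8]
      have h5 : t * (g * g' * g⁻¹) * (g'⁻¹ * t⁻¹) = t * (g * g' * g⁻¹ * g'⁻¹) * t⁻¹ := by group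
      rw [h5]
      have h6 : t * (g * g' * g⁻¹ * g'⁻¹) = (g * g' * g⁻¹ * g'⁻¹) * t := by
        have h7 : (g * g' * g⁻¹ * g'⁻¹) ∈ K1 D t := by
          have := (K1 D t).mul_mem ((K1 D t).mul_mem ((K1 D t).mul_mem hg hg') ((K1 D t).inv_mem hg))
            ((K1 D t).inv_mem hg')
          exact this
        exact (mem_K1.1 h7).1.symm
      rw [h6, mul_inv_cancel_right]
    rw [h3, commutatorElement_def]
    exact D.P.mul_mem (D.P.mul_mem (D.P.mul_mem h1 h2) (D.P.inv_mem h1)) (D.P.inv_mem h2)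
  · have h3 : ⁅g, g'⁆ = ⁅t * g, t * g'⁆ := by
      have h4 : g' * t = t * g' := (mem_K1.1 hg').1
      have h4' : g * t = t * g := (mem_K1.1 hg).1
      have e1 : t * g * (t * g') = g * g' := by
        calc t * g * (t * g') = t * (g * t) * g' := by group
          _ = (t * t) * g * g' := by rw [h4']; group
          _ = g * g' := by rw [htt]; group
      have e2 : (t * g') * (t * g) = g' * g := by
        calc (t * g') * (t * g) = t * (g' * t) * g := by group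
          _ = (t * t) * g' * g := by rw [h4]; group
          _ = g' * g := by rw [htt]; group
      have e3 : ∀ a b : H, ⁅a, b⁆ = (a * b) * (b * a)⁻¹ := by
        intro a b; rw [commutatorElement_def]; group
      rw [e3, e3, e1, e2]
    rw [h3, commutatorElement_def]
    exact D.P.mul_mem (D.P.mul_mem (D.P.mul_mem h1 h2) (D.P.inv_mem h1)) (D.P.inv_mem h2)

include F B in
theorem P_le_K1' : D.P ≤ K1 D t := fun _ hp => mem_K1.2 ⟨t_P F B hp, fun _ hz => P_Z F hp hz⟩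

/-- `N0` normalises `K1`. -/
theorem N0_K1 {n g : H} (hn : n ∈ N0 D t) (hg : g ∈ K1 D t) : n * g * n⁻¹ ∈ K1 D t := by
  rw [mem_K1] at hg ⊢
  have hni := (N0 D t).inv_mem hn
  refine ⟨?_, ?_⟩
  · -- `n⁻¹ t n = ⁅n⁻¹,t⁆ t`
    have h1 : n⁻¹ * t * n = ⁅n⁻¹, t⁆ * t := by rw [commutatorElement_def]; group
    have h2 : g * (n⁻¹ * t * n) = n⁻¹ * t * n * g := by
      rw [h1, ← mul_assoc, hg.2 _ hni.2, mul_assoc, hg.1, ← mul_assoc]
    calc n * g * n⁻¹ * t = n * (g * (n⁻¹ * t * n)) * n⁻¹ := by group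
      _ = n * (n⁻¹ * t * n * g) * n⁻¹ := by rw [h2]
      _ = t * (n * g * n⁻¹) := by group
  · intro z hz
    calc n * g * n⁻¹ * z = n * g * (n⁻¹ * z) := by group
      _ = n * (g * z) * n⁻¹ := by rw [hni.1 z hz]; group
      _ = (n * z) * g * n⁻¹ := by rw [hg.2 z hz]; group
      _ = z * (n * g * n⁻¹) := by rw [hn.1 z hz]; group

include B in
/-- `N0` normalises `P`. -/
theorem N0_P {n p : H} (hn : n ∈ N0 D t) (hp : p ∈ D.P) : n * p * n⁻¹ ∈ D.P := by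
  have h1 : D.P.map (MulAut.conj n).toMonoidHom ≤ K1 D t := by
    rintro _ ⟨q, hq, rfl⟩
    exact N0_K1 F hn (P_le_K1' F B hq)
  have h2 : (⁅D.P, D.P⁆).map (MulAut.conj n).toMonoidHom ≤ D.P := by
    rw [map_commutator]
    exact (commutator_mono h1 h1).trans (commutator_K1 F B)
  exact h2 (mem_map_of_mem _ (F.perfect_P hp))

theorem isPGroup_Q1 : IsPGroup 2 D.Q1 :=
  IsPGroup.of_card (n := 10) (by rw [F.card_Q1]; norm_num)

include B in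
/-- `N0` normalises `Q1`. -/
theorem N0_Q1 {n q : H} (hn : n ∈ N0 D t) (hq : q ∈ D.Q1) : n * q * n⁻¹ ∈ D.Q1 := by
  have h1 : D.Q1.map (MulAut.conj n).toMonoidHom ≤ D.Q1 := by
    apply F.core_P
    · rintro _ ⟨q, hq, rfl⟩
      exact N0_P F B hn (F.Q1_le hq)
    · rintro p hp _ ⟨q, hq, rfl⟩
      refine ⟨n⁻¹ * p * n * q * (n⁻¹ * p * n)⁻¹, ?_, ?_⟩
      · apply F.norm_Q1 _ _ _ hq
        have := N0_P F B ((N0 D t).inv_mem hn) hp
        rwa [inv_inv] at this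
      · show n * (n⁻¹ * p * n * q * (n⁻¹ * p * n)⁻¹) * n⁻¹ = p * (n * q * n⁻¹) * p⁻¹
        group
    · exact (isPGroup_Q1 F).map _
  exact h1 (mem_map_of_mem _ hq)

/-- `Y = {y ∈ N0 | [y, P] ≤ Q1}` -/
def Y : Subgroup H where
  carrier := {y | y ∈ N0 D t ∧ ∀ p ∈ D.P, ⁅y, p⁆ ∈ D.Q1}
  one_mem' := ⟨(N0 D t).one_mem, fun p _ => by rw [commutatorElement_one_left]; exact D.Q1.one_mem⟩
  mul_mem' := by
    rintro a b ⟨ha, ha'⟩ ⟨hb, hb'⟩
    refine ⟨(N0 D t).mul_mem ha hb, fun p hp => ?_⟩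
    have h1 : ⁅a * b, p⁆ = a * ⁅b, p⁆ * a⁻¹ * ⁅a, p⁆ := by
      simp only [commutatorElement_def]; group
    rw [h1]
    exact D.Q1.mul_mem (N0_Q1 F B ha (hb' p hp)) (ha' p hp)
  inv_mem' := by
    rintro a ⟨ha, ha'⟩
    refine ⟨(N0 D t).inv_mem ha, fun p hp => ?_⟩
    have h1 : ⁅a⁻¹, p⁆ = a⁻¹ * ⁅a, p⁆⁻¹ * a⁻¹⁻¹ := by
      simp only [commutatorElement_def]; group
    rw [h1]
    exact N0_Q1 F B ((N0 D t).inv_mem ha) (D.Q1.inv_mem (ha' p hp))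

theorem mem_Y {y : H} : y ∈ Y F B ↔ y ∈ N0 D t ∧ ∀ p ∈ D.P, ⁅y, p⁆ ∈ D.Q1 := Iff.rfl

theorem Q1_le_Y : D.Q1 ≤ Y F B := by
  intro q hq
  refine ⟨P_le_N0 F B (F.Q1_le hq), fun p hp => ?_⟩
  have h1 : ⁅q, p⁆ = q * (p * q⁻¹ * p⁻¹) := by rw [commutatorElement_def]; group
  rw [h1]
  exact D.Q1.mul_mem hq (F.norm_Q1 p hp _ (D.Q1.inv_mem hq))

theorem t_mem_Y : t ∈ Y F B := by
  refine ⟨t_mem_N0 F B, fun p hp => ?_⟩
  rw [commutatorElement_eq_one_iff_mul_comm.2 (t_P F B hp).symm]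
  exact D.Q1.one_mem

/-- `P` normalises `Y`. -/
theorem P_Y {p y : H} (hp : p ∈ D.P) (hy : y ∈ Y F B) : p * y * p⁻¹ ∈ Y F B := by
  have h1 : p * y * p⁻¹ = ⁅y, p⁆⁻¹ * y := by rw [commutatorElement_def]; group
  rw [h1]
  exact (Y F B).mul_mem ((Y F B).inv_mem (Q1_le_Y F B (hy.2 p hp))) hy

include B in
theorem h_t : D.h * t = t * D.h := B.comm _ F.h_mem

include F in
theorem h_P_mem {p : H} (hp : p ∈ D.P) : D.h * p * D.h⁻¹ ∈ D.P := by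
  have h1 : D.h * p * D.h⁻¹ = ⁅D.h, p⁆ * p := by rw [commutatorElement_def]; group
  rw [h1]
  exact D.P.mul_mem (F.Q1_le (F.h_P p hp)) hp

theorem h_cube : D.h * D.h * D.h = 1 := by
  rw [← F.h_pow, pow_succ, pow_succ, pow_one]

theorem h_inv : D.h⁻¹ = D.h * D.h := by
  rw [inv_eq_iff_mul_eq_one, ← mul_assoc]; exact h_cube F

include F in
theorem hinv_P_mem {p : H} (hp : p ∈ D.P) : D.h⁻¹ * p * D.h ∈ D.P := by
  have h1 : D.h⁻¹ * p * D.h = D.h⁻¹ * p * D.h⁻¹⁻¹ := by group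
  rw [h1, h_inv F]
  have h2 : D.h * D.h * p * (D.h * D.h)⁻¹ = D.h * (D.h * p * D.h⁻¹) * D.h⁻¹ := by group
  rw [h2]
  exact h_P_mem F (h_P_mem F hp)

include F in
theorem h_Q1_mem {p : H} (hp : p ∈ D.Q1) : D.h * p * D.h⁻¹ ∈ D.Q1 := by
  have h1 : D.h * p * D.h⁻¹ = ⁅D.h, p⁆ * p := by rw [commutatorElement_def]; group
  rw [h1]
  exact D.Q1.mul_mem (F.h_P p (F.Q1_le hp)) hp

include F in
/-- `h⁻¹ p h ∈ p Q1` -/
theorem hinv_mod {p : H} (hp : p ∈ D.P) : p⁻¹ * (D.h⁻¹ * p * D.h) ∈ D.Q1 := by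
  -- `⁅h, h⁻¹ p h⁆ ∈ Q1`
  have h1 := F.h_P _ (hinv_P_mem F hp)
  have h2 : p⁻¹ * (D.h⁻¹ * p * D.h) = p⁻¹ * ⁅D.h, D.h⁻¹ * p * D.h⁆⁻¹ * p⁻¹⁻¹ := by
    rw [commutatorElement_def]; group
  rw [h2]
  exact F.norm_Q1 _ (D.P.inv_mem hp) _ (D.Q1.inv_mem h1)

include F in
theorem h_Z_mem {z : H} (hz : z ∈ D.Z) : D.h * z * D.h⁻¹ ∈ D.Z := F.h_Z z hz

include F in
theorem hinv_Z_mem {z : H} (hz : z ∈ D.Z) : D.h⁻¹ * z * D.h ∈ D.Z := by
  have h1 : D.h⁻¹ * z * D.h = D.h⁻¹ * z * D.h⁻¹⁻¹ := by group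
  rw [h1, h_inv F]
  have h2 : D.h * D.h * z * (D.h * D.h)⁻¹ = D.h * (D.h * z * D.h⁻¹) * D.h⁻¹ := by group
  rw [h2]
  exact F.h_Z _ (F.h_Z _ hz)

include B in
theorem comm_h {n : H} : ⁅D.h * n * D.h⁻¹, t⁆ = D.h * ⁅n, t⁆ * D.h⁻¹ := by
  have h1 : D.h⁻¹ * t * D.h = t := by
    calc D.h⁻¹ * t * D.h = D.h⁻¹ * (t * D.h) := by group
      _ = t := by rw [← h_t F B]; group
  have h2 : D.h⁻¹ * t⁻¹ * D.h = t⁻¹ := by
    calc D.h⁻¹ * t⁻¹ * D.h = (D.h⁻¹ * t * D.h)⁻¹ := by group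
      _ = t⁻¹ := by rw [h1]
  rw [commutatorElement_def, commutatorElement_def]
  calc D.h * n * D.h⁻¹ * t * (D.h * n * D.h⁻¹)⁻¹ * t⁻¹
      = D.h * (n * (D.h⁻¹ * t * D.h) * n⁻¹ * (D.h⁻¹ * t⁻¹ * D.h)) * D.h⁻¹ := by group
    _ = D.h * (n * t * n⁻¹ * t⁻¹) * D.h⁻¹ := by rw [h1, h2]

include B in
theorem h_N0 {n : H} (hn : n ∈ N0 D t) : D.h * n * D.h⁻¹ ∈ N0 D t := by
  refine ⟨fun z hz => ?_, ?_⟩
  · have h1 := hn.1 _ (hinv_Z_mem F hz)
    calc D.h * n * D.h⁻¹ * z = D.h * (n * (D.h⁻¹ * z * D.h)) * D.h⁻¹ := by group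
      _ = D.h * ((D.h⁻¹ * z * D.h) * n) * D.h⁻¹ := by rw [h1]
      _ = z * (D.h * n * D.h⁻¹) := by group
  · rw [comm_h F B]
    exact F.h_Z _ hn.2

theorem h_Y {n : H} (hn : n ∈ Y F B) : D.h * n * D.h⁻¹ ∈ Y F B := by
  refine ⟨h_N0 F B hn.1, fun p hp => ?_⟩
  have h1 : ⁅D.h * n * D.h⁻¹, p⁆ = D.h * ⁅n, D.h⁻¹ * p * D.h⁆ * D.h⁻¹ := by
    simp only [commutatorElement_def]; group
  rw [h1]
  exact h_Q1_mem F (hn.2 _ (hinv_P_mem F hp))

/-- The key element of `Y`: `n⁻¹ n^h`. -/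
theorem key_mem_Y {n : H} (hn : n ∈ N0 D t) : n⁻¹ * (D.h * n * D.h⁻¹) ∈ Y F B := by
  refine ⟨(N0 D t).mul_mem ((N0 D t).inv_mem hn) (h_N0 F B hn), fun p hp => ?_⟩
  -- `x = h⁻¹ p h = p q`
  set q := p⁻¹ * (D.h⁻¹ * p * D.h) with hq
  have hqQ : q ∈ D.Q1 := hinv_mod F hp
  set x := n * (p * q) * n⁻¹ with hx
  have hxP : x ∈ D.P := N0_P F B hn (D.P.mul_mem hp (F.Q1_le hqQ))
  have h1 := F.h_P x hxP
  have h2 : ⁅n⁻¹ * (D.h * n * D.h⁻¹), p⁆ = n⁻¹ * ⁅D.h, x⁆ * n⁻¹⁻¹ * (p * q * p⁻¹) := by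
    rw [hx, hq, commutatorElement_def, commutatorElement_def]; group
  rw [h2]
  exact D.Q1.mul_mem (N0_Q1 F B ((N0 D t).inv_mem hn) h1) (F.norm_Q1 p hp q hqQ)

/-- `h` permutes the nontrivial elements of a subgroup of order 4 transitively. -/
theorem elts4 {X : Subgroup H} (hcardX : Nat.card X = 4) (hX : ∀ z ∈ X, D.h * z * D.h⁻¹ ∈ X)
    (hfpf : ∀ z ∈ X, D.h * z * D.h⁻¹ = z → z = 1) {z1 : H} (hz1 : z1 ∈ X) (hne : z1 ≠ 1) : ∀ z ∈ X,
    z = 1 ∨ z = z1 ∨ z = D.h * z1 * D.h⁻¹ ∨ z = D.h * (D.h * z1 * D.h⁻¹) * D.h⁻¹ := by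
  classical
  set z2 := D.h * z1 * D.h⁻¹ with hz2
  set z3 := D.h * z2 * D.h⁻¹ with hz3
  have m2 : z2 ∈ X := hX _ hz1
  have m3 : z3 ∈ X := hX _ m2
  have n2 : z2 ≠ 1 := by
    intro h; apply hne
    rw [hz2] at h
    calc z1 = D.h⁻¹ * (D.h * z1 * D.h⁻¹) * D.h := by group
      _ = 1 := by rw [h]; group
  have n3 : z3 ≠ 1 := by
    intro h; apply n2
    rw [hz3] at h
    calc z2 = D.h⁻¹ * (D.h * z2 * D.h⁻¹) * D.h := by group
      _ = 1 := by rw [h]; group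
  have d12 : z1 ≠ z2 := fun h => hne (hfpf _ hz1 h.symm)
  have d23 : z2 ≠ z3 := fun h => n2 (hfpf _ m2 h.symm)
  have d13 : z1 ≠ z3 := by
    intro h
    apply d12
    have h3 : D.h * z3 * D.h⁻¹ = z1 := by
      have e : D.h * z3 * D.h⁻¹ = D.h * D.h * D.h * z1 * (D.h * D.h * D.h)⁻¹ := by
        rw [hz3, hz2]; group
      rw [e, h_cube F]; group
    rw [← h] at h3
    rw [← h3]
  have hfin : Finite X := Nat.finite_of_card_ne_zero (by rw [hcardX]; norm_num)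
  have hcard : ((({1, z1, z2, z3} : Finset H) : Set H)).ncard = 4 := by
    rw [Set.ncard_coe_finset]
    rw [Finset.card_insert_of_notMem, Finset.card_insert_of_notMem, Finset.card_insert_of_notMem,
      Finset.card_singleton]
    · simp [d23]
    · simp [d12, d13]
    · simp only [Finset.mem_insert, Finset.mem_singleton, not_or]
      exact ⟨hne.symm, n2.symm, n3.symm⟩
  have hsub : (({1, z1, z2, z3} : Finset H) : Set H) ⊆ (X : Set H) := by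
    intro x hx
    simp only [Finset.coe_insert, Finset.coe_singleton, Set.mem_insert_iff, Set.mem_singleton_iff] at hx
    rcases hx with rfl | rfl | rfl | rfl
    · exact X.one_mem
    · exact hz1
    · exact m2
    · exact m3
  have heq : (({1, z1, z2, z3} : Finset H) : Set H) = (X : Set H) := by
    apply Set.eq_of_subset_of_ncard_le hsub
    · rw [hcard]
      have : (X : Set H).ncard = 4 := by
        rw [← hcardX]; rfl
      rw [this]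
  intro z hz
  have hz' : z ∈ (({1, z1, z2, z3} : Finset H) : Set H) := by rw [heq]; exact hz
  simpa only [Finset.coe_insert, Finset.coe_singleton, Set.mem_insert_iff, Set.mem_singleton_iff]
    using hz'

theorem Z_elts {z1 : H} (hz1 : z1 ∈ D.Z) (hne : z1 ≠ 1) : ∀ z ∈ D.Z,
    z = 1 ∨ z = z1 ∨ z = D.h * z1 * D.h⁻¹ ∨ z = D.h * (D.h * z1 * D.h⁻¹) * D.h⁻¹ :=
  elts4 F F.card_Z F.h_Z F.h_Z_fpf hz1 hne

theorem Xe_elts {z1 : H} (hz1 : z1 ∈ D.Xe) (hne : z1 ≠ 1) : ∀ z ∈ D.Xe,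
    z = 1 ∨ z = z1 ∨ z = D.h * z1 * D.h⁻¹ ∨ z = D.h * (D.h * z1 * D.h⁻¹) * D.h⁻¹ :=
  elts4 F F.card_Xe F.h_Xe F.h_Xe_fpf hz1 hne

/-- `z z^h z^{h²} = 1` on `Z` -/
theorem Z_norm {z : H} (hz : z ∈ D.Z) :
    z * (D.h * z * D.h⁻¹) * (D.h * (D.h * z * D.h⁻¹) * D.h⁻¹) = 1 := by
  have h1 := F.h_Z _ hz
  have h2 := F.h_Z _ h1
  apply F.h_Z_fpf _ (D.Z.mul_mem (D.Z.mul_mem hz h1) h2)
  have e : D.h * (D.h * (D.h * z * D.h⁻¹) * D.h⁻¹) * D.h⁻¹ = z := by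
    have e1 : D.h * (D.h * (D.h * z * D.h⁻¹) * D.h⁻¹) * D.h⁻¹ =
        D.h * D.h * D.h * z * (D.h * D.h * D.h)⁻¹ := by group
    rw [e1, h_cube F]; group
  set a := D.h * z * D.h⁻¹ with ha
  set b := D.h * a * D.h⁻¹ with hb
  have e2 : D.h * (z * a * b) * D.h⁻¹ = a * b * (D.h * b * D.h⁻¹) := by rw [hb, ha]; group
  rw [e2, e, mul_assoc, Z_comm F h2 hz, ← mul_assoc, Z_comm F h1 hz]

/-- `y ↦ [y,t]` maps `Y` onto `Z`. -/
theorem Y_onto : ∀ z ∈ D.Z, ∃ y ∈ Y F B, ⁅y, t⁆ = z := by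
  obtain ⟨k, hk1, hk2, hk3⟩ := B.fus
  have hk : k ∈ N0 D t := ⟨hk1, hk2⟩
  set y1 := k⁻¹ * (D.h * k * D.h⁻¹) with hy1
  have hy1Y : y1 ∈ Y F B := key_mem_Y F B hk
  set z1 := ⁅y1, t⁆ with hz1
  have hz1Z : z1 ∈ D.Z := hy1Y.1.2
  have hz1ne : z1 ≠ 1 := by
    intro h
    rw [hz1, hy1, comm_mul F ((N0 D t).inv_mem hk) (h_N0 F B hk), comm_inv F hk, comm_h F B] at h
    exact hk3 (F.h_Z_fpf _ hk2 (inv_mul_eq_one.1 h).symm)
  intro z hz
  rcases Z_elts F hz1Z hz1ne z hz with rfl | rfl | rfl | rfl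
  · exact ⟨1, (Y F B).one_mem, commutatorElement_one_left _⟩
  · exact ⟨y1, hy1Y, rfl⟩
  · exact ⟨_, h_Y F B hy1Y, comm_h F B⟩
  · exact ⟨_, h_Y F B (h_Y F B hy1Y), by rw [comm_h F B, comm_h F B]⟩

/-- kernel of `y ↦ [y,t]` on `Y` -/
theorem Y_ker {y : H} (hy : y ∈ Y F B) (h : ⁅y, t⁆ = 1) : y ∈ D.Q1 ∨ t * y ∈ D.Q1 := by
  rcases ker_N0 F B hy.1 h with h1 | h1
  · exact Or.inl (F.center_PQ1 y h1 hy.2)
  · right
    apply F.center_PQ1 _ h1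
    exact ((Y F B).mul_mem (t_mem_Y F B) hy).2



include B in
theorem t_Q1 {q : H} (hq : q ∈ D.Q1) : t * q * t⁻¹ ∈ D.Q1 := by
  rw [← t_P F B (F.Q1_le hq), mul_inv_cancel_right]; exact hq

include B in
theorem t_notMem_Q1 : t ∉ D.Q1 := fun h => B.t_notMem (F.P_le (F.Q1_le h))

/-- `|Y| = 2^13`, in particular `Y` is a 2-group. -/
theorem card_Y : Nat.card (Y F B) = 2 ^ 13 := by
  have h := Tools.card_mul_eq (Y := Y F B) (K := Tools.ext t B.t_sq D.Q1 (fun q hq => t_Q1 F B hq))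
    (C := D.Z) (B := ⊥) (fun y => ⁅y, t⁆) (fun y hy => hy.1.2) ?_ bot_le ?_ ?_ ?_
  · rw [Tools.card_ext (t_notMem_Q1 F B), F.card_Q1, F.card_Z, card_bot, mul_one] at h
    rw [h]; norm_num
  · rintro x (hx | hx)
    · exact Q1_le_Y F B hx
    · have h1 := (Y F B).mul_mem (t_mem_Y F B) (Q1_le_Y F B hx)
      rw [← mul_assoc, B.t_sq, one_mul] at h1
      exact h1
  · intro y hy y' hy'
    rw [mem_bot, comm_mul F hy.1 hy'.1, inv_mul_cancel]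
  · intro q hq
    obtain ⟨y, hy, hyq⟩ := Y_onto F B q hq
    refine ⟨y, hy, ?_⟩
    rw [mem_bot, hyq, inv_mul_cancel]
  · intro y hy
    rw [mem_bot, Tools.mem_ext]
    constructor
    · exact Y_ker F B hy
    · have hh : ∀ q ∈ D.Q1, ⁅q, t⁆ = 1 := fun q hq =>
        commutatorElement_eq_one_iff_mul_comm.2 (t_P F B (F.Q1_le hq))
      rintro (h1 | h1)
      · exact hh y h1
      · have h2 := hh _ h1
        rw [comm_mul F (t_mem_N0 F B) hy.1, commutatorElement_self, one_mul] at h2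
        exact h2

theorem isPGroup_Y : IsPGroup 2 (Y F B) := IsPGroup.of_card (card_Y F B)

theorem W4_le_Q1 : D.W4 ≤ D.Q1 := sup_le F.Z_le F.Xe_le

/-- elements of `W4` -/
theorem mem_W4 {x : H} : x ∈ D.W4 ↔ ∃ z ∈ D.Z, ∃ e ∈ D.Xe, x = z * e := by
  constructor
  · intro hx
    have hn : D.Xe ≤ normalizer (D.Z : Set H) := by
      intro e he
      rw [mem_normalizer_iff]
      intro z
      constructor
      · intro hz
        rw [P_Z F (Xe_le_P F he) hz, mul_inv_cancel_right]; exact hz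
      · intro hz
        have h1 := P_Z F (D.P.inv_mem (Xe_le_P F he)) hz
        have h2 : z = e⁻¹ * (e * z * e⁻¹) * e := by group
        rw [h2, h1, inv_mul_cancel_right]; exact hz
    rw [Data.W4, ← SetLike.mem_coe, sup_comm, Subgroup.coe_mul_of_left_le_normalizer_right] at hx
    · obtain ⟨e, he, z, hz, rfl⟩ := hx
      exact ⟨z, hz, e, he, P_Z F (Xe_le_P F he) hz⟩
    · exact hn
  · rintro ⟨z, hz, e, he, rfl⟩
    exact D.W4.mul_mem ((le_sup_left : D.Z ≤ D.W4) hz) ((le_sup_right : D.Xe ≤ D.W4) he)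

theorem L2_W4 {l w : H} (hl : l ∈ D.L2) (hw : w ∈ D.W4) : l * w = w * l := by
  obtain ⟨z, hz, e, he, rfl⟩ := (mem_W4 F).1 hw
  rw [← mul_assoc, P_Z F (L2_le_P hl) hz, mul_assoc, L2_Xe hl he, ← mul_assoc]

theorem Y_W4 {y w : H} (hy : y ∈ Y F B) (hw : w ∈ D.W4) : y * w * y⁻¹ ∈ D.W4 := by
  have hwQ := W4_le_Q1 F hw
  apply F.cent_Xa _ (N0_Q1 F B hy.1 hwQ)
  intro x hx
  have hxL := Xa_le_L2 F hx
  have hxP := L2_le_P hxL
  -- `q = ⁅y⁻¹, x⁆`, `y⁻¹ x y = q x`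
  have hq := ((Y F B).inv_mem hy).2 x hxP
  have h1 : ⁅y * w * y⁻¹, x⁆ = y * ⁅w, ⁅y⁻¹, x⁆ * x⁆ * y⁻¹ := by
    simp only [commutatorElement_def]; group
  have h2 : ⁅w, ⁅y⁻¹, x⁆ * x⁆ = ⁅w, ⁅y⁻¹, x⁆⁆ := by
    have h3 : x * w⁻¹ * x⁻¹ = w⁻¹ := by
      rw [L2_W4 F hxL (D.W4.inv_mem hw), mul_inv_cancel_right]
    set q := ⁅y⁻¹, x⁆ with hqd
    rw [commutatorElement_def, commutatorElement_def]
    calc w * (q * x) * w⁻¹ * (q * x)⁻¹ = w * q * (x * w⁻¹ * x⁻¹) * q⁻¹ := by group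
      _ = w * q * w⁻¹ * q⁻¹ := by rw [h3]
  rw [h1, h2]
  have h3 := F.comm_Q1 w hwQ _ hq
  have h4 : y * ⁅w, ⁅y⁻¹, x⁆⁆ * y⁻¹ = ⁅w, ⁅y⁻¹, x⁆⁆ := by
    rw [hy.1.1 _ h3, mul_inv_cancel_right]
  rw [h4]; exact h3

theorem h_W4 {w : H} (hw : w ∈ D.W4) : D.h * w * D.h⁻¹ ∈ D.W4 := by
  obtain ⟨z, hz, e, he, rfl⟩ := (mem_W4 F).1 hw
  have h1 : D.h * (z * e) * D.h⁻¹ = (D.h * z * D.h⁻¹) * (D.h * e * D.h⁻¹) := by group
  rw [h1, mem_W4 F]
  exact ⟨_, F.h_Z z hz, _, F.h_Xe e he, rfl⟩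

theorem hinv_Y {n : H} (hn : n ∈ Y F B) : D.h⁻¹ * n * D.h ∈ Y F B := by
  have h1 : D.h⁻¹ * n * D.h = D.h⁻¹ * n * D.h⁻¹⁻¹ := by group
  rw [h1, h_inv F]
  have h2 : D.h * D.h * n * (D.h * D.h)⁻¹ = D.h * (D.h * n * D.h⁻¹) * D.h⁻¹ := by group
  rw [h2]
  exact h_Y F B (h_Y F B hn)

/-- `KY = {x ∈ P | [Y, x] ≤ Z}` -/
def KY : Subgroup H where
  carrier := {x | x ∈ D.P ∧ ∀ y ∈ Y F B, ⁅y, x⁆ ∈ D.Z}
  one_mem' := ⟨D.P.one_mem, fun y _ => by rw [commutatorElement_one_right]; exact D.Z.one_mem⟩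
  mul_mem' := by
    rintro a b ⟨ha, ha'⟩ ⟨hb, hb'⟩
    refine ⟨D.P.mul_mem ha hb, fun y hy => ?_⟩
    have h1 : ⁅y, a * b⁆ = ⁅y, a⁆ * (a * ⁅y, b⁆ * a⁻¹) := by
      simp only [commutatorElement_def]; group
    rw [h1, P_Z F ha (hb' y hy), mul_inv_cancel_right]
    exact D.Z.mul_mem (ha' y hy) (hb' y hy)
  inv_mem' := by
    rintro a ⟨ha, ha'⟩
    refine ⟨D.P.inv_mem ha, fun y hy => ?_⟩
    have h1 : ⁅y, a⁻¹⁆ = a⁻¹ * ⁅y, a⁆⁻¹ * a := by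
      simp only [commutatorElement_def]; group
    rw [h1, P_Z F (D.P.inv_mem ha) (D.Z.inv_mem (ha' y hy)), inv_mul_cancel_right]
    exact D.Z.inv_mem (ha' y hy)

theorem mem_KY {x : H} : x ∈ KY F B ↔ x ∈ D.P ∧ ∀ y ∈ Y F B, ⁅y, x⁆ ∈ D.Z := Iff.rfl

theorem h_KY {x : H} (hx : x ∈ KY F B) : D.h * x * D.h⁻¹ ∈ KY F B := by
  refine ⟨h_P_mem F hx.1, fun y hy => ?_⟩
  have h1 : ⁅y, D.h * x * D.h⁻¹⁆ = D.h * ⁅D.h⁻¹ * y * D.h, x⁆ * D.h⁻¹ := by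
    simp only [commutatorElement_def]; group
  rw [h1]
  exact F.h_Z _ (hx.2 _ (hinv_Y F B hy))

theorem Z_le_KY : D.Z ≤ KY F B := by
  intro z hz
  refine ⟨Z_le_P F hz, fun y hy => ?_⟩
  rw [commutatorElement_eq_one_iff_mul_comm.2 (hy.1.1 z hz)]
  exact D.Z.one_mem

variable [Finite H]

omit [Finite H] in
theorem Y_Z {y z : H} (hy : y ∈ Y F B) (hz : z ∈ D.Z) : y * z * y⁻¹ ∈ D.Z := by
  rw [hy.1.1 z hz, mul_inv_cancel_right]; exact hz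

theorem Xe_le_KY : D.Xe ≤ KY F B := by
  have : Fact (Nat.Prime 2) := ⟨Nat.prime_two⟩
  obtain ⟨n, hn, hnZ, hfix⟩ := Tools.exists_fixed_mod (p := 2) (Y := Y F B) (N := D.W4) (M := D.Z)
    (isPGroup_Y F B) ((W4_le_Q1 F).trans (Q1_le_Y F B)) (fun y hy w hw => Y_W4 F B hy hw)
    (fun y hy z hz => Y_Z F B hy hz) (by
      have h4 : ∃ e ∈ D.Xe, e ≠ 1 := by
        by_contra hcon
        push Not at hcon
        have h5 : D.Xe = ⊥ := by rw [eq_bot_iff]; intro x hx; rw [mem_bot]; exact hcon x hx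
        have h6 := F.card_Xe
        rw [h5, card_bot] at h6
        norm_num at h6
      obtain ⟨e, he, hne⟩ := h4
      exact ⟨e, (le_sup_right : D.Xe ≤ D.W4) he, fun hZ => hne (F.Xe_Z e he hZ)⟩)
  obtain ⟨z, hz, e, he, rfl⟩ := (mem_W4 F).1 hn
  have hzK := Z_le_KY F B hz
  have hze : z * e ∈ KY F B := ⟨D.P.mul_mem (Z_le_P F hz) (Xe_le_P F he), hfix⟩
  have heK : e ∈ KY F B := by
    have := (KY F B).mul_mem ((KY F B).inv_mem hzK) hze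
    rwa [inv_mul_cancel_left] at this
  have hne : e ≠ 1 := by
    rintro rfl
    apply hnZ
    rw [mul_one]; exact hz
  intro x hx
  rcases Xe_elts F he hne x hx with rfl | rfl | rfl | rfl
  · exact (KY F B).one_mem
  · exact heK
  · exact h_KY F B heK
  · exact h_KY F B (h_KY F B heK)

theorem Q1_le_KY : D.Q1 ≤ KY F B := by
  apply F.gen_Q1 _ (Z_le_KY F B)
  intro p hp e he
  have heK := Xe_le_KY F B he
  refine ⟨D.P.mul_mem (D.P.mul_mem hp heK.1) (D.P.inv_mem hp), fun y hy => ?_⟩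
  have h1 : ⁅y, p * e * p⁻¹⁆ = p * ⁅p⁻¹ * y * p⁻¹⁻¹, e⁆ * p⁻¹ := by
    simp only [commutatorElement_def]; group
  have h2 := heK.2 _ (P_Y F B (D.P.inv_mem hp) hy)
  rw [h1, P_Z F hp h2, mul_inv_cancel_right]
  exact h2

theorem Y_Q1 {y q : H} (hy : y ∈ Y F B) (hq : q ∈ D.Q1) : ⁅y, q⁆ ∈ D.Z := (Q1_le_KY F B hq).2 y hy

/-- `W = C_Y(Q1)` -/
def W : Subgroup H := Y F B ⊓ centralizer (D.Q1 : Set H)

omit [Finite H] in
theorem mem_W {w : H} : w ∈ W F B ↔ w ∈ Y F B ∧ ∀ q ∈ D.Q1, w * q = q * w := by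
  rw [W, mem_inf, mem_centralizer_iff]
  exact ⟨fun h => ⟨h.1, fun q hq => (h.2 q hq).symm⟩, fun h => ⟨h.1, fun q hq => (h.2 q hq).symm⟩⟩

theorem mem_W_of_f {y : H} (hy : y ∈ Y F B) (hf : D.f * y = y * D.f) : y ∈ W F B := by
  rw [mem_W]
  refine ⟨hy, fun q hq => ?_⟩
  obtain ⟨q', hq', z, hz, rfl⟩ := F.f_Q1 q hq
  have hζ := Y_Q1 F B hy hq'
  have h1 : y * q' * y⁻¹ = ⁅y, q'⁆ * q' := by rw [commutatorElement_def]; group
  have h2 : y * D.f * y⁻¹ = D.f := by rw [← hf, mul_inv_cancel_right]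
  have h3 : y * ⁅q', D.f⁆ * y⁻¹ = ⁅q', D.f⁆ := by
    have h4 : y * ⁅q', D.f⁆ * y⁻¹ = ⁅y * q' * y⁻¹, y * D.f * y⁻¹⁆ := by
      simp only [commutatorElement_def]; group
    rw [h4, h1, h2]
    have hc1 : D.f * ⁅y, q'⁆ = ⁅y, q'⁆ * D.f := P_Z F F.f_mem hζ
    set ζ := ⁅y, q'⁆ with hζd
    rw [commutatorElement_def, commutatorElement_def]
    have hc2 : (D.f * ζ * D.f⁻¹)⁻¹ = ζ⁻¹ := by rw [hc1, mul_inv_cancel_right]
    have hc3 : (q' * D.f * q'⁻¹) * ζ⁻¹ = ζ⁻¹ * (q' * D.f * q'⁻¹) :=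
      P_Z F (D.P.mul_mem (D.P.mul_mem (F.Q1_le hq') F.f_mem) (D.P.inv_mem (F.Q1_le hq')))
        (D.Z.inv_mem hζ)
    calc ζ * q' * D.f * (ζ * q')⁻¹ * D.f⁻¹
        = ζ * ((q' * D.f * q'⁻¹) * ζ⁻¹) * D.f⁻¹ := by group
      _ = ζ * (ζ⁻¹ * (q' * D.f * q'⁻¹)) * D.f⁻¹ := by rw [hc3]
      _ = q' * D.f * q'⁻¹ * D.f⁻¹ := by group
  have h5 : y * ⁅q', D.f⁆ = ⁅q', D.f⁆ * y := by
    calc y * ⁅q', D.f⁆ = y * ⁅q', D.f⁆ * y⁻¹ * y := by group
      _ = ⁅q', D.f⁆ * y := by rw [h3]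
  rw [← mul_assoc, h5, mul_assoc, hy.1.1 z hz, ← mul_assoc]

theorem exists_W {y : H} (hy : y ∈ Y F B) : ∃ q ∈ D.Q1, y * q ∈ W F B := by
  have : Fact (Nat.Prime 5) := ⟨Nat.prime_five⟩
  obtain ⟨q, hq, hcomm⟩ := Tools.exists_comm_coset (p := 5) (Q := D.Q1) (f := D.f) (y := y) (k := 1)
    (by rw [pow_one]; exact F.f_pow) (fun q hq => F.norm_Q1 _ F.f_mem q hq)
    (by rw [F.card_Q1]; norm_num) (by
      have h1 := ((Y F B).inv_mem hy).2 D.f F.f_mem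
      rw [commutatorElement_def] at h1
      have h2 : y⁻¹ * (D.f * y * D.f⁻¹) = y⁻¹ * D.f * y⁻¹⁻¹ * D.f⁻¹ := by group
      rw [h2]; exact h1)
  exact ⟨q, hq, mem_W_of_f F B ((Y F B).mul_mem hy (Q1_le_Y F B hq)) hcomm⟩

omit [Finite H] in
/-- `W` centralises `P`. -/
theorem W_P {w p : H} (hw : w ∈ W F B) (hp : p ∈ D.P) : w * p = p * w := by
  obtain ⟨hwY, hwQ⟩ := (mem_W F B).1 hw
  have key : ∀ p ∈ D.P, ⁅w, p⁆ ∈ D.Z := by
    intro p hp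
    apply F.center_Q1 _ (hwY.2 p hp)
    intro q hq
    have h1 : ⁅w, p⁆ = w * (p * w⁻¹ * p⁻¹) := by rw [commutatorElement_def]; group
    have h2 : (p * w⁻¹ * p⁻¹) * q = q * (p * w⁻¹ * p⁻¹) := by
      have h3 := F.norm_Q1 _ (D.P.inv_mem hp) q hq
      rw [inv_inv] at h3
      have h4 := hwQ _ h3
      have h5 : w⁻¹ * (p⁻¹ * q * p) = (p⁻¹ * q * p) * w⁻¹ := by
        calc w⁻¹ * (p⁻¹ * q * p) = w⁻¹ * ((p⁻¹ * q * p) * w) * w⁻¹ := by group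
          _ = w⁻¹ * (w * (p⁻¹ * q * p)) * w⁻¹ := by rw [h4]
          _ = (p⁻¹ * q * p) * w⁻¹ := by group
      calc (p * w⁻¹ * p⁻¹) * q = p * (w⁻¹ * (p⁻¹ * q * p)) * p⁻¹ := by group
        _ = p * ((p⁻¹ * q * p) * w⁻¹) * p⁻¹ := by rw [h5]
        _ = q * (p * w⁻¹ * p⁻¹) := by group
    rw [h1, mul_assoc, h2, ← mul_assoc, hwQ q hq, mul_assoc]
  have h6 : D.P ≤ centralizer {w} := by
    refine F.perfect_P.trans ?_
    rw [commutator_le]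
    intro a ha b hb
    rw [mem_centralizer_singleton_iff]
    have e1 : w * a * w⁻¹ = ⁅w, a⁆ * a := by rw [commutatorElement_def]; group
    have e2 : w * b * w⁻¹ = ⁅w, b⁆ * b := by rw [commutatorElement_def]; group
    have e3 : w * ⁅a, b⁆ * w⁻¹ = ⁅a, b⁆ := by
      have e4 : w * ⁅a, b⁆ * w⁻¹ = ⁅w * a * w⁻¹, w * b * w⁻¹⁆ := by
        simp only [commutatorElement_def]; group
      rw [e4, e1, e2]
      have ka := key a ha
      have kb := key b hb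
      set ζ := ⁅w, a⁆
      set η := ⁅w, b⁆
      have c1 : a * η = η * a := P_Z F ha kb
      have c2 : b * ζ = ζ * b := P_Z F hb ka
      have c3 : ζ * η = η * ζ := Z_comm F ka kb
      have e5 : ∀ x y : H, ⁅x, y⁆ = (x * y) * (y * x)⁻¹ := by
        intro x y; rw [commutatorElement_def]; group
      rw [e5, e5]
      have e6 : ζ * a * (η * b) = ζ * η * (a * b) := by
        calc ζ * a * (η * b) = ζ * (a * η) * b := by group
          _ = ζ * η * (a * b) := by rw [c1]; group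
      have e7 : η * b * (ζ * a) = ζ * η * (b * a) := by
        calc η * b * (ζ * a) = η * (b * ζ) * a := by group
          _ = η * ζ * (b * a) := by rw [c2]; group
          _ = ζ * η * (b * a) := by rw [c3]
      have c4 : (b * a)⁻¹ * (ζ * η)⁻¹ = (ζ * η)⁻¹ * (b * a)⁻¹ := by
        rw [← mul_inv_rev, ← mul_inv_rev]
        rw [P_Z F (D.P.mul_mem hb ha) (D.Z.mul_mem ka kb)]
      have c5 : a * b * (ζ * η)⁻¹ = (ζ * η)⁻¹ * (a * b) :=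
        P_Z F (D.P.mul_mem ha hb) (D.Z.inv_mem (D.Z.mul_mem ka kb))
      rw [e6, e7, mul_inv_rev, c4]
      calc ζ * η * (a * b) * ((ζ * η)⁻¹ * (b * a)⁻¹)
          = ζ * η * (a * b * (ζ * η)⁻¹) * (b * a)⁻¹ := by group
        _ = ζ * η * ((ζ * η)⁻¹ * (a * b)) * (b * a)⁻¹ := by rw [c5]
        _ = a * b * (b * a)⁻¹ := by group
    calc ⁅a, b⁆ * w = (w * ⁅a, b⁆ * w⁻¹) * w := by rw [e3]
      _ = w * ⁅a, b⁆ := by group
  have h7 := h6 hp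
  rw [mem_centralizer_singleton_iff] at h7
  exact h7.symm

theorem W_onto : ∀ z ∈ D.Z, ∃ w ∈ W F B, ⁅w, t⁆ = z := by
  intro z hz
  obtain ⟨y, hy, hyz⟩ := Y_onto F B z hz
  obtain ⟨q, hq, hyq⟩ := exists_W F B hy
  refine ⟨_, hyq, ?_⟩
  rw [comm_mul F hy.1 (Q1_le_Y F B hq).1, hyz,
    commutatorElement_eq_one_iff_mul_comm.2 (t_P F B (F.Q1_le hq)), mul_one]

omit [Finite H] in
theorem Z_le_W : D.Z ≤ W F B := by
  intro z hz
  rw [mem_W]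
  exact ⟨Q1_le_Y F B (F.Z_le hz), fun q hq => (P_Z F (F.Q1_le hq) hz).symm⟩

omit [Finite H] in
theorem t_mem_W : t ∈ W F B := by
  rw [mem_W]
  exact ⟨t_mem_Y F B, fun q hq => (t_P F B (F.Q1_le hq)).symm⟩

omit [Finite H] in
theorem h_W {w : H} (hw : w ∈ W F B) : D.h * w * D.h⁻¹ ∈ W F B := by
  rw [mem_W] at hw ⊢
  refine ⟨h_Y F B hw.1, fun q hq => ?_⟩
  have h1 : D.h⁻¹ * q * D.h ∈ D.Q1 := by
    have h1 : D.h⁻¹ * q * D.h = D.h⁻¹ * q * D.h⁻¹⁻¹ := by group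
    rw [h1, h_inv F]
    have h2 : D.h * D.h * q * (D.h * D.h)⁻¹ = D.h * (D.h * q * D.h⁻¹) * D.h⁻¹ := by group
    rw [h2]
    exact h_Q1_mem F (h_Q1_mem F hq)
  have h2 := hw.2 _ h1
  calc D.h * w * D.h⁻¹ * q = D.h * (w * (D.h⁻¹ * q * D.h)) * D.h⁻¹ := by group
    _ = D.h * ((D.h⁻¹ * q * D.h) * w) * D.h⁻¹ := by rw [h2]
    _ = q * (D.h * w * D.h⁻¹) := by group

omit [Finite H] in
/-- kernel on `W`: `⟨t⟩ Z` -/
theorem W_ker {w : H} (hw : w ∈ W F B) (h : ⁅w, t⁆ = 1) : w ∈ D.Z ∨ t * w ∈ D.Z := by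
  have hw2 := (mem_W F B).1 hw
  rcases Y_ker F B hw2.1 h with h1 | h1
  · exact Or.inl (F.center_Q1 w h1 hw2.2)
  · right
    apply F.center_Q1 _ h1
    exact ((mem_W F B).1 ((W F B).mul_mem (t_mem_W F B) hw)).2

omit [Finite H] in
theorem W_Z {w z : H} (hw : w ∈ W F B) (hz : z ∈ D.Z) : w * z = z * w := 
  ((mem_W F B).1 hw).2 z (F.Z_le hz)

omit [Finite H] in
theorem W_sq {w : H} (hw : w ∈ W F B) : w * w ∈ D.Z := by
  have hwY := ((mem_W F B).1 hw).1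
  have h1 : ⁅w * w, t⁆ = 1 := by
    rw [comm_mul F hwY.1 hwY.1]; exact F.sq_Z _ hwY.1.2
  rcases W_ker F B ((W F B).mul_mem hw hw) h1 with h2 | h2
  · exact h2
  · -- `w` commutes with `t`
    have h3 : w * t = t * w := by
      have h4 := W_Z F B hw h2
      -- w (t w w) = (t w w) w
      have h5 : w * t * (w * w) = t * w * (w * w) := by
        calc w * t * (w * w) = w * (t * (w * w)) := by group
          _ = t * (w * w) * w := h4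
          _ = t * w * (w * w) := by group
      exact mul_right_cancel h5
    rcases W_ker F B hw (commutatorElement_eq_one_iff_mul_comm.2 h3) with h4 | h4
    · exact D.Z.mul_mem h4 h4
    · have h5 := D.Z.mul_mem h4 h4
      have h6 : t * w * (t * w) = w * w := by
        calc t * w * (t * w) = t * (w * t) * w := by group
          _ = (t * t) * (w * w) := by rw [h3]; group
          _ = w * w := by rw [B.t_sq, one_mul]
      rwa [h6] at h5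

omit [Finite H] in
/-- commutators of `W` lie in `Z` -/
theorem W_comm {a b : H} (ha : a ∈ W F B) (hb : b ∈ W F B) : ⁅a, b⁆ ∈ D.Z := by
  -- `⁅a,b⁆ = (a b)² (b⁻¹ a⁻¹ b a)..`: use squares
  have h1 := W_sq F B ((W F B).mul_mem ha hb)
  have h2 := W_sq F B ha
  have h3 := W_sq F B hb
  have e : ⁅a, b⁆ = (a * b * (a * b)) * (b⁻¹ * (a * a)⁻¹ * b) * (b * b)⁻¹ := by
    rw [commutatorElement_def]; group
  have e2 : b⁻¹ * (a * a)⁻¹ * b = (a * a)⁻¹ := by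
    rw [W_Z F B ((W F B).inv_mem hb) (D.Z.inv_mem h2), inv_mul_cancel_right]
  rw [e, e2]
  exact D.Z.mul_mem (D.Z.mul_mem h1 (D.Z.inv_mem h2)) (D.Z.inv_mem h3)

/-- the norm `w w^h w^{h²}` -/
def nm (D : Data H) (w : H) : H := w * (D.h * w * D.h⁻¹) * (D.h * (D.h * w * D.h⁻¹) * D.h⁻¹)

omit [Finite H] in
theorem nm_mem {w : H} (hw : w ∈ W F B) : nm D w ∈ W F B :=
  (W F B).mul_mem ((W F B).mul_mem hw (h_W F B hw)) (h_W F B (h_W F B hw))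

omit [Finite H] in
/-- the norm is multiplicative modulo `Z` -/
theorem nm_mul {a b : H} (ha : a ∈ W F B) (hb : b ∈ W F B) :
    ∃ z ∈ D.Z, nm D (a * b) = z * (nm D a * nm D b) := by
  have ha1 := h_W F B ha
  have ha2 := h_W F B ha1
  have hb1 := h_W F B hb
  have hb2 := h_W F B hb1
  unfold nm
  have e1 : D.h * (a * b) * D.h⁻¹ = (D.h * a * D.h⁻¹) * (D.h * b * D.h⁻¹) := by group
  have e2 : D.h * (D.h * (a * b) * D.h⁻¹) * D.h⁻¹ =
      (D.h * (D.h * a * D.h⁻¹) * D.h⁻¹) * (D.h * (D.h * b * D.h⁻¹) * D.h⁻¹) := by group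
  rw [e2, e1]
  set a1 := D.h * a * D.h⁻¹
  set a2 := D.h * a1 * D.h⁻¹
  set b1 := D.h * b * D.h⁻¹
  set b2 := D.h * b1 * D.h⁻¹
  have k1 := W_comm F B hb ha1
  have k2 := W_comm F B ((W F B).mul_mem hb hb1) ha2
  refine ⟨⁅b, a1⁆ * ⁅b * b1, a2⁆, D.Z.mul_mem k1 k2, ?_⟩
  have f1 : b * a1 = ⁅b, a1⁆ * (a1 * b) := by rw [commutatorElement_def]; group
  have f2 : b * b1 * a2 = ⁅b * b1, a2⁆ * (a2 * (b * b1)) := by rw [commutatorElement_def]; group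
  set ζ := ⁅b, a1⁆
  set η := ⁅b * b1, a2⁆
  have g1 : a * ζ = ζ * a := W_Z F B ha k1
  have g2 : (a * a1) * η = η * (a * a1) := W_Z F B ((W F B).mul_mem ha ha1) k2
  calc a * b * (a1 * b1) * (a2 * b2) = a * (b * a1) * b1 * a2 * b2 := by group
    _ = (a * ζ) * a1 * (b * b1 * a2) * b2 := by rw [f1]; group
    _ = ζ * ((a * a1) * η) * (a2 * (b * b1)) * b2 := by rw [f2, g1]; group
    _ = ζ * η * (a * a1 * a2 * (b * b1 * b2)) := by rw [g2]; group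

omit [Finite H] in
theorem nm_Z {z : H} (hz : z ∈ D.Z) : nm D z = 1 := Z_norm F hz

omit [Finite H] in
/-- the norm lies in `Z ∪ tZ` -/
theorem nm_mem_or {w : H} (hw : w ∈ W F B) : nm D w ∈ D.Z ∨ t * nm D w ∈ D.Z := by
  apply W_ker F B (nm_mem F B hw)
  have hwY := ((mem_W F B).1 hw).1
  have h1 := h_Y F B hwY
  have h2 := h_Y F B h1
  unfold nm
  rw [comm_mul F ((N0 D t).mul_mem hwY.1 h1.1) h2.1, comm_mul F hwY.1 h1.1, comm_h F B, comm_h F B,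
    comm_h F B]
  exact Z_norm F hwY.1.2

/-- `W0`. -/
def W0 : Subgroup H where
  carrier := {w | w ∈ W F B ∧ nm D w ∈ D.Z}
  one_mem' := ⟨(W F B).one_mem, by rw [nm_Z F D.Z.one_mem]; exact D.Z.one_mem⟩
  mul_mem' := by
    rintro a b ⟨ha, ha'⟩ ⟨hb, hb'⟩
    refine ⟨(W F B).mul_mem ha hb, ?_⟩
    obtain ⟨z, hz, he⟩ := nm_mul F B ha hb
    rw [he]
    exact D.Z.mul_mem hz (D.Z.mul_mem ha' hb')
  inv_mem' := by
    rintro a ⟨ha, ha'⟩
    refine ⟨(W F B).inv_mem ha, ?_⟩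
    have h1 := W_sq F B ha
    have h2 : a⁻¹ = (a * a)⁻¹ * a := by group
    have h3 := Z_le_W F B (D.Z.inv_mem h1)
    obtain ⟨z, hz, he⟩ := nm_mul F B h3 ha
    rw [← h2] at he
    rw [he, nm_Z F (D.Z.inv_mem h1), one_mul]
    exact D.Z.mul_mem hz ha'

omit [Finite H] in
theorem mem_W0 {w : H} : w ∈ W0 F B ↔ w ∈ W F B ∧ nm D w ∈ D.Z := Iff.rfl

omit [Finite H] in
theorem t_notMem_W0 : t ∉ W0 F B := by
  rintro ⟨-, h⟩
  have h1 : D.h * t * D.h⁻¹ = t := by rw [h_t F B, mul_inv_cancel_right]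
  have h2 : nm D t = t := by
    unfold nm
    rw [h1, h1, B.t_sq, one_mul]
  rw [h2] at h
  exact B.t_notMem (F.P_le (Z_le_P F h))

omit [Finite H] in
theorem Z_le_W0 : D.Z ≤ W0 F B := fun z hz => ⟨Z_le_W F B hz, by rw [nm_Z F hz]; exact D.Z.one_mem⟩

omit [Finite H] in
theorem h_W0 {w : H} (hw : w ∈ W0 F B) : D.h * w * D.h⁻¹ ∈ W0 F B := by
  refine ⟨h_W F B hw.1, ?_⟩
  have h1 : nm D (D.h * w * D.h⁻¹) = D.h * nm D w * D.h⁻¹ := by
    unfold nm; group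
  rw [h1]
  exact F.h_Z _ hw.2

omit [Finite H] in
theorem W0_ker {w : H} (hw : w ∈ W0 F B) (h : ⁅w, t⁆ = 1) : w ∈ D.Z := by
  rcases W_ker F B hw.1 h with h1 | h1
  · exact h1
  · exfalso
    apply t_notMem_W0 F B
    have h2 := (W0 F B).mul_mem (Z_le_W0 F B h1) ((W0 F B).inv_mem hw)
    rwa [mul_inv_cancel_right] at h2

theorem W0_onto : ∀ z ∈ D.Z, ∃ w ∈ W0 F B, ⁅w, t⁆ = z := by
  intro z hz
  obtain ⟨w, hw, hwz⟩ := W_onto F B z hz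
  rcases nm_mem_or F B hw with h1 | h1
  · exact ⟨w, ⟨hw, h1⟩, hwz⟩
  · refine ⟨t * w, ⟨(W F B).mul_mem (t_mem_W F B) hw, ?_⟩, ?_⟩
    · obtain ⟨z', hz', he⟩ := nm_mul F B (t_mem_W F B) hw
      have h3 : D.h * t * D.h⁻¹ = t := by rw [h_t F B, mul_inv_cancel_right]
      have h2 : nm D t = t := by
        unfold nm
        rw [h3, h3, B.t_sq, one_mul]
      rw [he, h2]
      exact D.Z.mul_mem hz' h1
    · rw [comm_mul F (t_mem_N0 F B) ((mem_W F B).1 hw).1.1, commutatorElement_self, one_mul, hwz]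

theorem card_W0 : Nat.card (W0 F B) = 16 := by
  have hN : ∀ w ∈ W0 F B, w ∈ N0 D t := fun w hw => ((mem_W F B).1 hw.1).1.1
  have h := Tools.card_mul_eq (Y := W0 F B) (K := D.Z)
    (C := D.Z) (B := ⊥) (fun y => ⁅y, t⁆) (fun y hy => (hN y hy).2) (Z_le_W0 F B) bot_le ?_ ?_ ?_
  · rw [F.card_Z, card_bot, mul_one] at h
    rw [h]
  · intro y hy y' hy'
    rw [mem_bot, comm_mul F (hN y hy) (hN y' hy'), inv_mul_cancel]
  · intro q hq
    obtain ⟨y, hy, hyq⟩ := W0_onto F B q hq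
    refine ⟨y, hy, ?_⟩
    rw [mem_bot, hyq, inv_mul_cancel]
  · intro y hy
    rw [mem_bot]
    constructor
    · exact W0_ker F B hy
    · intro h1
      exact commutatorElement_eq_one_iff_mul_comm.2 (t_Z F B h1)

omit [Finite H] in
/-- `W0` is abelian. -/
theorem W0_comm {a b : H} (ha : a ∈ W0 F B) (hb : b ∈ W0 F B) : a * b = b * a := by
  have hN : ∀ w ∈ W0 F B, w ∈ N0 D t := fun w hw => ((mem_W F B).1 hw.1).1.1
  by_cases haZ : a ∈ D.Z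
  · exact (W_Z F B hb.1 haZ).symm
  have hz1 : ⁅a, t⁆ ≠ 1 := fun h => haZ (W0_ker F B ha h)
  -- `a` commutes with `x = a^h`
  set x := D.h * a * D.h⁻¹ with hx
  set x2 := D.h * x * D.h⁻¹ with hx2
  have hxW := h_W0 F B ha
  have hx2W := h_W0 F B hxW
  have hc := W_comm F B ha.1 hxW.1
  -- `x2 = (a x)⁻¹ ζ`
  have hζ : nm D a ∈ D.Z := ha.2
  have e1 : x2 = (a * x)⁻¹ * nm D a := by
    show x2 = (a * x)⁻¹ * (a * x * x2)
    rw [inv_mul_cancel_left]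
  have c1 : a * x = x * a := by
    have h1 : D.h * ⁅a, x⁆ * D.h⁻¹ = ⁅x, x2⁆ := by
      have : D.h * ⁅a, x⁆ * D.h⁻¹ = ⁅D.h * a * D.h⁻¹, D.h * x * D.h⁻¹⁆ := by
        simp only [commutatorElement_def]; group
      rw [this]
    have h2 : ⁅x, x2⁆ = ⁅a, x⁆ := by
      have h3 : x * nm D a = nm D a * x := W_Z F B hxW.1 hζ
      have h4 : nm D a * x⁻¹ = x⁻¹ * nm D a := (W_Z F B ((W F B).inv_mem hxW.1) hζ).symm
      have h5 : a * x = ⁅a, x⁆ * (x * a) := by rw [commutatorElement_def]; group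
      have h6 : (x * a) * ⁅a, x⁆ = ⁅a, x⁆ * (x * a) :=
        W_Z F B ((W F B).mul_mem hxW.1 ha.1) hc
      rw [e1]
      set ζ := nm D a
      set c := ⁅a, x⁆
      rw [commutatorElement_def]
      calc x * ((a * x)⁻¹ * ζ) * x⁻¹ * ((a * x)⁻¹ * ζ)⁻¹
          = x * (a * x)⁻¹ * (ζ * x⁻¹) * ζ⁻¹ * (a * x) := by group
        _ = (x * (a * x)⁻¹ * x⁻¹) * (a * x) := by rw [h4]; group
        _ = (x * a)⁻¹ * (a * x) := by group
        _ = (x * a)⁻¹ * (c * (x * a)) := by rw [← h5]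
        _ = (x * a)⁻¹ * ((x * a) * c) := by rw [h6]
        _ = c := by group
    rw [h2] at h1
    exact commutatorElement_eq_one_iff_mul_comm.1 (F.h_Z_fpf _ hc h1)
  have c2 : a * x2 = x2 * a := by
    rw [e1]
    have h3 : a * nm D a = nm D a * a := W_Z F B ha.1 hζ
    have h4 : a * (a * x)⁻¹ = (a * x)⁻¹ * a := by
      have h5 : a * (a * x) = (a * x) * a := by rw [mul_assoc, c1, ← mul_assoc, mul_assoc, ← c1, ← mul_assoc]
      calc a * (a * x)⁻¹ = (a * x)⁻¹ * ((a * x) * a) * (a * x)⁻¹ := by group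
        _ = (a * x)⁻¹ * (a * (a * x)) * (a * x)⁻¹ := by rw [h5]
        _ = (a * x)⁻¹ * a := by group
    rw [← mul_assoc, h4, mul_assoc, h3, ← mul_assoc]
  -- general `b`
  have red : ∀ c ∈ W0 F B, a * c = c * a → ⁅b, t⁆ = ⁅c, t⁆ → a * b = b * a := by
    intro c hcW hac hbc
    have h1 : b * c⁻¹ ∈ D.Z := by
      apply W0_ker F B ((W0 F B).mul_mem hb ((W0 F B).inv_mem hcW))
      rw [comm_mul F (hN b hb) ((N0 D t).inv_mem (hN c hcW)), comm_inv F (hN c hcW), hbc,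
        mul_inv_cancel]
    have h2 : b = (b * c⁻¹) * c := by group
    rw [h2, ← mul_assoc, W_Z F B ha.1 h1, mul_assoc, hac, ← mul_assoc]
  rcases Z_elts F (hN a ha).2 hz1 _ (hN b hb).2 with h1 | h1 | h1 | h1
  · exact W_Z F B ha.1 (W0_ker F B hb h1)
  · exact red a ha rfl h1
  · exact red x hxW c1 (by rw [h1, ← comm_h F B])
  · exact red x2 hx2W c2 (by rw [h1, ← comm_h F B, ← comm_h F B])

/-- **Step 1 of the growth.** -/
theorem wfacts : WFacts D t (W0 F B) where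
  Z_le := Z_le_W0 F B
  card := card_W0 F B
  comm := fun _ hw _ hw' => W0_comm F B hw hw'
  cent_P := fun _ hw _ hp => W_P F B hw.1 hp
  h_mem := fun _ hw => h_W0 F B hw
  comm_t := fun _ hw => ((mem_W F B).1 hw.1).1.1.2
  onto := W0_onto F B
  sq_mem := fun _ hw => W_sq F B hw.1
  t_notMem := t_notMem_W0 F B

end Basic

end Cfsg.Agent.GTwoFour.GrowW
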