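import Cfsg.Agent.GTwoFour.Iface
import Mathlib.Algebra.Group.Subgroup.Finite

/-!
# Facts on automorphisms and involutions of `L = G₂(4)` used in the reduction (S1751, rank one)

`RedFacts D` is stated for `D : Iface.Data L` (only `D.Z`, `D.P` are used); it is independent of the
choices in `Data`. All automorphisms are `L ≃* L`.
-/

set_option autoImplicit false

namespace Cfsg.Agent.GTwoFour

open Subgroup

/-- `α` is conjugation by an element of `L`. -/
def Inn {L : Type*} [Group L] (α : L ≃* L) : Prop := ∃ c : L, ∀ x, α x = c * x * c⁻¹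

/-- The facts on `L = G₂(4)` used in the reduction. -/
structure RedFacts {L : Type*} [Group L] (D : Iface.Data L) : Prop where
  /-- `L` is simple -/
  simple : ∀ N : Subgroup L, N.Normal → N = ⊥ ∨ N = ⊤
  /-- `|Out(L)| ≤ 2` -/
  out : ∀ α β : L ≃* L, Inn α ∨ Inn β ∨ Inn (α.trans β)
  /-- an automorphism which is trivial on the long root subgroup `Z` is inner -/
  autZ : ∀ α : L ≃* L, (∀ z ∈ D.Z, α z = z) → Inn α
  /-- an involution commutes with an element of order 5 -/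
  five : ∀ y : L, y ≠ 1 → y * y = 1 → ∃ d : L, d ≠ 1 ∧ d ^ 5 = 1 ∧ d * y = y * d
  /-- an automorphism of order dividing 4 fixing an element of order 5 has order at most 2 -/
  four : ∀ d : L, d ≠ 1 → d ^ 5 = 1 → ∀ α : L ≃* L, α d = d → (∀ x, α (α (α (α x))) = x) →
    ∀ x, α (α x) = x
  /-- the elementary abelian 2-groups of automorphisms fixing an element of order 5 have order at most 4 -/
  eight : ∀ d : L, d ≠ 1 → d ^ 5 = 1 → ∀ V : Subgroup (MulAut L), (∀ α ∈ V, α * α = 1) →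
    (∀ α ∈ V, α d = d) → Nat.card V ≤ 4
  /-- an involution commutes with an elementary abelian group of order 16 -/
  sixteen : ∀ y : L, y ≠ 1 → y * y = 1 → ∃ V : Subgroup L, Nat.card V = 16 ∧ (∀ v ∈ V, v * v = 1) ∧
    ∀ v ∈ V, v * y = y * v
  /-- an outer automorphism `α` of order two: `f i = α (f i) * s i`, `s 3 = s 1 * s 2`; (take `f i` in an
  elementary abelian 2-subgroup normalised by `α`) -/
  outer : ∀ α : L ≃* L, (∀ x, α (α x) = x) → ¬ Inn α → ∃ s₁ s₂ f₁ f₂ f₃ : L, s₁ ≠ 1 ∧ s₂ ≠ 1 ∧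
    s₁ ≠ s₂ ∧ s₁ * s₁ = 1 ∧ s₂ * s₂ = 1 ∧ s₁ * s₂ = s₂ * s₁ ∧ α s₁ = s₁ ∧ α s₂ = s₂ ∧
    f₁ = α f₁ * s₁ ∧ f₂ = α f₂ * s₂ ∧ f₃ = α f₃ * (s₁ * s₂)
  /-- the two classes of involutions -/
  cls : ∀ y : L, y ≠ 1 → y * y = 1 → (∃ a : L, a * y * a⁻¹ ∈ D.Z) ∨
    Nat.card (centralizer ({y} : Set L)) < 61440
  /-- `C_L(z) = P` for `1 ≠ z ∈ Z` -/
  centz : ∀ z ∈ D.Z, z ≠ 1 → ∀ a : L, a * z = z * a → a ∈ D.P
  /-- `P` is generated by elements `x` of order two such that `x` and `x^p` commute and `x x^p = x^q`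
  for some `p, q ∈ P` (for example `x ∈ Xa`) -/
  pure : ∀ K : Subgroup L, (∀ x ∈ D.P, ∀ p ∈ D.P, ∀ q ∈ D.P, x * x = 1 →
    x * (p * x * p⁻¹) = p * x * p⁻¹ * x → x * (p * x * p⁻¹) = q * x * q⁻¹ → x ∈ K) → D.P ≤ K

end Cfsg.Agent.GTwoFour
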