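import Mathlib
import Cfsg.Agent.GTwoFour.RedFacts
import Cfsg.Agent.StdG24.Basic

/-!
# The reduction for a standard subgroup `G₂(4)` with centralizer of 2-rank one: basic lemmas
-/

set_option autoImplicit false

namespace Cfsg.Agent.GTwoFour.Red

open Subgroup Cfsg.Agent.StdG24

variable {L : Type*} [Group L] {G : Type*} [Group G] {D : Iface.Data L} {e : L →* G}

/-- commuting involutions are equal -/
def RankOne (K : Subgroup G) : Prop :=
  ∀ x ∈ K, ∀ y ∈ K, x ≠ 1 → y ≠ 1 → x * x = 1 → y * y = 1 → x * y = y * x → x = y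

theorem conj_ne_one {g x : G} (h : x ≠ 1) : g * x * g⁻¹ ≠ 1 := by
  intro h1
  apply h
  calc x = g⁻¹ * (g * x * g⁻¹) * g := by group
    _ = 1 := by rw [h1]; group

theorem conj_ne_one' {g x : G} (h : x ≠ 1) : g⁻¹ * x * g ≠ 1 := by
  intro h1
  apply h
  calc x = g * (g⁻¹ * x * g) * g⁻¹ := by group
    _ = 1 := by rw [h1]; group

theorem conj_sq {g x : G} (h : x * x = 1) : g * x * g⁻¹ * (g * x * g⁻¹) = 1 := by
  calc g * x * g⁻¹ * (g * x * g⁻¹) = g * (x * x) * g⁻¹ := by group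
    _ = 1 := by rw [h]; group

theorem conj_sq' {g x : G} (h : x * x = 1) : g⁻¹ * x * g * (g⁻¹ * x * g) = 1 := by
  calc g⁻¹ * x * g * (g⁻¹ * x * g) = g⁻¹ * (x * x) * g := by group
    _ = 1 := by rw [h]; group

theorem RankOne.cjh (h : RankOne (KK e)) (g : G) : RankOne (KK (StdG24.cjh g e)) := by
  intro x hx y hy x1 y1 x2 y2 hxy
  rw [mem_KK_cjh] at hx hy
  have h1 := h _ hx _ hy (conj_ne_one' x1) (conj_ne_one' y1) (conj_sq' x2) (conj_sq' y2) (by
    calc g⁻¹ * x * g * (g⁻¹ * y * g) = g⁻¹ * (x * y) * g := by group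
      _ = g⁻¹ * y * g * (g⁻¹ * x * g) := by rw [hxy]; group)
  calc x = g * (g⁻¹ * x * g) * g⁻¹ := by group
    _ = y := by rw [h1]; group

theorem rankOne_of_PRankLE {K : Subgroup G} [Finite G] (h : Cfsg.PRankLE 2 1 K) : RankOne K := by
  classical
  intro x hx y hy x1 y1 x2 y2 hxy
  by_contra hne
  set a : K := ⟨x, hx⟩
  set b : K := ⟨y, hy⟩
  have ha1 : a ≠ 1 := fun h => x1 (congrArg Subtype.val h)
  have hb1 : b ≠ 1 := fun h => y1 (congrArg Subtype.val h)
  have ha2 : a * a = 1 := Subtype.ext x2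
  have hb2 : b * b = 1 := Subtype.ext y2
  have hab : a * b = b * a := Subtype.ext hxy
  have hne' : a ≠ b := fun h => hne (congrArg Subtype.val h)
  have hinv : a⁻¹ = a := inv_eq_of_mul_eq_one_right ha2
  have hinvb : b⁻¹ = b := inv_eq_of_mul_eq_one_right hb2
  let V : Subgroup K :=
    { carrier := {1, a, b, a * b}
      one_mem' := by simp
      mul_mem' := by
        have e1 : a * (a * b) = b := by rw [← mul_assoc, ha2, one_mul]
        have e2 : a * b * a = b := by rw [hab, mul_assoc, ha2, mul_one]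
        have e3 : a * b * b = a := by rw [mul_assoc, hb2, mul_one]
        have e4 : b * (a * b) = a := by rw [hab, ← mul_assoc, hb2, one_mul]
        have e5 : a * b * (a * b) = 1 := by rw [← mul_assoc, e2, hb2]
        rintro u v (rfl | rfl | rfl | rfl) (rfl | rfl | rfl | rfl) <;>
          simp [ha2, hb2, e1, e2, e3, e4, e5, ← hab]
      inv_mem' := by
        have e6 : (a * b)⁻¹ = a * b := by rw [mul_inv_rev, hinv, hinvb, hab]
        rintro u (rfl | rfl | rfl | rfl) <;> simp [hinv, hinvb, hab] }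
  have hVm : ∀ v, v ∈ V ↔ v = 1 ∨ v = a ∨ v = b ∨ v = a * b := fun v => Iff.rfl
  have h1 := h V ⟨⟨by
    rintro ⟨u, hu⟩ ⟨v, hv⟩
    apply Subtype.ext
    show u * v = v * u
    rcases hu with rfl | rfl | rfl | rfl <;> rcases hv with rfl | rfl | rfl | rfl <;>
      simp [hab, mul_assoc] <;> simp [← mul_assoc, hab]⟩⟩ (by
    rintro u (rfl | rfl | rfl | rfl)
    · simp
    · rw [pow_two]; exact ha2
    · rw [pow_two]; exact hb2
    · rw [pow_two]
      calc a * b * (a * b) = a * (b * a) * b := by group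
        _ = (a * a) * (b * b) := by rw [← hab]; group
        _ = 1 := by rw [ha2, hb2, one_mul])
  have h2 : 2 < Nat.card V := by
    have h3 : ({1, a, b} : Finset K).card = 3 := by
      rw [Finset.card_insert_of_notMem, Finset.card_insert_of_notMem, Finset.card_singleton]
      · simpa using hne'
      · simp only [Finset.mem_insert, Finset.mem_singleton, not_or]
        exact ⟨fun h => ha1 h.symm, fun h => hb1 h.symm⟩
    have h4 : Nat.card ((({1, a, b} : Finset K) : Set K)) ≤ Nat.card V := by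
      apply Nat.card_mono (Set.toFinite _)
      intro v hv
      simp only [Finset.coe_insert, Finset.coe_singleton, Set.mem_insert_iff,
        Set.mem_singleton_iff] at hv
      rcases hv with rfl | rfl | rfl
      · exact V.one_mem
      · exact (hVm _).2 (Or.inr (Or.inl rfl))
      · exact (hVm _).2 (Or.inr (Or.inr (Or.inl rfl)))
    have h5 : Nat.card ((({1, a, b} : Finset K) : Set K)) = 3 := by
      rw [Nat.card_coe_set_eq, Set.ncard_coe_finset, h3]
    omega
  omega

/-! ### The automorphisms induced by `M` -/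

theorem inn_of_eq {α β : L ≃* L} (h : Inn α) (hab : ∀ x, α x = β x) : Inn β := by
  obtain ⟨c, hc⟩ := h
  exact ⟨c, fun x => by rw [← hab, hc]⟩

theorem inn_mul {α β : MulAut L} (h : Inn α) (h' : Inn β) : Inn (α * β) := by
  obtain ⟨c, hc⟩ := h
  obtain ⟨d, hd⟩ := h'
  refine ⟨c * d, fun x => ?_⟩
  rw [MulAut.mul_apply, hd, hc]
  group

theorem inn_inv {α : MulAut L} (h : Inn α) : Inn α⁻¹ := by
  obtain ⟨c, hc⟩ := h
  refine ⟨c⁻¹, fun x => ?_⟩
  apply α.injective
  rw [← MulAut.mul_apply, mul_inv_cancel, hc, MulAut.one_apply]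
  group

theorem inn_conj {α : MulAut L} (h : Inn α) (β : MulAut L) : Inn (β * α * β⁻¹) := by
  obtain ⟨c, hc⟩ := h
  refine ⟨β c, fun x => ?_⟩
  rw [MulAut.mul_apply, MulAut.mul_apply, hc, map_mul, map_mul, map_inv, ← MulAut.mul_apply,
    mul_inv_cancel, MulAut.one_apply]

theorem sq_inn (F : RedFacts D) (α : MulAut L) : Inn (α * α) := by
  rcases F.out α α with h | h | h
  · exact inn_mul h h
  · exact inn_mul h h
  · exact h

theorem out_mul (F : RedFacts D) (α β : MulAut L) : Inn α ∨ Inn β ∨ Inn (α * β) := by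
  rcases F.out β α with h | h | h
  · exact Or.inr (Or.inl h)
  · exact Or.inl h
  · exact Or.inr (Or.inr h)

/-- the action of `M` on `L` -/
noncomputable def autHom (h : Emb e) : MM e →* MulAut L where
  toFun m := (h.exists_aut m.2).choose
  map_one' := by
    apply MulEquiv.ext
    intro x
    apply h.inj
    rw [(h.exists_aut (1 : MM e).2).choose_spec]
    simp
  map_mul' := by
    intro m n
    apply MulEquiv.ext
    intro x
    apply h.inj
    rw [(h.exists_aut (m * n).2).choose_spec, MulAut.mul_apply, (h.exists_aut m.2).choose_spec,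
      (h.exists_aut n.2).choose_spec]
    simp only [Subgroup.coe_mul]
    group

theorem autHom_apply (h : Emb e) (m : MM e) (x : L) : e (autHom h m x) = m * e x * (m : G)⁻¹ :=
  (h.exists_aut m.2).choose_spec x

theorem autHom_eq_one_iff (h : Emb e) (m : MM e) : autHom h m = 1 ↔ (m : G) ∈ KK e := by
  rw [mem_KK]
  constructor
  · intro h1 x
    have h2 := autHom_apply h m x
    rw [h1, MulAut.one_apply] at h2
    exact (eq_mul_inv_iff_mul_eq.1 h2).symm
  · intro h1
    apply MulEquiv.ext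
    intro x
    apply h.inj
    rw [autHom_apply, h1, mul_inv_cancel_right, MulAut.one_apply]

/-- `m ∈ K × A` -/
def KA (e : L →* G) (m : G) : Prop := ∃ k ∈ KK e, ∃ c : L, m = k * e c

theorem KA.mem {m : G} (hm : KA e m) : m ∈ MM e := by
  obtain ⟨k, hk, c, rfl⟩ := hm
  exact mul_mem (KK_le_MM e hk) (apply_mem_MM e c)

theorem inn_iff (h : Emb e) (m : MM e) : Inn (autHom h m) ↔ KA e m := by
  constructor
  · rintro ⟨c, hc⟩
    refine ⟨_, Emb.mem_of_aut (m := (m : G)) (t := c) fun x => ?_, c, by group⟩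
    rw [← autHom_apply h, hc]
  · rintro ⟨k, hk, c, hm⟩
    refine ⟨c, fun x => h.inj ?_⟩
    rw [autHom_apply, hm, map_mul, map_mul, map_inv]
    have h1 := mem_KK.1 hk (c * x * c⁻¹)
    rw [map_mul, map_mul, map_inv] at h1
    calc k * e c * e x * (k * e c)⁻¹ = (k * (e c * e x * (e c)⁻¹)) * k⁻¹ := by group
      _ = e c * e x * (e c)⁻¹ := by rw [h1]; group

theorem KA_mul_self (F : RedFacts D) (h : Emb e) {m : G} (hm : m ∈ MM e) : KA e (m * m) := by
  have h1 := sq_inn F (autHom h ⟨m, hm⟩)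
  rw [← map_mul] at h1
  exact (inn_iff h _).1 h1

theorem KA_or (F : RedFacts D) (h : Emb e) {m n : G} (hm : m ∈ MM e) (hn : n ∈ MM e) :
    KA e m ∨ KA e n ∨ KA e (m * n) := by
  have h1 := out_mul F (autHom h ⟨m, hm⟩) (autHom h ⟨n, hn⟩)
  rw [← map_mul, inn_iff, inn_iff, inn_iff] at h1
  exact h1

theorem KA.mul {m n : G} (hm : KA e m) (hn : KA e n) : KA e (m * n) := by
  obtain ⟨k, hk, c, rfl⟩ := hm
  obtain ⟨l, hl, d, rfl⟩ := hn
  refine ⟨k * l, mul_mem hk hl, c * d, ?_⟩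
  rw [map_mul]
  calc k * e c * (l * e d) = k * (e c * l) * e d := by group
    _ = k * l * (e c * e d) := by rw [← mem_KK.1 hl]; group

theorem KA.conj {m n : G} (hm : KA e m) (hn : n ∈ MM e) : KA e (n * m * n⁻¹) := by
  obtain ⟨k, hk, c, rfl⟩ := hm
  obtain ⟨d, hd⟩ := (mem_MM.1 hn).1 c
  refine ⟨_, Emb.conj_KK hn hk, d, ?_⟩
  rw [← hd]; group

theorem KA_of_mem {k : G} (hk : k ∈ KK e) : KA e k := ⟨k, hk, 1, by rw [map_one, mul_one]⟩

theorem KA_apply (x : L) : KA e (e x) := ⟨1, one_mem _, x, by rw [one_mul]⟩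

theorem split_unique (h : Emb e) {k l : G} (hk : k ∈ KK e) (hl : l ∈ KK e) {c d : L}
    (heq : k * e c = l * e d) : k = l ∧ c = d := by
  have h1 : c * d⁻¹ = 1 := by
    apply h.disj
    have h2 : e (c * d⁻¹) = k⁻¹ * l := by
      rw [map_mul, map_inv]
      calc e c * (e d)⁻¹ = k⁻¹ * (k * e c) * (e d)⁻¹ := by group
        _ = k⁻¹ * l := by rw [heq]; group
    rw [h2]
    exact mul_mem (inv_mem hk) hl
  have h3 : c = d := mul_inv_eq_one.1 h1
  rw [h3] at heq
  exact ⟨mul_right_cancel heq, h3⟩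

theorem split_sq (h : Emb e) {k : G} (hk : k ∈ KK e) {c : L} (hsq : k * e c * (k * e c) = 1) :
    k * k = 1 ∧ c * c = 1 := by
  have h1 : k * k * e (c * c) = 1 * e 1 := by
    rw [map_one, one_mul, map_mul, ← hsq]
    calc k * k * (e c * e c) = k * (k * e c) * e c := by group
      _ = k * (e c * k) * e c := by rw [mem_KK.1 hk]
      _ = k * e c * (k * e c) := by group
  exact split_unique h (mul_mem hk hk) (one_mem _) h1

theorem split_pow (h : Emb e) {k : G} (hk : k ∈ KK e) {c : L} {n : ℕ} (hp : (k * e c) ^ n = 1) :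
    k ^ n = 1 ∧ c ^ n = 1 := by
  have hcomm : Commute k (e c) := mem_KK.1 hk c
  rw [hcomm.mul_pow, ← map_pow] at hp
  have h1 : k ^ n * e (c ^ n) = 1 * e 1 := by rw [hp, map_one, one_mul]
  exact split_unique h (pow_mem hk n) (one_mem _) h1

/-- an element commuting with `k e(c)` and normalising `A` commutes with both factors -/
theorem split_comm (h : Emb e) {k : G} (hk : k ∈ KK e) {c : L} {m : G} (hm : m ∈ MM e)
    (hc : m * (k * e c) = k * e c * m) : m * k = k * m ∧ m * e c = e c * m := by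
  obtain ⟨d, hd⟩ := (mem_MM.1 hm).1 c
  have h1 : (m * k * m⁻¹) * e d = k * e c := by
    rw [← hd]
    calc m * k * m⁻¹ * (m * e c * m⁻¹) = m * (k * e c) * m⁻¹ := by group
      _ = k * e c := by rw [hc]; group
  obtain ⟨h2, h3⟩ := split_unique h (Emb.conj_KK hm hk) hk h1
  rw [h3] at hd
  exact ⟨mul_inv_eq_iff_eq_mul.1 h2, mul_inv_eq_iff_eq_mul.1 hd⟩

/-- elements of order 5 of `M` lie in `K × A` -/
theorem exists_of_five (F : RedFacts D) (h : Emb e) {m : G} (hm : m ∈ MM e) (h5 : m ^ 5 = 1) :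
    ∃ k ∈ KK e, ∃ d : L, m = k * e d ∧ d ^ 5 = 1 ∧ k ^ 5 = 1 := by
  have h6 : m = m ^ 3 * m ^ 3 := by
    rw [← pow_add, show 3 + 3 = 5 + 1 from rfl, pow_add, h5, one_mul, pow_one]
  obtain ⟨k, hk, d, hd⟩ := KA_mul_self F h (pow_mem hm 3)
  rw [← h6] at hd
  rw [hd] at h5
  obtain ⟨h7, h8⟩ := split_pow h hk h5
  exact ⟨k, hk, d, hd, h8, h7⟩

/-- `t ∈ K` is a conjugate of an involution of `K'`: normalisers -/
theorem mem_MM_of_mem_KK (h : Emb e) {t g : G} (ht : t ∈ KK e) (t1 : t ≠ 1) (t2 : t * t = 1)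
    (hK : t ∈ KK (StdG24.cjh g e)) : g ∈ MM e := by
  rw [mem_KK_cjh] at hK
  have h1 := h.key t g⁻¹ ht t1 t2 (by rw [inv_inv]; exact hK)
  exact inv_mem_iff.1 h1

theorem conj_mem_KK_of_mem (h : Emb e) {t g : G} (ht : t ∈ KK e) (t1 : t ≠ 1) (t2 : t * t = 1)
    (hK : t ∈ KK (StdG24.cjh g e)) : g * t * g⁻¹ ∈ KK e :=
  Emb.conj_KK (mem_MM_of_mem_KK h ht t1 t2 hK) ht

theorem apply_mem_KK_cjh {t g : G} (ht : t ∈ KK e) : g * t * g⁻¹ ∈ KK (StdG24.cjh g e) := by
  rw [mem_KK_cjh]
  have : g⁻¹ * (g * t * g⁻¹) * g = t := by group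
  rw [this]; exact ht

end Cfsg.Agent.GTwoFour.Red
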