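import Mathlib
import Cfsg.Agent.GTwoFour.RedBasic

/-!
# No inner pairs when `t` is a square in `K`
-/

set_option autoImplicit false

namespace Cfsg.Agent.GTwoFour.Red

open Subgroup Cfsg.Agent.StdG24

variable {L : Type*} [Group L] {G : Type*} [Group G] {D : Iface.Data L} {e : L →* G}

/-- an elementary abelian group `e(V)` of order 16 cannot centralise an involution of `K` and an
element of order 5 of `L` -/
theorem no_sixteen [Finite G] (F : RedFacts D) (h : Emb e) (rk : RankOne (KK e)) {t : G} (ht : t ∈ KK e)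
    (t1 : t ≠ 1) (t2 : t * t = 1) {d : L} (d1 : d ≠ 1) (d5 : d ^ 5 = 1) {V : Subgroup G}
    (hV : Nat.card V = 16) (hV2 : ∀ v ∈ V, v * v = 1) (hVt : ∀ v ∈ V, v * t = t * v)
    (hVd : ∀ v ∈ V, v * e d = e d * v) : False := by
  classical
  have hVM : V ≤ MM e := fun v hv => h.nrm ht t1 t2 (hVt v hv)
  let γ : V →* MulAut L := (autHom h).comp (Subgroup.inclusion hVM)
  have hγ : ∀ (v : V) (x : L), e (γ v x) = v * e x * (v : G)⁻¹ := fun v x => autHom_apply h _ x
  have hrange : Nat.card γ.range ≤ 4 := by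
    refine F.eight d d1 d5 γ.range ?_ ?_
    · rintro _ ⟨v, rfl⟩
      rw [← map_mul]
      have : v * v = 1 := Subtype.ext (hV2 v v.2)
      rw [this, map_one]
    · rintro _ ⟨v, rfl⟩
      apply h.inj
      rw [hγ, hVd v v.2, mul_inv_cancel_right]
  have hker : Nat.card γ.ker ≤ 2 := by
    have h1 : ∀ v : γ.ker, ((v : V) : G) = 1 ∨ ((v : V) : G) = t := by
      intro v
      by_cases hv : ((v : V) : G) = 1
      · exact Or.inl hv
      · right
        have hvK : ((v : V) : G) ∈ KK e := (autHom_eq_one_iff h _).1 v.2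
        exact rk _ hvK t ht hv t1 (hV2 _ (v : V).2) t2 (hVt _ (v : V).2)
    let f : γ.ker → Bool := fun v => decide (((v : V) : G) = 1)
    have hf : Function.Injective f := by
      intro v w hvw
      apply Subtype.ext
      apply Subtype.ext
      rcases h1 v with hv | hv <;> rcases h1 w with hw | hw
      · rw [hv, hw]
      · exfalso
        have e1 : f v = true := decide_eq_true hv
        have e2 : f w = false := decide_eq_false (by rw [hw]; exact t1)
        rw [hvw, e2] at e1
        exact Bool.false_ne_true e1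
      · exfalso
        have e1 : f w = true := decide_eq_true hw
        have e2 : f v = false := decide_eq_false (by rw [hv]; exact t1)
        rw [← hvw, e2] at e1
        exact Bool.false_ne_true e1
      · rw [hv, hw]
    have := Nat.card_le_card_of_injective f hf
    simpa using this
  have hcard : Nat.card V = Nat.card γ.ker * Nat.card γ.range := by
    rw [← Nat.card_congr (QuotientGroup.quotientKerEquivRange γ).toEquiv, mul_comm]
    exact card_eq_card_quotient_mul_card_subgroup _
  rw [hV] at hcard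
  have : Nat.card γ.ker * Nat.card γ.range ≤ 2 * 4 := Nat.mul_le_mul hker hrange
  omega

/-- **Inner pairs.** -/
theorem inner_pair [Finite G] (F : RedFacts D) (h : Emb e) (rk : RankOne (KK e)) {t r g : G}
    (ht : t ∈ KK e) (t1 : t ≠ 1) (t2 : t * t = 1) (hr : r ∈ KK e) (hrt : r * r = t)
    (hc : g * t * g⁻¹ * t = t * (g * t * g⁻¹)) (hKA : KA e (g * t * g⁻¹))
    (hK : g * t * g⁻¹ ∉ KK e) : False := by
  have h' : Emb (StdG24.cjh g e) := h.cjh g
  have rk' : RankOne (KK (StdG24.cjh g e)) := rk.cjh g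
  have hK' : g * t * g⁻¹ ∈ KK (StdG24.cjh g e) := apply_mem_KK_cjh ht
  have hin : t ∉ KK (StdG24.cjh g e) := fun hh => hK (conj_mem_KK_of_mem h ht t1 t2 hh)
  set e' := StdG24.cjh g e with he'
  set t' := g * t * g⁻¹ with ht'
  have t'1 : t' ≠ 1 := conj_ne_one t1
  have t'2 : t' * t' = 1 := conj_sq t2
  obtain ⟨k, hk, a, hta⟩ := hKA
  have ha1 : a ≠ 1 := by
    rintro rfl
    apply hK
    rw [hta, map_one, mul_one]
    exact hk
  obtain ⟨hk2, ha2⟩ := split_sq h hk (by rw [← hta]; exact t'2)
  have hta' : t * e a = e a * t := mem_KK.1 ht a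
  have hkt : k * t = t * k := by
    have h1 := split_comm h hk (KK_le_MM e ht) (m := t) (by rw [← hta]; exact hc.symm)
    exact h1.1.symm
  have hrk : r * k = k * r := by
    by_cases hk1 : k = 1
    · rw [hk1, mul_one, one_mul]
    · rw [rk k hk t ht hk1 t1 hk2 t2 hkt, ← hrt, mul_assoc]
  have hrt' : r * t' = t' * r := by
    rw [hta]
    calc r * (k * e a) = (r * k) * e a := by group
      _ = k * (r * e a) := by rw [hrk]; group
      _ = k * e a * r := by rw [mem_KK.1 hr]; group
  have hrM : r ∈ MM e' := h'.nrm hK' t'1 t'2 hrt'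
  have htM : t ∈ MM e' := by rw [← hrt]; exact mul_mem hrM hrM
  -- the automorphism induced by `r`
  set α := autHom h' ⟨r, hrM⟩ with hα
  have hα2 : α * α = autHom h' ⟨t, htM⟩ := by
    rw [hα, ← map_mul]
    congr 1
    exact Subtype.ext hrt
  have hα4 : ∀ x, α (α (α (α x))) = x := by
    intro x
    have h1 : (α * α) * (α * α) = 1 := by
      rw [hα2, ← map_mul]
      have : (⟨t, htM⟩ : MM e') * ⟨t, htM⟩ = 1 := Subtype.ext t2
      rw [this, map_one]
    have h2 := congrArg (fun β : MulAut L => β x) h1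
    simpa [MulAut.mul_apply] using h2
  have hne : ¬ ∀ x, α (α x) = x := by
    intro hh
    apply hin
    have h1 : autHom h' ⟨t, htM⟩ = 1 := by
      rw [← hα2]
      apply MulEquiv.ext
      intro x
      rw [MulAut.mul_apply, hh, MulAut.one_apply]
    exact (autHom_eq_one_iff h' _).1 h1
  obtain ⟨d, d1, d5, hda⟩ := F.five a ha1 ha2
  have hdt' : e d * t' = t' * e d := by
    rw [hta]
    calc e d * (k * e a) = (e d * k) * e a := by group
      _ = k * (e d * e a) := by rw [← mem_KK.1 hk]; group
      _ = k * e (d * a) := by rw [map_mul]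
      _ = k * e a * e d := by rw [hda, map_mul]; group
  have hdM : e d ∈ MM e' := h'.nrm hK' t'1 t'2 hdt'
  obtain ⟨k1, hk1, d', hd', hd'5, -⟩ := exists_of_five F h' hdM (by rw [← map_pow, d5, map_one])
  have hrd : r * e d = e d * r := mem_KK.1 hr d
  by_cases hd'1 : d' = 1
  · -- `e d ∈ K'`
    have hedK : e d ∈ KK e' := by rw [hd', hd'1, map_one, mul_one]; exact hk1
    have hKAt : KA e' t := by rw [← hrt]; exact KA_mul_self F h' hrM
    obtain ⟨k2, hk2, c, htc⟩ := hKAt
    have hc1 : c ≠ 1 := by
      rintro rfl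
      apply hin
      rw [htc, map_one, mul_one]
      exact hk2
    obtain ⟨-, hc2⟩ := split_sq h' hk2 (by rw [← htc]; exact t2)
    obtain ⟨V, hV, hV2, hVc⟩ := F.sixteen c hc1 hc2
    refine no_sixteen F h rk ht t1 t2 d1 d5 (V := V.map e') ?_ ?_ ?_ ?_
    · rw [Nat.card_congr (V.equivMapOfInjective e' h'.inj).symm.toEquiv, hV]
    · rintro _ ⟨v, hv, rfl⟩
      rw [← map_mul, hV2 v hv, map_one]
    · rintro _ ⟨v, hv, rfl⟩
      rw [htc]
      calc e' v * (k2 * e' c) = (e' v * k2) * e' c := by group
        _ = k2 * (e' v * e' c) := by rw [← mem_KK.1 hk2]; group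
        _ = k2 * e' (v * c) := by rw [map_mul]
        _ = k2 * e' c * e' v := by rw [hVc v hv, map_mul]; group
    · rintro _ ⟨v, hv, rfl⟩
      exact (mem_KK.1 hedK v).symm
  · -- the component of `e d` in `L'` is not trivial
    apply hne
    apply F.four d' hd'1 hd'5 α _ hα4
    have h1 := (split_comm h' hk1 hrM (by rw [← hd']; exact hrd)).2
    apply h'.inj
    rw [hα, autHom_apply]
    show r * e' d' * r⁻¹ = e' d'
    rw [h1, mul_inv_cancel_right]

end Cfsg.Agent.GTwoFour.Red
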