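import Mathlib
import Cfsg.Agent.GTwoFour.RedInner
import Cfsg.Agent.StandardComponent.AltFinal

/-!
# `t` is not a square in `K`
-/

set_option autoImplicit false

namespace Cfsg.Agent.GTwoFour.Red

open Subgroup Cfsg.Agent.StdG24

variable {L : Type*} [Group L] {G : Type*} [Group G] {D : Iface.Data L} {e : L →* G}

/-- `u` inverts `c`, `r` inverts `c` -/
theorem swap_aux {t r u : G} (t2 : t * t = 1) (hrt : r * r = t) (u2 : u * u = 1)
    (hut : u * t = t * u) :
    u * (r⁻¹ * (u * r * u⁻¹)) * u⁻¹ = (r⁻¹ * (u * r * u⁻¹))⁻¹ ∧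
      r * (r⁻¹ * (u * r * u⁻¹)) * r⁻¹ = (r⁻¹ * (u * r * u⁻¹))⁻¹ := by
  have hu : u⁻¹ = u := inv_eq_of_mul_eq_one_right u2
  have hrinv : r⁻¹ = r * t := by
    apply inv_eq_of_mul_eq_one_right
    rw [← mul_assoc, hrt, t2]
  have hrt' : r * t = t * r := by rw [← hrt, mul_assoc]
  constructor
  · rw [hu]
    calc u * (r⁻¹ * (u * r * u)) * u = u * r⁻¹ * u * r * (u * u) := by group
      _ = u * r⁻¹ * u * r := by rw [u2, mul_one]
      _ = u⁻¹ * r⁻¹ * u⁻¹ * r := by rw [hu]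
      _ = (r⁻¹ * (u * r * u))⁻¹ := by group
  · rw [hu]
    calc r * (r⁻¹ * (u * r * u)) * r⁻¹ = u * r * u * r⁻¹ := by group
      _ = u * r * u * (r * t) := by rw [hrinv]
      _ = u * (r * u * (t * r)) := by rw [hrt']; group
      _ = u * (r * (u * t) * r) := by group
      _ = u * (r * t) * u * r := by rw [hut]; group
      _ = u⁻¹ * r⁻¹ * u⁻¹ * r := by rw [← hrinv, hu]
      _ = (r⁻¹ * (u * r * u))⁻¹ := by group

/-- If `t = r²` is a square in `K` and the involution `u ∈ M` commuting with `t` does not commute with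
a square root of `t` in `K` then it inverts one. -/
theorem exists_swap [Finite G] (rk : RankOne (KK e)) {t r u : G} (ht : t ∈ KK e)
    (t1 : t ≠ 1) (t2 : t * t = 1) (hr : r ∈ KK e) (hrt : r * r = t) (hu : u ∈ MM e) (u2 : u * u = 1)
    (hut : u * t = t * u) (hno : ∀ x ∈ KK e, x * x = t → u * x ≠ x * u) :
    ∃ x ∈ KK e, x * x = t ∧ u * x * u⁻¹ = x * t := by
  classical
  obtain ⟨hc1, hc2⟩ := swap_aux t2 hrt u2 hut
  set c := r⁻¹ * (u * r * u⁻¹) with hc
  have hcK : c ∈ KK e := mul_mem (inv_mem hr) (Emb.conj_KK hu hr)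
  have hrt' : r * t = t * r := by rw [← hrt, mul_assoc]
  have hct : c * t = t * c := by
    have h1 : u⁻¹ * t = t * u⁻¹ := by
      calc u⁻¹ * t = u⁻¹ * (t * u) * u⁻¹ := by group
        _ = t * u⁻¹ := by rw [← hut]; group
    have h2 : r⁻¹ * t = t * r⁻¹ := by
      calc r⁻¹ * t = r⁻¹ * (t * r) * r⁻¹ := by group
        _ = t * r⁻¹ := by rw [← hrt']; group
    calc c * t = r⁻¹ * u * r * (u⁻¹ * t) := by rw [hc]; group
      _ = r⁻¹ * u * (r * t) * u⁻¹ := by rw [h1]; group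
      _ = r⁻¹ * (u * t) * r * u⁻¹ := by rw [hrt']; group
      _ = (r⁻¹ * t) * u * r * u⁻¹ := by rw [hut]; group
      _ = t * c := by rw [h2, hc]; group
  have hcpow : ∀ n : ℕ, u * c ^ n * u⁻¹ = (c ^ n)⁻¹ := by
    intro n
    rw [← conj_pow, hc1, inv_pow]
  have hrpow : ∀ n : ℕ, r * c ^ n * r⁻¹ = (c ^ n)⁻¹ := by
    intro n
    rw [← conj_pow, hc2, inv_pow]
  -- involutions among the powers of `c`
  have hinv : ∀ n : ℕ, c ^ n * c ^ n = 1 → c ^ n = 1 ∨ c ^ n = t := by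
    intro n hn
    by_cases h1 : c ^ n = 1
    · exact Or.inl h1
    · right
      refine rk _ (pow_mem hcK n) t ht h1 t1 hn t2 ?_
      have h2 : Commute c t := hct
      exact (h2.pow_left n).eq
  have hpos : 0 < orderOf c := orderOf_pos c
  by_cases h4 : 4 ∣ orderOf c
  · obtain ⟨m, hm⟩ := h4
    have hm0 : 0 < m := by omega
    have hρ : c ^ m * c ^ m = t := by
      have h1 : c ^ (2 * m) * c ^ (2 * m) = 1 := by
        rw [← pow_add, show 2 * m + 2 * m = orderOf c by omega, pow_orderOf_eq_one]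
      have h2 := hinv (2 * m) h1
      rw [show 2 * m = m + m by omega, pow_add] at h2
      rcases h2 with h2 | h2
      · exfalso
        rw [← pow_add] at h2
        have := orderOf_dvd_of_pow_eq_one h2
        have := Nat.le_of_dvd (by omega) this
        omega
      · exact h2
    refine ⟨c ^ m, pow_mem hcK m, hρ, ?_⟩
    rw [hcpow]
    apply inv_eq_of_mul_eq_one_right
    rw [← mul_assoc, hρ, t2]
  · -- `c ^ n ∈ {1, t}` for an odd `n`
    obtain ⟨j, hj⟩ : ∃ j : ℕ, c ^ (2 * j + 1) = 1 ∨ c ^ (2 * j + 1) = t := by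
      rcases Nat.even_or_odd' (orderOf c) with ⟨n, hn | hn⟩
      · have hodd : n % 2 = 1 := by
          by_contra hh
          apply h4
          omega
        refine ⟨n / 2, ?_⟩
        rw [show 2 * (n / 2) + 1 = n by omega]
        apply hinv
        rw [← pow_add, show n + n = orderOf c by omega, pow_orderOf_eq_one]
      · refine ⟨n, Or.inl ?_⟩
        rw [← hn, pow_orderOf_eq_one]
    set x := r * c ^ (j + 1) with hx
    have hxK : x ∈ KK e := mul_mem hr (pow_mem hcK _)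
    have hxx : x * x = t := by
      have h1 := hrpow (j + 1)
      have h2 : c ^ (j + 1) * r = r * (c ^ (j + 1))⁻¹ := by
        calc c ^ (j + 1) * r = (r * c ^ (j + 1) * r⁻¹)⁻¹ * r := by rw [h1, inv_inv]
          _ = r * (c ^ (j + 1))⁻¹ := by group
      calc x * x = r * (c ^ (j + 1) * r) * c ^ (j + 1) := by rw [hx]; group
        _ = r * r := by rw [h2]; group
        _ = t := hrt
    have hux : u * x * u⁻¹ = x * (c ^ (2 * j + 1))⁻¹ := by
      have h1 : u * r * u⁻¹ = r * c := by rw [hc]; group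
      calc u * x * u⁻¹ = (u * r * u⁻¹) * (u * c ^ (j + 1) * u⁻¹) := by rw [hx]; group
        _ = r * c * (c ^ (j + 1))⁻¹ := by rw [h1, hcpow]
        _ = x * (c ^ (2 * j + 1))⁻¹ := by
            rw [hx, show 2 * j + 1 = j + (j + 1) by omega, pow_add c j (j + 1), pow_succ' c j]
            group
    refine ⟨x, hxK, hxx, ?_⟩
    rcases hj with hj | hj
    · exfalso
      apply hno x hxK hxx
      rw [hj, inv_one, mul_one] at hux
      exact mul_inv_eq_iff_eq_mul.1 hux
    · rw [hux, hj, inv_eq_of_mul_eq_one_right t2]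

/-- An involution of `K` is not a square in `K`. -/
theorem no_square [Finite G] [IsSimpleGroup G] (hG : ¬ IsMulCommutative G) (F : RedFacts D) (h : Emb e)
    (rk : RankOne (KK e)) {t r : G} (ht : t ∈ KK e) (t1 : t ≠ 1) (t2 : t * t = 1) (hr : r ∈ KK e)
    (hrt : r * r = t) : False := by
  have ho : orderOf t = 2 := orderOf_eq_prime (by rw [pow_two, t2]) t1
  obtain ⟨g, hg1, hg2⟩ := Cfsg.Agent.StandardComponent.AltFinal.exists_conj hG ho
  have h' : Emb (StdG24.cjh g e) := h.cjh g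
  have rk' : RankOne (KK (StdG24.cjh g e)) := rk.cjh g
  have hK' : g * t * g⁻¹ ∈ KK (StdG24.cjh g e) := apply_mem_KK_cjh ht
  have hr' : g * r * g⁻¹ ∈ KK (StdG24.cjh g e) := apply_mem_KK_cjh hr
  have hrt' : g * r * g⁻¹ * (g * r * g⁻¹) = g * t * g⁻¹ := by
    calc g * r * g⁻¹ * (g * r * g⁻¹) = g * (r * r) * g⁻¹ := by group
      _ = g * t * g⁻¹ := by rw [hrt]
  have t'1 : g * t * g⁻¹ ≠ 1 := conj_ne_one t1
  have t'2 : g * t * g⁻¹ * (g * t * g⁻¹) = 1 := conj_sq t2
  have hK : g * t * g⁻¹ ∉ KK e := fun hh => hg1 (rk _ hh t ht t'1 t1 t'2 t2 hg2)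
  have hin : t ∉ KK (StdG24.cjh g e) := fun hh => hK (conj_mem_KK_of_mem h ht t1 t2 hh)
  have hKA : ¬ KA e (g * t * g⁻¹) := fun hh => inner_pair F h rk ht t1 t2 hr hrt hg2 hh hK
  have hconj : g⁻¹ * (g * t * g⁻¹) * g⁻¹⁻¹ = t := by group
  have hKA' : ¬ KA (StdG24.cjh g e) t := by
    intro hh
    refine inner_pair F h' rk' (g := g⁻¹) hK' t'1 t'2 hr' hrt' ?_ ?_ ?_
    · rw [hconj]; exact hg2.symm
    · rw [hconj]; exact hh
    · rw [hconj]; exact hin
  set e' := StdG24.cjh g e with he'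
  set t' := g * t * g⁻¹ with ht'
  have ht'M : t' ∈ MM e := h.nrm ht t1 t2 hg2
  have htM' : t ∈ MM e' := h'.nrm hK' t'1 t'2 hg2.symm
  obtain ⟨x, hx, hxx, hxt⟩ := exists_swap rk ht t1 t2 hr hrt ht'M t'2 hg2 (by
    intro y hy hyy hyt
    apply hKA'
    rw [← hyy]
    exact KA_mul_self F h' (h'.nrm hK' t'1 t'2 hyt.symm))
  obtain ⟨x', hx', hxx', hxt'⟩ := exists_swap rk' hK' t'1 t'2 hr' hrt' htM' t2 hg2.symm (by
    intro y hy hyy hyt
    apply hKA
    rw [← hyy]
    exact KA_mul_self F h (h.nrm ht t1 t2 hyt.symm))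
  -- the outer automorphism
  set α := autHom h ⟨t', ht'M⟩ with hα
  have hα2 : ∀ y, α (α y) = y := by
    intro y
    have h1 : α * α = 1 := by
      rw [hα, ← map_mul]
      have : (⟨t', ht'M⟩ : MM e) * ⟨t', ht'M⟩ = 1 := Subtype.ext t'2
      rw [this, map_one]
    exact congrArg (fun β : MulAut L => β y) h1
  have hαi : ¬ Inn α := fun hh => hKA ((inn_iff h _).1 hh)
  have happ : ∀ y, e (α y) = t' * e y * t'⁻¹ := fun y => autHom_apply h _ y
  obtain ⟨s₁, s₂, f₁, f₂, f₃, s11, s21, s12, s1s, s2s, scomm, αs1, αs2, hf1, hf2, hf3⟩ :=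
    F.outer α hα2 hαi
  have hcomm : ∀ s, α s = s → e s * t' = t' * e s := by
    intro s hs
    have h1 := happ s
    rw [hs] at h1
    exact eq_mul_inv_iff_mul_eq.1 h1
  have hsM : ∀ s, α s = s → e s ∈ MM e' := fun s hs => h'.nrm hK' t'1 t'2 (hcomm s hs)
  obtain ⟨s, f, hs1, hss, hαs, hf, hsKA⟩ : ∃ s f : L, s ≠ 1 ∧ s * s = 1 ∧ α s = s ∧ f = α f * s ∧
      KA e' (e s) := by
    rcases KA_or F h' (hsM _ αs1) (hsM _ αs2) with h1 | h1 | h1
    · exact ⟨s₁, f₁, s11, s1s, αs1, hf1, h1⟩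
    · exact ⟨s₂, f₂, s21, s2s, αs2, hf2, h1⟩
    · refine ⟨s₁ * s₂, f₃, ?_, ?_, ?_, hf3, ?_⟩
      · intro hh
        apply s12
        exact (inv_eq_of_mul_eq_one_right s1s).symm.trans (inv_eq_of_mul_eq_one_right hh)
      · calc s₁ * s₂ * (s₁ * s₂) = s₁ * (s₂ * s₁) * s₂ := by group
          _ = (s₁ * s₁) * (s₂ * s₂) := by rw [← scomm]; group
          _ = 1 := by rw [s1s, s2s, one_mul]
      · rw [map_mul, αs1, αs2]
      · rw [map_mul]; exact h1
  -- `x'` commutes with `e s`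
  have hx's : x' * e s = e s * x' := by
    obtain ⟨k', hk', a', hsa⟩ := hsKA
    have h1 : t' * k' = k' * t' := (split_comm h' hk' (KK_le_MM e' hK') (m := t') (by
      rw [← hsa]; exact (hcomm s hαs).symm)).1
    have h2 : k' * k' = 1 := (split_sq h' hk' (by rw [← hsa, ← map_mul, hss, map_one])).1
    have h3 : x' * k' = k' * x' := by
      by_cases hk'1 : k' = 1
      · rw [hk'1, mul_one, one_mul]
      · rw [rk' k' hk' t' hK' hk'1 t'1 h2 t'2 h1.symm, ← hxx', mul_assoc]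
    rw [hsa]
    calc x' * (k' * e' a') = (x' * k') * e' a' := by group
      _ = k' * (x' * e' a') := by rw [h3]; group
      _ = k' * e' a' * x' := by rw [mem_KK.1 hx']; group
  have hxs : x * e s = e s * x := mem_KK.1 hx s
  -- the conjugations
  have c1 : (e f)⁻¹ * t' * e f = e s * t' := by
    have h1 : e f = t' * e f * t'⁻¹ * e s := by rw [← happ, ← map_mul, ← hf]
    have h2 : e s * e s = 1 := by rw [← map_mul, hss, map_one]
    have h3 : t' * e f * t'⁻¹ = e f * e s := by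
      calc t' * e f * t'⁻¹ = t' * e f * t'⁻¹ * e s * (e s)⁻¹ := by group
        _ = e f * (e s)⁻¹ := by rw [← h1]
        _ = e f * e s := by rw [inv_eq_of_mul_eq_one_right h2]
    calc (e f)⁻¹ * t' * e f = (e f)⁻¹ * (t' * e f * t'⁻¹) * t' := by group
      _ = e s * t' := by rw [h3]; group
  have c2 : x⁻¹ * t' * x = t * t' := by
    calc x⁻¹ * t' * x = x⁻¹ * (t' * x * t'⁻¹) * t' := by group
      _ = t * t' := by rw [hxt]; group
  have c3 : x'⁻¹ * t * x' = t' * t := by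
    calc x'⁻¹ * t * x' = x'⁻¹ * (t * x' * t⁻¹) * t := by group
      _ = t' * t := by rw [hxt']; group
  have c4 : x'⁻¹ * t' * x' = t' := by rw [← hxx']; group
  have hxs' : x⁻¹ * e s * x = e s := by rw [mul_assoc, ← hxs]; group
  have hx's' : x'⁻¹ * e s * x' = e s := by rw [mul_assoc, ← hx's]; group
  have hts : t * e s = e s * t := mem_KK.1 ht s
  have c5 : (e f * x * x')⁻¹ * t' * (e f * x * x') = t * e s := by
    calc (e f * x * x')⁻¹ * t' * (e f * x * x')
        = x'⁻¹ * (x⁻¹ * ((e f)⁻¹ * t' * e f) * x) * x' := by group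
      _ = x'⁻¹ * ((x⁻¹ * e s * x) * (x⁻¹ * t' * x)) * x' := by rw [c1]; group
      _ = (x'⁻¹ * e s * x') * (x'⁻¹ * t * x') * (x'⁻¹ * t' * x') := by rw [hxs', c2]; group
      _ = e s * (t' * t) * t' := by rw [hx's', c3, c4]
      _ = e s * (t' * t' * t) := by rw [mul_assoc (e s), mul_assoc t', ← hg2, ← mul_assoc t' t']
      _ = t * e s := by rw [t'2, one_mul, hts]
  have c6 : ((e f * x * x')⁻¹ * g) * t * ((e f * x * x')⁻¹ * g)⁻¹ = t * e s := by
    rw [← c5, ht']; group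
  refine inner_pair F h rk ht t1 t2 hr hrt (g := (e f * x * x')⁻¹ * g) ?_ ?_ ?_
  · rw [c6]
    calc t * e s * t = t * (e s * t) := by group
      _ = t * (t * e s) := by rw [hts]
  · rw [c6]
    exact ⟨t, ht, s, rfl⟩
  · rw [c6]
    intro hh
    apply hs1
    apply h.disj
    have : e s = t⁻¹ * (t * e s) := by group
    rw [this]
    exact mul_mem (inv_mem ht) hh

end Cfsg.Agent.GTwoFour.Red
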