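import Mathlib
import Cfsg.Agent.GTwoFour.RedOuter

/-!
# `C_K(t) = ⟨t⟩ × Θ`, `Θ` of odd order
-/

set_option autoImplicit false

namespace Cfsg.Agent.GTwoFour.Red

open Subgroup Cfsg.Agent.StdG24

variable {L : Type*} [Group L] {G : Type*} [Group G] {D : Iface.Data L} {e : L →* G}

/-- `Θ` is the subgroup of the elements of odd order of `C_K(t)`, `C_K(t) = ⟨t⟩ × Θ`. -/
structure Core (e : L →* G) (t : G) (Θ : Subgroup G) : Prop where
  le : ∀ x ∈ Θ, x ∈ KK e
  comm : ∀ x ∈ Θ, x * t = t * x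
  odd : Odd (Nat.card Θ)
  mem : ∀ x ∈ KK e, x * t = t * x → Odd (orderOf x) → x ∈ Θ
  dec : ∀ x ∈ KK e, x * t = t * x → x ∈ Θ ∨ t * x ∈ Θ
  norm : ∀ c, c * t = t * c → ∀ x ∈ Θ, c * x * c⁻¹ ∈ Θ

/-- 2-elements of `C_K(t)` -/
theorem two_elem (rk : RankOne (KK e)) {t : G} (ht : t ∈ KK e) (t1 : t ≠ 1) (t2 : t * t = 1)
    (hsq : ∀ s ∈ KK e, s ≠ 1 → s * s = 1 → ∀ r ∈ KK e, r * r ≠ s) {x : G} (hx : x ∈ KK e)
    (hxt : x * t = t * x) {n : ℕ} (hn : x ^ 2 ^ n = 1) : x = 1 ∨ x = t := by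
  induction n with
  | zero => left; simpa using hn
  | succ n ih =>
    by_cases h1 : x ^ 2 ^ n = 1
    · exact ih h1
    · by_cases hn0 : n = 0
      · subst hn0
        have hxx : x * x = 1 := by rw [← pow_two]; simpa using hn
        have hx1 : x ≠ 1 := by simpa using h1
        exact Or.inr (rk x hx t ht hx1 t1 hxx t2 hxt)
      · exfalso
        obtain ⟨m, rfl⟩ := Nat.exists_eq_succ_of_ne_zero hn0
        refine hsq (x ^ 2 ^ (m + 1)) (pow_mem hx _) h1 ?_ (x ^ 2 ^ m) (pow_mem hx _) ?_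
        · rw [← pow_add, ← two_mul, ← pow_succ']; exact hn
        · rw [← pow_add, ← two_mul, ← pow_succ']

theorem exists_core [Finite G] (rk : RankOne (KK e)) (h : Emb e) {t : G} (ht : t ∈ KK e) (t1 : t ≠ 1)
    (t2 : t * t = 1) (hsq : ∀ s ∈ KK e, s ≠ 1 → s * s = 1 → ∀ r ∈ KK e, r * r ≠ s) :
    ∃ Θ : Subgroup G, Core e t Θ := by
  classical
  have : Fact (Nat.Prime 2) := ⟨Nat.prime_two⟩
  set X : Subgroup G := KK e ⊓ centralizer {t} with hX
  have hmX : ∀ {x}, x ∈ X ↔ x ∈ KK e ∧ x * t = t * x := by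
    intro x
    rw [hX, mem_inf, mem_centralizer_singleton_iff]
  have htX : t ∈ X := hmX.2 ⟨ht, rfl⟩
  set τ : X := ⟨t, htX⟩ with hτ
  set N : Subgroup X := zpowers τ with hN
  have hτ2 : τ * τ = 1 := Subtype.ext t2
  have hτ1 : τ ≠ 1 := fun h => t1 (congrArg Subtype.val h)
  have hcen : ∀ x : X, x * τ = τ * x := fun x => Subtype.ext (hmX.1 x.2).2
  have hNmem : ∀ y : X, y ∈ N ↔ y = 1 ∨ y = τ := by
    intro y
    constructor
    · rintro ⟨k, rfl⟩
      rcases Int.even_or_odd' k with ⟨m, hm | hm⟩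
      · left
        show τ ^ k = 1
        rw [hm, zpow_mul, zpow_two, hτ2, one_zpow]
      · right
        show τ ^ k = τ
        rw [hm, zpow_add, zpow_mul, zpow_two, hτ2, one_zpow, one_mul, zpow_one]
    · rintro (rfl | rfl)
      · exact one_mem _
      · exact mem_zpowers _
  have hcardN : Nat.card N = 2 := by
    rw [hN, Nat.card_zpowers]
    exact orderOf_eq_prime (by rw [pow_two, hτ2]) hτ1
  have hnormal : N.Normal := by
    refine ⟨fun y hy x => ?_⟩
    rw [hNmem] at hy ⊢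
    rcases hy with rfl | rfl
    · left; group
    · right; rw [hcen, mul_inv_cancel_right]
  -- the Sylow 2-subgroup is `N`
  have hNp : IsPGroup 2 N := IsPGroup.of_card (n := 1) (by rw [hcardN, pow_one])
  obtain ⟨P, hP⟩ := hNp.exists_le_sylow
  have hPN : (P : Subgroup X) = N := by
    apply le_antisymm _ hP
    intro y hy
    obtain ⟨n, hn⟩ := P.2 ⟨y, hy⟩
    have hn' : (y : G) ^ 2 ^ n = 1 := by
      have := congrArg (fun z : (P : Subgroup X) => ((z : X) : G)) hn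
      simpa using this
    rw [hNmem]
    rcases two_elem rk ht t1 t2 hsq (hmX.1 y.2).1 (hmX.1 y.2).2 hn' with h1 | h1
    · exact Or.inl (Subtype.ext h1)
    · exact Or.inr (Subtype.ext h1)
  have hidx : ¬ 2 ∣ N.index := by
    rw [← hPN]
    exact P.not_dvd_index
  have hcop : Nat.Coprime (Nat.card N) N.index := by
    rw [hcardN]
    exact (Nat.Prime.coprime_iff_not_dvd Nat.prime_two).2 hidx
  obtain ⟨H, hH⟩ := exists_right_complement'_of_coprime hcop
  have hcardH : Nat.card H = N.index := by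
    have h1 := hH.card_mul_card
    have h2 := N.card_mul_index
    rw [← h2] at h1
    exact Nat.eq_of_mul_eq_mul_left Nat.card_pos h1
  have hoddH : Odd (Nat.card H) := by
    rw [hcardH, ← Nat.not_even_iff_odd, even_iff_two_dvd]
    exact hidx
  have hdec : ∀ x : X, x ∈ H ∨ τ * x ∈ H := by
    intro x
    obtain ⟨⟨a, b⟩, hab⟩ := hH.2 x
    have hab' : (a : X) * (b : X) = x := hab
    rcases (hNmem a).1 a.2 with ha | ha
    · left
      rw [← hab', ha, one_mul]
      exact b.2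
    · right
      rw [← hab', ha, ← mul_assoc, hτ2, one_mul]
      exact b.2
  have hmem : ∀ x : X, Odd (orderOf x) → x ∈ H := by
    intro x hx
    rcases hdec x with h1 | h1
    · exact h1
    · exfalso
      -- `(τ x) ^ |H| = 1`
      have h2 : (τ * x) ^ Nat.card H = 1 := by
        have := pow_card_eq_one' (x := (⟨τ * x, h1⟩ : H))
        exact congrArg Subtype.val this
      have h3 : Commute τ x := (hcen x).symm
      rw [h3.mul_pow] at h2
      obtain ⟨m, hm⟩ := hoddH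
      have h4 : τ ^ Nat.card H = τ := by
        rw [hm, pow_succ, pow_mul, pow_two, hτ2, one_pow, one_mul]
      rw [h4] at h2
      have h5 : τ ^ orderOf x = 1 := by
        have h6 : τ = (x ^ Nat.card H)⁻¹ := eq_inv_of_mul_eq_one_left h2
        rw [h6, inv_pow, ← pow_mul, mul_comm, pow_mul, pow_orderOf_eq_one, one_pow, inv_one]
      obtain ⟨l, hl⟩ := hx
      rw [hl, pow_succ, pow_mul, pow_two, hτ2, one_pow, one_mul] at h5
      exact hτ1 h5
  have hcardΘ : Nat.card (H.map X.subtype) = Nat.card H :=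
    Nat.card_congr (H.equivMapOfInjective X.subtype X.subtype_injective).symm.toEquiv
  refine ⟨H.map X.subtype, ?_, ?_, ?_, ?_, ?_, ?_⟩
  · rintro _ ⟨x, -, rfl⟩
    exact (hmX.1 x.2).1
  · rintro _ ⟨x, -, rfl⟩
    exact (hmX.1 x.2).2
  · rw [hcardΘ]; exact hoddH
  · intro x hx hxt ho
    refine ⟨⟨x, hmX.2 ⟨hx, hxt⟩⟩, hmem _ ?_, rfl⟩
    rwa [Subgroup.orderOf_mk]
  · intro x hx hxt
    rcases hdec ⟨x, hmX.2 ⟨hx, hxt⟩⟩ with h1 | h1
    · exact Or.inl ⟨_, h1, rfl⟩
    · exact Or.inr ⟨_, h1, rfl⟩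
  · rintro c hc _ ⟨x, hx, rfl⟩
    have hcM : c ∈ MM e := h.nrm ht t1 t2 hc
    have hx' := hmX.1 x.2
    have h1 : c * (x : G) * c⁻¹ ∈ KK e := Emb.conj_KK hcM hx'.1
    have h2 : c * (x : G) * c⁻¹ * t = t * (c * (x : G) * c⁻¹) := by
      have hc' : c⁻¹ * t = t * c⁻¹ := by
        calc c⁻¹ * t = c⁻¹ * (t * c) * c⁻¹ := by group
          _ = t * c⁻¹ := by rw [← hc]; group
      calc c * (x : G) * c⁻¹ * t = c * x * (c⁻¹ * t) := by group
        _ = c * (x * t) * c⁻¹ := by rw [hc']; group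
        _ = (c * t) * x * c⁻¹ := by rw [hx'.2]; group
        _ = t * (c * (x : G) * c⁻¹) := by rw [hc]; group
    refine ⟨⟨_, hmX.2 ⟨h1, h2⟩⟩, hmem _ ?_, rfl⟩
    rw [Subgroup.orderOf_mk]
    have h3 : orderOf (c * (x : G) * c⁻¹) = orderOf (x : G) := by
      rw [← MulAut.conj_apply, MulEquiv.orderOf_eq]
    rw [h3, Subgroup.orderOf_coe]
    have h4 : orderOf x ∣ Nat.card H := by
      have := orderOf_dvd_natCard (⟨x, hx⟩ : H)
      rwa [Subgroup.orderOf_mk] at this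
    exact Odd.of_dvd_nat hoddH h4

end Cfsg.Agent.GTwoFour.Red
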