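import Mathlib
import Cfsg.Agent.StdL3.OneParity

/-!
# Transfer of an involution to a 2-subgroup which need not be Sylow

`S` is a 2-subgroup of `G`, `t ∈ S` an involution with `C_S(t)` a Sylow 2-subgroup of `C_G(t)`. In the
product formula for the transfer of `t` only the cosets `g S` with `C_S(t)^g ≤ S` count.
-/

set_option autoImplicit false

namespace Cfsg.Agent.GTwoFour.TransferNorm

open MulAction

variable {G : Type*} [Group G]

/-- a 2-group acting on a finite set, an invariant function with values of square one which is `1` at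
the fixed points: the product is `1`. -/
theorem prod_eq_one_of_action {P X A : Type*} [Group P] [MulAction P X] [CommGroup A] [Finite P] [DecidableEq A]
    (hP : IsPGroup 2 P) (s : Finset X) (hs : ∀ (p : P) (x : X), x ∈ s → p • x ∈ s) (f : X → A)
    (hf : ∀ (p : P) (x : X), x ∈ s → f (p • x) = f x) (h2 : ∀ x ∈ s, f x ^ 2 = 1)
    (h1 : ∀ x ∈ s, (∀ p : P, p • x = x) → f x = 1) : ∏ x ∈ s, f x = 1 := by
  classical
  have : Fact (Nat.Prime 2) := ⟨Nat.prime_two⟩
  rw [Finset.prod_comp (fun a => a) f]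
  apply Finset.prod_eq_one
  intro a ha
  obtain ⟨x0, hx0, rfl⟩ := Finset.mem_image.1 ha
  by_cases ha1 : f x0 = 1
  · rw [ha1, one_pow]
  -- the action on the fibre
  set F : Finset X := s.filter (fun x => f x = f x0) with hF
  have hFm : ∀ (p : P) (x : X), x ∈ F → p • x ∈ F := by
    intro p x hx
    rw [hF, Finset.mem_filter] at hx ⊢
    exact ⟨hs p x hx.1, by rw [hf p x hx.1]; exact hx.2⟩
  let act : MulAction P F :=
    { smul := fun p x => ⟨p • (x : X), hFm p x x.2⟩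
      one_smul := fun x => Subtype.ext (one_smul P (x : X))
      mul_smul := fun p q x => Subtype.ext (mul_smul p q (x : X)) }
  have h3 := hP.card_modEq_card_fixedPoints F
  have h4 : MulAction.fixedPoints P F = ∅ := by
    rw [Set.eq_empty_iff_forall_notMem]
    intro x hx
    have hx2 := Finset.mem_filter.1 x.2
    apply ha1
    rw [← hx2.2]
    apply h1 _ hx2.1
    intro p
    exact congrArg Subtype.val (hx p)
  have h40 : Nat.card (MulAction.fixedPoints P F) = 0 := by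
    rw [h4]; simp
  rw [h40] at h3
  have h5 : Even F.card := by
    rw [Nat.even_iff]
    have h6 : Nat.card F = F.card := by simp
    rw [h6] at h3
    exact h3
  obtain ⟨k, hk⟩ := h5
  have h6 : (s.filter (fun x => f x = f x0)).card = 2 * k := by rw [← hF, hk]; ring
  rw [h6, pow_mul, h2 x0 hx0, one_pow]

/-- **Transfer lemma.** -/
theorem transfer_eq {A : Type*} [CommGroup A] [Finite G] {S : Subgroup G} (hS : IsPGroup 2 S)
    (φ : S →* A) {t : G} (ht : t * t = 1) (htS : t ∈ S)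
    (hodd : Odd (S.subgroupOf (Subgroup.centralizer {t})).index)
    (hcl : ∀ g : G, (∀ x ∈ S, x * t = t * x → g⁻¹ * x * g ∈ S) →
      ∀ hg : g⁻¹ * t * g ∈ S, φ ⟨g⁻¹ * t * g, hg⟩ ≠ 1 → ∃ x ∈ S, g⁻¹ * t * g = x⁻¹ * t * x) :
    MonoidHom.transfer φ t = φ ⟨t, htS⟩ := by
  classical
  have hti : t⁻¹ = t := inv_eq_of_mul_eq_one_right ht
  have := Fintype.ofFinite (G ⧸ S)
  obtain ⟨f, hf, hprod⟩ := StdL3.OneParity.transfer_eq_prod_fixed S φ t ht
  have hsq : ∀ y : S, (y : G) * y = 1 → φ y ^ 2 = 1 := by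
    intro y hy
    rw [← map_pow]
    have : y ^ 2 = 1 := Subtype.ext (by simp [pow_two, hy])
    rw [this, map_one]
  set C := Subgroup.centralizer ({t} : Set G) with hC
  have hmC : ∀ {x}, x ∈ C ↔ x * t = t * x := Subgroup.mem_centralizer_singleton_iff
  set q0 : G ⧸ S := ((1 : G) : G ⧸ S) with hq0
  -- the subgroup `C_S(t)`
  set T : Subgroup G := S ⊓ C with hT
  have hT2 : IsPGroup 2 T := hS.to_le inf_le_left
  set X : Finset (G ⧸ S) := Finset.univ.filter (fun q : G ⧸ S => t • q = q) with hX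
  set O : Finset (G ⧸ S) := Finset.univ.filter (fun q : G ⧸ S => q ∈ MulAction.orbit C q0) with hO
  have hmX : ∀ g : G, ((g : G ⧸ S) ∈ X ↔ g⁻¹ * t * g ∈ S) := by
    intro g
    rw [hX, Finset.mem_filter, MulAction.Quotient.smul_mk, smul_eq_mul, QuotientGroup.eq]
    have : (t * g)⁻¹ * g = g⁻¹ * t * g := by rw [mul_inv_rev, hti]
    rw [this]
    simp
  have hmO : ∀ g : G, ((g : G ⧸ S) ∈ O ↔ ∃ x ∈ S, g⁻¹ * t * g = x⁻¹ * t * x) := by
    intro g
    rw [hO, Finset.mem_filter]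
    constructor
    · rintro ⟨-, ⟨⟨c, hc⟩, e⟩⟩
      have e' : (c : G ⧸ S) = (g : G ⧸ S) := by
        have : c • q0 = (g : G ⧸ S) := e
        rw [hq0, MulAction.Quotient.smul_mk, smul_eq_mul, mul_one] at this
        exact this
      refine ⟨c⁻¹ * g, QuotientGroup.eq.1 e', ?_⟩
      have h1 := hmC.1 hc
      calc g⁻¹ * t * g = g⁻¹ * (t * c) * c⁻¹ * g := by group
        _ = (c⁻¹ * g)⁻¹ * t * (c⁻¹ * g) := by rw [← h1]; group
    · rintro ⟨x, hx, e⟩
      refine ⟨Finset.mem_univ _, ?_⟩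
      have hc : g * x⁻¹ ∈ C := by
        rw [hmC]
        have h2 : g * x⁻¹ * t * (g * x⁻¹)⁻¹ = t := by
          calc g * x⁻¹ * t * (g * x⁻¹)⁻¹ = g * (x⁻¹ * t * x) * g⁻¹ := by group
            _ = t := by rw [← e]; group
        calc g * x⁻¹ * t = g * x⁻¹ * t * (g * x⁻¹)⁻¹ * (g * x⁻¹) := by group
          _ = t * (g * x⁻¹) := by rw [h2]
      refine ⟨⟨g * x⁻¹, hc⟩, ?_⟩
      show (g * x⁻¹) • q0 = _
      rw [hq0, MulAction.Quotient.smul_mk, smul_eq_mul, mul_one, QuotientGroup.eq]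
      have : (g * x⁻¹)⁻¹ * g = x := by group
      rw [this]; exact hx
  have hOX : O ⊆ X := by
    intro q hq
    obtain ⟨g, rfl⟩ := QuotientGroup.mk_surjective q
    obtain ⟨x, hx, e⟩ := (hmO g).1 hq
    rw [hmX, e]
    exact S.mul_mem (S.mul_mem (S.inv_mem hx) htS) hx
  have hOval : ∀ q ∈ O, f q = φ ⟨t, htS⟩ := by
    intro q hq
    obtain ⟨g, rfl⟩ := QuotientGroup.mk_surjective q
    obtain ⟨x, hx, e⟩ := (hmO g).1 hq
    have hg := (hmX g).1 (hOX hq)
    rw [hf _ g rfl hg]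
    have h3 : (⟨g⁻¹ * t * g, hg⟩ : S) = (⟨x, hx⟩ : S)⁻¹ * ⟨t, htS⟩ * ⟨x, hx⟩ := by
      apply Subtype.ext
      simp only [Subgroup.coe_mul, Subgroup.coe_inv]
      exact e
    rw [h3, map_mul, map_mul, map_inv, mul_comm, ← mul_assoc, mul_inv_cancel, one_mul]
  rw [hprod, ← Finset.prod_sdiff hOX, Finset.prod_congr rfl hOval, Finset.prod_const]
  -- the complement of the orbit
  have h1 : ∏ q ∈ X \ O, f q = 1 := by
    apply prod_eq_one_of_action hT2 (X \ O)
    · rintro ⟨p, hp⟩ q hq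
      obtain ⟨g, rfl⟩ := QuotientGroup.mk_surjective q
      obtain ⟨hpS, hpC⟩ := Subgroup.mem_inf.1 hp
      rw [hmC] at hpC
      have hconj : (p * g)⁻¹ * t * (p * g) = g⁻¹ * t * g := by
        calc (p * g)⁻¹ * t * (p * g) = g⁻¹ * (p⁻¹ * (t * p)) * g := by group
          _ = g⁻¹ * t * g := by rw [← hpC]; group
      have e : (⟨p, hp⟩ : T) • (g : G ⧸ S) = ((p * g : G) : G ⧸ S) := rfl
      rw [Finset.mem_sdiff] at hq ⊢
      rw [e, hmX, hmO, hconj]
      rw [hmX, hmO] at hq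
      exact hq
    · rintro ⟨p, hp⟩ q hq
      obtain ⟨g, rfl⟩ := QuotientGroup.mk_surjective q
      obtain ⟨hpS, hpC⟩ := Subgroup.mem_inf.1 hp
      rw [hmC] at hpC
      have hconj : (p * g)⁻¹ * t * (p * g) = g⁻¹ * t * g := by
        calc (p * g)⁻¹ * t * (p * g) = g⁻¹ * (p⁻¹ * (t * p)) * g := by group
          _ = g⁻¹ * t * g := by rw [← hpC]; group
      have e : (⟨p, hp⟩ : T) • (g : G ⧸ S) = ((p * g : G) : G ⧸ S) := rfl
      have hg := (hmX g).1 (Finset.mem_sdiff.1 hq).1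
      rw [e, hf _ (p * g) rfl (by rw [hconj]; exact hg), hf _ g rfl hg]
      congr 1
      exact Subtype.ext hconj
    · intro q hq
      obtain ⟨g, rfl⟩ := QuotientGroup.mk_surjective q
      have hg := (hmX g).1 (Finset.mem_sdiff.1 hq).1
      rw [hf _ g rfl hg]
      apply hsq
      show g⁻¹ * t * g * (g⁻¹ * t * g) = 1
      calc g⁻¹ * t * g * (g⁻¹ * t * g) = g⁻¹ * (t * t) * g := by group
        _ = 1 := by rw [ht]; group
    · intro q hq hfix
      obtain ⟨g, rfl⟩ := QuotientGroup.mk_surjective q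
      obtain ⟨hqX, hqO⟩ := Finset.mem_sdiff.1 hq
      have hg := (hmX g).1 hqX
      rw [hf _ g rfl hg]
      by_contra hne
      apply hqO
      rw [hmO]
      refine hcl g ?_ hg hne
      intro x hx hxt
      have h2 := hfix ⟨x, Subgroup.mem_inf.2 ⟨hx, hmC.2 hxt⟩⟩
      have e : (⟨x, Subgroup.mem_inf.2 ⟨hx, hmC.2 hxt⟩⟩ : T) • (g : G ⧸ S) = ((x * g : G) : G ⧸ S) := rfl
      rw [e, eq_comm, QuotientGroup.eq] at h2
      rwa [mul_assoc]
  rw [h1, one_mul]
  have hcard : O.card = (S.subgroupOf C).index := by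
    have h2 : (MulAction.stabilizer C q0) = S.subgroupOf C := by
      ext ⟨c, hc⟩
      rw [MulAction.mem_stabilizer_iff, Subgroup.mem_subgroupOf]
      show c • q0 = q0 ↔ c ∈ S
      rw [hq0, MulAction.Quotient.smul_mk, smul_eq_mul, mul_one]
      constructor
      · intro e
        have := QuotientGroup.eq.mp e.symm
        simpa using this
      · intro hcH
        rw [eq_comm, QuotientGroup.eq]; simpa using hcH
    rw [← h2, MulAction.index_stabilizer, ← Set.ncard_coe_finset]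
    congr 1
    ext q; simp [hO]
  rw [hcard]
  obtain ⟨k, hk⟩ := hodd
  rw [hk, pow_succ, pow_mul, hsq ⟨t, htS⟩ ht, one_pow, one_mul]

theorem transfer_eq_one {A : Type*} [CommGroup A] [Finite G] [IsSimpleGroup G]
    (hG : ¬ IsMulCommutative G) {S : Subgroup G} (φ : S →* A) (t : G) :
    MonoidHom.transfer φ t = 1 := by
  set f := MonoidHom.transfer φ with hf
  rcases (inferInstance : f.ker.Normal).eq_bot_or_eq_top with hk | hk
  · exfalso
    apply hG
    refine ⟨⟨fun a b => ?_⟩⟩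
    apply (MonoidHom.ker_eq_bot_iff f).mp hk
    rw [map_mul, map_mul, mul_comm]
  · have : t ∈ f.ker := hk ▸ Subgroup.mem_top t
    exact this

/-- **(TL)** In a non-abelian simple group: if `t` is not in the kernel of `φ : S → A`, then some
conjugate `t^g ∈ S`, `C_S(t)^g ≤ S`, not `S`-conjugate to `t`, is not in the kernel either. -/
theorem exists_extremal {A : Type*} [CommGroup A] [Finite G] [IsSimpleGroup G]
    (hG : ¬ IsMulCommutative G) {S : Subgroup G} (hS : IsPGroup 2 S)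
    (φ : S →* A) {t : G} (ht : t * t = 1) (htS : t ∈ S)
    (hodd : Odd (S.subgroupOf (Subgroup.centralizer {t})).index) (hφ : φ ⟨t, htS⟩ ≠ 1) :
    ∃ g : G, (∀ x ∈ S, x * t = t * x → g⁻¹ * x * g ∈ S) ∧
      (∃ hg : g⁻¹ * t * g ∈ S, φ ⟨g⁻¹ * t * g, hg⟩ ≠ 1) ∧ ∀ x ∈ S, g⁻¹ * t * g ≠ x⁻¹ * t * x := by
  by_contra hcon
  push Not at hcon
  apply hφ
  rw [← transfer_eq hS φ ht htS hodd, transfer_eq_one hG]
  intro g hg hg' hne
  exact hcon g hg ⟨hg', hne⟩

/-- the hypothesis on the index, from maximality of `C_S(t)` among the 2-subgroups of `C_G(t)` -/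
theorem odd_index [Finite G] {S : Subgroup G} {t : G} (hS : IsPGroup 2 S)
    (hmax : ∀ Q : Subgroup G, IsPGroup 2 Q → (∀ x ∈ Q, x * t = t * x) →
      (∀ x ∈ S, x * t = t * x → x ∈ Q) → ∀ x ∈ Q, x ∈ S) :
    Odd (S.subgroupOf (Subgroup.centralizer {t})).index := by
  classical
  have : Fact (Nat.Prime 2) := ⟨Nat.prime_two⟩
  set C := Subgroup.centralizer ({t} : Set G) with hC
  have hmC : ∀ {x}, x ∈ C ↔ x * t = t * x := Subgroup.mem_centralizer_singleton_iff
  have h1 : IsPGroup 2 (S.subgroupOf C) := by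
    rintro ⟨⟨x, hx⟩, hxS⟩
    obtain ⟨k, hk⟩ := hS ⟨x, hxS⟩
    refine ⟨k, Subtype.ext (Subtype.ext ?_)⟩
    have h2 := congrArg Subtype.val hk
    simpa using h2
  obtain ⟨P, hP⟩ := h1.exists_le_sylow
  have h2 : (P : Subgroup C) ≤ S.subgroupOf C := by
    intro x hx
    rw [Subgroup.mem_subgroupOf]
    refine hmax ((P : Subgroup C).map C.subtype) (P.2.map _) ?_ ?_ x ⟨x, hx, rfl⟩
    · rintro _ ⟨y, -, rfl⟩
      exact hmC.1 y.2
    · intro y hy hyt
      exact ⟨⟨y, hmC.2 hyt⟩, hP (Subgroup.mem_subgroupOf.2 hy), rfl⟩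
  have h3 : (P : Subgroup C) = S.subgroupOf C := le_antisymm h2 hP
  rw [← h3, ← Nat.not_even_iff_odd, even_iff_two_dvd]
  exact P.not_dvd_index

end Cfsg.Agent.GTwoFour.TransferNorm
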