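import Mathlib
import Cfsg.Agent.GTwoFour.RedCore
import Cfsg.Agent.GTwoFour.TransferNorm
import Cfsg.Agent.StandardComponent.LocalTransfer

/-!
# The fusion `t ~ t z`
-/

set_option autoImplicit false

namespace Cfsg.Agent.GTwoFour.Red

open Subgroup Cfsg.Agent.StdG24
open scoped commutatorElement

variable {L : Type*} [Group L] {G : Type*} [Group G] {D : Iface.Data L} {e : L →* G}

/-- elements of `M` centralising `e(Q1)` -/
theorem cent_Q1 (F : RedFacts D) (I : Iface.Facts D) (hA : ∀ x, x ∈ D.A) (h : Emb e) {m : G}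
    (hm : m ∈ MM e) (hq : ∀ q ∈ D.Q1, m * e q = e q * m) :
    ∃ k ∈ KK e, ∃ c ∈ D.Z, m = k * e c := by
  have h1 : Inn (autHom h ⟨m, hm⟩) := by
    apply F.autZ
    intro z hz
    apply h.inj
    rw [autHom_apply]
    show m * e z * m⁻¹ = e z
    rw [hq z (I.Z_le hz), mul_inv_cancel_right]
  obtain ⟨k, hk, c, hmc⟩ := (inn_iff h _).1 h1
  have hmc' : m = k * e c := hmc
  have hcq : ∀ q ∈ D.Q1, c * q = q * c := by
    intro q hqQ
    apply h.inj
    have h2 := hq q hqQ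
    rw [hmc'] at h2
    rw [map_mul, map_mul]
    apply mul_left_cancel (a := k)
    calc k * (e c * e q) = k * e c * e q := by group
      _ = e q * (k * e c) := h2
      _ = (e q * k) * e c := by group
      _ = k * (e q * e c) := by rw [← mem_KK.1 hk]; group
  have hcP : c ∈ D.P := (I.cent_Z c (hA c)).1 fun z hz => hcq z (I.Z_le hz)
  have hcQ : c ∈ D.Q1 := by
    apply I.cent_Q1Z c hcP
    intro q hqQ
    have : ⁅c, q⁆ = 1 := commutatorElement_eq_one_iff_mul_comm.2 (hcq q hqQ)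
    rw [this]
    exact one_mem _
  exact ⟨k, hk, c, I.center_Q1 c hcQ hcq, hmc'⟩

/-- `P ≤ A'` -/
theorem P_le (F : RedFacts D) {e' : L →* G} (h' : Emb e') (rk' : RankOne (KK e')) {u : G}
    (hu : u ∈ KK e') (u1 : u ≠ 1) (u2 : u * u = 1) (hP : ∀ p ∈ D.P, e p * u = u * e p) :
    ∀ p ∈ D.P, ∃ y : L, e p = e' y := by
  have hM : ∀ p ∈ D.P, e p ∈ MM e' := fun p hp => h'.nrm hu u1 u2 (hP p hp)
  have h1 : D.P ≤ (e'.range).comap e := by
    apply F.pure
    intro x hx p hp q hq hxx hcomm hprod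
    -- `e x ∈ K' A'`
    have hcon : ∀ {a b : G}, b ∈ MM e' → KA e' (b * a * b⁻¹) → KA e' a := by
      intro a b hb hab
      have h2 := hab.conj (inv_mem hb)
      have h3 : b⁻¹ * (b * a * b⁻¹) * b⁻¹⁻¹ = a := by group
      rwa [h3] at h2
    have hKA : KA e' (e x) := by
      have hxp : p * x * p⁻¹ ∈ D.P := mul_mem (mul_mem hp hx) (inv_mem hp)
      rcases KA_or F h' (hM x hx) (hM _ hxp) with h2 | h2 | h2
      · exact h2
      · rw [map_mul, map_mul, map_inv] at h2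
        exact hcon (hM p hp) h2
      · rw [← map_mul, hprod, map_mul, map_mul, map_inv] at h2
        exact hcon (hM q hq) h2
    obtain ⟨k, hk, y, hxy⟩ := hKA
    obtain ⟨hk2, -⟩ := split_sq h' hk (c := y) (by rw [← hxy, ← map_mul, hxx, map_one])
    have hkey : k = 1 := by
      by_contra hk1
      -- the conjugates
      have hsplit : ∀ b ∈ D.P, ∃ y' : L, e (b * x * b⁻¹) = (e b * k * (e b)⁻¹) * e' y' := by
        intro b hb
        obtain ⟨y', hy'⟩ := (mem_MM.1 (hM b hb)).1 y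
        refine ⟨y', ?_⟩
        rw [map_mul, map_mul, map_inv, hxy, ← hy']
        group
      obtain ⟨y1, hy1⟩ := hsplit p hp
      obtain ⟨y2, hy2⟩ := hsplit q hq
      set k1 := e p * k * (e p)⁻¹ with hk1'
      set k2 := e q * k * (e q)⁻¹ with hk2'
      have hk1K : k1 ∈ KK e' := Emb.conj_KK (hM p hp) hk
      have hk2K : k2 ∈ KK e' := Emb.conj_KK (hM q hq) hk
      have hk11 : k1 ≠ 1 := conj_ne_one hk1
      have hk21 : k2 ≠ 1 := conj_ne_one hk1
      have h2 : (k * k1) * e' (y * y1) = (k1 * k) * e' (y1 * y) := by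
        have h3 : e (x * (p * x * p⁻¹)) = e (p * x * p⁻¹ * x) := by rw [hcomm]
        rw [map_mul e x, map_mul e _ x, hxy, hy1] at h3
        calc k * k1 * e' (y * y1) = k * (k1 * e' y) * e' y1 := by rw [map_mul]; group
          _ = k * e' y * (k1 * e' y1) := by rw [mem_KK.1 hk1K]; group
          _ = k1 * e' y1 * (k * e' y) := h3
          _ = k1 * (e' y1 * k) * e' y := by group
          _ = k1 * k * e' (y1 * y) := by rw [← mem_KK.1 hk, map_mul]; group
      have h3 := (split_unique h' (mul_mem hk hk1K) (mul_mem hk1K hk) h2).1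
      have h4 : k = k1 := rk' k hk k1 hk1K hk1 hk11 hk2 (conj_sq hk2) h3
      have h5 : (k * k1) * e' (y * y1) = k2 * e' y2 := by
        have h6 : e (x * (p * x * p⁻¹)) = e (q * x * q⁻¹) := by rw [hprod]
        rw [map_mul e x, hxy, hy1, hy2] at h6
        calc k * k1 * e' (y * y1) = k * (k1 * e' y) * e' y1 := by rw [map_mul]; group
          _ = k * e' y * (k1 * e' y1) := by rw [mem_KK.1 hk1K]; group
          _ = k2 * e' y2 := h6
      have h6 := (split_unique h' (mul_mem hk hk1K) hk2K h5).1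
      apply hk21
      rw [← h6, ← h4, hk2]
    refine ⟨y, ?_⟩
    rw [hxy, hkey, one_mul]
  intro p hp
  obtain ⟨y, hy⟩ := h1 hp
  exact ⟨y, hy.symm⟩

/-- the 2-elements of `C_G(t)` in `K A` -/
theorem KA_two (rk : RankOne (KK e)) (h : Emb e) {t : G} (ht : t ∈ KK e) (t1 : t ≠ 1) (t2 : t * t = 1)
    (hsq : ∀ s ∈ KK e, s ≠ 1 → s * s = 1 → ∀ r ∈ KK e, r * r ≠ s) {x : G} (hxt : x * t = t * x)
    {n : ℕ} (hn : x ^ 2 ^ n = 1) (hKA : KA e x) : (∃ c : L, x = e c) ∨ ∃ c : L, x = t * e c := by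
  obtain ⟨k, hk, c, rfl⟩ := hKA
  obtain ⟨hkn, -⟩ := split_pow h hk hn
  have h1 := (split_comm h hk (KK_le_MM e ht) hxt.symm).1
  rcases two_elem rk ht t1 t2 hsq hk h1.symm hkn with rfl | rfl
  · exact Or.inl ⟨c, by rw [one_mul]⟩
  · exact Or.inr ⟨c, rfl⟩

/-- commutators of a 2-subgroup of `C_G(t)` lie in `A` -/
theorem comm_mem (F : RedFacts D) (rk : RankOne (KK e)) (h : Emb e) {t : G} (ht : t ∈ KK e) (t1 : t ≠ 1)
    (t2 : t * t = 1) (hsq : ∀ s ∈ KK e, s ≠ 1 → s * s = 1 → ∀ r ∈ KK e, r * r ≠ s)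
    {T : Subgroup G} (hT : IsPGroup 2 T) (hTt : ∀ x ∈ T, x * t = t * x) {x y : G} (hx : x ∈ T)
    (hy : y ∈ T) : ⁅x, y⁆ ∈ e.range := by
  have hM : ∀ x ∈ T, x ∈ MM e := fun x hx => h.nrm ht t1 t2 (hTt x hx)
  have hpow : ∀ x ∈ T, ∃ n : ℕ, x ^ 2 ^ n = 1 := by
    intro x hx
    obtain ⟨n, hn⟩ := hT ⟨x, hx⟩
    exact ⟨n, by simpa using congrArg Subtype.val hn⟩
  have hcase : ∀ x ∈ T, KA e x → (∃ c : L, x = e c) ∨ ∃ c : L, x = t * e c := by
    intro x hx hKA
    obtain ⟨n, hn⟩ := hpow x hx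
    exact KA_two rk h ht t1 t2 hsq (hTt x hx) hn hKA
  -- left: `x` in `K A`
  have hleft : ∀ x ∈ T, ∀ y ∈ T, KA e x → ⁅x, y⁆ ∈ e.range := by
    intro x hx y hy hKA
    have hyM := hM y hy
    have hyt := hTt y hy
    have key : ∀ c : L, ⁅e c, y⁆ ∈ e.range := by
      intro c
      obtain ⟨d, hd⟩ := (mem_MM.1 hyM).1 c⁻¹
      refine ⟨c * d, ?_⟩
      rw [map_mul, ← hd, map_inv, commutatorElement_def]
      group
    rcases hcase x hx hKA with ⟨c, rfl⟩ | ⟨c, rfl⟩
    · exact key c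
    · have h1 : ⁅t * e c, y⁆ = ⁅e c, y⁆ := by
        have h2 := mem_KK.1 ht c
        have h3 : (e c * y * (e c)⁻¹) * t = t * (e c * y * (e c)⁻¹) := by
          have h4 : (e c)⁻¹ * t = t * (e c)⁻¹ := by
            calc (e c)⁻¹ * t = (e c)⁻¹ * (t * e c) * (e c)⁻¹ := by group
              _ = t * (e c)⁻¹ := by rw [h2]; group
          calc (e c * y * (e c)⁻¹) * t = e c * y * ((e c)⁻¹ * t) := by group
            _ = e c * (y * t) * (e c)⁻¹ := by rw [h4]; group
            _ = (e c * t) * y * (e c)⁻¹ := by rw [hyt]; group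
            _ = t * (e c * y * (e c)⁻¹) := by rw [← h2]; group
        calc ⁅t * e c, y⁆ = t * (e c * y * (e c)⁻¹) * t⁻¹ * y⁻¹ := by
              rw [commutatorElement_def]; group
          _ = (e c * y * (e c)⁻¹) * y⁻¹ := by rw [← h3]; group
          _ = ⁅e c, y⁆ := by rw [commutatorElement_def]
      rw [h1]
      exact key c
  have hinv : ∀ x ∈ T, ∀ y ∈ T, KA e y → ⁅x, y⁆ ∈ e.range := by
    intro x hx y hy hKA
    rw [← commutatorElement_inv]
    exact inv_mem (hleft y hy x hx hKA)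
  rcases KA_or F h (hM x hx) (hM y hy) with h1 | h1 | h1
  · exact hleft x hx y hy h1
  · exact hinv x hx y hy h1
  · have h2 := hinv x hx (x * y) (mul_mem hx hy) h1
    have h3 : ⁅x, x * y⁆ = x * ⁅x, y⁆ * x⁻¹ := by
      rw [commutatorElement_def, commutatorElement_def]; group
    rw [h3] at h2
    obtain ⟨c, hc⟩ := h2
    obtain ⟨d, hd⟩ := (mem_MM.1 (hM x hx)).2 c
    refine ⟨d, ?_⟩
    rw [← hd, hc]
    group

/-- **(TL)**, first use: `t` is conjugate to `t e(c)`, `1 ≠ c ∈ Z`. -/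
theorem exists_fusion [Finite G] [IsSimpleGroup G] (hG : ¬ IsMulCommutative G) (F : RedFacts D)
    (I : Iface.Facts D) (hA : ∀ x, x ∈ D.A) (rk : RankOne (KK e)) (h : Emb e) {t : G} (ht : t ∈ KK e)
    (t1 : t ≠ 1) (t2 : t * t = 1) (hsq : ∀ s ∈ KK e, s ≠ 1 → s * s = 1 → ∀ r ∈ KK e, r * r ≠ s)
    (hQ2 : IsPGroup 2 D.Q1) :
    ∃ g : G, ∃ c ∈ D.Z, c ≠ 1 ∧ g * t * g⁻¹ = t * e c := by
  classical
  have : Fact (Nat.Prime 2) := ⟨Nat.prime_two⟩
  set C : Subgroup G := centralizer ({t} : Set G) with hC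
  have hmC : ∀ {x}, x ∈ C ↔ x * t = t * x := mem_centralizer_singleton_iff
  -- the 2-subgroup `⟨t⟩ e(Q1)`
  have hQt : ∀ x ∈ D.Q1.map e, x * t = t * x := by
    rintro _ ⟨q, -, rfl⟩
    exact (mem_KK.1 ht q).symm
  have hp1 : IsPGroup 2 ↥(D.Q1.map e ⊔ zpowers t) := by
    apply Cfsg.Agent.StandardComponent.LocalTransfer.isPGroup_sup_zpowers
    · exact hQ2.map e
    · exact ⟨1, by rw [pow_one, pow_two, t2]⟩
    · exact hQt
  have hle1 : D.Q1.map e ⊔ zpowers t ≤ C := by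
    apply sup_le
    · intro x hx
      exact hmC.2 (hQt x hx)
    · rw [zpowers_le]
      exact hmC.2 rfl
  have hp2 : IsPGroup 2 ((D.Q1.map e ⊔ zpowers t).subgroupOf C) :=
    hp1.of_injective (subgroupOfEquivOfLe hle1).toMonoidHom (subgroupOfEquivOfLe hle1).injective
  obtain ⟨P, hP⟩ := hp2.exists_le_sylow
  set T : Subgroup G := (P : Subgroup C).map C.subtype with hT
  have hT2 : IsPGroup 2 T := P.2.map _
  have hTt : ∀ x ∈ T, x * t = t * x := by
    rintro _ ⟨x, -, rfl⟩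
    exact hmC.1 x.2
  have hQT : ∀ q ∈ D.Q1, e q ∈ T := by
    intro q hq
    have h1 : e q ∈ D.Q1.map e ⊔ zpowers t := mem_sup_left ⟨q, hq, rfl⟩
    exact ⟨⟨e q, hle1 h1⟩, hP (mem_subgroupOf.2 h1), rfl⟩
  have htT : t ∈ T := by
    have h1 : t ∈ D.Q1.map e ⊔ zpowers t := mem_sup_right (mem_zpowers t)
    exact ⟨⟨t, hle1 h1⟩, hP (mem_subgroupOf.2 h1), rfl⟩
  have hodd : Odd (T.subgroupOf C).index := by
    have h1 : T.subgroupOf C = P := by
      rw [hT]
      exact comap_map_eq_self_of_injective C.subtype_injective _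
    rw [h1, ← Nat.not_even_iff_odd, even_iff_two_dvd]
    exact P.not_dvd_index
  have htr : t ∉ e.range := by
    rintro ⟨x, hx⟩
    have := h.disj x (by rw [hx]; exact ht)
    rw [this, map_one] at hx
    exact t1 hx.symm
  -- `t` is not in the commutator subgroup of `T`
  have hcomm : commutator T ≤ e.range.subgroupOf T := by
    rw [_root_.commutator_def, commutator_le]
    intro x _ y _
    rw [mem_subgroupOf]
    exact comm_mem F rk h ht t1 t2 hsq hT2 hTt x.2 y.2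
  have hφ : Abelianization.of (G := T) ⟨t, htT⟩ ≠ 1 := by
    intro h1
    have h2 : (⟨t, htT⟩ : T) ∈ commutator T := by
      rw [← Abelianization.ker_of]
      exact h1
    exact htr (mem_subgroupOf.1 (hcomm h2))
  obtain ⟨g, hg, ⟨hgT, -⟩, hne⟩ := TransferNorm.exists_extremal hG hT2 Abelianization.of t2 htT hodd hφ
  -- `u` is central in `T`
  set u := g⁻¹ * t * g with hu
  have hu1 : u ≠ 1 := conj_ne_one' t1
  have hu2 : u * u = 1 := conj_sq' t2
  have hut : u ≠ t := by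
    intro h1
    exact hne 1 (one_mem _) (by rw [h1]; group)
  have hcen : ∀ y ∈ T, y * u = u * y := by
    let f : T → T := fun x => ⟨g⁻¹ * x * g, hg x x.2 (hTt x x.2)⟩
    have hf : Function.Injective f := by
      intro x y hxy
      have h1 : g⁻¹ * (x : G) * g = g⁻¹ * y * g := congrArg Subtype.val hxy
      exact Subtype.ext (mul_left_cancel (mul_right_cancel h1))
    intro y hy
    obtain ⟨x, hx⟩ := Finite.surjective_of_injective hf ⟨y, hy⟩
    have h1 : g⁻¹ * (x : G) * g = y := congrArg Subtype.val hx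
    have h2 := hTt x x.2
    rw [← h1, hu]
    calc g⁻¹ * (x : G) * g * (g⁻¹ * t * g) = g⁻¹ * (x * t) * g := by group
      _ = g⁻¹ * t * g * (g⁻¹ * x * g) := by rw [h2]; group
  have huC : u * t = t * u := hTt u hgT
  have huM : u ∈ MM e := h.nrm ht t1 t2 huC
  obtain ⟨k, hk, c, hc, huc⟩ := cent_Q1 F I hA h huM (fun q hq => (hcen _ (hQT q hq)).symm)
  obtain ⟨hk2, -⟩ := split_sq h hk (c := c) (by rw [← huc]; exact hu2)
  have hkt : t * k = k * t := (split_comm h hk (KK_le_MM e ht) (c := c) (by rw [← huc]; exact huC.symm)).1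
  have hk' : k = 1 ∨ k = t := by
    by_cases hk1 : k = 1
    · exact Or.inl hk1
    · exact Or.inr (rk k hk t ht hk1 t1 hk2 t2 hkt.symm)
  have hc1 : c ≠ 1 := by
    rintro rfl
    rw [map_one, mul_one] at huc
    rcases hk' with h1 | h1
    · exact hu1 (huc.trans h1)
    · exact hut (huc.trans h1)
  refine ⟨g⁻¹, c, hc, hc1, ?_⟩
  rw [inv_inv, ← hu]
  rcases hk' with h1 | h1
  · exfalso
    rw [h1, one_mul] at huc
    have h2 : Emb (StdG24.cjh g⁻¹ e) := h.cjh g⁻¹
    have huK : u ∈ KK (StdG24.cjh g⁻¹ e) := by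
      have := apply_mem_KK_cjh (g := g⁻¹) ht
      rwa [inv_inv] at this
    have hPc : ∀ p ∈ D.P, e p * u = u * e p := by
      intro p hp
      have h3 := (I.cent_Z p (hA p)).2 hp c hc
      rw [huc, ← map_mul, h3, map_mul]
    obtain ⟨y, hy⟩ := P_le F h2 (rk.cjh g⁻¹) huK hu1 hu2 hPc c (I.Q1_le (I.Z_le hc))
    have h3 : y = 1 := h2.disj y (by rw [← hy, ← huc]; exact huK)
    rw [h3, map_one, ← huc] at hy
    exact hu1 hy
  · rw [huc, h1]

end Cfsg.Agent.GTwoFour.Red
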