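import Mathlib
import Cfsg.Agent.GTwoFour.RedFus

/-!
# The reduction for a standard subgroup `G₂(4)` with centralizer of 2-rank one: conclusion
-/

set_option autoImplicit false

namespace Cfsg.Agent.GTwoFour.Red

open Subgroup Cfsg.Agent.StdG24
open scoped commutatorElement

variable {L : Type*} [Group L] {G : Type*} [Group G] {D : Iface.Data L} {e : L →* G}

/-- `Z = {1, c, c^h, c^{h²}}` -/
theorem Z_elts [Finite L] (I : Iface.Facts D) {c : L} (hc : c ∈ D.Z) (c1 : c ≠ 1) :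
    ∀ z ∈ D.Z, z = 1 ∨ z = c ∨ z = D.h * c * D.h⁻¹ ∨ z = D.h * (D.h * c * D.h⁻¹) * D.h⁻¹ := by
  classical
  set x := D.h * c * D.h⁻¹ with hx
  set y := D.h * x * D.h⁻¹ with hy
  have hxZ : x ∈ D.Z := I.h_Z c hc
  have hyZ : y ∈ D.Z := I.h_Z x hxZ
  have hx1 : x ≠ 1 := conj_ne_one c1
  have hy1 : y ≠ 1 := conj_ne_one hx1
  have hxc : x ≠ c := fun h => c1 (I.h_Z_fpf c hc h)
  have hyx : y ≠ x := fun h => hx1 (I.h_Z_fpf x hxZ h)
  have hyc : y ≠ c := by
    intro h1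
    apply hxc
    have h2 : D.h * y * D.h⁻¹ = c := by
      have h3 := I.h_pow
      calc D.h * y * D.h⁻¹ = D.h ^ 3 * c * (D.h ^ 3)⁻¹ := by
            rw [hy, hx, pow_succ, pow_two]; group
        _ = c := by rw [h3]; group
    calc x = D.h * y * D.h⁻¹ := by rw [h1]
      _ = c := h2
  have hcard : ({1, c, x, y} : Finset L).card = 4 := by
    rw [Finset.card_insert_of_notMem, Finset.card_insert_of_notMem, Finset.card_insert_of_notMem,
      Finset.card_singleton]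
    · rw [Finset.mem_singleton]; exact hyx.symm
    · simp only [Finset.mem_insert, Finset.mem_singleton, not_or]
      exact ⟨hxc.symm, hyc.symm⟩
    · simp only [Finset.mem_insert, Finset.mem_singleton, not_or]
      exact ⟨c1.symm, hx1.symm, hy1.symm⟩
  have hsub : ((({1, c, x, y} : Finset L) : Set L)) ⊆ (D.Z : Set L) := by
    intro z hz
    simp only [Finset.coe_insert, Finset.coe_singleton, Set.mem_insert_iff,
      Set.mem_singleton_iff] at hz
    rcases hz with rfl | rfl | rfl | rfl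
    · exact D.Z.one_mem
    · exact hc
    · exact hxZ
    · exact hyZ
  have heq : ((({1, c, x, y} : Finset L) : Set L)) = (D.Z : Set L) := by
    apply Set.eq_of_subset_of_ncard_le hsub
    rw [Set.ncard_coe_finset, hcard, ← Nat.card_coe_set_eq]
    exact I.card_Z.le
  intro z hz
  have h1 : z ∈ ((({1, c, x, y} : Finset L) : Set L)) := by rw [heq]; exact hz
  simpa using h1

theorem prod_elts [Finite L] (I : Iface.Facts D) {c : L} (hc : c ∈ D.Z) (c1 : c ≠ 1) :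
    c * (D.h * c * D.h⁻¹) = D.h * (D.h * c * D.h⁻¹) * D.h⁻¹ := by
  have hx : D.h * c * D.h⁻¹ ∈ D.Z := I.h_Z c hc
  have hx1 : D.h * c * D.h⁻¹ ≠ 1 := conj_ne_one c1
  rcases Z_elts I hc c1 (c * (D.h * c * D.h⁻¹)) (mul_mem hc hx) with h1 | h1 | h1 | h1
  · exfalso
    apply c1
    apply I.h_Z_fpf c hc
    rw [← inv_eq_of_mul_eq_one_right h1]
    exact inv_eq_of_mul_eq_one_right (I.sq_Z c hc)
  · exact absurd (mul_eq_left.1 h1) hx1
  · exact absurd (mul_eq_right.1 h1) c1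
  · exact h1

/-- the element `n` with `t^n = t e(c)`, normalising `P` and `Z` -/
theorem exists_n [Finite G] (F : RedFacts D)
    (I : Iface.Facts D) (hA : ∀ x, x ∈ D.A) (rk : RankOne (KK e)) (h : Emb e) {t : G} (ht : t ∈ KK e)
    (t1 : t ≠ 1) (t2 : t * t = 1)
    {g : G} {c : L} (hc : c ∈ D.Z) (c1 : c ≠ 1) (hg : g * t * g⁻¹ = t * e c) :
    ∃ n : G, n * t * n⁻¹ = t * e c ∧ n * e c * n⁻¹ = e c ∧
      (∀ p ∈ D.P, ∃ p' ∈ D.P, n * e p * n⁻¹ = e p') ∧ (∀ p ∈ D.P, ∃ p' ∈ D.P, n * e p' * n⁻¹ = e p) ∧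
      ∀ z ∈ D.Z, ∃ z' ∈ D.Z, n * e z * n⁻¹ = e z' := by
  classical
  have : Finite L := Finite.of_injective e h.inj
  have h' : Emb (StdG24.cjh g e) := h.cjh g
  have hK' : t * e c ∈ KK (StdG24.cjh g e) := by rw [← hg]; exact apply_mem_KK_cjh ht
  have hu1 : t * e c ≠ 1 := by rw [← hg]; exact conj_ne_one t1
  have hu2 : t * e c * (t * e c) = 1 := by rw [← hg]; exact conj_sq t2
  have hcP : ∀ p ∈ D.P, p * c = c * p := fun p hp => (I.cent_Z p (hA p)).2 hp c hc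
  have hPu : ∀ p ∈ D.P, e p * (t * e c) = t * e c * e p := by
    intro p hp
    calc e p * (t * e c) = (e p * t) * e c := by group
      _ = t * e (p * c) := by rw [← mem_KK.1 ht, map_mul]; group
      _ = t * e c * e p := by rw [hcP p hp, map_mul]; group
  have hle := P_le F h' (rk.cjh g) hK' hu1 hu2 hPu
  set e' := StdG24.cjh g e with he'
  obtain ⟨y, hy⟩ := hle c (I.Q1_le (I.Z_le hc))
  have hy1 : y ≠ 1 := by
    rintro rfl
    apply c1
    apply h.inj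
    rw [hy, map_one, map_one]
  have hy2 : y * y = 1 := by
    apply h'.inj
    rw [map_mul, ← hy, ← map_mul, I.sq_Z c hc, map_one, map_one]
  -- `|C_L(y)| ≥ |P|`
  have hcard : 61440 ≤ Nat.card (centralizer ({y} : Set L)) := by
    rw [← I.card_P]
    choose f hf using hle
    let F' : D.P → centralizer ({y} : Set L) := fun p => ⟨f p p.2, by
      rw [mem_centralizer_singleton_iff]
      apply h'.inj
      rw [map_mul, map_mul, ← hf p p.2, ← hy, ← map_mul, ← map_mul, hcP p p.2]⟩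
    apply Nat.card_le_card_of_injective F'
    intro p q hpq
    have h1 : f p p.2 = f q q.2 := congrArg Subtype.val hpq
    apply Subtype.ext
    apply h.inj
    rw [hf p p.2, hf q q.2, h1]
  obtain ⟨a, ha⟩ : ∃ a, a * y * a⁻¹ ∈ D.Z := by
    rcases F.cls y hy1 hy2 with h1 | h1
    · exact h1
    · omega
  -- `y = w c w⁻¹`
  obtain ⟨w, hw⟩ : ∃ w : L, y = w * c * w⁻¹ := by
    rcases Z_elts I hc c1 _ ha with h1 | h1 | h1 | h1
    · exact absurd h1 (conj_ne_one hy1)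
    · refine ⟨a⁻¹, ?_⟩
      rw [← h1]; group
    · refine ⟨a⁻¹ * D.h, ?_⟩
      calc y = a⁻¹ * (a * y * a⁻¹) * a := by group
        _ = a⁻¹ * D.h * c * (a⁻¹ * D.h)⁻¹ := by rw [h1]; group
    · refine ⟨a⁻¹ * (D.h * D.h), ?_⟩
      calc y = a⁻¹ * (a * y * a⁻¹) * a := by group
        _ = a⁻¹ * (D.h * D.h) * c * (a⁻¹ * (D.h * D.h))⁻¹ := by rw [h1]; group
  set n := g * e w with hn
  have hnt : n * t * n⁻¹ = t * e c := by
    have h1 := mem_KK.1 ht w
    calc n * t * n⁻¹ = g * (e w * t) * (e w)⁻¹ * g⁻¹ := by rw [hn]; group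
      _ = g * t * g⁻¹ := by rw [← h1]; group
      _ = t * e c := hg
  have hnc : n * e c * n⁻¹ = e c := by
    calc n * e c * n⁻¹ = g * e (w * c * w⁻¹) * g⁻¹ := by
          rw [hn, map_mul, map_mul, map_inv]; group
      _ = e' y := by rw [← hw]; rfl
      _ = e c := hy.symm
  -- `e(P) ≤ n e(P) n⁻¹`
  have hback : ∀ p ∈ D.P, ∃ p' ∈ D.P, n * e p' * n⁻¹ = e p := by
    intro p hp
    obtain ⟨x, hx⟩ := hle p hp
    have h1 : n * e (w⁻¹ * x * w) * n⁻¹ = e p := by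
      rw [hx, hn]
      show g * e w * e (w⁻¹ * x * w) * (g * e w)⁻¹ = g * e x * g⁻¹
      rw [map_mul, map_mul, map_inv]
      group
    refine ⟨w⁻¹ * x * w, ?_, h1⟩
    apply F.centz c hc c1
    apply h.inj
    have h2 : e p * e c = e c * e p := by rw [← map_mul, hcP p hp, map_mul]
    rw [map_mul e (w⁻¹ * x * w) c, map_mul e c (w⁻¹ * x * w)]
    have h3 : e (w⁻¹ * x * w) = n⁻¹ * e p * n := by rw [← h1]; group
    have h4 : e c = n⁻¹ * e c * n := by
      calc e c = n⁻¹ * (n * e c * n⁻¹) * n := by group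
        _ = n⁻¹ * e c * n := by rw [hnc]
    rw [h3, h4]
    calc n⁻¹ * e p * n * (n⁻¹ * e c * n) = n⁻¹ * (e p * e c) * n := by group
      _ = n⁻¹ * e c * n * (n⁻¹ * e p * n) := by rw [h2]; group
  have hforth : ∀ p ∈ D.P, ∃ p' ∈ D.P, n * e p * n⁻¹ = e p' := by
    choose f hfP hf using hback
    let F' : D.P → D.P := fun p => ⟨f p p.2, hfP p p.2⟩
    have hinj : Function.Injective F' := by
      intro p q hpq
      have h1 : f p p.2 = f q q.2 := congrArg Subtype.val hpq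
      apply Subtype.ext
      apply h.inj
      rw [← hf p p.2, ← hf q q.2, h1]
    intro p hp
    obtain ⟨q, hq⟩ := Finite.surjective_of_injective hinj ⟨p, hp⟩
    refine ⟨q, q.2, ?_⟩
    have h1 : f q q.2 = p := congrArg Subtype.val hq
    rw [← h1]
    exact hf q q.2
  refine ⟨n, hnt, hnc, hforth, hback, ?_⟩
  -- `Z = Z(P)`
  intro z hz
  obtain ⟨z', hz'P, hz'⟩ := hforth z (I.Q1_le (I.Z_le hz))
  have hcomm : ∀ p ∈ D.P, z' * p = p * z' := by
    intro p hp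
    obtain ⟨q, hq, hqp⟩ := hback p hp
    apply h.inj
    have h1 : q * z = z * q := (I.cent_Z q (hA q)).2 hq z hz
    rw [map_mul, map_mul, ← hz', ← hqp]
    calc n * e z * n⁻¹ * (n * e q * n⁻¹) = n * e (z * q) * n⁻¹ := by rw [map_mul]; group
      _ = n * e q * n⁻¹ * (n * e z * n⁻¹) := by rw [← h1, map_mul]; group
  have hz'Q : z' ∈ D.Q1 := by
    apply I.cent_Q1Z z' hz'P
    intro q hq
    have : ⁅z', q⁆ = 1 := commutatorElement_eq_one_iff_mul_comm.2 (hcomm q (I.Q1_le hq))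
    rw [this]
    exact one_mem _
  exact ⟨z', I.center_Q1 z' hz'Q (fun q hq => hcomm q (I.Q1_le hq)), hz'⟩

/-- `n` normalises `Θ` -/
theorem n_norm [Finite G] (F : RedFacts D)
    (I : Iface.Facts D) (hA : ∀ x, x ∈ D.A) (h : Emb e) {t : G} (ht : t ∈ KK e)
    (t1 : t ≠ 1) (t2 : t * t = 1) {Θ : Subgroup G} (C : Core e t Θ)
    {c : L} (hc : c ∈ D.Z) {n : G} (hnt : n * t * n⁻¹ = t * e c)
    (hback : ∀ p ∈ D.P, ∃ p' ∈ D.P, n * e p' * n⁻¹ = e p) :
    (∀ x ∈ Θ, n * x * n⁻¹ ∈ Θ) ∧ ∀ x ∈ Θ, n⁻¹ * x * n ∈ Θ := by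
  have h1 : ∀ x ∈ Θ, n * x * n⁻¹ ∈ Θ := by
    intro x hx
    have hxK := C.le x hx
    have hcomm : ∀ p ∈ D.P, n * x * n⁻¹ * e p = e p * (n * x * n⁻¹) := by
      intro p hp
      obtain ⟨q, -, hq⟩ := hback p hp
      rw [← hq]
      calc n * x * n⁻¹ * (n * e q * n⁻¹) = n * (x * e q) * n⁻¹ := by group
        _ = n * e q * n⁻¹ * (n * x * n⁻¹) := by rw [mem_KK.1 hxK]; group
    have hcT : n * x * n⁻¹ * (t * e c) = t * e c * (n * x * n⁻¹) := by
      rw [← hnt]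
      calc n * x * n⁻¹ * (n * t * n⁻¹) = n * (x * t) * n⁻¹ := by group
        _ = n * t * n⁻¹ * (n * x * n⁻¹) := by rw [C.comm x hx]; group
    have hxt : n * x * n⁻¹ * t = t * (n * x * n⁻¹) := by
      have h2 := hcomm c (I.Q1_le (I.Z_le hc))
      have h3 : t = (t * e c) * (e c)⁻¹ := by group
      have h4 : n * x * n⁻¹ * (e c)⁻¹ = (e c)⁻¹ * (n * x * n⁻¹) := by
        calc n * x * n⁻¹ * (e c)⁻¹ = (e c)⁻¹ * (e c * (n * x * n⁻¹)) * (e c)⁻¹ := by group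
          _ = (e c)⁻¹ * (n * x * n⁻¹) := by rw [← h2]; group
      rw [h3]
      calc n * x * n⁻¹ * (t * e c * (e c)⁻¹) = (n * x * n⁻¹ * (t * e c)) * (e c)⁻¹ := by group
        _ = t * e c * (n * x * n⁻¹ * (e c)⁻¹) := by rw [hcT]; group
        _ = t * e c * (e c)⁻¹ * (n * x * n⁻¹) := by rw [h4]; group
    have hM : n * x * n⁻¹ ∈ MM e := h.nrm ht t1 t2 hxt
    obtain ⟨k, hk, z, hz, hkz⟩ := cent_Q1 F I hA h hM (fun q hq => hcomm q (I.Q1_le hq))
    -- odd order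
    have hodd : Odd (orderOf (n * x * n⁻¹)) := by
      have h3 : orderOf (n * x * n⁻¹) = orderOf x := by
        rw [← MulAut.conj_apply, MulEquiv.orderOf_eq]
      rw [h3]
      have h4 := orderOf_dvd_natCard (⟨x, hx⟩ : Θ)
      rw [Subgroup.orderOf_mk] at h4
      exact Odd.of_dvd_nat C.odd h4
    have hz1 : z = 1 := by
      have h4 : (k * e z) ^ orderOf (n * x * n⁻¹) = 1 := by rw [← hkz, pow_orderOf_eq_one]
      obtain ⟨-, h5⟩ := split_pow h hk h4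
      obtain ⟨m, hm⟩ := hodd
      rw [hm, pow_succ, pow_mul, pow_two, I.sq_Z z hz, one_pow, one_mul] at h5
      exact h5
    have hmem : n * x * n⁻¹ ∈ KK e := by rw [hkz, hz1, map_one, mul_one]; exact hk
    exact C.mem _ hmem hxt hodd
  refine ⟨h1, ?_⟩
  let f : Θ → Θ := fun x => ⟨n * x * n⁻¹, h1 x x.2⟩
  have hf : Function.Injective f := by
    intro x y hxy
    have h2 : n * (x : G) * n⁻¹ = n * y * n⁻¹ := congrArg Subtype.val hxy
    exact Subtype.ext (mul_left_cancel (mul_right_cancel h2))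
  intro x hx
  obtain ⟨y, hy⟩ := Finite.surjective_of_injective hf ⟨x, hx⟩
  have h2 : n * (y : G) * n⁻¹ = x := congrArg Subtype.val hy
  rw [← h2]
  have h3 : n⁻¹ * (n * (y : G) * n⁻¹) * n = y := by group
  rw [h3]
  exact y.2

/-- the element `k` -/
theorem exists_k [Finite L] (I : Iface.Facts D) (h : Emb e) {t : G} (ht : t ∈ KK e)
    {Θ : Subgroup G} (C : Core e t Θ)
    {c : L} (hc : c ∈ D.Z) (c1 : c ≠ 1) {n : G} (hnt : n * t * n⁻¹ = t * e c)
    (hnc : n * e c * n⁻¹ = e c) (hnZ : ∀ z ∈ D.Z, ∃ z' ∈ D.Z, n * e z * n⁻¹ = e z')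
    (hnΘ : (∀ x ∈ Θ, n * x * n⁻¹ ∈ Θ) ∧ ∀ x ∈ Θ, n⁻¹ * x * n ∈ Θ) :
    ∃ k : G, (∀ x ∈ Θ, k * x = x * k) ∧ (∀ z ∈ D.Z, k * e z = e z * k) ∧
      ∃ z ∈ D.Z, z ≠ 1 ∧ k * t * k⁻¹ = t * e z := by
  have helts := Z_elts I hc c1
  have hprod := prod_elts I hc c1
  obtain ⟨x, hx⟩ : ∃ x, x = D.h * c * D.h⁻¹ := ⟨_, rfl⟩
  obtain ⟨y, hy⟩ : ∃ y, y = D.h * x * D.h⁻¹ := ⟨_, rfl⟩
  rw [← hx, ← hy] at hprod
  rw [← hx, ← hy] at helts
  have hxZ : x ∈ D.Z := by rw [hx]; exact I.h_Z c hc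
  have hyZ : y ∈ D.Z := by rw [hy]; exact I.h_Z x hxZ
  have hx1 : x ≠ 1 := by rw [hx]; exact conj_ne_one c1
  have hy1 : y ≠ 1 := by rw [hy]; exact conj_ne_one hx1
  have hyc : D.h * y * D.h⁻¹ = c := by
    have h3 := I.h_pow
    calc D.h * y * D.h⁻¹ = D.h ^ 3 * c * (D.h ^ 3)⁻¹ := by
          rw [hy, hx, pow_succ, pow_two]; group
      _ = c := by rw [h3]; group
  have hcc : c * c = 1 := I.sq_Z c hc
  have hcy : c * y = x := by
    rw [← hprod, ← mul_assoc, hcc, one_mul]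
  have hth : e D.h * t = t * e D.h := (mem_KK.1 ht D.h).symm
  -- conjugation by `n⁻¹`
  have hnc' : n⁻¹ * e c * n = e c := by
    calc n⁻¹ * e c * n = n⁻¹ * (n * e c * n⁻¹) * n := by rw [hnc]
      _ = e c := by group
  have hnt' : n⁻¹ * t * n = t * e c := by
    have h1 : n⁻¹ * (t * e c) * n = t := by rw [← hnt]; group
    have h2 : n⁻¹ * (t * e c) * n = (n⁻¹ * t * n) * (n⁻¹ * e c * n) := by group
    rw [h2, hnc'] at h1
    have h3 : e c * e c = 1 := by rw [← map_mul, hcc, map_one]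
    calc n⁻¹ * t * n = (n⁻¹ * t * n) * e c * (e c)⁻¹ := by group
      _ = t * e c := by rw [h1, inv_eq_of_mul_eq_one_right h3]
  have hΘh : ∀ w ∈ Θ, e D.h * w = w * e D.h := fun w hw => (mem_KK.1 (C.le w hw) D.h).symm
  obtain ⟨x', hx'Z, hx'⟩ := hnZ x hxZ
  have hx'1 : x' ≠ 1 := by
    rintro rfl
    apply hx1
    apply h.inj
    rw [map_one] at hx' ⊢
    calc e x = n⁻¹ * (n * e x * n⁻¹) * n := by group
      _ = 1 := by rw [hx']; group
  have hx'c : x' ≠ c := by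
    rintro rfl
    have h1 : n * e x * n⁻¹ = n * e x' * n⁻¹ := by rw [hx', hnc]
    have h2 : x = x' := h.inj (mul_left_cancel (mul_right_cancel h1))
    exact c1 (I.h_Z_fpf x' hc (hx.symm.trans h2))
  have hny : n * e y * n⁻¹ = e (c * x') := by
    rw [← hprod, map_mul, map_mul, ← hx']
    calc n * (e c * e x) * n⁻¹ = (n * e c * n⁻¹) * (n * e x * n⁻¹) := by group
      _ = e c * (n * e x * n⁻¹) := by rw [hnc]
  have hall : ∀ k : G, k * e c = e c * k → k * e x = e x * k → ∀ z ∈ D.Z, k * e z = e z * k := by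
    intro k h1 h2 z hz
    rcases helts z hz with rfl | rfl | rfl | rfl
    · rw [map_one, mul_one, one_mul]
    · exact h1
    · exact h2
    · rw [← hprod, map_mul]
      calc k * (e c * e x) = (k * e c) * e x := by group
        _ = e c * (k * e x) := by rw [h1]; group
        _ = e c * e x * k := by rw [h2]; group
  have hconj : ∀ {a b : G}, a * b * a⁻¹ = b → a * b = b * a := fun h => mul_inv_eq_iff_eq_mul.1 h
  have ehc : e D.h * e c * (e D.h)⁻¹ = e x := by rw [hx, map_mul, map_mul, map_inv]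
  have ehx : e D.h * e x * (e D.h)⁻¹ = e y := by rw [hy, map_mul, map_mul, map_inv]
  have ehy : e D.h * e y * (e D.h)⁻¹ = e c := by rw [← hyc, map_mul, map_mul, map_inv]
  have eht : e D.h * t * (e D.h)⁻¹ = t := by rw [hth, mul_inv_cancel_right]
  have eh'c : (e D.h)⁻¹ * e c * e D.h = e y := by rw [← ehy]; group
  have eh'x : (e D.h)⁻¹ * e x * e D.h = e c := by rw [← ehc]; group
  have eh't : (e D.h)⁻¹ * t * e D.h = t := by
    calc (e D.h)⁻¹ * t * e D.h = (e D.h)⁻¹ * (e D.h * t * (e D.h)⁻¹) * e D.h := by rw [eht]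
      _ = t := by group
  rcases helts x' hx'Z with h1 | h1 | h1 | h1
  · exact absurd h1 hx'1
  · exact absurd h1 hx'c
  · -- `n` centralises `Z`
    rw [h1] at hx' hny
    rw [hprod] at hny
    have hn'x : n⁻¹ * e x * n = e x := by
      calc n⁻¹ * e x * n = n⁻¹ * (n * e x * n⁻¹) * n := by rw [hx']
        _ = e x := by group
    have hn'y : n⁻¹ * e y * n = e y := by
      calc n⁻¹ * e y * n = n⁻¹ * (n * e y * n⁻¹) * n := by rw [hny]
        _ = e y := by group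
    refine ⟨n * e D.h * n⁻¹ * (e D.h)⁻¹, ?_, ?_, y, hyZ, hy1, ?_⟩
    · intro w hw
      have h2 := hΘh _ (hnΘ.2 w hw)
      have h3 : n * e D.h * n⁻¹ * w = w * (n * e D.h * n⁻¹) := by
        calc n * e D.h * n⁻¹ * w = n * (e D.h * (n⁻¹ * w * n)) * n⁻¹ := by group
          _ = w * (n * e D.h * n⁻¹) := by rw [h2]; group
      have h4 : (e D.h)⁻¹ * w = w * (e D.h)⁻¹ := by
        calc (e D.h)⁻¹ * w = (e D.h)⁻¹ * (w * e D.h) * (e D.h)⁻¹ := by group
          _ = w * (e D.h)⁻¹ := by rw [← hΘh w hw]; group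
      calc n * e D.h * n⁻¹ * (e D.h)⁻¹ * w = n * e D.h * n⁻¹ * ((e D.h)⁻¹ * w) := by group
        _ = (n * e D.h * n⁻¹ * w) * (e D.h)⁻¹ := by rw [h4]; group
        _ = w * (n * e D.h * n⁻¹ * (e D.h)⁻¹) := by rw [h3]; group
    · apply hall
      · apply hconj
        calc n * e D.h * n⁻¹ * (e D.h)⁻¹ * e c * (n * e D.h * n⁻¹ * (e D.h)⁻¹)⁻¹
            = n * (e D.h * (n⁻¹ * ((e D.h)⁻¹ * e c * e D.h) * n) * (e D.h)⁻¹) * n⁻¹ := by group
          _ = e c := by rw [eh'c, hn'y, ehy, hnc]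
      · apply hconj
        calc n * e D.h * n⁻¹ * (e D.h)⁻¹ * e x * (n * e D.h * n⁻¹ * (e D.h)⁻¹)⁻¹
            = n * (e D.h * (n⁻¹ * ((e D.h)⁻¹ * e x * e D.h) * n) * (e D.h)⁻¹) * n⁻¹ := by group
          _ = e x := by rw [eh'x, hnc', ehc, hx']
    · calc n * e D.h * n⁻¹ * (e D.h)⁻¹ * t * (n * e D.h * n⁻¹ * (e D.h)⁻¹)⁻¹
          = n * (e D.h * (n⁻¹ * ((e D.h)⁻¹ * t * e D.h) * n) * (e D.h)⁻¹) * n⁻¹ := by group
        _ = n * (e D.h * (t * e c) * (e D.h)⁻¹) * n⁻¹ := by rw [eh't, hnt']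
        _ = n * ((e D.h * t * (e D.h)⁻¹) * (e D.h * e c * (e D.h)⁻¹)) * n⁻¹ := by group
        _ = (n * t * n⁻¹) * (n * e x * n⁻¹) := by rw [eht, ehc]; group
        _ = t * e y := by rw [hnt, hx', mul_assoc, ← map_mul, hprod]
  · -- `n` swaps `x` and `y`
    rw [h1] at hx' hny
    rw [hcy] at hny
    have hn'x : n⁻¹ * e x * n = e y := by
      calc n⁻¹ * e x * n = n⁻¹ * (n * e y * n⁻¹) * n := by rw [hny]
        _ = e y := by group
    have hn'y : n⁻¹ * e y * n = e x := by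
      calc n⁻¹ * e y * n = n⁻¹ * (n * e x * n⁻¹) * n := by rw [hx']
        _ = e x := by group
    refine ⟨n⁻¹ * e D.h * n * e D.h, ?_, ?_, x, hxZ, hx1, ?_⟩
    · intro w hw
      have h2 := hΘh _ (hnΘ.1 w hw)
      have h3 : n⁻¹ * e D.h * n * w = w * (n⁻¹ * e D.h * n) := by
        calc n⁻¹ * e D.h * n * w = n⁻¹ * (e D.h * (n * w * n⁻¹)) * n := by group
          _ = w * (n⁻¹ * e D.h * n) := by rw [h2]; group
      calc n⁻¹ * e D.h * n * e D.h * w = n⁻¹ * e D.h * n * (e D.h * w) := by group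
        _ = (n⁻¹ * e D.h * n * w) * e D.h := by rw [hΘh w hw]; group
        _ = w * (n⁻¹ * e D.h * n * e D.h) := by rw [h3]; group
    · apply hall
      · apply hconj
        calc n⁻¹ * e D.h * n * e D.h * e c * (n⁻¹ * e D.h * n * e D.h)⁻¹
            = n⁻¹ * (e D.h * (n * (e D.h * e c * (e D.h)⁻¹) * n⁻¹) * (e D.h)⁻¹) * n := by group
          _ = e c := by rw [ehc, hx', ehy, hnc']
      · apply hconj
        calc n⁻¹ * e D.h * n * e D.h * e x * (n⁻¹ * e D.h * n * e D.h)⁻¹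
            = n⁻¹ * (e D.h * (n * (e D.h * e x * (e D.h)⁻¹) * n⁻¹) * (e D.h)⁻¹) * n := by group
          _ = e x := by rw [ehx, hny, ehx, hn'y]
    · calc n⁻¹ * e D.h * n * e D.h * t * (n⁻¹ * e D.h * n * e D.h)⁻¹
          = n⁻¹ * (e D.h * (n * (e D.h * t * (e D.h)⁻¹) * n⁻¹) * (e D.h)⁻¹) * n := by group
        _ = n⁻¹ * (e D.h * (t * e c) * (e D.h)⁻¹) * n := by rw [eht, hnt]
        _ = n⁻¹ * ((e D.h * t * (e D.h)⁻¹) * (e D.h * e c * (e D.h)⁻¹)) * n := by group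
        _ = (n⁻¹ * t * n) * (n⁻¹ * e x * n) := by rw [eht, ehc]; group
        _ = t * e x := by rw [hnt', hn'x, mul_assoc, ← map_mul, hcy]

/-- **The reduction.** -/
theorem reduction [Finite G] [IsSimpleGroup G] (hG : ¬ IsMulCommutative G) (F : RedFacts D)
    (I : Iface.Facts D) (hA : ∀ x, x ∈ D.A) (rk : RankOne (KK e)) (h : Emb e) :
    ∃ (t : G) (Θ : Subgroup G), t ∈ KK e ∧ t ≠ 1 ∧ t * t = 1 ∧ Core e t Θ ∧
      (∀ s ∈ KK e, s ≠ 1 → s * s = 1 → ∀ r ∈ KK e, r * r ≠ s) ∧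
      ∃ k : G, (∀ x ∈ Θ, k * x = x * k) ∧ (∀ z ∈ D.Z, k * e z = e z * k) ∧
        ∃ z ∈ D.Z, z ≠ 1 ∧ k * t * k⁻¹ = t * e z := by
  have : Finite L := Finite.of_injective e h.inj
  obtain ⟨t, ht, t1, t2⟩ := h.even
  have hsq : ∀ s ∈ KK e, s ≠ 1 → s * s = 1 → ∀ r ∈ KK e, r * r ≠ s :=
    fun s hs s1 s2 r hr hrs => no_square hG F h rk hs s1 s2 hr hrs
  obtain ⟨Θ, C⟩ := exists_core rk h ht t1 t2 hsq
  have hQ2 : IsPGroup 2 D.Q1 := IsPGroup.of_card (n := 10) (by rw [I.card_Q1]; norm_num)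
  obtain ⟨g, c, hc, c1, hg⟩ := exists_fusion hG F I hA rk h ht t1 t2 hsq hQ2
  obtain ⟨n, hnt, hnc, -, hback, hnZ⟩ := exists_n F I hA rk h ht t1 t2 hc c1 hg
  have hnΘ := n_norm F I hA h ht t1 t2 C hc hnt hback
  exact ⟨t, Θ, ht, t1, t2, C, hsq, exists_k I h ht C hc c1 hnt hnc hnZ hnΘ⟩

end Cfsg.Agent.GTwoFour.Red
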