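import Mathlib
import Cfsg.Agent.GTwoFour.RedMain
import Cfsg.Agent.GTwoFour.FactsMap

/-!
# The centralizer of `t` in `G`: the fields of `EndG.Hyp` coming from the reduction
-/

set_option autoImplicit false

namespace Cfsg.Agent.GTwoFour.Red

open Subgroup Cfsg.Agent.StdG24

/-- The fields of `EndG.Hyp` on the centralizer of `t` (`D` = core of `C_G(t)`). -/
structure TCent {G : Type*} [Group G] (A P Z D : Subgroup G) (t : G) : Prop where
  t_ne : t ≠ 1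
  t_sq : t * t = 1
  t_notMem : t ∉ A
  comm_A : ∀ a ∈ A, a * t = t * a
  D_A : ∀ d ∈ D, ∀ a ∈ A, d * a = a * d
  D_t : ∀ d ∈ D, d * t = t * d
  D_odd : Odd (Nat.card D)
  /-- `C_G(t)` normalises `D` -/
  D_norm : ∀ c, c * t = t * c → ∀ d ∈ D, c * d * c⁻¹ ∈ D
  A_norm : ∀ c, c * t = t * c → ∀ a ∈ A, c * a * c⁻¹ ∈ A
  cent : ∀ g, g * t = t * g → (∀ z ∈ Z, g * z = z * g) →
    ∃ p ∈ P, ∃ d ∈ D, g = p * d ∨ g = t * (p * d)
  card_C : ∀ X : Subgroup G, IsPGroup 2 X → (∀ x ∈ X, x * t = t * x) → Nat.card X < 2 ^ 16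
  /-- `t` is fused to `t z` in the centralizer of `D` and of `Z` -/
  fus : ∃ k : G, (∀ d ∈ D, k * d = d * k) ∧ (∀ z ∈ Z, k * z = z * k) ∧
    ∃ z ∈ Z, z ≠ 1 ∧ k * t * k⁻¹ = t * z

variable {L : Type*} [Group L] {G : Type*} [Group G] {D : Iface.Data L} {e : L →* G}

/-- elements of `K` commuting with `t` -/
theorem mem_of_KK {t : G} {Θ : Subgroup G} (t2 : t * t = 1) (C : Core e t Θ) {k : G}
    (hk : k ∈ KK e) (hkt : k * t = t * k) : ∃ d ∈ Θ, k = d ∨ k = t * d := by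
  rcases C.dec k hk hkt with h1 | h1
  · exact ⟨k, h1, Or.inl rfl⟩
  · refine ⟨t * k, h1, Or.inr ?_⟩
    rw [← mul_assoc, t2, one_mul]

theorem card_two_le {X Y : Subgroup G} [Finite G] (hXY : Y ≤ X) (p : G → Prop)
    (h1 : ∀ x ∈ X, ∀ y ∈ X, p x → p y → x⁻¹ * y ∈ Y)
    (h2 : ∀ x ∈ X, ∀ y ∈ X, ¬ p x → ¬ p y → x⁻¹ * y ∈ Y) : Nat.card X ≤ Nat.card Y * 2 := by
  classical
  have e1 : Nat.card (Y.subgroupOf X) = Nat.card Y := Nat.card_congr (subgroupOfEquivOfLe hXY).toEquiv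
  have e2 := Subgroup.card_mul_index (Y.subgroupOf X)
  rw [e1] at e2
  rw [← e2]
  apply Nat.mul_le_mul_left
  rw [Subgroup.index]
  let f : X ⧸ Y.subgroupOf X → Bool := fun q => decide (p (q.out : X))
  have hf : Function.Injective f := by
    intro a b hab
    have h3 : ((a.out : X) : G)⁻¹ * b.out ∈ Y := by
      have h4 : p (a.out : X) ↔ p (b.out : X) := decide_eq_decide.1 hab
      by_cases hp : p (a.out : X)
      · exact h1 _ a.out.2 _ b.out.2 hp (h4.1 hp)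
      · exact h2 _ a.out.2 _ b.out.2 hp (fun h => hp (h4.2 h))
    have h4 : (a.out : X)⁻¹ * b.out ∈ Y.subgroupOf X := by
      rw [mem_subgroupOf]; simpa using h3
    rw [← QuotientGroup.eq] at h4
    rw [QuotientGroup.out_eq', QuotientGroup.out_eq'] at h4
    exact h4
  have := Nat.card_le_card_of_injective f hf
  simpa using this

theorem KA_inv {m : G} (hm : KA e m) : KA e m⁻¹ := by
  obtain ⟨k, hk, c, rfl⟩ := hm
  refine ⟨k⁻¹, inv_mem hk, c⁻¹, ?_⟩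
  have h1 := mem_KK.1 hk c
  rw [map_inv, mul_inv_rev]
  calc (e c)⁻¹ * k⁻¹ = (k * e c)⁻¹ := by group
    _ = (e c * k)⁻¹ := by rw [h1]
    _ = k⁻¹ * (e c)⁻¹ := by group

/-- the order of the 2-subgroups of `C_G(t)` -/
theorem card_lt [Finite G] (F : RedFacts D) (I : Iface.Facts D) (hA : ∀ x, x ∈ D.A)
    (rk : RankOne (KK e)) (h : Emb e) {t : G} (ht : t ∈ KK e) (t1 : t ≠ 1) (t2 : t * t = 1)
    (hsq : ∀ s ∈ KK e, s ≠ 1 → s * s = 1 → ∀ r ∈ KK e, r * r ≠ s) (X : Subgroup G) (hX : IsPGroup 2 X)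
    (hXt : ∀ x ∈ X, x * t = t * x) : Nat.card X < 2 ^ 16 := by
  have hXM : ∀ x ∈ X, x ∈ MM e := fun x hx => h.nrm ht t1 t2 (hXt x hx)
  have hpow : ∀ x ∈ X, ∃ n : ℕ, x ^ 2 ^ n = 1 := by
    intro x hx
    obtain ⟨n, hn⟩ := hX ⟨x, hx⟩
    exact ⟨n, by simpa using congrArg Subtype.val hn⟩
  let X0 : Subgroup G :=
    { carrier := {x | x ∈ X ∧ KA e x}
      one_mem' := ⟨one_mem _, KA_of_mem (one_mem _)⟩
      mul_mem' := fun ha hb => ⟨mul_mem ha.1 hb.1, ha.2.mul hb.2⟩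
      inv_mem' := fun ha => ⟨inv_mem ha.1, KA_inv ha.2⟩ }
  have hX0 : X0 ≤ X := fun x hx => hx.1
  set X1 : Subgroup G := X0 ⊓ e.range with hX1
  have hc : ∀ x ∈ X0, (∃ c : L, x = e c) ∨ ∃ c : L, x = t * e c := by
    intro x hx
    obtain ⟨n, hn⟩ := hpow x hx.1
    exact KA_two rk h ht t1 t2 hsq (hXt x hx.1) hn hx.2
  have b1 : Nat.card X ≤ Nat.card X0 * 2 := by
    refine card_two_le hX0 (fun x => KA e x) ?_ ?_
    · intro x hx y hy hpx hpy
      exact ⟨mul_mem (inv_mem hx) hy, (KA_inv hpx).mul hpy⟩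
    · intro x hx y hy hpx hpy
      refine ⟨mul_mem (inv_mem hx) hy, ?_⟩
      rcases KA_or F h (inv_mem (hXM x hx)) (hXM y hy) with h1 | h1 | h1
      · exfalso
        apply hpx
        have := KA_inv h1
        rwa [inv_inv] at this
      · exact absurd h1 hpy
      · exact h1
  have b2 : Nat.card X0 ≤ Nat.card X1 * 2 := by
    refine card_two_le inf_le_left (fun x => x ∈ e.range) ?_ ?_
    · intro x hx y hy hpx hpy
      exact mem_inf.2 ⟨mul_mem (inv_mem hx) hy, mul_mem (inv_mem hpx) hpy⟩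
    · intro x hx y hy hpx hpy
      refine mem_inf.2 ⟨mul_mem (inv_mem hx) hy, ?_⟩
      rcases hc x hx with ⟨c, rfl⟩ | ⟨c, rfl⟩
      · exact absurd ⟨c, rfl⟩ hpx
      rcases hc y hy with ⟨d, rfl⟩ | ⟨d, rfl⟩
      · exact absurd ⟨d, rfl⟩ hpy
      refine ⟨c⁻¹ * d, ?_⟩
      rw [map_mul, map_inv]; group
  -- `|X1| ≤ 2 ^ 12`
  have hX1p : IsPGroup 2 X1 := (hX.to_le hX0).to_le inf_le_left
  obtain ⟨n, hn⟩ := (IsPGroup.iff_card.1 hX1p)
  have hdvd : Nat.card X1 ∣ 251596800 := by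
    have h1 : Nat.card e.range = 251596800 := by
      rw [← I.card_A]
      have h2 : D.A = ⊤ := by
        rw [eq_top_iff]
        intro x _
        exact hA x
      rw [h2, Subgroup.card_top]
      exact Nat.card_congr (MonoidHom.ofInjective h.inj).symm.toEquiv
    rw [← h1]
    exact Subgroup.card_dvd_of_le inf_le_right
  rw [hn] at hdvd
  have hn12 : n ≤ 12 := by
    by_contra hcon
    have h1 : 2 ^ 13 ∣ 251596800 := (pow_dvd_pow 2 (by omega : 13 ≤ n)).trans hdvd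
    norm_num at h1
  have h3 : Nat.card X1 ≤ 2 ^ 12 := by
    rw [hn]
    exact Nat.pow_le_pow_right (by norm_num) hn12
  have h4 : (2 : ℕ) ^ 12 * 2 * 2 < 2 ^ 16 := by norm_num
  calc Nat.card X ≤ Nat.card X0 * 2 := b1
    _ ≤ Nat.card X1 * 2 * 2 := Nat.mul_le_mul_right 2 b2
    _ ≤ 2 ^ 12 * 2 * 2 := Nat.mul_le_mul_right 2 (Nat.mul_le_mul_right 2 h3)
    _ < 2 ^ 16 := h4

/-- `C_G(⟨t⟩ Z) = ⟨t⟩ × P × D` -/
theorem cent_tZ (F : RedFacts D) (I : Iface.Facts D) (hA : ∀ x, x ∈ D.A) (h : Emb e) {t : G}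
    (ht : t ∈ KK e) (t1 : t ≠ 1) (t2 : t * t = 1) {Θ : Subgroup G} (C : Core e t Θ) {g : G}
    (hgt : g * t = t * g) (hgZ : ∀ z ∈ D.Z, g * e z = e z * g) :
    ∃ p ∈ D.P, ∃ d ∈ Θ, g = e p * d ∨ g = t * (e p * d) := by
  have hgM : g ∈ MM e := h.nrm ht t1 t2 hgt
  have h1 : Inn (autHom h ⟨g, hgM⟩) := by
    apply F.autZ
    intro z hz
    apply h.inj
    rw [autHom_apply]
    show g * e z * g⁻¹ = e z
    rw [hgZ z hz, mul_inv_cancel_right]
  obtain ⟨k, hk, c, hgc⟩ := (inn_iff h _).1 h1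
  have hgc' : g = k * e c := hgc
  have hcP : c ∈ D.P := by
    apply (I.cent_Z c (hA c)).1
    intro z hz
    apply h.inj
    have h2 := hgZ z hz
    rw [hgc'] at h2
    rw [map_mul, map_mul]
    apply mul_left_cancel (a := k)
    calc k * (e c * e z) = k * e c * e z := by group
      _ = e z * (k * e c) := h2
      _ = (e z * k) * e c := by group
      _ = k * (e z * e c) := by rw [← mem_KK.1 hk]; group
  have hkt : k * t = t * k := by
    have := (split_comm h hk (KK_le_MM e ht) (c := c) (m := t) (by rw [← hgc']; exact hgt.symm)).1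
    exact this.symm
  obtain ⟨d, hd, hkd⟩ := mem_of_KK t2 C hk hkt
  refine ⟨c, hcP, d, hd, ?_⟩
  have h3 := mem_KK.1 (C.le d hd) c
  rcases hkd with rfl | rfl
  · left; rw [hgc', h3]
  · right; rw [hgc', mul_assoc, h3]

/-- **The reduction, in the form used by `EndG` and `Lift`.** -/
theorem exists_tcent [Finite G] [IsSimpleGroup G] (hG : ¬ IsMulCommutative G) (F : RedFacts D)
    (I : Iface.Facts D) (hA : ∀ x, x ∈ D.A) (rk : RankOne (KK e)) (h : Emb e) :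
    ∃ (t : G) (Θ : Subgroup G),
      TCent (D.map e).A (D.map e).P (D.map e).Z Θ t ∧ t ∈ KK e ∧ Core e t Θ := by
  obtain ⟨t, Θ, ht, t1, t2, C, hsq, k, hkΘ, hkZ, z, hz, z1, hkt⟩ := reduction hG F I hA rk h
  refine ⟨t, Θ, ?_, ht, C⟩
  refine
    { t_ne := t1
      t_sq := t2
      t_notMem := ?_
      comm_A := ?_
      D_A := ?_
      D_t := C.comm
      D_odd := C.odd
      D_norm := C.norm
      A_norm := ?_
      cent := ?_
      card_C := card_lt F I hA rk h ht t1 t2 hsq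
      fus := ⟨k, hkΘ, ?_, e z, ⟨z, hz, rfl⟩, ?_, hkt⟩ }
  · rintro ⟨x, -, rfl⟩
    have := h.disj x ht
    rw [this, map_one] at t1
    exact t1 rfl
  · rintro _ ⟨x, -, rfl⟩
    exact (mem_KK.1 ht x).symm
  · rintro d hd _ ⟨x, -, rfl⟩
    exact mem_KK.1 (C.le d hd) x
  · rintro c hc _ ⟨x, -, rfl⟩
    obtain ⟨y, hy⟩ := (mem_MM.1 (h.nrm ht t1 t2 hc)).1 x
    exact ⟨y, hA y, hy.symm⟩
  · intro g hgt hgZ
    obtain ⟨p, hp, d, hd, hgp⟩ := cent_tZ F I hA h ht t1 t2 C hgt (fun z hz => hgZ _ ⟨z, hz, rfl⟩)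
    exact ⟨e p, ⟨p, hp, rfl⟩, d, hd, hgp⟩
  · rintro _ ⟨w, hw, rfl⟩
    exact hkZ w hw
  · intro hh
    apply z1
    apply h.inj
    rw [hh, map_one]

end Cfsg.Agent.GTwoFour.Red
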