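import Cfsg.Agent.GTwoFour.Lift
import Cfsg.Agent.GTwoFour.RedHyp
import Cfsg.Agent.GTwoFour.EndG
import Cfsg.Agent.GTwoFour.EndX
import Cfsg.Agent.GTwoFour.ChiMap
import Cfsg.Agent.GTwoFour.GrowV

set_option autoImplicit false

/-!
# S1751, rank one: from the reduction to the contradiction

`EndG.Hyp` in `G` from the reduction, the facts on `L`, and the growth in `X = C_G(Θ)/Z(Θ)`.
-/

namespace Cfsg.Agent.GTwoFour.HypOf

open Subgroup Cfsg.Agent.GTwoFour.Red Cfsg.Agent.GTwoFour.Lift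
open Cfsg.Agent.StdG24 (KK MM mem_KK mem_MM Emb)
open scoped commutatorElement

/-- Four more facts on `L = G₂(4)`, `U = Q1 Xa`. -/
structure EndFacts {L : Type*} [Group L] (D : Iface.Data L) : Prop where
  full_Q1 : ∀ b ∈ D.Q1, b ∉ D.Z → ∀ z ∈ D.Z, ∃ q ∈ D.Q1, ⁅b, q⁆ = z
  cent_U : ∀ u ∈ D.Q1 ⊔ D.Xa, u ∉ D.Q1 → ∀ C : Subgroup L, C ≤ D.Q1 → (∀ q ∈ C, ⁅u, q⁆ ∈ D.Z) →
    Nat.card C < 256
  card_U : Nat.card (D.Q1 ⊔ D.Xa : Subgroup L) = 2 ^ 12
  odd_A : Odd ((D.Q1 ⊔ D.Xa).relIndex D.A)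

section map

variable {L : Type*} [Group L] {G : Type*} [Group G] {φ : L →* G}

theorem mem_map_iff (hφ : Function.Injective φ) {K : Subgroup L} {x : L} : φ x ∈ K.map φ ↔ x ∈ K := by
  constructor
  · rintro ⟨y, hy, e⟩
    rwa [← hφ e]
  · exact fun hx => mem_map_of_mem φ hx

theorem card_map (hφ : Function.Injective φ) (K : Subgroup L) : Nat.card (K.map φ) = Nat.card K :=
  Nat.card_congr (K.equivMapOfInjective φ hφ).toEquiv.symm

/-- transport along an injective homomorphism -/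
theorem EndFacts.map {D : Iface.Data L} (E : EndFacts D) (hφ : Function.Injective φ) :
    EndFacts (D.map φ) where
  full_Q1 := by
    rintro _ ⟨b, hb, rfl⟩ hbZ _ ⟨z, hz, rfl⟩
    obtain ⟨q, hq, e⟩ := E.full_Q1 b hb (fun h => hbZ (mem_map_of_mem φ h)) z hz
    exact ⟨φ q, mem_map_of_mem φ hq, by rw [← map_commutatorElement, e]⟩
  cent_U := by
    intro u hu huQ C hC hc
    have hu' : u ∈ (D.Q1 ⊔ D.Xa).map φ := by rw [Subgroup.map_sup]; exact hu
    obtain ⟨v, hv, rfl⟩ := hu'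
    have h1 : C = (C.comap φ).map φ := by
      rw [map_comap_eq, inf_eq_right.2]
      intro x hx
      obtain ⟨y, _, rfl⟩ := hC hx
      exact ⟨y, rfl⟩
    rw [h1, card_map hφ]
    refine E.cent_U v hv (fun h => huQ (mem_map_of_mem φ h)) (C.comap φ) ?_ ?_
    · intro x hx
      exact (mem_map_iff hφ).1 (hC hx)
    · intro x hx
      have := hc (φ x) hx
      rw [← map_commutatorElement] at this
      exact (mem_map_iff hφ).1 this
  card_U := by
    have h1 : (D.map φ).Q1 ⊔ (D.map φ).Xa = (D.Q1 ⊔ D.Xa).map φ := (Subgroup.map_sup _ _ _).symm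
    rw [h1, card_map hφ, E.card_U]
  odd_A := by
    have h1 : (D.map φ).Q1 ⊔ (D.map φ).Xa = (D.Q1 ⊔ D.Xa).map φ := (Subgroup.map_sup _ _ _).symm
    rw [h1]
    have h2 : (D.map φ).A = D.A.map φ := rfl
    rw [h2, relIndex_map_map_of_injective _ _ hφ]
    exact E.odd_A

end map

/-- transport of `HFacts` -/
theorem hfacts_map {L : Type*} [Group L] {G : Type*} [Group G] {φ : L →* G} {D : Iface.Data L}
    (E : ChiData.HFacts D) : ChiData.HFacts (D.map φ) where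
  h_ns := by
    show φ D.h * φ D.ns = φ D.ns * φ D.h
    rw [← map_mul, E.h_ns, map_mul]
  nl_h := by
    show φ D.nl * φ D.h * (φ D.nl)⁻¹ * φ D.h ∈ D.P.map φ
    rw [← map_inv, ← map_mul, ← map_mul, ← map_mul]
    exact mem_map_of_mem φ E.nl_h

variable {G : Type*} [Group G]

/-- **Assembly of `EndG.Hyp`** in `G`. -/
theorem hyp_of {D : Iface.Data G} {t : G} {Θ J R : Subgroup G} (F : Iface.Facts D) (E : EndFacts D)
    (T : TCent D.A D.P D.Z Θ t) (X : EndX.RT D.Q1 D.Z J R t) (hRΘ : ∀ r ∈ R, ∀ d ∈ Θ, r * d = d * r) :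
    EndG.Hyp D.A D.P D.Q1 (D.Q1 ⊔ D.Xa) D.Z Θ J R t where
  t_sq := T.t_sq
  P_le := F.P_le
  U_le := sup_le F.Q1_le (fun x hx => (F.Q2_le (F.Xa_le hx)).1)
  Q1_le := le_sup_left
  Z_le := F.Z_le
  comm_A := T.comm_A
  cent_Z := fun a ha h => (F.cent_Z a ha).1 h
  P_Z := fun p hp z hz => (F.cent_Z p (F.P_le hp)).2 hp z hz
  norm_Q1 := F.norm_Q1
  core_P := F.core_P
  comm_Q1 := F.comm_Q1
  cent_Q1Z := F.cent_Q1Z
  center_Q1 := F.center_Q1
  full_Q1 := E.full_Q1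
  cent_U := E.cent_U
  gen := by
    intro K hK
    have htc : ∀ a ∈ D.A, a * t = t * a := T.comm_A
    have hZt : ∀ z ∈ D.Z, IsConj t (t * z) := by
      intro z hz
      obtain ⟨w, hw, e⟩ := X.J_onto z hz
      rw [isConj_iff]
      refine ⟨w, ?_⟩
      have h1 := htc z (F.P_le (F.Q1_le (F.Z_le hz)))
      calc w * t * w⁻¹ = ⁅w, t⁆ * t := by rw [commutatorElement_def]; group
        _ = t * z := by rw [e, h1]
    have hconj : ∀ a ∈ D.A, ∀ x, IsConj t (t * x) → IsConj t (t * (a * x * a⁻¹)) := by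
      intro a ha x hx
      refine hx.trans (isConj_iff.2 ⟨a, ?_⟩)
      calc a * (t * x) * a⁻¹ = a * t * x * a⁻¹ := by group
        _ = t * (a * x * a⁻¹) := by rw [htc a ha]; group
    apply F.gen_Q1
    · intro z hz
      exact hK z (F.Z_le hz) (hZt z hz)
    · intro p hp e he
      apply hK
      · exact F.norm_Q1 p hp e (F.Xe_le he)
      · apply hconj p (F.P_le hp)
        have h1 := hconj D.nl⁻¹ (inv_mem F.nl_mem) _ (hZt _ (F.nl_Xe e he))
        have h2 : D.nl⁻¹ * (D.nl * e * D.nl⁻¹) * D.nl⁻¹⁻¹ = e := by group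
        rwa [h2] at h1
  card_Z := F.card_Z
  card_Q1 := by rw [F.card_Q1]; norm_num
  card_U := E.card_U
  odd_A := E.odd_A
  D_A := T.D_A
  D_t := T.D_t
  D_odd := T.D_odd
  A_norm := T.A_norm
  cent := T.cent
  card_C := T.card_C
  J_le := X.J_le
  Z_le_J := X.Z_le_J
  Q1_le_R := X.Q1_le_R
  card_R := X.card_R
  card_J := X.card_J
  J_sq := X.J_sq
  J_comm := X.J_comm
  J_t := X.J_t
  J_onto := X.J_onto
  R_D := hRΘ
  R_comm := X.R_comm
  R_sq := X.R_sq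
  R_t := X.R_t
  R_onto := X.R_onto
  R_inter := X.R_inter
  R_center := X.R_center

variable {L : Type*} [Group L] {D : Iface.Data L} {e : L →* G}

/-- **The rank one case of S1751.** -/
theorem false_of_red [Finite G] [IsSimpleGroup G] (hG : ¬ IsMulCommutative G) (F : Iface.Facts D)
    (RF : RedFacts D) (E : EndFacts D) (HF : ChiData.HFacts D) (hA : ∀ x, x ∈ D.A)
    (rk : RankOne (KK e)) (h : Emb e) : False := by
  classical
  have hfact : Fact (Nat.Prime 2) := ⟨Nat.prime_two⟩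
  obtain ⟨t, Θ, T, htK, C⟩ := exists_tcent hG RF F hA rk h
  obtain ⟨k, hk1, hk2, z, ⟨z0, hz0, rfl⟩, hz1, hkt⟩ := T.fus
  have O : RedOut D e t Θ :=
    { emb := h
      core := C
      t_mem := htK
      t_ne := T.t_ne
      t_sq := T.t_sq
      fus := ⟨k, hk1, fun z hz => hk2 _ (mem_map_of_mem e hz), z0, hz0,
        fun h1 => hz1 (by rw [h1, map_one]), hkt⟩ }
  have hA' : D.A = ⊤ := by
    rw [eq_top_iff]
    intro x _
    exact hA x
  have FX := O.facts F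
  have BX := O.big F RF hA'
  have WX := GrowW.wfacts FX BX
  have VX := GrowV.vFacts FX BX WX
  have RX := GrowR.rFacts FX BX WX VX
  have X0 := EndX.RT.of_facts FX BX WX VX RX
  set H := XX Θ with hH
  set W0 := GrowW.W0 FX BX with hW0
  set R0 : Subgroup H := GrowR.rGrp FX WX with hR0
  -- the 2-group `R ⟨t⟩`
  set M : Subgroup H := zpowers O.tX ⊔ R0 with hM
  have hR0M : R0 ≤ M := le_sup_right
  have htM : O.tX ∈ M := mem_sup_left (mem_zpowers _)
  have hR0p : IsPGroup 2 R0 := IsPGroup.of_card X0.card_R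
  have htp : IsPGroup 2 (zpowers O.tX) := by
    rw [IsPGroup.iff_card, Nat.card_zpowers]
    have h2 : orderOf O.tX ∣ 2 ^ 1 := orderOf_dvd_of_pow_eq_one (by rw [pow_one, pow_two, X0.t_sq])
    obtain ⟨k, _, hk⟩ := (Nat.dvd_prime_pow Nat.prime_two).1 h2
    exact ⟨k, hk⟩
  have htN : zpowers O.tX ≤ normalizer (R0 : Set H) := by
    rw [zpowers_le, mem_normalizer_iff]
    have ti : O.tX⁻¹ = O.tX := inv_eq_of_mul_eq_one_right X0.t_sq
    intro r
    constructor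
    · intro hr; exact X0.tR r hr
    · intro hr
      have h1 := X0.tR _ hr
      have h2 : O.tX * (O.tX * r * O.tX⁻¹) * O.tX⁻¹ = (O.tX * O.tX) * r * (O.tX * O.tX)⁻¹ := by group
      rw [h2, X0.t_sq] at h1
      simpa using h1
  have hMp : IsPGroup 2 M := htp.to_sup_of_normal_right' hR0p htN
  obtain ⟨ψ, ψi, ψΘ, -, -, ψt, ψe, -⟩ := O.exists_psi M hMp
  have X1 := (X0.subgroupOf M hR0M htM).map ψ ψi
  rw [ψt htM] at X1
  -- identification of `Q1` and `Z`
  have hmap : ∀ K : Subgroup L, IsPGroup 2 K → K.map O.φ ≤ M → ((K.map O.φ).subgroupOf M).map ψ = K.map e := by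
    intro K hK hKM
    ext x
    constructor
    · rintro ⟨⟨y, hy⟩, hy', rfl⟩
      obtain ⟨w, hw, hwy⟩ := mem_subgroupOf.1 hy'
      have hwy' : O.φ w = y := hwy
      subst hwy'
      obtain ⟨n, hn⟩ := hK ⟨w, hw⟩
      rw [ψe w hy ⟨n, by simpa using congrArg Subtype.val hn⟩]
      exact mem_map_of_mem e hw
    · rintro ⟨w, hw, rfl⟩
      obtain ⟨n, hn⟩ := hK ⟨w, hw⟩
      refine ⟨⟨O.φ w, hKM (mem_map_of_mem O.φ hw)⟩, mem_subgroupOf.2 (mem_map_of_mem O.φ hw), ?_⟩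
      exact ψe w _ ⟨n, by simpa using congrArg Subtype.val hn⟩
  have hQ2 : IsPGroup 2 D.Q1 := IsPGroup.of_card (n := 10) (by rw [F.card_Q1]; norm_num)
  have hQM : D.Q1.map O.φ ≤ M := X0.Q1_le_R.trans hR0M
  have hQ : ((D.map O.φ).Q1.subgroupOf M).map ψ = (D.map e).Q1 := hmap D.Q1 hQ2 hQM
  have hZ : ((D.map O.φ).Z.subgroupOf M).map ψ = (D.map e).Z :=
    hmap D.Z (hQ2.to_le F.Z_le) ((map_mono F.Z_le).trans hQM)
  rw [hQ, hZ] at X1
  have hRΘ : ∀ r ∈ (R0.subgroupOf M).map ψ, ∀ d ∈ Θ, r * d = d * r := by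
    rintro _ ⟨r, hr, rfl⟩ d hd
    exact ψΘ r d hd
  have hyp := hyp_of ((Iface.Facts.map_iff h.inj).2 F) (E.map h.inj) T X1 hRΘ
  -- the isomorphism `R0 ≃ R`
  let ε : R0 ≃* (R0.subgroupOf M).map ψ :=
    (subgroupOfEquivOfLe hR0M).symm.trans ((R0.subgroupOf M).equivMapOfInjective ψ ψi)
  have hε : ∀ r : R0, (ε r : G) = ψ ⟨r, hR0M r.2⟩ := fun r => rfl
  obtain ⟨A, iA, χ, hχ1, hχ2⟩ := ChiMap.exists_chi_map FX BX WX VX (hfacts_map HF) (t' := t) ε (by
    intro r s hrs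
    rw [hε, hε, ← ψt htM, ← map_inv, ← map_mul, ← map_mul]
    congr 1
    exact Subtype.ext hrs)
  refine EndG.false_of_hyp hyp X1.tR χ ?_ hχ1 (fun d h1 h2 => (hχ2 d h1 h2).le)
  intro f
  apply TransferTL.map_eq_one_of_simple
  intro hc
  exact hG ⟨⟨hc⟩⟩

end Cfsg.Agent.GTwoFour.HypOf
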