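import Mathlib.GroupTheory.Sylow
import Mathlib.GroupTheory.Commutator.Basic

/-!
# Interface for the growth argument with a standard subgroup `G₂(4)` and `|R| = 2` (S1751)

`Data H` names some subgroups of a subgroup `A ≤ H` (`A ≅ G₂(4)`), with root notation
`a` = short simple root, `b` = long simple root: `Z = X_{3a+2b}`, `Xe = X_{3a+b}`, `Xb = X_b`,
`Xa = X_a`; `Q1 = X_b X_{a+b} X_{2a+b} X_{3a+b} Z`, `P = C_A(Z) = Q1 : ⟨X_{±a}⟩`,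
`Q2 = X_a (Q1 ∩ Q2)`, `L2 = P ∩ C(Xe) = C_A(Z Xe) = Q2 : ⟨y⟩`.
`ns`, `nl` = reflections in `a`, `b` (involutions in characteristic two), `h` = element of order 3
of the torus with `a(h) = 1`, `b(h) = λ`; `f ∈ ⟨X_{±a}⟩` of order 5; `y ∈ ⟨X_{±a}⟩` the torus element
of order 3; `Xa = {1, a1, a2, a1 a2}`.
`Facts D` only speaks about elements of `A`; `Big D t` about the involution `t` of `H`.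
-/

set_option autoImplicit false

namespace Cfsg.Agent.GTwoFour.Iface

open Subgroup
open scoped commutatorElement

/-- Names for subgroups and elements of `G₂(4)`. -/
structure Data (H : Type*) [Group H] where
  A : Subgroup H
  P : Subgroup H
  Q1 : Subgroup H
  Q2 : Subgroup H
  Z : Subgroup H
  Xe : Subgroup H
  Xb : Subgroup H
  Xa : Subgroup H
  ns : H
  nl : H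
  h : H
  f : H
  y : H
  a1 : H
  a2 : H

variable {H : Type*} [Group H]

namespace Data

/-- `W4 = Z × Xe`, order 16. -/
def W4 (D : Data H) : Subgroup H := D.Z ⊔ D.Xe

/-- `L2 = C_A(W4)`. -/
def L2 (D : Data H) : Subgroup H := D.P ⊓ centralizer (D.Xe : Set H)

/-- `Q12 = Q1 ∩ Q2 = C_{Q1}(Xe)`. -/
def Q12 (D : Data H) : Subgroup H := D.Q1 ⊓ centralizer (D.Xe : Set H)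

/-- the Borel subgroup of `P`. -/
def B (D : Data H) : Subgroup H := D.Q1 ⊔ D.Xa ⊔ zpowers D.y

/-- the other parabolic (without a part of the torus). -/
def P2 (D : Data H) : Subgroup H := zpowers D.nl ⊔ D.Xb ⊔ D.L2

/-- the norm of `x` over `Xa`. -/
def nrm (D : Data H) (x : H) : H :=
  x * (D.a1 * x * D.a1⁻¹) * (D.a2 * x * D.a2⁻¹) * (D.a1 * D.a2 * x * (D.a1 * D.a2)⁻¹)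

end Data

/-- The facts on `A = G₂(4)` used in the growth argument. -/
structure Facts (D : Data H) : Prop where
  P_le : D.P ≤ D.A
  Q1_le : D.Q1 ≤ D.P
  Z_le : D.Z ≤ D.Q1
  Xe_le : D.Xe ≤ D.Q1
  Xb_le : D.Xb ≤ D.Q1
  Xa_le : D.Xa ≤ D.Q2
  Q2_le : D.Q2 ≤ D.L2
  ns_mem : D.ns ∈ D.P
  f_mem : D.f ∈ D.P
  y_mem : D.y ∈ D.L2
  nl_mem : D.nl ∈ D.A
  h_mem : D.h ∈ D.A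
  card_A : Nat.card D.A = 251596800
  card_P : Nat.card D.P = 61440
  card_Q1 : Nat.card D.Q1 = 1024
  card_Q2 : Nat.card D.Q2 = 1024
  card_Q12 : Nat.card D.Q12 = 256
  card_Z : Nat.card D.Z = 4
  card_Xe : Nat.card D.Xe = 4
  card_Xb : Nat.card D.Xb = 4
  card_Xa : Nat.card D.Xa = 4
  /-- `C_A(Z) = P` -/
  cent_Z : ∀ a ∈ D.A, (∀ z ∈ D.Z, a * z = z * a) ↔ a ∈ D.P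
  sq_Z : ∀ z ∈ D.Z, z * z = 1
  sq_Xe : ∀ e ∈ D.Xe, e * e = 1
  sq_Xb : ∀ x ∈ D.Xb, x * x = 1
  -- the structure of `P`
  norm_Q1 : ∀ p ∈ D.P, ∀ q ∈ D.Q1, p * q * p⁻¹ ∈ D.Q1
  /-- `Q1 = O₂(P)` -/
  core_P : ∀ N : Subgroup H, N ≤ D.P → (∀ p ∈ D.P, ∀ x ∈ N, p * x * p⁻¹ ∈ N) →
    IsPGroup 2 N → N ≤ D.Q1
  perfect_P : D.P ≤ ⁅D.P, D.P⁆
  center_PQ1 : ∀ p ∈ D.P, (∀ p' ∈ D.P, ⁅p, p'⁆ ∈ D.Q1) → p ∈ D.Q1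
  center_Q1 : ∀ q ∈ D.Q1, (∀ q' ∈ D.Q1, q * q' = q' * q) → q ∈ D.Z
  cent_Q1Z : ∀ p ∈ D.P, (∀ q ∈ D.Q1, ⁅p, q⁆ ∈ D.Z) → p ∈ D.Q1
  comm_Q1 : ∀ q ∈ D.Q1, ∀ q' ∈ D.Q1, ⁅q, q'⁆ ∈ D.Z
  sq_Q1 : ∀ q ∈ D.Q1, q * q ∈ D.Z
  f_pow : D.f ^ 5 = 1
  f_Q1 : ∀ q ∈ D.Q1, ∃ q' ∈ D.Q1, ∃ z ∈ D.Z, q = ⁅q', D.f⁆ * z
  -- the torus element `h`
  h_pow : D.h ^ 3 = 1
  h_P : ∀ p ∈ D.P, ⁅D.h, p⁆ ∈ D.Q1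
  h_Z : ∀ z ∈ D.Z, D.h * z * D.h⁻¹ ∈ D.Z
  h_Z_fpf : ∀ z ∈ D.Z, D.h * z * D.h⁻¹ = z → z = 1
  h_Xe : ∀ e ∈ D.Xe, D.h * e * D.h⁻¹ ∈ D.Xe
  h_Xe_fpf : ∀ e ∈ D.Xe, D.h * e * D.h⁻¹ = e → e = 1
  h_Xb : ∀ x ∈ D.Xb, D.h * x * D.h⁻¹ ∈ D.Xb
  /-- the commutator `Xe × Xb → Z` is `𝔽₄`-bilinear -/
  h_bilin : ∀ e ∈ D.Xe, ∀ x ∈ D.Xb,
    ⁅D.h * e * D.h⁻¹, x⁆ = D.h * (D.h * ⁅e, x⁆ * D.h⁻¹) * D.h⁻¹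
  -- `Xe`, `Xb`
  Xe_Z : ∀ e ∈ D.Xe, e ∈ D.Z → e = 1
  Xe_Xb : ∀ e ∈ D.Xe, ∀ x ∈ D.Xb, e * x = x * e → e = 1 ∨ x = 1
  gen_Q1 : ∀ K : Subgroup H, D.Z ≤ K → (∀ p ∈ D.P, ∀ e ∈ D.Xe, p * e * p⁻¹ ∈ K) → D.Q1 ≤ K
  decomp_Q1 : ∀ q ∈ D.Q1, ∃ x ∈ D.Xb, ∃ q' ∈ D.Q12, q = x * q'
  -- `Xa`
  a1_mem : D.a1 ∈ D.Xa
  a2_mem : D.a2 ∈ D.Xa
  a1_sq : D.a1 * D.a1 = 1
  a2_sq : D.a2 * D.a2 = 1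
  a12 : D.a1 * D.a2 = D.a2 * D.a1
  Xa_elts : ∀ x ∈ D.Xa, x = 1 ∨ x = D.a1 ∨ x = D.a2 ∨ x = D.a1 * D.a2
  cent_Xa : ∀ q ∈ D.Q1, (∀ x ∈ D.Xa, ⁅q, x⁆ ∈ D.Z) → q ∈ D.W4
  nrm_Xb : ∀ x ∈ D.Xb, D.nrm x ∈ D.W4 ∧ (D.nrm x ∈ D.Z → x = 1)
  -- `ns`, `y`
  ns_sq : D.ns * D.ns = 1
  ns_Xe : ∀ e ∈ D.Xe, D.ns * e * D.ns⁻¹ ∈ D.Xb
  ns_Xb : ∀ x ∈ D.Xb, D.ns * x * D.ns⁻¹ ∈ D.Xe
  y_pow : D.y ^ 3 = 1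
  ns_y : D.ns * D.y * D.ns⁻¹ = D.y⁻¹
  y_Xa : ∀ x ∈ D.Xa, D.y * x * D.y⁻¹ ∈ D.Xa
  cent_y : ∀ q ∈ D.Q1, ⁅q, D.y⁆ ∈ D.Z → ∃ x ∈ D.Xb, ∃ w ∈ D.W4, q = x * w
  comm_y : ∀ q ∈ D.Q12, ∃ q' ∈ D.Q1, ∃ w ∈ D.W4, q = ⁅q', D.y⁆ * w
  bruhat : ∀ p ∈ D.P, p ∈ D.B ∨ ∃ b ∈ D.B, ∃ b' ∈ D.B, p = b * D.ns * b'
  -- `nl`, `L2`, `Q2`
  nl_sq : D.nl * D.nl = 1
  nl_Z : ∀ z ∈ D.Z, D.nl * z * D.nl⁻¹ ∈ D.Xe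
  nl_Xe : ∀ e ∈ D.Xe, D.nl * e * D.nl⁻¹ ∈ D.Z
  center_L2 : ∀ l ∈ D.L2, (∀ l' ∈ D.L2, l * l' = l' * l) → l ∈ D.W4
  decomp_Q2 : ∀ q ∈ D.Q2, ∃ x ∈ D.Xa, ∃ q' ∈ D.Q12, q = x * q'
  Q12_le : D.Q12 ≤ D.Q2
  norm_Q2 : ∀ g ∈ D.P2, ∀ q ∈ D.Q2, g * q * g⁻¹ ∈ D.Q2
  comm_Q2 : ∀ q ∈ D.Q2, ∀ q' ∈ D.Q2, ⁅q, q'⁆ ∈ D.W4
  sq_Q2 : ∀ q ∈ D.Q2, q * q ∈ D.W4
  cent_Q2 : ∀ l ∈ D.L2, (∀ q ∈ D.Q2, ⁅l, q⁆ ∈ D.W4) → l ∈ D.Q2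
  decomp_L2 : ∀ l ∈ D.L2, ∃ q ∈ D.Q2, ∃ i : ℕ, l = q * D.y ^ i
  conj_Q2 : ∀ q ∈ D.Q2, ∃ g ∈ D.P2, g * q * g⁻¹ ∈ D.Q12

/-- The hypotheses on the involution `t` of the big group `H` (after dividing out the core). -/
structure Big (D : Data H) (t : H) : Prop where
  t_ne : t ≠ 1
  t_sq : t * t = 1
  comm : ∀ a ∈ D.A, a * t = t * a
  t_notMem : t ∉ D.A
  /-- `C_H(⟨t⟩ Z) = ⟨t⟩ × P` -/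
  cent : ∀ g, g * t = t * g → (∀ z ∈ D.Z, g * z = z * g) → g ∈ D.P ∨ t * g ∈ D.P
  /-- `t` is fused to `t z`, `z ∈ Z`, by an element centralising `Z` -/
  fus : ∃ k : H, (∀ z ∈ D.Z, k * z = z * k) ∧ ⁅k, t⁆ ∈ D.Z ∧ ⁅k, t⁆ ≠ 1

/-- `W0`: elements `w` of `C_H(P)` with `[w,t] ∈ Z` and `w w^h w^{h²} ∈ Z`. -/
structure WFacts (D : Data H) (t : H) (W0 : Subgroup H) : Prop where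
  Z_le : D.Z ≤ W0
  card : Nat.card W0 = 16
  comm : ∀ w ∈ W0, ∀ w' ∈ W0, w * w' = w' * w
  cent_P : ∀ w ∈ W0, ∀ p ∈ D.P, w * p = p * w
  h_mem : ∀ w ∈ W0, D.h * w * D.h⁻¹ ∈ W0
  comm_t : ∀ w ∈ W0, ⁅w, t⁆ ∈ D.Z
  onto : ∀ z ∈ D.Z, ∃ w ∈ W0, ⁅w, t⁆ = z
  sq_mem : ∀ w ∈ W0, w * w ∈ D.Z
  t_notMem : t ∉ W0

/-- `V = W0 × W0^{nl}`. -/
structure VFacts (D : Data H) (t : H) (W0 V : Subgroup H) : Prop where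
  le : W0 ≤ V
  card : Nat.card V = 256
  comm : ∀ v ∈ V, ∀ v' ∈ V, v * v' = v' * v
  sq : ∀ v ∈ V, v * v = 1
  cent_L2 : ∀ v ∈ V, ∀ l ∈ D.L2, v * l = l * v
  nl_mem : ∀ v ∈ V, D.nl * v * D.nl⁻¹ ∈ V
  Xb_mem : ∀ x ∈ D.Xb, ∀ v ∈ V, ⁅v, x⁆ ∈ W0
  comm_t : ∀ v ∈ V, ⁅v, t⁆ ∈ D.W4
  onto : ∀ w ∈ D.W4, ∃ v ∈ V, ⁅v, t⁆ = w
  cent_t : ∀ v ∈ V, v * t = t * v → v ∈ D.W4
  t_notMem : t ∉ V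

end Cfsg.Agent.GTwoFour.Iface
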