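import Cfsg.Agent.GTwoFour.Iface

/-!
# Interface for step (3) of the growth argument: the group `R` of order `2^20`

`rGrp D t W0` is the subgroup `{r ∈ C(W0) : [r, Q1] ≤ W0, [r, t] ∈ Q1 W0}` (proved in `GrowR`),
`RFacts D t W0 V R` lists what is proved about it.
-/

set_option autoImplicit false

namespace Cfsg.Agent.GTwoFour.Iface

open Subgroup
open scoped commutatorElement

variable {H : Type*} [Group H]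

/-- `R = {r ∈ C(W0) : [r, Q1] ≤ W0, [r, t] ∈ Q1 W0}`: order `2^20`, `R/W0` elementary abelian,
`r ↦ [r,t] W0` maps `R` onto `Q1 W0 / W0`, with kernel `Q1 W0`. -/
structure RFacts (D : Data H) (t : H) (W0 V R : Subgroup H) : Prop where
  mem_iff : ∀ r, r ∈ R ↔ (∀ w ∈ W0, r * w = w * r) ∧ (∀ q ∈ D.Q1, ⁅r, q⁆ ∈ W0) ∧
    ⁅r, t⁆ ∈ D.Q1 ⊔ W0
  Q1_le : D.Q1 ≤ R
  W0_le : W0 ≤ R
  V_le : V ≤ R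
  P_mem : ∀ p ∈ D.P, ∀ r ∈ R, p * r * p⁻¹ ∈ R
  card : Nat.card R = 2 ^ 20
  cent_W0 : ∀ r ∈ R, ∀ w ∈ W0, r * w = w * r
  comm_Q1 : ∀ r ∈ R, ∀ q ∈ D.Q1, ⁅r, q⁆ ∈ W0
  /-- the map `r ↦ [r, t]` -/
  comm_t : ∀ r ∈ R, ∃ q ∈ D.Q1, ∃ w ∈ W0, ⁅r, t⁆ = q * w
  onto : ∀ q ∈ D.Q1, ∃ r ∈ R, ∃ w ∈ W0, ⁅r, t⁆ = q * w
  ker : ∀ r ∈ R, ⁅r, t⁆ ∈ W0 → ∃ q ∈ D.Q1, ∃ w ∈ W0, r = q * w
  inter : ∀ q ∈ D.Q1, q ∈ W0 → q ∈ D.Z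
  /-- `R` is generated by `Q1`, `W0` and the `P`-conjugates of `V` -/
  gen : ∀ K : Subgroup H, D.Q1 ≤ K → W0 ≤ K → (∀ p ∈ D.P, ∀ v ∈ V, p * v * p⁻¹ ∈ K) → R ≤ K
  comm : ∀ r ∈ R, ∀ r' ∈ R, ⁅r, r'⁆ ∈ W0
  sq : ∀ r ∈ R, r * r ∈ W0
  /-- `R` normalises `V` -/
  V_mem : ∀ r ∈ R, ∀ v ∈ V, r * v * r⁻¹ ∈ V
  t_notMem : t ∉ R

end Cfsg.Agent.GTwoFour.Iface
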