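import Cfsg.Agent.StdG24.Ord6
import Cfsg.Agent.GTwoFour.Iface

/-!
# The six-dimensional `G₂(4)`: the data of `Iface.Data`

Roots (numbering of `Mod6`): `7` = short simple `a`, `6` = long simple `b`, `8 = a+b`, `9 = 2a+b`,
`10 = 3a+b`, `11 = 3a+2b`, and `11 - r` is the negative of `r`.  `xe r t` is the word of `x_r(t)`,
`t : Fin 4` stands for `0, 1, w, v`.
-/

set_option autoImplicit false
set_option linter.constructorNameAsVariable false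
set_option linter.unusedVariables false

namespace Cfsg.Agent.GTwoFour.InstData

open Subgroup
open Cfsg.Agent.StdG24.Mod6
open Cfsg.Agent.GTwoFour.Iface
open scoped commutatorElement

/-! ### Words -/

/-- the word of `x_r(t)` -/
def xe (r : Fin 12) : Fin 4 → Wd
  | 0 => []
  | 1 => [(r, 0)]
  | 2 => [(r, 1)]
  | 3 => [(r, 2)]

theorem xe_rev (r : Fin 12) (t : Fin 4) : (xe r t).reverse = xe r t := by
  revert t; decide +revert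

/-- the letter number -/
def sh (t : Fin 3) : Fin 4 := t.succ

theorem xe_sh (r : Fin 12) (t : Fin 3) : xe r (sh t) = [(r, t)] := by
  fin_cases t <;> rfl

/-- the word of a commutator -/
def cmw (v w : Wd) : Wd := v ++ (w ++ (v.reverse ++ w.reverse))

theorem ev_cmw (v w : Wd) : ev (cmw v w) = ⁅ev v, ev w⁆ := by
  rw [cmw, ev_append, ev_append, ev_append, ev_reverse, ev_reverse, commutatorElement_def]
  group

/-- the word of a conjugate -/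
def cjw (v w : Wd) : Wd := v ++ (w ++ v.reverse)

theorem ev_cjw (v w : Wd) : ev (cjw v w) = ev v * ev w * (ev v)⁻¹ := by
  rw [cjw, ev_append, ev_append, ev_reverse, mul_assoc]

/-! ### Root groups -/

theorem xe_mul : ∀ (r : Fin 12) (t u : Fin 4), ∃ s : Fin 4, cw (xe r t ++ xe r u) = cw (xe r s) := by
  decide +kernel

/-- the root group `X_r` -/
def X (r : Fin 12) : Subgroup GL6 where
  carrier := {g | ∃ t : Fin 4, g = ev (xe r t)}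
  one_mem' := ⟨0, rfl⟩
  mul_mem' := by
    rintro _ _ ⟨t, rfl⟩ ⟨u, rfl⟩
    obtain ⟨s, hs⟩ := xe_mul r t u
    exact ⟨s, by rw [← ev_append, ev_eq_of hs]⟩
  inv_mem' := by
    rintro _ ⟨t, rfl⟩
    exact ⟨t, by rw [← ev_reverse, xe_rev]⟩

theorem mem_X {r : Fin 12} {g : GL6} : g ∈ X r ↔ ∃ t : Fin 4, g = ev (xe r t) := Iff.rfl

theorem xe_mem (r : Fin 12) (t : Fin 4) : ev (xe r t) ∈ X r := ⟨t, rfl⟩

theorem X_le (r : Fin 12) : X r ≤ L := by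
  rintro _ ⟨t, rfl⟩
  exact ev_mem _

theorem xe_inj : ∀ (r : Fin 12) (t u : Fin 4), cw (xe r t) = cw (xe r u) → t = u := by
  decide +kernel

theorem card_X (r : Fin 12) : Nat.card (X r) = 4 := by
  have e : Fin 4 ≃ X r := Equiv.ofBijective (fun t => ⟨ev (xe r t), xe_mem r t⟩)
    ⟨fun t u h => xe_inj r t u (ev_eq_iff.1 (congrArg Subtype.val h)),
      fun ⟨g, t, hg⟩ => ⟨t, Subtype.ext hg.symm⟩⟩
  rw [← Nat.card_congr e, Nat.card_fin]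

theorem sq_X (r : Fin 12) {g : GL6} (hg : g ∈ X r) : g * g = 1 := by
  obtain ⟨t, rfl⟩ := hg
  have h : (ev (xe r t))⁻¹ = ev (xe r t) := by rw [← ev_reverse, xe_rev]
  exact mul_eq_one_iff_eq_inv.2 h.symm

/-! ### Conjugation -/

/-- `x` conjugates `A` into `N` -/
def Nm (x : GL6) (A N : Subgroup GL6) : Prop := ∀ a ∈ A, x * a * x⁻¹ ∈ N

theorem Nm.sup {x : GL6} {A B N : Subgroup GL6} (hA : Nm x A N) (hB : Nm x B N) : Nm x (A ⊔ B) N := by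
  have h : A ⊔ B ≤ N.comap (MulAut.conj x).toMonoidHom :=
    sup_le (fun a ha => hA a ha) (fun b hb => hB b hb)
  exact fun a ha => h ha

theorem Nm.mono {x : GL6} {A N N' : Subgroup GL6} (hA : Nm x A N) (h : N ≤ N') : Nm x A N' :=
  fun a ha => h (hA a ha)

theorem Nm.mul {x y : GL6} {A B N : Subgroup GL6} (hx : Nm x B N) (hy : Nm y A B) :
    Nm (x * y) A N := by
  intro a ha
  have := hx _ (hy a ha)
  rwa [show x * y * a * (x * y)⁻¹ = x * (y * a * y⁻¹) * x⁻¹ by group]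

theorem nm_one (N : Subgroup GL6) : Nm 1 N N := by
  intro a ha
  simpa using ha

/-- `K` normalises `N` when its generators do -/
theorem nm_sup_left {A B N : Subgroup GL6} (hA : ∀ x ∈ A, Nm x N N) (hB : ∀ x ∈ B, Nm x N N) :
    ∀ x ∈ A ⊔ B, Nm x N N := by
  have key : ∀ (K : Subgroup GL6), (∀ x ∈ K, Nm x N N) → K ≤ normalizer (N : Set GL6) := by
    intro K hK x hx
    rw [mem_normalizer_iff]
    intro n
    refine ⟨fun hn => hK x hx n hn, fun hn => ?_⟩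
    have := hK x⁻¹ (K.inv_mem hx) _ hn
    rwa [show x⁻¹ * (x * n * x⁻¹) * x⁻¹⁻¹ = n by group] at this
  intro x hx n hn
  exact (mem_normalizer_iff.1 (sup_le (key A hA) (key B hB) hx) n).1 hn

theorem nm_X {s r : Fin 12} {N : Subgroup GL6} (w : Fin 4 → Fin 4 → Wd)
    (h : ∀ t u, cw (cjw (xe s t) (xe r u)) = cw (w t u)) (hm : ∀ t u, ev (w t u) ∈ N) :
    ∀ x ∈ X s, Nm x (X r) N := by
  rintro _ ⟨t, rfl⟩ _ ⟨u, rfl⟩
  rw [← ev_cjw, ev_eq_of (h t u)]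
  exact hm t u

theorem nm_X' {v : Wd} {r : Fin 12} {N : Subgroup GL6} (w : Fin 4 → Wd)
    (h : ∀ u, cw (cjw v (xe r u)) = cw (w u)) (hm : ∀ u, ev (w u) ∈ N) :
    Nm (ev v) (X r) N := by
  rintro _ ⟨u, rfl⟩
  rw [← ev_cjw, ev_eq_of (h u)]
  exact hm u

/-- product form of a join with a normalised subgroup -/
theorem mem_sup_nm {K N : Subgroup GL6} (h : ∀ x ∈ K, Nm x N N) {g : GL6} :
    g ∈ K ⊔ N ↔ ∃ k ∈ K, ∃ n ∈ N, g = k * n := by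
  have hN : K ≤ normalizer (N : Set GL6) := by
    intro x hx
    rw [mem_normalizer_iff]
    intro n
    refine ⟨fun hn => h x hx n hn, fun hn => ?_⟩
    have := h x⁻¹ (K.inv_mem hx) _ hn
    rwa [show x⁻¹ * (x * n * x⁻¹) * x⁻¹⁻¹ = n by group] at this
  rw [← SetLike.mem_coe, coe_mul_of_left_le_normalizer_right K N hN, Set.mem_mul]
  constructor
  · rintro ⟨k, hk, n, hn, rfl⟩
    exact ⟨k, hk, n, hn, rfl⟩
  · rintro ⟨k, hk, n, hn, rfl⟩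
    exact ⟨k, hk, n, hn, rfl⟩

/-! ### Chevalley relations -/

/-- multiplication of the field of four elements -/
def fm : Fin 4 → Fin 4 → Fin 4
  | 0, _ => 0
  | 1, b => b
  | 2, 0 => 0
  | 2, 1 => 2
  | 2, 2 => 3
  | 2, 3 => 1
  | 3, 0 => 0
  | 3, 1 => 3
  | 3, 2 => 1
  | 3, 3 => 2

/-- squares -/
def fs (a : Fin 4) : Fin 4 := fm a a

/-- cubes -/
def fc (a : Fin 4) : Fin 4 := fm (fs a) a

theorem r6_8 : ∀ t u : Fin 4, cw (cjw (xe 6 t) (xe 8 u)) = cw (xe 8 u) := by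
  decide +kernel

theorem r6_9 : ∀ t u : Fin 4, cw (cjw (xe 6 t) (xe 9 u)) = cw (xe 9 u) := by
  decide +kernel

theorem r6_11 : ∀ t u : Fin 4, cw (cjw (xe 6 t) (xe 11 u)) = cw (xe 11 u) := by
  decide +kernel

theorem r7_10 : ∀ t u : Fin 4, cw (cjw (xe 7 t) (xe 10 u)) = cw (xe 10 u) := by
  decide +kernel

theorem r7_11 : ∀ t u : Fin 4, cw (cjw (xe 7 t) (xe 11 u)) = cw (xe 11 u) := by
  decide +kernel

theorem r8_10 : ∀ t u : Fin 4, cw (cjw (xe 8 t) (xe 10 u)) = cw (xe 10 u) := by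
  decide +kernel

theorem r8_11 : ∀ t u : Fin 4, cw (cjw (xe 8 t) (xe 11 u)) = cw (xe 11 u) := by
  decide +kernel

theorem r8_6 : ∀ t u : Fin 4, cw (cjw (xe 8 t) (xe 6 u)) = cw (xe 6 u) := by
  decide +kernel

theorem r9_10 : ∀ t u : Fin 4, cw (cjw (xe 9 t) (xe 10 u)) = cw (xe 10 u) := by
  decide +kernel

theorem r9_11 : ∀ t u : Fin 4, cw (cjw (xe 9 t) (xe 11 u)) = cw (xe 11 u) := by
  decide +kernel

theorem r9_6 : ∀ t u : Fin 4, cw (cjw (xe 9 t) (xe 6 u)) = cw (xe 6 u) := by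
  decide +kernel

theorem r10_11 : ∀ t u : Fin 4, cw (cjw (xe 10 t) (xe 11 u)) = cw (xe 11 u) := by
  decide +kernel

theorem r4_6 : ∀ t u : Fin 4, cw (cjw (xe 4 t) (xe 6 u)) = cw (xe 6 u) := by
  decide +kernel

theorem r4_11 : ∀ t u : Fin 4, cw (cjw (xe 4 t) (xe 11 u)) = cw (xe 11 u) := by
  decide +kernel

theorem r5_7 : ∀ t u : Fin 4, cw (cjw (xe 5 t) (xe 7 u)) = cw (xe 7 u) := by
  decide +kernel

theorem r5_9 : ∀ t u : Fin 4, cw (cjw (xe 5 t) (xe 9 u)) = cw (xe 9 u) := by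
  decide +kernel

theorem r5_10 : ∀ t u : Fin 4, cw (cjw (xe 5 t) (xe 10 u)) = cw (xe 10 u) := by
  decide +kernel

theorem r6_10 : ∀ t u : Fin 4, cw (cjw (xe 6 t) (xe 10 u)) =
    cw (xe 10 u ++ xe 11 (fm t u)) := by
  decide +kernel

theorem r10_6 : ∀ t u : Fin 4, cw (cjw (xe 10 t) (xe 6 u)) =
    cw (xe 6 u ++ xe 11 (fm t u)) := by
  decide +kernel

theorem r7_8 : ∀ t u : Fin 4, cw (cjw (xe 7 t) (xe 8 u)) =
    cw (xe 8 u ++ (xe 11 (fm t (fs u)) ++ xe 10 (fm (fs t) u))) := by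
  decide +kernel

theorem r7_9 : ∀ t u : Fin 4, cw (cjw (xe 7 t) (xe 9 u)) =
    cw (xe 9 u ++ xe 10 (fm t u)) := by
  decide +kernel

theorem r7_6 : ∀ t u : Fin 4, cw (cjw (xe 7 t) (xe 6 u)) =
    cw (xe 6 u ++ (xe 9 (fm (fs t) u) ++ (xe 8 (fm t u) ++ xe 10 (fm (fc t) u)))) := by
  decide +kernel

theorem r8_9 : ∀ t u : Fin 4, cw (cjw (xe 8 t) (xe 9 u)) =
    cw (xe 9 u ++ xe 11 (fm t u)) := by
  decide +kernel

theorem r9_8 : ∀ t u : Fin 4, cw (cjw (xe 9 t) (xe 8 u)) =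
    cw (xe 8 u ++ xe 11 (fm t u)) := by
  decide +kernel

theorem r4_8 : ∀ t u : Fin 4, cw (cjw (xe 4 t) (xe 8 u)) =
    cw (xe 8 u ++ xe 6 (fm t u)) := by
  decide +kernel

theorem r4_9 : ∀ t u : Fin 4, cw (cjw (xe 4 t) (xe 9 u)) =
    cw (xe 9 u ++ (xe 11 (fm t (fs u)) ++ xe 6 (fm (fs t) u))) := by
  decide +kernel

theorem r4_10 : ∀ t u : Fin 4, cw (cjw (xe 4 t) (xe 10 u)) =
    cw (xe 10 u ++ (xe 8 (fm (fs t) u) ++ (xe 9 (fm t u) ++ xe 6 (fm (fc t) u)))) := by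
  decide +kernel

theorem r5_8 : ∀ t u : Fin 4, cw (cjw (xe 5 t) (xe 8 u)) =
    cw (xe 8 u ++ (xe 7 (fm t u) ++ (xe 9 (fm t (fs u)) ++ xe 11 (fm t (fc u))))) := by
  decide +kernel

theorem r5_11 : ∀ t u : Fin 4, cw (cjw (xe 5 t) (xe 11 u)) =
    cw (xe 11 u ++ xe 10 (fm t u)) := by
  decide +kernel

/-! ### The subgroups -/

/-- `X₁₀ X₁₁` -/
def W4' : Subgroup GL6 := X 10 ⊔ X 11
/-- `X₉ X₁₀ X₁₁` -/
def M : Subgroup GL6 := X 9 ⊔ W4'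
/-- `X₈ X₉ X₁₀ X₁₁` -/
def Q12' : Subgroup GL6 := X 8 ⊔ M
/-- `X₆ X₈ X₉ X₁₀ X₁₁` -/
def Q1 : Subgroup GL6 := X 6 ⊔ Q12'
/-- `X₇ X₈ X₉ X₁₀ X₁₁` -/
def Q2 : Subgroup GL6 := X 7 ⊔ Q12'
/-- the short root `SL₂(4)` -/
def S : Subgroup GL6 := X 7 ⊔ X 4
/-- `P = Q1 : S` -/
def P : Subgroup GL6 := S ⊔ Q1

theorem X10_le_W4 : X 10 ≤ W4' := le_sup_left
theorem X11_le_W4 : X 11 ≤ W4' := le_sup_right
theorem W4_le_M : W4' ≤ M := le_sup_right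
theorem X9_le_M : X 9 ≤ M := le_sup_left
theorem M_le_Q12 : M ≤ Q12' := le_sup_right
theorem X8_le_Q12 : X 8 ≤ Q12' := le_sup_left
theorem Q12_le_Q1 : Q12' ≤ Q1 := le_sup_right
theorem Q12_le_Q2 : Q12' ≤ Q2 := le_sup_right
theorem X6_le_Q1 : X 6 ≤ Q1 := le_sup_left
theorem X7_le_Q2 : X 7 ≤ Q2 := le_sup_left
theorem X10_le_M : X 10 ≤ M := X10_le_W4.trans W4_le_M
theorem X11_le_M : X 11 ≤ M := X11_le_W4.trans W4_le_M
theorem X9_le_Q12 : X 9 ≤ Q12' := X9_le_M.trans M_le_Q12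
theorem X10_le_Q12 : X 10 ≤ Q12' := X10_le_M.trans M_le_Q12
theorem X11_le_Q12 : X 11 ≤ Q12' := X11_le_M.trans M_le_Q12
theorem X8_le_Q1 : X 8 ≤ Q1 := X8_le_Q12.trans Q12_le_Q1
theorem X9_le_Q1 : X 9 ≤ Q1 := X9_le_Q12.trans Q12_le_Q1
theorem X10_le_Q1 : X 10 ≤ Q1 := X10_le_Q12.trans Q12_le_Q1
theorem X11_le_Q1 : X 11 ≤ Q1 := X11_le_Q12.trans Q12_le_Q1
theorem X8_le_Q2 : X 8 ≤ Q2 := X8_le_Q12.trans Q12_le_Q2
theorem X9_le_Q2 : X 9 ≤ Q2 := X9_le_Q12.trans Q12_le_Q2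
theorem X10_le_Q2 : X 10 ≤ Q2 := X10_le_Q12.trans Q12_le_Q2
theorem X11_le_Q2 : X 11 ≤ Q2 := X11_le_Q12.trans Q12_le_Q2
theorem X7_le_S : X 7 ≤ S := le_sup_left
theorem X4_le_S : X 4 ≤ S := le_sup_right
theorem S_le_P : S ≤ P := le_sup_left
theorem Q1_le_P : Q1 ≤ P := le_sup_right

theorem mm {N : Subgroup GL6} {v w : Wd} (hv : ev v ∈ N) (hw : ev w ∈ N) : ev (v ++ w) ∈ N := by
  rw [ev_append]; exact N.mul_mem hv hw

theorem nm_10 : ∀ x ∈ X 10, Nm x (X 11) (X 11) :=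
  nm_X (fun _ u => xe 11 u) r10_11 (fun _ u => xe_mem 11 u)

theorem nm_9 : ∀ x ∈ X 9, Nm x W4' W4' := fun x hx => Nm.sup
  (nm_X (fun _ u => xe 10 u) r9_10 (fun _ u => X10_le_W4 (xe_mem 10 u)) x hx)
  (nm_X (fun _ u => xe 11 u) r9_11 (fun _ u => X11_le_W4 (xe_mem 11 u)) x hx)

theorem nm_8 : ∀ x ∈ X 8, Nm x M M := fun x hx => Nm.sup
  (nm_X (fun t u => xe 9 u ++ xe 11 (fm t u)) r8_9
    (fun _ u => mm (X9_le_M (xe_mem 9 u)) (X11_le_M (xe_mem 11 _))) x hx)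
  (Nm.sup
    (nm_X (fun _ u => xe 10 u) r8_10 (fun _ u => X10_le_M (xe_mem 10 u)) x hx)
    (nm_X (fun _ u => xe 11 u) r8_11 (fun _ u => X11_le_M (xe_mem 11 u)) x hx))

theorem nm_6 : ∀ x ∈ X 6, Nm x Q12' Q12' := fun x hx => Nm.sup
  (nm_X (fun _ u => xe 8 u) r6_8 (fun _ u => X8_le_Q12 (xe_mem 8 u)) x hx)
  (Nm.sup (nm_X (fun _ u => xe 9 u) r6_9 (fun _ u => X9_le_Q12 (xe_mem 9 u)) x hx)
  (Nm.sup
    (nm_X (fun t u => xe 10 u ++ xe 11 (fm t u)) r6_10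
      (fun _ u => mm (X10_le_Q12 (xe_mem 10 u)) (X11_le_Q12 (xe_mem 11 _))) x hx)
    (nm_X (fun _ u => xe 11 u) r6_11 (fun _ u => X11_le_Q12 (xe_mem 11 u)) x hx)))

theorem nm_7 : ∀ x ∈ X 7, Nm x Q12' Q12' := fun x hx => Nm.sup
  (nm_X (fun t u => xe 8 u ++ (xe 11 (fm t (fs u)) ++ xe 10 (fm (fs t) u))) r7_8
    (fun _ u => mm (X8_le_Q12 (xe_mem 8 u))
      (mm (X11_le_Q12 (xe_mem 11 _)) (X10_le_Q12 (xe_mem 10 _)))) x hx)
  (Nm.sup (nm_X (fun t u => xe 9 u ++ xe 10 (fm t u)) r7_9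
    (fun _ u => mm (X9_le_Q12 (xe_mem 9 u)) (X10_le_Q12 (xe_mem 10 _))) x hx)
  (Nm.sup
    (nm_X (fun _ u => xe 10 u) r7_10 (fun _ u => X10_le_Q12 (xe_mem 10 u)) x hx)
    (nm_X (fun _ u => xe 11 u) r7_11 (fun _ u => X11_le_Q12 (xe_mem 11 u)) x hx)))

/-- `X₇` normalises `Q1` -/
theorem nm_7_Q1 : ∀ x ∈ X 7, Nm x Q1 Q1 := fun x hx => Nm.sup
  (nm_X (fun t u => xe 6 u ++ (xe 9 (fm (fs t) u) ++ (xe 8 (fm t u) ++ xe 10 (fm (fc t) u)))) r7_6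
    (fun _ u => mm (X6_le_Q1 (xe_mem 6 u)) (mm (X9_le_Q1 (xe_mem 9 _))
      (mm (X8_le_Q1 (xe_mem 8 _)) (X10_le_Q1 (xe_mem 10 _))))) x hx)
  ((nm_7 x hx).mono Q12_le_Q1)

/-- `X₄` normalises `Q1` -/
theorem nm_4_Q1 : ∀ x ∈ X 4, Nm x Q1 Q1 := fun x hx => Nm.sup
  (nm_X (fun _ u => xe 6 u) r4_6 (fun _ u => X6_le_Q1 (xe_mem 6 u)) x hx)
  (Nm.sup (nm_X (fun t u => xe 8 u ++ xe 6 (fm t u)) r4_8
    (fun _ u => mm (X8_le_Q1 (xe_mem 8 u)) (X6_le_Q1 (xe_mem 6 _))) x hx)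
  (Nm.sup (nm_X (fun t u => xe 9 u ++ (xe 11 (fm t (fs u)) ++ xe 6 (fm (fs t) u))) r4_9
    (fun _ u => mm (X9_le_Q1 (xe_mem 9 u))
      (mm (X11_le_Q1 (xe_mem 11 _)) (X6_le_Q1 (xe_mem 6 _)))) x hx)
  (Nm.sup (nm_X (fun t u => xe 10 u ++ (xe 8 (fm (fs t) u) ++ (xe 9 (fm t u) ++ xe 6 (fm (fc t) u))))
    r4_10 (fun _ u => mm (X10_le_Q1 (xe_mem 10 u)) (mm (X8_le_Q1 (xe_mem 8 _))
      (mm (X9_le_Q1 (xe_mem 9 _)) (X6_le_Q1 (xe_mem 6 _))))) x hx)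
    (nm_X (fun _ u => xe 11 u) r4_11 (fun _ u => X11_le_Q1 (xe_mem 11 u)) x hx))))

theorem nm_S_Q1 : ∀ x ∈ S, Nm x Q1 Q1 := nm_sup_left nm_7_Q1 nm_4_Q1

theorem nm_self {N : Subgroup GL6} : ∀ x ∈ N, Nm x N N :=
  fun x hx n hn => N.mul_mem (N.mul_mem hx hn) (N.inv_mem hx)

theorem nm_P_Q1 : ∀ x ∈ P, Nm x Q1 Q1 := nm_sup_left nm_S_Q1 nm_self

/-! ### Normal forms -/

theorem mem_W4' {g : GL6} : g ∈ W4' ↔ ∃ d e : Fin 4, g = ev (xe 10 d ++ xe 11 e) := by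
  rw [W4', mem_sup_nm nm_10]
  constructor
  · rintro ⟨_, ⟨d, rfl⟩, _, ⟨e, rfl⟩, rfl⟩
    exact ⟨d, e, (ev_append _ _).symm⟩
  · rintro ⟨d, e, rfl⟩
    exact ⟨_, xe_mem 10 d, _, xe_mem 11 e, ev_append _ _⟩

theorem mem_M {g : GL6} : g ∈ M ↔ ∃ c d e : Fin 4, g = ev (xe 9 c ++ (xe 10 d ++ xe 11 e)) := by
  rw [M, mem_sup_nm nm_9]
  constructor
  · rintro ⟨_, ⟨c, rfl⟩, n, hn, rfl⟩
    obtain ⟨d, e, rfl⟩ := mem_W4'.1 hn
    exact ⟨c, d, e, (ev_append _ _).symm⟩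
  · rintro ⟨c, d, e, rfl⟩
    exact ⟨_, xe_mem 9 c, _, mem_W4'.2 ⟨d, e, rfl⟩, ev_append _ _⟩

/-- normal form of `Q1 ∩ Q2` -/
def w0 (b c d e : Fin 4) : Wd := xe 8 b ++ (xe 9 c ++ (xe 10 d ++ xe 11 e))

/-- normal form of `Q1` -/
def w1 (a b c d e : Fin 4) : Wd := xe 6 a ++ w0 b c d e

/-- normal form of `Q2` -/
def w2 (a b c d e : Fin 4) : Wd := xe 7 a ++ w0 b c d e

theorem mem_Q12' {g : GL6} : g ∈ Q12' ↔ ∃ b c d e : Fin 4, g = ev (w0 b c d e) := by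
  rw [Q12', mem_sup_nm nm_8]
  constructor
  · rintro ⟨_, ⟨b, rfl⟩, n, hn, rfl⟩
    obtain ⟨c, d, e, rfl⟩ := mem_M.1 hn
    exact ⟨b, c, d, e, (ev_append _ _).symm⟩
  · rintro ⟨b, c, d, e, rfl⟩
    exact ⟨_, xe_mem 8 b, _, mem_M.2 ⟨c, d, e, rfl⟩, ev_append _ _⟩

theorem mem_Q1 {g : GL6} : g ∈ Q1 ↔ ∃ a b c d e : Fin 4, g = ev (w1 a b c d e) := by
  rw [Q1, mem_sup_nm nm_6]
  constructor
  · rintro ⟨_, ⟨a, rfl⟩, n, hn, rfl⟩
    obtain ⟨b, c, d, e, rfl⟩ := mem_Q12'.1 hn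
    exact ⟨a, b, c, d, e, (ev_append _ _).symm⟩
  · rintro ⟨a, b, c, d, e, rfl⟩
    exact ⟨_, xe_mem 6 a, _, mem_Q12'.2 ⟨b, c, d, e, rfl⟩, ev_append _ _⟩

theorem mem_Q2 {g : GL6} : g ∈ Q2 ↔ ∃ a b c d e : Fin 4, g = ev (w2 a b c d e) := by
  rw [Q2, mem_sup_nm nm_7]
  constructor
  · rintro ⟨_, ⟨a, rfl⟩, n, hn, rfl⟩
    obtain ⟨b, c, d, e, rfl⟩ := mem_Q12'.1 hn
    exact ⟨a, b, c, d, e, (ev_append _ _).symm⟩
  · rintro ⟨a, b, c, d, e, rfl⟩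
    exact ⟨_, xe_mem 7 a, _, mem_Q12'.2 ⟨b, c, d, e, rfl⟩, ev_append _ _⟩

theorem mem_P {g : GL6} : g ∈ P ↔ ∃ s ∈ S, ∃ q ∈ Q1, g = s * q := mem_sup_nm nm_S_Q1

/-! ### The sixty elements of `S` -/

/-- the sixty elements of `S` -/
def SL : List Wd := [
  [],
  [(7, 0)],
  [(7, 1)],
  [(7, 2)],
  [(4, 0)],
  [(4, 1)],
  [(4, 2)],
  [(4, 0), (7, 0)],
  [(4, 1), (7, 0)],
  [(4, 2), (7, 0)],
  [(4, 0), (7, 1)],
  [(4, 1), (7, 1)],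
  [(4, 2), (7, 1)],
  [(4, 0), (7, 2)],
  [(4, 1), (7, 2)],
  [(4, 2), (7, 2)],
  [(7, 0), (4, 0)],
  [(7, 1), (4, 0)],
  [(7, 2), (4, 0)],
  [(7, 0), (4, 1)],
  [(7, 1), (4, 1)],
  [(7, 2), (4, 1)],
  [(7, 0), (4, 2)],
  [(7, 1), (4, 2)],
  [(7, 2), (4, 2)],
  [(7, 0), (4, 0), (7, 0)],
  [(7, 1), (4, 0), (7, 0)],
  [(7, 2), (4, 0), (7, 0)],
  [(7, 0), (4, 1), (7, 0)],
  [(7, 1), (4, 1), (7, 0)],
  [(7, 2), (4, 1), (7, 0)],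
  [(7, 0), (4, 2), (7, 0)],
  [(7, 1), (4, 2), (7, 0)],
  [(7, 2), (4, 2), (7, 0)],
  [(7, 0), (4, 0), (7, 1)],
  [(7, 1), (4, 0), (7, 1)],
  [(7, 2), (4, 0), (7, 1)],
  [(7, 0), (4, 1), (7, 1)],
  [(7, 1), (4, 1), (7, 1)],
  [(7, 2), (4, 1), (7, 1)],
  [(7, 0), (4, 2), (7, 1)],
  [(7, 1), (4, 2), (7, 1)],
  [(7, 2), (4, 2), (7, 1)],
  [(7, 0), (4, 0), (7, 2)],
  [(7, 1), (4, 0), (7, 2)],
  [(7, 2), (4, 0), (7, 2)],
  [(7, 0), (4, 1), (7, 2)],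
  [(7, 1), (4, 1), (7, 2)],
  [(7, 2), (4, 1), (7, 2)],
  [(7, 0), (4, 2), (7, 2)],
  [(7, 1), (4, 2), (7, 2)],
  [(7, 2), (4, 2), (7, 2)],
  [(4, 1), (7, 1), (4, 0)],
  [(4, 2), (7, 2), (4, 0)],
  [(4, 2), (7, 0), (4, 1)],
  [(4, 0), (7, 1), (4, 1)],
  [(4, 1), (7, 0), (4, 2)],
  [(4, 0), (7, 2), (4, 2)],
  [(4, 0), (7, 1), (4, 1), (7, 0)],
  [(4, 0), (7, 2), (4, 2), (7, 0)]]

/-- the codes of the elements of `S` -/
def SLC : List (List ℕ) := SL.map cw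

theorem SL_step : ∀ w ∈ SL, ∀ r ∈ [(7 : Fin 12), 4], ∀ t : Fin 3, cw ((r, t) :: w) ∈ SLC := by
  decide +kernel

theorem SL_letters : ∀ w ∈ SL, ∀ p ∈ w, p.1 ∈ [(7 : Fin 12), 4] := by decide +kernel

theorem SL_inj : SLC.Nodup := by decide +kernel

theorem SL_nil : [] ∈ SL := by decide +kernel

theorem step_SL {w : Wd} (hw : w ∈ SL) {p : Fin 12 × Fin 3} (hp : p.1 ∈ [(7 : Fin 12), 4]) :
    ∃ w' ∈ SL, gx p.1 p.2 * ev w = ev w' := by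
  obtain ⟨w', hw', h⟩ := List.mem_map.1 (SL_step w hw p.1 hp p.2)
  refine ⟨w', hw', ?_⟩
  have := ev_eq_of (v := w') (w := (p.1, p.2) :: w) h
  rw [this]
  rfl

theorem word_SL (v : Wd) (hv : ∀ p ∈ v, p.1 ∈ [(7 : Fin 12), 4]) {w : Wd} (hw : w ∈ SL) :
    ∃ w' ∈ SL, ev v * ev w = ev w' := by
  induction v with
  | nil => exact ⟨w, hw, by rw [ev_nil, one_mul]⟩
  | cons p v ih =>
    obtain ⟨w1, hw1, h1⟩ := ih (fun q hq => hv q (List.mem_cons_of_mem _ hq))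
    obtain ⟨w2, hw2, h2⟩ := step_SL hw1 (hv p List.mem_cons_self)
    refine ⟨w2, hw2, ?_⟩
    rw [← h2, ← h1, ← mul_assoc]
    rfl

/-- the elements of `S` -/
theorem mem_S {g : GL6} : g ∈ S ↔ ∃ w ∈ SL, g = ev w := by
  constructor
  · intro hg
    rw [S, sup_eq_closure] at hg
    induction hg using closure_induction with
    | mem x hx =>
      rcases hx with ⟨t, rfl⟩ | ⟨t, rfl⟩
      · obtain ⟨w, hw, h⟩ := word_SL (xe 7 t) (by revert t; decide) SL_nil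
        exact ⟨w, hw, by rw [← h, ev_nil, mul_one]⟩
      · obtain ⟨w, hw, h⟩ := word_SL (xe 4 t) (by revert t; decide) SL_nil
        exact ⟨w, hw, by rw [← h, ev_nil, mul_one]⟩
    | one => exact ⟨[], SL_nil, rfl⟩
    | mul x y _ _ hx hy =>
      obtain ⟨v, hv, rfl⟩ := hx
      obtain ⟨w, hw, rfl⟩ := hy
      exact word_SL v (SL_letters v hv) hw
    | inv x _ hx =>
      obtain ⟨v, hv, rfl⟩ := hx
      obtain ⟨w, hw, h⟩ := word_SL v.reverse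
        (fun p hp => SL_letters v hv p (List.mem_reverse.1 hp)) SL_nil
      exact ⟨w, hw, by rw [← h, ev_nil, mul_one, ev_reverse]⟩
  · rintro ⟨w, hw, rfl⟩
    have h := SL_letters w hw
    clear hw
    induction w with
    | nil => exact S.one_mem
    | cons p w ih =>
      have h1 : gx p.1 p.2 ∈ S := by
        have h7 : p.1 = 7 ∨ p.1 = 4 := by simpa using h p List.mem_cons_self
        rcases h7 with h7 | h7
        · rw [h7, ← ev_singleton (7, p.2), ← xe_sh]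
          exact X7_le_S (xe_mem 7 _)
        · rw [h7, ← ev_singleton (4, p.2), ← xe_sh]
          exact X4_le_S (xe_mem 4 _)
      exact S.mul_mem h1 (ih fun q hq => h q (List.mem_cons_of_mem _ hq))

/-! ### The elements and the data -/

/-- the reflection in `a` -/
def wns : Wd := [(7, 0), (4, 0), (7, 0)]
/-- the reflection in `b` -/
def wnl : Wd := [(6, 0), (5, 0), (6, 0)]
/-- the torus element `h_{3a+2b}(w)` -/
def wh : Wd := [(11, 1), (0, 2), (11, 1), (11, 0), (0, 0), (11, 0)]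
/-- the torus element `h_a(w)` -/
def wy : Wd := [(7, 1), (4, 2), (7, 1), (7, 0), (4, 0), (7, 0)]
/-- an element of order five -/
def wf : Wd := [(7, 0), (4, 1)]

/-- the data -/
def D : Data GL6 where
  A := L
  P := P
  Q1 := Q1
  Q2 := Q2
  Z := X 11
  Xe := X 10
  Xb := X 6
  Xa := X 7
  ns := ev wns
  nl := ev wnl
  h := ev wh
  f := ev wf
  y := ev wy
  a1 := ev (xe 7 1)
  a2 := ev (xe 7 2)

theorem W4_eq : D.W4 = W4' := sup_comm _ _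

end Cfsg.Agent.GTwoFour.InstData
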