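import Cfsg.Agent.GTwoFour.LiftX

set_option autoImplicit false

/-!
# Lifting 2-subgroups through a central extension by a group of odd order
-/

namespace Cfsg.Agent.GTwoFour.Lift

open Subgroup

/-- a 2-element of a group of odd order -/
theorem eq_one_of_odd {N : Type*} [Group N] {Z : Subgroup N} (hZ : Odd (Nat.card Z)) {z : N}
    (hz : z ∈ Z) {k : ℕ} (hk : z ^ 2 ^ k = 1) : z = 1 := by
  have h1 : orderOf z ∣ Nat.card Z := by
    have := orderOf_dvd_natCard (⟨z, hz⟩ : Z)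
    rwa [Subgroup.orderOf_mk] at this
  have h2 : orderOf z ∣ 2 ^ k := orderOf_dvd_of_pow_eq_one hk
  have h3 : Nat.Coprime (2 ^ k) (Nat.card Z) := Nat.Coprime.pow_left _ (Nat.coprime_two_left.2 hZ)
  exact orderOf_eq_one_iff.1 (Nat.eq_one_of_dvd_coprimes h3 h2 h1)

theorem pow_pow_mul {N : Type*} [Group N] {a b : N} (hab : a * b = b * a) {k l : ℕ}
    (ha : a ^ 2 ^ k = 1) (hb : b ^ 2 ^ l = 1) : (a * b) ^ 2 ^ (k + l) = 1 := by
  rw [Commute.mul_pow (show Commute a b from hab), pow_add, pow_mul, ha, one_pow, one_mul, mul_comm,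
    pow_mul, hb, one_pow]

/-- **2-subgroups lift uniquely through a central extension of odd order.** -/
theorem exists_lift {N X : Type*} [Group N] [Finite N] [Group X] (π : N →* X)
    (hπ : Function.Surjective π) (hc : ∀ z ∈ π.ker, ∀ n, n * z = z * n) (hodd : Odd (Nat.card π.ker))
    (B : Subgroup X) (hB : IsPGroup 2 B) :
    ∃ ψ : B →* N, (∀ b, π (ψ b) = b) ∧ (∀ n : N, ∀ hn : π n ∈ B, (∃ k, n ^ 2 ^ k = 1) →
      ψ ⟨π n, hn⟩ = n) ∧ ∀ b, ∃ k, ψ b ^ 2 ^ k = 1 := by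
  classical
  have hfact : Fact (Nat.Prime 2) := ⟨Nat.prime_two⟩
  set E := B.comap π with hE
  let πE : E →* B := (π.comp E.subtype).codRestrict B (fun x => x.2)
  have hπE : Function.Surjective πE := by
    rintro ⟨b, hb⟩
    obtain ⟨n, rfl⟩ := hπ b
    exact ⟨⟨n, hb⟩, rfl⟩
  obtain ⟨P⟩ : Nonempty (Sylow 2 E) := inferInstance
  have hPtop : (P : Subgroup E).map πE = ⊤ := by
    have h1 : ((P.mapSurjective hπE : Sylow 2 B) : Subgroup B) = (P : Subgroup E).map πE := rfl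
    rw [← h1]
    have hB' : IsPGroup 2 (⊤ : Subgroup B) := hB.of_injective (⊤ : Subgroup B).subtype
      Subtype.val_injective
    exact ((P.mapSurjective hπE).3 hB' le_top).symm
  -- the restriction to `P`
  let f : (P : Subgroup E) →* B := πE.comp (P : Subgroup E).subtype
  have hf : Function.Bijective f := by
    constructor
    · rw [injective_iff_map_eq_one]
      intro p hp
      have h1 : π ((p : E) : N) = 1 := congrArg Subtype.val hp
      obtain ⟨k, hk⟩ := P.2 p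
      have h2 : ((p : E) : N) ^ 2 ^ k = 1 := by
        have := congrArg (fun x : (P : Subgroup E) => ((x : E) : N)) hk
        simpa using this
      have h3 := eq_one_of_odd hodd (MonoidHom.mem_ker.2 h1) h2
      exact Subtype.ext (Subtype.ext h3)
    · intro b
      obtain ⟨x, hx, hxb⟩ : b ∈ (P : Subgroup E).map πE := by rw [hPtop]; trivial
      exact ⟨⟨x, hx⟩, hxb⟩
  let g : B ≃* (P : Subgroup E) := (MulEquiv.ofBijective f hf).symm
  let ψ : B →* N := (E.subtype.comp (P : Subgroup E).subtype).comp g.toMonoidHom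
  have hψ : ∀ b, π (ψ b) = b := by
    intro b
    have h1 : f (g b) = b := (MulEquiv.ofBijective f hf).apply_symm_apply b
    exact congrArg Subtype.val h1
  have hψ2 : ∀ b, ∃ k, ψ b ^ 2 ^ k = 1 := by
    intro b
    obtain ⟨k, hk⟩ := hB b
    refine ⟨k, ?_⟩
    rw [← map_pow, hk, map_one]
  refine ⟨ψ, hψ, ?_, hψ2⟩
  intro n hn ⟨k, hk⟩
  obtain ⟨l, hl⟩ := hψ2 ⟨π n, hn⟩
  set m := ψ ⟨π n, hn⟩ with hm
  have h1 : π (n * m⁻¹) = 1 := by
    rw [map_mul, map_inv, hψ, mul_inv_cancel]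
  have h2 : n * m⁻¹ ∈ π.ker := h1
  have h3 : m * (n * m⁻¹) = (n * m⁻¹) * m := hc _ h2 m
  have h4 : n * m⁻¹ * m = n := by group
  have hnm : n * m⁻¹ = m⁻¹ * n := by
    rw [h4] at h3
    calc n * m⁻¹ = m⁻¹ * (m * (n * m⁻¹)) := by group
      _ = m⁻¹ * n := by rw [h3]
  have h5 : (m⁻¹) ^ 2 ^ l = 1 := by rw [inv_pow, hl, inv_one]
  have h6 := pow_pow_mul hnm hk h5
  have h7 := eq_one_of_odd hodd h2 h6
  exact (mul_inv_eq_one.1 h7).symm

variable {L : Type*} [Group L] {G : Type*} [Group G] {D : Iface.Data L} {e : L →* G} {t : G}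
  {Θ : Subgroup G}

/-- **Lifting 2-subgroups of `X = C_G(Θ)/Z(Θ)` to `G`.** -/
theorem RedOut.exists_psi (O : RedOut D e t Θ) [Finite G] (B : Subgroup (XX Θ)) (hB : IsPGroup 2 B) :
    ∃ ψ : B →* G, Function.Injective ψ ∧ (∀ b, ∀ x ∈ Θ, ψ b * x = x * ψ b) ∧
      (∀ b, ∃ h : ψ b ∈ NN Θ, QuotientGroup.mk' (ZZ Θ) ⟨ψ b, h⟩ = b) ∧
      (∀ n : NN Θ, ∀ hn : QuotientGroup.mk' (ZZ Θ) n ∈ B, (∃ k, n ^ 2 ^ k = 1) →
        ψ ⟨QuotientGroup.mk' (ZZ Θ) n, hn⟩ = n) ∧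
      (∀ ht : O.tX ∈ B, ψ ⟨O.tX, ht⟩ = t) ∧
      (∀ x : L, ∀ hx : O.φ x ∈ B, (∃ k, x ^ 2 ^ k = 1) → ψ ⟨O.φ x, hx⟩ = e x) ∧
      ∀ b, ∃ k, ψ b ^ 2 ^ k = 1 := by
  have hker : (QuotientGroup.mk' (ZZ Θ)).ker = ZZ Θ := QuotientGroup.ker_mk' _
  obtain ⟨ψ, h1, h2, h3⟩ := exists_lift (QuotientGroup.mk' (ZZ Θ)) (QuotientGroup.mk'_surjective _)
    (by
      intro z hz n
      rw [hker] at hz
      exact ZZ_comm hz)
    (by
      rw [hker]
      have h4 : Nat.card (ZZ Θ) ∣ Nat.card Θ := by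
        have h5 : Nat.card (ZZ Θ) = Nat.card (Θ ⊓ NN Θ : Subgroup G) := by
          rw [← Nat.card_congr (subgroupOfEquivOfLe (inf_le_right : Θ ⊓ NN Θ ≤ NN Θ)).toEquiv]
          congr 1
          rw [inf_subgroupOf_right]
        rw [h5]
        exact card_dvd_of_le inf_le_left
      exact O.core.odd.of_dvd_nat h4) B hB
  refine ⟨(NN Θ).subtype.comp ψ, ?_, ?_, ?_, ?_, ?_, ?_, ?_⟩
  · intro a b hab
    have h4 : ψ a = ψ b := Subtype.ext hab
    apply Subtype.ext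
    rw [← h1 a, ← h1 b, h4]
  · intro b x hx
    exact mem_NN.1 (ψ b).2 x hx
  · intro b
    exact ⟨(ψ b).2, h1 b⟩
  · intro n hn hk
    exact congrArg Subtype.val (h2 n hn hk)
  · intro ht
    have := h2 ⟨t, O.t_mem_N⟩ ht ⟨1, Subtype.ext (by
      show t ^ 2 ^ 1 = 1
      rw [pow_one, pow_two, O.t_sq])⟩
    exact congrArg Subtype.val this
  · intro x hx hk
    obtain ⟨k, hk⟩ := hk
    have := h2 (O.eN x) hx ⟨k, by rw [← map_pow, hk, map_one]⟩
    exact congrArg Subtype.val this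
  · intro b
    obtain ⟨k, hk⟩ := h3 b
    exact ⟨k, congrArg Subtype.val hk⟩

end Cfsg.Agent.GTwoFour.Lift
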