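import Cfsg.Agent.GTwoFour.MdlL2
import Cfsg.Agent.GTwoFour.Iface

/-!
# `G₂(4)` in dimension six: `Q2`, `L2`, and the instance of `Iface.Facts`
-/

set_option autoImplicit false
set_option linter.unusedVariables false

namespace Cfsg.Agent.GTwoFour.Mdl

open Cfsg.Agent.SporRec.GF4
open Cfsg.Agent.SporRec.G24Code (app)
open Cfsg.Agent.StdG24.Mod6
open Subgroup
open scoped commutatorElement

/-! ### `Q2` modulo `W4` -/

theorem W4_comm_X {r : Fin 12} (hr : r ∈ ([7, 8, 9, 10, 11] : List (Fin 12))) : ∀ w ∈ W4, ∀ x ∈ X r,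
    w * x = x * w := by
  rintro _ ⟨a, ha, b, hb, rfl⟩ x hx
  have h10 : ∀ r ∈ ([7, 8, 9, 10, 11] : List (Fin 12)), cmX 10 r [] = true := by decide +kernel
  have h11 : ∀ r ∈ ([7, 8, 9, 10, 11] : List (Fin 12)), cmX 11 r [] = true := by decide +kernel
  rw [mul_assoc, comm_of_cmX (h11 r hr) b hb x hx, ← mul_assoc, comm_of_cmX (h10 r hr) a ha x hx,
    mul_assoc]

theorem comm_Q2 : ∀ q ∈ Q2, ∀ q' ∈ Q2, ⁅q, q'⁆ ∈ W4 := by
  have h : ∀ r ∈ ([7, 8, 9, 10, 11] : List (Fin 12)), ∀ s ∈ ([7, 8, 9, 10, 11] : List (Fin 12)),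
      cmX r s [10, 11] = true := by decide +kernel
  intro q hq q' hq'
  refine comm_mem_of_gens (T := TX [7, 8, 9, 10, 11]) ?_ ?_ q (Q2_le_closure hq) q'
    (Q2_le_closure hq')
  · rintro w hw x ⟨r, hr, hx⟩
    exact W4_comm_X hr w hw x hx
  · rintro a ⟨r, hr, ha⟩ b ⟨s, hs, hb⟩
    exact cmX_spec (h r hr s hs) W4_rs a ha b hb

theorem sq_Q2 : ∀ q ∈ Q2, q * q ∈ W4 := by
  have h : ∀ r ∈ ([7, 8, 9, 10, 11] : List (Fin 12)), ∀ s ∈ ([7, 8, 9, 10, 11] : List (Fin 12)),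
      cmX r s [10, 11] = true := by decide +kernel
  intro q hq
  refine sq_mem_of_gens (T := TX [7, 8, 9, 10, 11]) ?_ ?_ ?_ q (Q2_le_closure hq)
  · rintro w hw x ⟨r, hr, hx⟩
    exact W4_comm_X hr w hw x hx
  · rintro a ⟨r, hr, ha⟩ b ⟨s, hs, hb⟩
    exact cmX_spec (h r hr s hs) W4_rs a ha b hb
  · rintro a ⟨r, hr, ha⟩
    rw [X_sq ha]; exact W4.one_mem

theorem W4_comm_Q2 : ∀ w ∈ W4, ∀ q ∈ Q2, w * q = q * w := by
  intro w hw q hq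
  refine comm_closure (T := TX [7, 8, 9, 10, 11]) (W := W4) ?_ w hw q (Q2_le_closure hq)
  rintro w hw x ⟨r, hr, hx⟩
  exact W4_comm_X hr w hw x hx

theorem y_pow_cases (i : ℕ) : y ^ i = 1 ∨ y ^ i = y ∨ y ^ i = y * y := by
  have h1 : y ^ i = y ^ (i % 3) := by
    conv_lhs => rw [← Nat.div_add_mod i 3, pow_add, pow_mul, y_pow, one_pow, one_mul]
  have h2 : i % 3 = 0 ∨ i % 3 = 1 ∨ i % 3 = 2 := by omega
  rcases h2 with h2 | h2 | h2 <;> rw [h1, h2]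
  · exact Or.inl (pow_zero y)
  · exact Or.inr (Or.inl (pow_one y))
  · exact Or.inr (Or.inr (pow_two y))

theorem y_pow_X (r : Fin 12) (i : ℕ) : ∀ x ∈ X r, y ^ i * x * (y ^ i)⁻¹ ∈ X r := by
  induction i with
  | zero => intro x hx; rwa [pow_zero, one_mul, inv_one, mul_one]
  | succ i ih =>
    intro x hx
    have e : y ^ (i + 1) * x * (y ^ (i + 1))⁻¹ = y * (y ^ i * x * (y ^ i)⁻¹) * y⁻¹ := by
      rw [pow_succ' y i]; group
    rw [e]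
    exact y_X r _ (ih x hx)

/-- `y ^ i` commutes with `x_a(1)` only if it is trivial -/
theorem y_pow_eq_one {i : ℕ} (h : y ^ i * gx 7 0 * (y ^ i)⁻¹ = gx 7 0) : y ^ i = 1 := by
  have h1 : cw (yw ++ (7, 0) :: yw.reverse) ≠ xc 7 0 ∧
      cw ((yw ++ yw) ++ (7, 0) :: (yw ++ yw).reverse) ≠ xc 7 0 := by decide +kernel
  rcases y_pow_cases i with e | e | e
  · exact e
  · exfalso
    rw [e] at h
    have h2 : y * gx 7 0 * y⁻¹ = ev (yw ++ (7, 0) :: yw.reverse) := by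
      rw [y, ← ev_reverse, ev_append, mul_assoc]; rfl
    rw [h2] at h
    exact h1.1 ((Cd_ev _).unique (h ▸ Cd_gx 7 0))
  · exfalso
    rw [e] at h
    have h2 : y * y * gx 7 0 * (y * y)⁻¹ = ev ((yw ++ yw) ++ (7, 0) :: (yw ++ yw).reverse) := by
      rw [y, ← ev_append, ← ev_reverse, mul_assoc, ← ev_singleton (7, 0), ← ev_append, ← ev_append]
      rfl
    rw [h2] at h
    exact h1.2 ((Cd_ev _).unique (h ▸ Cd_gx 7 0))

theorem disj7W : ∀ g ∈ X 7, g ∈ W4 → g = 1 := fun g hg hw => disj7 g hg (W4_le_N8 hw)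

theorem cent_Q2 : ∀ l ∈ L2, (∀ q ∈ Q2, ⁅l, q⁆ ∈ W4) → l ∈ Q2 := by
  intro l hl h
  obtain ⟨q0, hq0, i, rfl⟩ := decomp_L2 l hl
  have h7 := X7_le_Q2 (gx_mem_X 7 0)
  have h1 := h (gx 7 0) h7
  have h2 : ⁅y ^ i, gx 7 0⁆ ∈ W4 := by
    have e : ⁅y ^ i, gx 7 0⁆ = q0⁻¹ * (⁅q0 * y ^ i, gx 7 0⁆ * ⁅q0, gx 7 0⁆⁻¹) * q0 := by
      simp only [commutatorElement_def]; group
    rw [e]
    have h3 := W4.mul_mem h1 (W4.inv_mem (comm_Q2 q0 hq0 _ h7))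
    rw [← W4_comm_Q2 _ h3 _ (Q2.inv_mem hq0), inv_mul_cancel_right]
    exact h3
  have h3 : ⁅y ^ i, gx 7 0⁆ ∈ X 7 :=
    (X 7).mul_mem (y_pow_X 7 i _ (gx_mem_X 7 0)) ((X 7).inv_mem (gx_mem_X 7 0))
  have h4 := disj7W _ h3 h2
  have h5 : y ^ i = 1 := y_pow_eq_one (by
    rw [commutatorElement_def, mul_inv_eq_one] at h4
    exact h4)
  rw [h5, mul_one]
  exact hq0

theorem center_Q2_check : allN [7, 8, 9, 10, 11] idC (fun C => impF (cm C (xc 7 0))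
    (impF (cm C (xc 9 0)) (siftF [10, 11] C))) = true := by
  decide +kernel

theorem center_L2 : ∀ l ∈ L2, (∀ l' ∈ L2, l * l' = l' * l) → l ∈ W4 := by
  intro l hl h
  have hl2 : l ∈ Q2 := cent_Q2 l hl fun q hq => by
    rw [commutatorElement_eq_one_iff_mul_comm.2 (h q (Q2_le_L2 hq))]
    exact W4.one_mem
  obtain ⟨C, hC, h1⟩ := allN_one center_Q2_check l (Q2_PS hl2)
  exact siftF_sound W4_rs hC (impF_spec (impF_spec h1
    ((cm_iff hC (Cd_gx 7 0)).2 (h _ (Q2_le_L2 (Q2_rs 7 (by simp) (gx_mem_X 7 0))))))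
    ((cm_iff hC (Cd_gx 9 0)).2 (h _ (Q2_le_L2 (Q2_rs 9 (by simp) (gx_mem_X 9 0))))))

/-! ### The other parabolic -/

/-- `P2 = ⟨nl⟩ X_b L2` -/
def P2 : Subgroup GL6 := zpowers nl ⊔ X 6 ⊔ L2

theorem nl_inv : nl⁻¹ = nl := inv_eq_of_mul_eq_one_left nl_sq

theorem nl_Q2 : ∀ q ∈ Q2, nl * q * nl⁻¹ ∈ Q2 := by
  refine conj_Q2 fun r hr x hx => ?_
  simp only [List.mem_cons, List.not_mem_nil, or_false] at hr
  rcases hr with rfl | rfl | rfl | rfl | rfl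
  · exact Q2_rs 8 (by simp) (nl_X 7 8 (by decide +kernel) x hx)
  · exact Q2_rs 7 (by simp) (nl_X 8 7 (by decide +kernel) x hx)
  · exact Q2_rs 9 (by simp) (nl_X 9 9 (by decide +kernel) x hx)
  · exact Q2_rs 11 (by simp) (nl_X 10 11 (by decide +kernel) x hx)
  · exact Q2_rs 10 (by simp) (nl_X 11 10 (by decide +kernel) x hx)

theorem X6_Q2 : ∀ k ∈ X 6, ∀ q ∈ Q2, k * q * k⁻¹ ∈ Q2 := by
  intro k hk
  refine conj_Q2 fun r hr => ?_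
  have h : ∀ r ∈ ([7, 8, 9, 10, 11] : List (Fin 12)), cjF 6 r [7, 8, 9, 10, 11] = true := by
    decide +kernel
  exact cjF_spec (h r hr) Q2_rs (Q2_rs r hr) k hk

theorem y_Q2 (i : ℕ) : ∀ q ∈ Q2, y ^ i * q * (y ^ i)⁻¹ ∈ Q2 :=
  conj_Q2 fun r hr x hx => Q2_rs r hr (y_pow_X r i x hx)

theorem mem_norm {g : GL6} (h1 : ∀ q ∈ Q2, g * q * g⁻¹ ∈ Q2) (h2 : ∀ q ∈ Q2, g⁻¹ * q * g⁻¹⁻¹ ∈ Q2) :
    g ∈ normalizer (Q2 : Set GL6) := by
  rw [mem_normalizer_iff]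
  intro q
  refine ⟨h1 q, fun h => ?_⟩
  have := h2 _ h
  have e : g⁻¹ * (g * q * g⁻¹) * g⁻¹⁻¹ = q := by group
  rwa [e] at this

theorem P2_le_norm : P2 ≤ normalizer (Q2 : Set GL6) := by
  refine sup_le (sup_le ?_ ?_) ?_
  · rw [zpowers_le]
    exact mem_norm nl_Q2 (by rw [nl_inv]; exact nl_Q2)
  · intro x hx
    exact mem_norm (X6_Q2 x hx) (X6_Q2 _ ((X 6).inv_mem hx))
  · intro l hl
    obtain ⟨q0, hq0, i, rfl⟩ := decomp_L2 l hl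
    refine mul_mem (le_normalizer hq0) (mem_norm (y_Q2 i) ?_)
    have e : (y ^ i)⁻¹ = y ^ (2 * i) := by
      rw [inv_eq_iff_mul_eq_one, ← pow_add, show i + 2 * i = 3 * i by ring, pow_mul, y_pow, one_pow]
    rw [e]
    exact y_Q2 _

theorem norm_Q2 : ∀ g ∈ P2, ∀ q ∈ Q2, g * q * g⁻¹ ∈ Q2 := fun g hg q hq =>
  (mem_normalizer_iff.1 (P2_le_norm hg) q).1 hq

theorem conj_Q2_check : ∀ t : Fin 3, ∀ u : Fin 4, ∃ v : Fin 4,
    siftF [8, 9, 10, 11] (cw ([(6, 0), (5, 0), (6, 0)] ++ xw 6 v ++ ((7, t) :: xw 8 u) ++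
      ([(6, 0), (5, 0), (6, 0)] ++ xw 6 v).reverse)) = true := by decide +kernel

theorem nl_mem_P2 : nl ∈ P2 := (le_sup_left.trans le_sup_left : zpowers nl ≤ P2) (mem_zpowers nl)
theorem X6_le_P2 : X 6 ≤ P2 := le_sup_right.trans le_sup_left

theorem conj_Q2' : ∀ q ∈ Q2, ∃ g ∈ P2, g * q * g⁻¹ ∈ N8 := by
  rintro _ ⟨x, hx, n, hn, rfl⟩
  rcases X_cases hx with rfl | ⟨t, rfl⟩
  · exact ⟨1, P2.one_mem, by rwa [one_mul, inv_one, mul_one, one_mul]⟩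
  obtain ⟨x8, ⟨u, rfl⟩, n9, hn9, rfl⟩ := hn
  obtain ⟨v, hv⟩ := conj_Q2_check t u
  refine ⟨nl * xe 6 v, P2.mul_mem nl_mem_P2 (X6_le_P2 (xe_mem 6 v)), ?_⟩
  have h1 : (nl * xe 6 v) * (gx 7 t * xe 8 u) * (nl * xe 6 v)⁻¹ ∈ N8 := by
    have h2 := siftF_sound N8_rs (Cd_ev _) hv
    have e : ev ([(6, 0), (5, 0), (6, 0)] ++ xw 6 v ++ ((7, t) :: xw 8 u) ++
      ([(6, 0), (5, 0), (6, 0)] ++ xw 6 v).reverse) =
        (nl * xe 6 v) * (gx 7 t * xe 8 u) * (nl * xe 6 v)⁻¹ := by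
      rw [ev_append, ev_reverse, ev_append, ev_append]
      rfl
    rwa [e] at h2
  have h2 : (nl * xe 6 v) * n9 * (nl * xe 6 v)⁻¹ ∈ N8 := by
    have h3 : xe 6 v * n9 * (xe 6 v)⁻¹ ∈ N9 := by
      have h := conj_N9 (k := xe 6 v) (M := N9)
        (cj [9, 10, 11] (by decide +kernel) N9_rs X9_le_N9 _ (xe_mem 6 v))
        (cj [9, 10, 11] (by decide +kernel) N9_rs (X10_le_W4.trans W4_le_N9) _ (xe_mem 6 v))
        (cj [9, 10, 11] (by decide +kernel) N9_rs (X11_le_W4.trans W4_le_N9) _ (xe_mem 6 v))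
      exact h n9 hn9
    have h4 : nl * (xe 6 v * n9 * (xe 6 v)⁻¹) * nl⁻¹ ∈ N8 := by
      have h := conj_N9 (k := nl) (M := N8)
        (fun x hx => X9_le_N8 (nl_X 9 9 (by decide +kernel) x hx))
        (fun x hx => X11_le_N8 (nl_X 10 11 (by decide +kernel) x hx))
        (fun x hx => X10_le_N8 (nl_X 11 10 (by decide +kernel) x hx))
      exact h _ h3
    have e : nl * xe 6 v * n9 * (nl * xe 6 v)⁻¹ = nl * (xe 6 v * n9 * (xe 6 v)⁻¹) * nl⁻¹ := by group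
    rw [e]; exact h4
  have e : nl * xe 6 v * (gx 7 t * (xe 8 u * n9)) * (nl * xe 6 v)⁻¹ =
      ((nl * xe 6 v) * (gx 7 t * xe 8 u) * (nl * xe 6 v)⁻¹) *
        ((nl * xe 6 v) * n9 * (nl * xe 6 v)⁻¹) := by group
  rw [e]
  exact N8.mul_mem h1 h2

/-! ### More facts -/

theorem exists_y8 : ∀ x ∈ X 8, ∃ x' ∈ X 8, ⁅x', y⁆ = x := by
  intro x hx
  rcases X_cases hx with rfl | ⟨t, rfl⟩
  · exact ⟨1, (X 8).one_mem, commutatorElement_one_left _⟩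
  have h : ∀ t : Fin 3, ∃ u : Fin 3, cw (cmw [(8, u)] yw) = cw [(8, t)] := by decide +kernel
  obtain ⟨u, hu⟩ := h t
  refine ⟨gx 8 u, gx_mem_X 8 u, ?_⟩
  rw [← ev_singleton (8, u), y, ← ev_cmw, ev_eq_of hu, ev_singleton]

theorem exists_y9 : ∀ x ∈ X 9, ∃ x' ∈ X 9, ⁅x', y⁆ = x := by
  intro x hx
  rcases X_cases hx with rfl | ⟨t, rfl⟩
  · exact ⟨1, (X 9).one_mem, commutatorElement_one_left _⟩
  have h : ∀ t : Fin 3, ∃ u : Fin 3, cw (cmw [(9, u)] yw) = cw [(9, t)] := by decide +kernel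
  obtain ⟨u, hu⟩ := h t
  refine ⟨gx 9 u, gx_mem_X 9 u, ?_⟩
  rw [← ev_singleton (9, u), y, ← ev_cmw, ev_eq_of hu, ev_singleton]

theorem comm_y : ∀ q ∈ N8, ∃ q' ∈ Q1, ∃ w ∈ W4, q = ⁅q', y⁆ * w := by
  rintro _ ⟨x8, h8, _, ⟨x9, h9, w, hw, rfl⟩, rfl⟩
  obtain ⟨a, ha, ea⟩ := exists_y8 x8 h8
  obtain ⟨b, hb, eb⟩ := exists_y9 x9 h9
  refine ⟨a * b, Q1.mul_mem (Q1_rs 8 (by simp) ha) (Q1_rs 9 (by simp) hb),
    ⁅x8⁻¹ * a, x9⁻¹⁆ * w, W4.mul_mem (X11_le_W4 ?_) hw, ?_⟩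
  · exact comm_Q1 _ (Q1.mul_mem (Q1.inv_mem (Q1_rs 8 (by simp) h8)) (Q1_rs 8 (by simp) ha)) _
      (Q1.inv_mem (Q1_rs 9 (by simp) h9))
  · have e : ⁅a * b, y⁆ = a * ⁅b, y⁆ * a⁻¹ * ⁅a, y⁆ := by
      simp only [commutatorElement_def]; group
    rw [e, ea, eb]
    simp only [commutatorElement_def]; group

theorem Xe_Xb : ∀ e ∈ X 10, ∀ x ∈ X 6, e * x = x * e → e = 1 ∨ x = 1 := by
  intro e he x hx h
  rcases X_cases he with rfl | ⟨t, rfl⟩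
  · exact Or.inl rfl
  rcases X_cases hx with rfl | ⟨t', rfl⟩
  · exact Or.inr rfl
  exfalso
  have h3 : ∀ t t' : Fin 3, cm (xc 10 t) (xc 6 t') = false := by decide +kernel
  have h4 := (cm_iff (Cd_gx 10 t) (Cd_gx 6 t')).2 h
  rw [h3 t t'] at h4
  exact absurd h4 (by decide)

/-- the word of the norm of `x_b(t)` over `X_a` -/
def nmw (t : Fin 3) : Wd :=
  let a : Wd := [(7, 0)]
  let b : Wd := [(7, 2)]
  let x : Wd := [(6, t)]
  x ++ (a ++ x ++ a.reverse) ++ (b ++ x ++ b.reverse) ++ ((a ++ b) ++ x ++ (a ++ b).reverse)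

theorem ev_nmw (t : Fin 3) : ev (nmw t) = gx 6 t * (gx 7 0 * gx 6 t * (gx 7 0)⁻¹) *
    (gx 7 2 * gx 6 t * (gx 7 2)⁻¹) * (gx 7 0 * gx 7 2 * gx 6 t * (gx 7 0 * gx 7 2)⁻¹) := by
  simp only [nmw, ev_append, ev_reverse, ev_singleton]

theorem nmw_check : ∀ t : Fin 3, siftF [10, 11] (cw (nmw t)) = true ∧
    ∀ n ∈ ([0, 1, 2, 3] : List ℕ), cw (nmw t) ≠ xk 11 n := by decide +kernel

theorem y_X7 : y * gx 7 0 * y⁻¹ = gx 7 2 := by
  rw [y, ← ev_singleton (7, 0), ← ev_reverse, ← ev_append, ← ev_append, ← ev_singleton (7, 2)]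
  exact ev_eq_of (by decide +kernel)

theorem X7_elts : ∀ x ∈ X 7, x = 1 ∨ x = gx 7 0 ∨ x = gx 7 2 ∨ x = gx 7 0 * gx 7 2 := by
  intro x hx
  rcases X_cases hx with rfl | ⟨t, rfl⟩
  · exact Or.inl rfl
  match t with
  | 0 => exact Or.inr (Or.inl rfl)
  | 1 =>
    refine Or.inr (Or.inr (Or.inr ?_))
    rw [← ev_singleton (7, 0), ← ev_singleton (7, 2), ← ev_append, ← ev_singleton (7, 1)]
    exact ev_eq_of (by decide +kernel)
  | 2 => exact Or.inr (Or.inr (Or.inl rfl))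

theorem X7_comm : gx 7 0 * gx 7 2 = gx 7 2 * gx 7 0 := by
  rw [← ev_singleton (7, 0), ← ev_singleton (7, 2), ← ev_append, ← ev_append]
  exact ev_eq_of (by decide +kernel)

/-! ### The instance -/

/-- the data in the six-dimensional model -/
def D : Iface.Data GL6 where
  A := L
  P := P
  Q1 := Q1
  Q2 := Q2
  Z := X 11
  Xe := X 10
  Xb := X 6
  Xa := X 7
  ns := ns
  nl := nl
  h := h
  f := f
  y := y
  a1 := gx 7 0
  a2 := gx 7 2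

theorem D_W4 : D.W4 = W4 := W4_eq
theorem D_Q12 : D.Q12 = N8 := Q12_eq
theorem D_L2 : D.L2 = L2 := rfl
theorem D_B : D.B = B := rfl
theorem D_P2 : D.P2 = P2 := rfl

theorem nl_mem_L : nl ∈ L := ev_mem _
theorem h_mem_L : Mdl.h ∈ L := ev_mem _

/-- the facts on `G₂(4)` -/
theorem facts : Iface.Facts D where
  P_le := P_le_L
  Q1_le := Q1_le_P
  Z_le := Q1_rs 11 (by simp)
  Xe_le := Q1_rs 10 (by simp)
  Xb_le := X6_le_Q1
  Xa_le := X7_le_Q2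
  Q2_le := Q2_le_L2
  ns_mem := S_le_P ns_mem_S
  f_mem := S_le_P f_mem_S
  y_mem := y_mem_L2
  nl_mem := nl_mem_L
  h_mem := h_mem_L
  card_A := Cfsg.Agent.StdG24.Ord6.card_L
  card_P := card_P
  card_Q1 := card_Q1
  card_Q2 := card_Q2
  card_Q12 := by rw [D_Q12]; exact card_N8
  card_Z := X_nat_card 11
  card_Xe := X_nat_card 10
  card_Xb := X_nat_card 6
  card_Xa := X_nat_card 7
  cent_Z := cent_Z
  sq_Z := fun z hz => X_sq hz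
  sq_Xe := fun z hz => X_sq hz
  sq_Xb := fun z hz => X_sq hz
  norm_Q1 := norm_Q1
  core_P := core_P
  perfect_P := perfect_P
  center_PQ1 := center_PQ1
  center_Q1 := center_Q1
  cent_Q1Z := cent_Q1Z
  comm_Q1 := comm_Q1
  sq_Q1 := sq_Q1
  f_pow := f_pow
  f_Q1 := f_Q1
  h_pow := h_pow
  h_P := h_P
  h_Z := h_X 11
  h_Z_fpf := h_Z_fpf
  h_Xe := h_X 10
  h_Xe_fpf := h_Xe_fpf
  h_Xb := h_X 6
  h_bilin := h_bilin
  Xe_Z := disj10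
  Xe_Xb := Xe_Xb
  gen_Q1 := gen_Q1
  decomp_Q1 := by
    rw [D_Q12]
    rintro _ ⟨x, hx, n, hn, rfl⟩
    exact ⟨x, hx, n, hn, rfl⟩
  a1_mem := gx_mem_X 7 0
  a2_mem := gx_mem_X 7 2
  a1_sq := gx_sq 7 0
  a2_sq := gx_sq 7 2
  a12 := X7_comm
  Xa_elts := X7_elts
  cent_Xa := by rw [D_W4]; exact cent_Xa
  nrm_Xb := by
    rw [D_W4]
    intro x hx
    rcases X_cases hx with rfl | ⟨t, rfl⟩
    · have : D.nrm 1 = 1 := by simp [Iface.Data.nrm]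
      rw [this]
      exact ⟨W4.one_mem, fun _ => rfl⟩
    have h1 : D.nrm (gx 6 t) = ev (nmw t) := (ev_nmw t).symm
    rw [h1]
    obtain ⟨h2, h3⟩ := nmw_check t
    refine ⟨siftF_sound W4_rs (Cd_ev _) h2, fun h4 => ?_⟩
    exfalso
    obtain ⟨n, hn, h5⟩ := xk_of_mem h4
    exact h3 n hn ((Cd_ev _).unique h5)
  ns_sq := ns_sq
  ns_Xe := ns_X 10 6 (by decide +kernel)
  ns_Xb := ns_X 6 10 (by decide +kernel)
  y_pow := y_pow
  ns_y := ns_y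
  y_Xa := y_X 7
  cent_y := by rw [D_W4]; exact cent_y
  comm_y := by rw [D_W4, D_Q12]; exact comm_y
  bruhat := bruhat
  nl_sq := nl_sq
  nl_Z := nl_X 11 10 (by decide +kernel)
  nl_Xe := nl_X 10 11 (by decide +kernel)
  center_L2 := by rw [D_W4]; exact center_L2
  decomp_Q2 := by
    rw [D_Q12]
    rintro _ ⟨x, hx, n, hn, rfl⟩
    exact ⟨x, hx, n, hn, rfl⟩
  Q12_le := by rw [D_Q12]; exact N8_le_Q2
  norm_Q2 := norm_Q2
  comm_Q2 := by rw [D_W4]; exact comm_Q2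
  sq_Q2 := by rw [D_W4]; exact sq_Q2
  cent_Q2 := by rw [D_W4]; exact cent_Q2
  decomp_L2 := decomp_L2
  conj_Q2 := by rw [D_Q12]; exact conj_Q2'

end Cfsg.Agent.GTwoFour.Mdl
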