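import Mathlib
import Cfsg.Prelude.Def_Local
import Cfsg.Prelude.Def_CaseTheorems
import Cfsg.Prelude.Def_ChevG2
import Cfsg.Agent.GTwoFour.EmbOf
import Cfsg.Agent.GTwoFour.RedHyp
import Cfsg.Agent.GTwoFour.MdlQ2
import Cfsg.Agent.StdG24.Iso6

/-!
# Start of the rank one case of S1751: from the literal hypotheses to `Red.exists_tcent`
-/

set_option autoImplicit false

namespace Cfsg.Agent.GTwoFour.Start

open Subgroup Cfsg.Agent.StdG24
open scoped commutatorElement

/-- a group with `Iface.Facts` and `D.A = ⊤` has trivial centre -/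
theorem center_trivial {L : Type*} [Group L] {D : Iface.Data L} (I : Iface.Facts D)
    (hA : ∀ x, x ∈ D.A) (c : L) (hc : ∀ y, c * y = y * c) : c = 1 := by
  have hcP : c ∈ D.P := (I.cent_Z c (hA c)).1 fun z _ => hc z
  have hcQ : c ∈ D.Q1 := by
    apply I.cent_Q1Z c hcP
    intro q _
    have : ⁅c, q⁆ = 1 := commutatorElement_eq_one_iff_mul_comm.2 (hc q)
    rw [this]
    exact one_mem _
  have hcZ : c ∈ D.Z := I.center_Q1 c hcQ fun q _ => hc q
  apply I.h_Z_fpf c hcZ
  rw [← hc, mul_inv_cancel_right]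

theorem exists_ne_one {L : Type*} [Group L] {D : Iface.Data L} (I : Iface.Facts D) :
    ∃ x : L, x ≠ 1 := by
  by_contra hcon
  push Not at hcon
  have h1 : Nat.card D.Z = 1 := by
    rw [Nat.card_eq_one_iff_unique]
    refine ⟨⟨fun a b => Subtype.ext ?_⟩, ⟨1⟩⟩
    rw [hcon (a : L), hcon (b : L)]
  rw [I.card_Z] at h1
  omega

/-- the model `L` as a group of its own, with the data of helper928 -/
abbrev DL : Iface.Data Mdl.D.A := Mdl.D.res Mdl.facts

theorem facts_DL : Iface.Facts DL := Mdl.facts.res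

theorem mem_DL (x : Mdl.D.A) : x ∈ DL.A := mem_top x

/-- **Start.** -/
theorem start {G : Type*} [Group G] [Finite G] [IsSimpleGroup G] (hG : ¬ IsMulCommutative G)
    (A : Subgroup G) (hL : Cfsg.IsStandardSubgroup A)
    {F : Type*} [Field F] [Fintype F] (hF : Fintype.card F = 4)
    (hLX : Nonempty (↥A ≃* ↥(Cfsg.Lie.chevG2.group F)))
    (hR : Cfsg.PRankLE 2 1 ↥(centralizer (A : Set G))) (RF : RedFacts DL) :
    ∃ (e : Mdl.D.A →* G), Emb e ∧ e.range = A ∧ Red.RankOne (KK e) ∧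
      ∃ (t : G) (Θ : Subgroup G),
        Red.TCent (DL.map e).A (DL.map e).P (DL.map e).Z Θ t ∧ t ∈ KK e ∧ Red.Core e t Θ := by
  obtain ⟨i⟩ := hLX
  obtain ⟨j⟩ := Iso6.equiv_chev F hF
  let φ : A ≃* Mdl.D.A := i.trans j.symm
  have h : Emb (EmbOf.emb φ) := EmbOf.emb_of_standard hL φ
    (fun x hx => center_trivial facts_DL mem_DL x hx) (exists_ne_one facts_DL)
  have rk : Red.RankOne (KK (EmbOf.emb φ)) := by
    rw [EmbOf.KK_emb]
    exact Red.rankOne_of_PRankLE hR
  exact ⟨EmbOf.emb φ, h, EmbOf.range_emb φ, rk,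
    Red.exists_tcent hG RF facts_DL mem_DL rk h⟩

end Cfsg.Agent.GTwoFour.Start
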