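import Cfsg.Agent.GTwoFour.MdlQ2
import Cfsg.Agent.GTwoFour.HypOf
import Cfsg.Agent.GTwoFour.Start
import Cfsg.Agent.StdG24.Ord6

/-!
# Instances of `HypOf.EndFacts` and `ChiData.HFacts` in the model of `G₂(4)` (S1751)
-/

set_option autoImplicit false

namespace Cfsg.Agent.GTwoFour.Mdl

open Subgroup
open Cfsg.Agent.SporRec.GF4
open Cfsg.Agent.SporRec.G24Code (app)
open Cfsg.Agent.StdG24.Mod6
open scoped commutatorElement

/-! ### `[b, Q1] = Z` -/

/-- check: for `1 ≠ x ∈ X r`, `[x, X s] = X 11` -/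
def fullX (r s : Fin 12) : Bool :=
  allF [0, 1, 2] fun t => allF [0, 1, 2] fun u => anyF [0, 1, 2] fun t' =>
    mulF (xc r t) (xc s t') fun E => mulF E E fun F => eqF F (xc 11 u)

theorem fullX_spec {r s : Fin 12} (h : fullX r s = true) : ∀ x ∈ X r, x ≠ 1 → ∀ z ∈ X 11,
    ∃ q ∈ X s, ⁅x, q⁆ = z := by
  intro x hx hx1 z hz
  rcases X_cases hz with rfl | ⟨u, rfl⟩
  · exact ⟨1, (X s).one_mem, commutatorElement_one_right _⟩
  rcases X_cases hx with rfl | ⟨t, rfl⟩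
  · exact absurd rfl hx1
  have h1 := allF_spec (allF_spec h t (by fin_cases t <;> simp)) u (by fin_cases u <;> simp)
  obtain ⟨t', _, h2⟩ := anyF_spec h1
  rw [mulF_eq, mulF_eq, eqF_iff] at h2
  refine ⟨gx s t', gx_mem_X s t', ?_⟩
  have h3 := ((Cd_gx r t).mul (Cd_gx s t')).mul ((Cd_gx r t).mul (Cd_gx s t'))
  rw [h2] at h3
  have h4 := h3.inj (Cd_gx 11 u)
  rw [commutatorElement_def, gx_inv, gx_inv, ← h4]
  group

/-- if `k` commutes with `n`, then `⁅x n, k⁆ = ⁅x, k⁆` -/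
theorem comm_mul_of_comm {G : Type*} [Group G] {x n k : G} (h : n * k = k * n) : ⁅x * n, k⁆ = ⁅x, k⁆ := by
  have h1 : n * k * n⁻¹ = k := by rw [h, mul_inv_cancel_right]
  calc ⁅x * n, k⁆ = x * (n * k * n⁻¹) * x⁻¹ * k⁻¹ := by rw [commutatorElement_def]; group
    _ = ⁅x, k⁆ := by rw [h1, commutatorElement_def]

theorem full_Q1 : ∀ b ∈ Q1, b ∉ X 11 → ∀ z ∈ X 11, ∃ q ∈ Q1, ⁅b, q⁆ = z := by
  have comm : ∀ {r s : Fin 12}, cmX r s [] = true → ∀ x ∈ X r, ∀ y ∈ X s, x * y = y * x := comm_of_cmX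
  intro b hb hbZ z hz
  obtain ⟨x6, h6, n8, hn8, rfl⟩ := hb
  obtain ⟨x8, h8, n9, hn9, rfl⟩ := hn8
  obtain ⟨x9, h9, w, hw, rfl⟩ := hn9
  obtain ⟨x10, h10, x11, h11, rfl⟩ := hw
  by_cases e6 : x6 = 1
  · subst e6
    by_cases e8 : x8 = 1
    · subst e8
      by_cases e9 : x9 = 1
      · subst e9
        by_cases e10 : x10 = 1
        · subst e10
          exact absurd (by simpa using h11) hbZ
        · obtain ⟨q, hq, e⟩ := fullX_spec (r := 10) (s := 6) (by decide +kernel) x10 h10 e10 z hz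
          refine ⟨q, Q1_rs 6 (by simp) hq, ?_⟩
          rw [one_mul, one_mul, one_mul, comm_mul_of_comm, e]
          exact comm (r := 11) (s := 6) (by decide +kernel) _ h11 _ hq
      · obtain ⟨q, hq, e⟩ := fullX_spec (r := 9) (s := 8) (by decide +kernel) x9 h9 e9 z hz
        refine ⟨q, Q1_rs 8 (by simp) hq, ?_⟩
        rw [one_mul, one_mul, comm_mul_of_comm, e]
        rw [mul_assoc, comm (r := 11) (s := 8) (by decide +kernel) _ h11 _ hq, ← mul_assoc,
          comm (r := 10) (s := 8) (by decide +kernel) _ h10 _ hq, mul_assoc]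
    · obtain ⟨q, hq, e⟩ := fullX_spec (r := 8) (s := 9) (by decide +kernel) x8 h8 e8 z hz
      refine ⟨q, Q1_rs 9 (by simp) hq, ?_⟩
      rw [one_mul, comm_mul_of_comm, e]
      have c11 := comm (r := 11) (s := 9) (by decide +kernel) _ h11 _ hq
      have c10 := comm (r := 10) (s := 9) (by decide +kernel) _ h10 _ hq
      have c9 := comm (r := 9) (s := 9) (by decide +kernel) _ h9 _ hq
      calc x9 * (x10 * x11) * q = x9 * (x10 * (x11 * q)) := by group
        _ = x9 * (x10 * q) * x11 := by rw [c11]; group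
        _ = (x9 * q) * x10 * x11 := by rw [c10]; group
        _ = _ := by rw [c9]; group
  · obtain ⟨q, hq, e⟩ := fullX_spec (r := 6) (s := 10) (by decide +kernel) x6 h6 e6 z hz
    refine ⟨q, Q1_rs 10 (by simp) hq, ?_⟩
    rw [comm_mul_of_comm, e]
    have c11 := comm (r := 11) (s := 10) (by decide +kernel) _ h11 _ hq
    have c10 := comm (r := 10) (s := 10) (by decide +kernel) _ h10 _ hq
    have c9 := comm (r := 9) (s := 10) (by decide +kernel) _ h9 _ hq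
    have c8 := comm (r := 8) (s := 10) (by decide +kernel) _ h8 _ hq
    calc x8 * (x9 * (x10 * x11)) * q = x8 * (x9 * (x10 * (x11 * q))) := by group
      _ = x8 * (x9 * (x10 * q)) * x11 := by rw [c11]; group
      _ = x8 * (x9 * q) * x10 * x11 := by rw [c10]; group
      _ = (x8 * q) * x9 * x10 * x11 := by rw [c9]; group
      _ = _ := by rw [c8]; group

/-! ### Centralisers on `Q1 / Z` -/

theorem cent_U_check : allN [6, 8, 9, 10, 11] idC (fun C => allF [0, 1, 2] fun t =>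
    impF (cmZ C (xc 7 t)) (siftF [8, 9, 10, 11] C)) = true := by
  decide +kernel

theorem cent_U1 : ∀ q ∈ Q1, ∀ x ∈ X 7, x ≠ 1 → ⁅q, x⁆ ∈ X 11 → q ∈ N8 := by
  intro q hq x hx hx1 h
  rcases X_cases hx with rfl | ⟨t, rfl⟩
  · exact absurd rfl hx1
  obtain ⟨C, hC, h1⟩ := allN_one cent_U_check q (Q1_PS hq)
  have h2 := allF_spec h1 t (by fin_cases t <;> simp)
  exact siftF_sound N8_rs hC (impF_spec h2 (cmZ_of hC (Cd_gx 7 t) h))

/-- some element of `X 8` is moved modulo `Z` by `x ∈ X 7` -/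
theorem exists_moved : ∀ x ∈ X 7, x ≠ 1 → ∃ q ∈ X 8, ⁅q, x⁆ ∉ X 11 := by
  intro x hx hx1
  rcases X_cases hx with rfl | ⟨t, rfl⟩
  · exact absurd rfl hx1
  have hc : (allF [0, 1, 2] fun t => anyF [0, 1, 2] fun t' => impF (cmZ (xc 8 t') (xc 7 t)) false) = true := by
    decide +kernel
  obtain ⟨t', _, h2⟩ := anyF_spec (allF_spec hc t (by fin_cases t <;> simp))
  refine ⟨gx 8 t', gx_mem_X 8 t', fun h => ?_⟩
  exact absurd (impF_spec h2 (cmZ_of (Cd_gx 8 t') (Cd_gx 7 t) h)) (by decide)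


/-- `U = Q1 Xa` -/
theorem U_aux : ∀ k ∈ X 7, ∀ n ∈ Q1, k * n * k⁻¹ ∈ Q1 := fun k hk => conj_Q1 (by
  intro r hr
  simp only [List.mem_cons, List.not_mem_nil, or_false] at hr
  rcases hr with rfl | rfl | rfl | rfl | rfl
  · exact cj [6, 8, 9, 10, 11] (by decide +kernel) Q1_rs (Q1_rs 6 (by simp)) k hk
  · exact cj [6, 8, 9, 10, 11] (by decide +kernel) Q1_rs (Q1_rs 8 (by simp)) k hk
  · exact cj [6, 8, 9, 10, 11] (by decide +kernel) Q1_rs (Q1_rs 9 (by simp)) k hk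
  · exact cj [6, 8, 9, 10, 11] (by decide +kernel) Q1_rs (Q1_rs 10 (by simp)) k hk
  · exact cj [6, 8, 9, 10, 11] (by decide +kernel) Q1_rs (Q1_rs 11 (by simp)) k hk)

def U : Subgroup GL6 := mulSub (X 7) Q1 U_aux

theorem sup_eq : Q1 ⊔ X 7 = U :=
  le_antisymm (sup_le le_right le_left) (mulSub_le le_sup_right le_sup_left)

theorem disj71 : ∀ g ∈ X 7, g ∈ Q1 → g = 1 :=
  disj (fun _ h => Q1_PS h) (by decide +kernel) (by decide +kernel)

theorem card_U : Nat.card (Q1 ⊔ X 7 : Subgroup GL6) = 2 ^ 12 := by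
  rw [sup_eq]
  exact (card_mulSub disj71).trans (by rw [X_nat_card, card_Q1]; norm_num)

theorem U_le_L : Q1 ⊔ X 7 ≤ L :=
  sup_le (Q1_le_P.trans P_le_L) (X_le_L 7)

theorem odd_A : Odd ((Q1 ⊔ X 7).relIndex L) := by
  have h1 := Subgroup.relIndex_mul_relIndex ⊥ (Q1 ⊔ X 7) L bot_le U_le_L
  rw [Subgroup.relIndex_bot_left, Subgroup.relIndex_bot_left, card_U,
    Cfsg.Agent.StdG24.Ord6.card_L] at h1
  rw [Nat.odd_iff]
  omega

theorem cent_U : ∀ u ∈ Q1 ⊔ X 7, u ∉ Q1 → ∀ C : Subgroup GL6, C ≤ Q1 → (∀ q ∈ C, ⁅u, q⁆ ∈ X 11) →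
    Nat.card C < 256 := by
  intro u hu huQ C hC hc
  rw [sup_eq] at hu
  obtain ⟨x, hx, q0, hq0, rfl⟩ := hu
  have hx1 : x ≠ 1 := by
    rintro rfl
    exact huQ (by rwa [one_mul])
  have hZQ : X 11 ≤ Q1 := Q1_rs 11 (by simp)
  -- `[q, x] ∈ Z` for `q ∈ C`
  have h1 : ∀ q ∈ C, ⁅q, x⁆ ∈ X 11 := by
    intro q hq
    have e1 := hc q hq
    have e2 : ⁅x * q0, q⁆ = x * ⁅q0, q⁆ * x⁻¹ * ⁅x, q⁆ := by
      simp only [commutatorElement_def]; group
    have e3 : x * ⁅q0, q⁆ * x⁻¹ ∈ X 11 := by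
      rw [comm_of_cmX (r := 7) (s := 11) (by decide +kernel) x hx _ (comm_Q1 q0 hq0 q (hC hq)),
        mul_inv_cancel_right]
      exact comm_Q1 q0 hq0 q (hC hq)
    rw [e2] at e1
    have e4 : ⁅x, q⁆ ∈ X 11 := by
      have := (X 11).mul_mem ((X 11).inv_mem e3) e1
      rwa [inv_mul_cancel_left] at this
    rw [← commutatorElement_inv]
    exact (X 11).inv_mem e4
  have h2 : C ≤ N8 := fun q hq => cent_U1 q (hC hq) x hx hx1 (h1 q hq)
  obtain ⟨q, hq, hqn⟩ := exists_moved x hx hx1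
  have h3 : C ≠ N8 := fun e => hqn (h1 q (by rw [e]; exact X8_le_N8 hq))
  have h4 : C < N8 := lt_of_le_of_ne h2 h3
  have h5 : Finite N8 := Nat.finite_of_card_ne_zero (by rw [card_N8]; norm_num)
  rw [← card_N8]
  exact Set.Finite.card_lt_card (Set.toFinite (N8 : Set GL6)) h4

theorem h_ns : Mdl.h * ns = ns * Mdl.h := by
  rw [Mdl.h, ns, ← ev_append, ← ev_append]
  exact ev_eq_of (by decide +kernel)

theorem nl_h : nl * Mdl.h * nl⁻¹ * Mdl.h ∈ P := by
  refine mem_P_of_comm (L.mul_mem (L.mul_mem (L.mul_mem nl_mem_L h_mem_L) (L.inv_mem nl_mem_L)) h_mem_L) ?_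
  rw [nl_inv, nl, Mdl.h, ← ev_singleton (11, 0), ← ev_append, ← ev_append, ← ev_append, ← ev_append,
    ← ev_append]
  exact ev_eq_of (by decide +kernel)

/-- the additional facts in `GL6` -/
theorem endFacts : HypOf.EndFacts D where
  full_Q1 := full_Q1
  cent_U := cent_U
  card_U := card_U
  odd_A := odd_A

theorem hFacts : ChiData.HFacts D where
  h_ns := h_ns
  nl_h := nl_h

end Cfsg.Agent.GTwoFour.Mdl

namespace Cfsg.Agent.GTwoFour.HypOf

open Subgroup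
open scoped commutatorElement

/-- restriction of the additional facts to `D.A` -/
theorem EndFacts.res {H : Type*} [Group H] {D : Iface.Data H} (E : EndFacts D) (F : Iface.Facts D) :
    EndFacts (D.res F) := by
  have hQ1 : D.Q1 ≤ D.A := F.Q1_le.trans F.P_le
  have hXa : D.Xa ≤ D.A := F.Xa_le.trans (F.Q2_le.trans (inf_le_left.trans F.P_le))
  have hsup : (D.res F).Q1 ⊔ (D.res F).Xa = (D.Q1 ⊔ D.Xa).subgroupOf D.A := by
    apply (Subgroup.map_injective D.A.subtype_injective)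
    rw [Subgroup.map_sup, subgroupOf_map_subtype, inf_eq_left.2 (sup_le hQ1 hXa)]
    change (D.Q1.subgroupOf D.A).map D.A.subtype ⊔ (D.Xa.subgroupOf D.A).map D.A.subtype = _
    rw [subgroupOf_map_subtype, subgroupOf_map_subtype, inf_eq_left.2 hQ1, inf_eq_left.2 hXa]
  refine ⟨?_, ?_, ?_, ?_⟩
  · rintro ⟨b, hbA⟩ hb hbZ ⟨z, hzA⟩ hz
    obtain ⟨q, hq, e⟩ := E.full_Q1 b hb hbZ z hz
    exact ⟨⟨q, hQ1 hq⟩, hq, Subtype.ext e⟩
  · intro u hu huQ C hC hc
    rw [hsup] at hu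
    have h1 := E.cent_U u.1 hu huQ (C.map D.A.subtype) ?_ ?_
    · rwa [card_map D.A.subtype_injective] at h1
    · rintro _ ⟨c, hcC, rfl⟩
      exact hC hcC
    · rintro _ ⟨c, hcC, rfl⟩
      exact hc c hcC
  · rw [hsup, ← E.card_U, ← card_map D.A.subtype_injective, subgroupOf_map_subtype,
      inf_eq_left.2 (sup_le hQ1 hXa)]
  · have h2 : (D.res F).A = D.A.subgroupOf D.A := (Subgroup.subgroupOf_self _).symm
    rw [hsup, h2]
    have h3 := E.odd_A
    rwa [← Subgroup.relIndex_map_map_of_injective _ _ D.A.subtype_injective, subgroupOf_map_subtype,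
      subgroupOf_map_subtype, inf_eq_left.2 (sup_le hQ1 hXa), inf_idem]

/-- restriction of `HFacts` -/
theorem hfacts_res {H : Type*} [Group H] {D : Iface.Data H} (E : ChiData.HFacts D) (F : Iface.Facts D) :
    ChiData.HFacts (D.res F) where
  h_ns := Subtype.ext E.h_ns
  nl_h := E.nl_h

end Cfsg.Agent.GTwoFour.HypOf

namespace Cfsg.Agent.GTwoFour.Start

theorem endFacts_DL : HypOf.EndFacts DL := Mdl.endFacts.res Mdl.facts

theorem hFacts_DL : ChiData.HFacts DL := HypOf.hfacts_res Mdl.hFacts Mdl.facts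

end Cfsg.Agent.GTwoFour.Start
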