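import Cfsg.Agent.StdG24.Ord6

/-!
# `G₂(4)` in dimension six: fast evaluation and enumeration

Kernel friendly versions of the product of codes, sifting through root subgroups, exhaustive search
over products of root subgroups.
-/

set_option autoImplicit false
set_option linter.unusedVariables false

namespace Cfsg.Agent.GTwoFour.Mdl

open Cfsg.Agent.SporRec.GF4
open Cfsg.Agent.SporRec.G24Code (app)
open Cfsg.Agent.StdG24.Mod6

/-! ### Fast operations -/

/-- image of a vector code -/
def appF (C : List ℕ) : ℕ → ℕ :=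
  List.rec (motive := fun _ => ℕ → ℕ) (fun _ => 0)
    (fun c _ ih v => Nat.rec 0
      (fun m _ => Nat.xor (Nat.mul (Nat.mod (Nat.succ m) 2) c) (ih (Nat.div (Nat.succ m) 2))) v) C

theorem app_zero (C : List ℕ) : app C 0 = 0 := by
  induction C with
  | nil => rfl
  | cons c cs ih =>
    rw [app, Nat.zero_mod, Nat.zero_mul, Nat.zero_div, ih]
    rfl

theorem appF_eq (C : List ℕ) (v : ℕ) : appF C v = app C v := by
  induction C generalizing v with
  | nil => rfl
  | cons c cs ih =>
    cases v with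
    | zero => exact (app_zero _).symm
    | succ m =>
      change Nat.xor (Nat.mul (Nat.mod (Nat.succ m) 2) c) (appF cs (Nat.div (Nat.succ m) 2)) = _
      rw [ih]
      rfl

/-- strict product -/
def mulF {α : Type} (C D : List ℕ) : (List ℕ → α) → α :=
  List.rec (motive := fun _ => (List ℕ → α) → α) (fun k => k [])
    (fun d _ ih k => Nat.rec (ih (fun cs => k (0 :: cs))) (fun m _ => ih (fun cs => k (Nat.succ m :: cs)))
      (appF C d)) D

theorem mulF_eq {α : Type} (C D : List ℕ) (k : List ℕ → α) : mulF C D k = k (mulC C D) := by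
  induction D generalizing k with
  | nil => rfl
  | cons d ds ih =>
    have h1 : mulF C (d :: ds) k = Nat.rec (mulF C ds (fun cs => k (0 :: cs)))
      (fun m _ => mulF C ds (fun cs => k (Nat.succ m :: cs))) (appF C d) := rfl
    have h2 : mulC C (d :: ds) = appF C d :: mulC C ds := by rw [appF_eq]; rfl
    rw [h1, h2]
    generalize appF C d = x
    cases x with
    | zero => exact ih _
    | succ m => exact ih _

/-- equality of codes -/
def eqF (C : List ℕ) : List ℕ → Bool :=
  List.rec (motive := fun _ => List ℕ → Bool) (fun D => List.rec true (fun _ _ _ => false) D)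
    (fun c _ ih D => List.rec false (fun d ds _ => Bool.rec false (ih ds) (Nat.beq c d)) D) C

theorem eqF_iff {C D : List ℕ} : eqF C D = true ↔ C = D := by
  induction C generalizing D with
  | nil =>
    cases D with
    | nil => exact ⟨fun _ => rfl, fun _ => rfl⟩
    | cons d ds =>
      constructor
      · intro h
        exact absurd (show false = true from h) (by decide)
      · intro h
        exact absurd h (by simp)
  | cons c cs ih =>
    cases D with
    | nil =>
      constructor
      · intro h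
        exact absurd (show false = true from h) (by decide)
      · intro h
        exact absurd h (by simp)
    | cons d ds =>
      have h1 : eqF (c :: cs) (d :: ds) = Bool.rec false (eqF cs ds) (Nat.beq c d) := rfl
      rw [h1, List.cons.injEq, ← ih (D := ds)]
      by_cases h : c = d
      · subst h
        have h2 : Nat.beq c c = true := Nat.beq_refl c
        rw [h2]
        exact ⟨fun h => ⟨rfl, h⟩, fun h => h.2⟩
      · have h2 : Nat.beq c d = false := by
          rw [← Bool.not_eq_true, Nat.beq_eq]; exact h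
        rw [h2]
        exact ⟨fun h => absurd (show false = true from h) (by decide), fun h' => absurd h'.1 h⟩

/-- membership in a list of codes -/
def memF (C : List ℕ) (l : List (List ℕ)) : Bool :=
  List.rec (motive := fun _ => Bool) false (fun D _ ih => Bool.rec ih true (eqF C D)) l

theorem memF_iff {C : List ℕ} {l : List (List ℕ)} : memF C l = true ↔ C ∈ l := by
  induction l with
  | nil =>
    exact ⟨fun h => absurd (show false = true from h) (by decide), fun h => absurd h (by simp)⟩
  | cons D l ih =>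
    have h1 : memF C (D :: l) = Bool.rec (memF C l) true (eqF C D) := rfl
    rw [h1, List.mem_cons]
    by_cases h : C = D
    · rw [eqF_iff.2 h]
      exact ⟨fun _ => Or.inl h, fun _ => rfl⟩
    · have h2 : eqF C D = false := by
        rw [← Bool.not_eq_true, eqF_iff]; exact h
      rw [h2]
      exact ⟨fun h' => Or.inr (ih.1 h'), fun h' => ih.2 (h'.resolve_left h)⟩

/-- conjunction over a list -/
def allF {α : Type} (l : List α) (φ : α → Bool) : Bool :=
  List.rec (motive := fun _ => Bool) true (fun a _ ih => Bool.rec false ih (φ a)) l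

theorem allF_spec {α : Type} {l : List α} {φ : α → Bool} (h : allF l φ = true) : ∀ a ∈ l, φ a = true := by
  induction l with
  | nil => intro a ha; exact absurd ha (by simp)
  | cons b l ih =>
    have h1 : allF (b :: l) φ = Bool.rec false (allF l φ) (φ b) := rfl
    rw [h1] at h
    cases hb : φ b with
    | false => rw [hb] at h; exact absurd (show false = true from h) (by decide)
    | true =>
      rw [hb] at h
      intro a ha
      rcases List.mem_cons.1 ha with rfl | ha
      · exact hb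
      · exact ih h a ha

/-- disjunction over a list -/
def anyF {α : Type} (l : List α) (φ : α → Bool) : Bool :=
  List.rec (motive := fun _ => Bool) false (fun a _ ih => Bool.rec ih true (φ a)) l

theorem anyF_spec {α : Type} {l : List α} {φ : α → Bool} (h : anyF l φ = true) : ∃ a ∈ l, φ a = true := by
  induction l with
  | nil => exact absurd (show false = true from h) (by decide)
  | cons b l ih =>
    have h1 : anyF (b :: l) φ = Bool.rec (anyF l φ) true (φ b) := rfl
    rw [h1] at h
    cases hb : φ b with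
    | true => exact ⟨b, List.mem_cons_self, hb⟩
    | false =>
      rw [hb] at h
      obtain ⟨a, ha, h'⟩ := ih h
      exact ⟨a, List.mem_cons_of_mem _ ha, h'⟩

/-! ### Codes of group elements -/

/-- `C` is the code of `g` -/
def Cd (g : GL6) (C : List ℕ) : Prop := IsCode (g : Mat) C

theorem Cd.mul {g h : GL6} {C D : List ℕ} (hg : Cd g C) (hh : Cd h D) : Cd (g * h) (mulC C D) :=
  isCode_mul hg hh

theorem Cd_one : Cd 1 idC := isCode_one

theorem Cd_gx (r : Fin 12) (t : Fin 3) : Cd (gx r t) (xc r t) := isCode_gx r t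

theorem Cd_ev (w : Wd) : Cd (ev w) (cw w) := isCode_ev w

theorem Cd.inj {g h : GL6} {C : List ℕ} (hg : Cd g C) (hh : Cd h C) : g = h :=
  Units.ext ((IsCode.eq_iff hg hh).2 rfl)

theorem Cd.unique {g : GL6} {C D : List ℕ} (hC : Cd g C) (hD : Cd g D) : C = D :=
  IsCode.unique hC hD

theorem Cd.eq_iff {g h : GL6} {C D : List ℕ} (hg : Cd g C) (hh : Cd h D) : g = h ↔ C = D :=
  ⟨fun e => hg.unique (e ▸ hh), fun e => hg.inj (e ▸ hh)⟩

theorem Cd.act_iff {g : GL6} {C : List ℕ} (hg : Cd g C) {n m : ℕ} (hn : n < 4096) (hm : m < 4096) :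
    act g (dec n) = dec m ↔ appF C n = m := by
  rw [appF_eq]
  exact IsCode.app_eq_iff hg hn hm

/-- test of commutation -/
def cm (C D : List ℕ) : Bool := mulF C D fun E => mulF D C fun F => eqF E F

theorem cm_iff {g h : GL6} {C D : List ℕ} (hg : Cd g C) (hh : Cd h D) :
    cm C D = true ↔ g * h = h * g := by
  rw [cm, mulF_eq, mulF_eq, eqF_iff, (hg.mul hh).eq_iff (hh.mul hg)]

/-! ### Root subgroups -/

/-- the word of `x_r(u)`, `u = 0, 1, w, v` -/
def xw (r : Fin 12) : Fin 4 → Wd
  | 0 => []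
  | 1 => [(r, 0)]
  | 2 => [(r, 1)]
  | 3 => [(r, 2)]

/-- `x_r(u)` -/
def xe (r : Fin 12) (u : Fin 4) : GL6 := ev (xw r u)

theorem xe_zero (r : Fin 12) : xe r 0 = 1 := rfl
theorem xe_one (r : Fin 12) : xe r 1 = gx r 0 := ev_singleton _
theorem xe_two (r : Fin 12) : xe r 2 = gx r 1 := ev_singleton _
theorem xe_three (r : Fin 12) : xe r 3 = gx r 2 := ev_singleton _

theorem xe_mul_check : ∀ (r : Fin 12) (u v : Fin 4), ∃ z : Fin 4, cw (xw r u ++ xw r v) = cw (xw r z) := by
  decide +kernel

/-- the root subgroup `X_r` -/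
def X (r : Fin 12) : Subgroup GL6 where
  carrier := {g | ∃ u : Fin 4, g = xe r u}
  one_mem' := ⟨0, (xe_zero r).symm⟩
  mul_mem' := by
    rintro _ _ ⟨u, rfl⟩ ⟨v, rfl⟩
    obtain ⟨z, hz⟩ := xe_mul_check r u v
    exact ⟨z, by rw [xe, xe, ← ev_append, ev_eq_of hz, xe]⟩
  inv_mem' := by
    rintro _ ⟨u, rfl⟩
    refine ⟨u, ?_⟩
    match u with
    | 0 => rw [xe_zero, inv_one]
    | 1 => rw [xe_one, gx_inv]
    | 2 => rw [xe_two, gx_inv]
    | 3 => rw [xe_three, gx_inv]

theorem mem_X {r : Fin 12} {g : GL6} : g ∈ X r ↔ ∃ u : Fin 4, g = xe r u := Iff.rfl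

theorem xe_mem (r : Fin 12) (u : Fin 4) : xe r u ∈ X r := ⟨u, rfl⟩

theorem gx_mem_X (r : Fin 12) (t : Fin 3) : gx r t ∈ X r := by
  match t with
  | 0 => rw [← xe_one]; exact xe_mem r 1
  | 1 => rw [← xe_two]; exact xe_mem r 2
  | 2 => rw [← xe_three]; exact xe_mem r 3

theorem X_cases {r : Fin 12} {g : GL6} (h : g ∈ X r) : g = 1 ∨ ∃ t : Fin 3, g = gx r t := by
  obtain ⟨u, rfl⟩ := h
  match u with
  | 0 => exact Or.inl (xe_zero r)
  | 1 => exact Or.inr ⟨0, xe_one r⟩
  | 2 => exact Or.inr ⟨1, xe_two r⟩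
  | 3 => exact Or.inr ⟨2, xe_three r⟩

theorem X_sq {r : Fin 12} {g : GL6} (h : g ∈ X r) : g * g = 1 := by
  rcases X_cases h with rfl | ⟨t, rfl⟩
  · exact one_mul 1
  · exact gx_sq r t

theorem X_inv {r : Fin 12} {g : GL6} (h : g ∈ X r) : g⁻¹ = g :=
  inv_eq_of_mul_eq_one_left (X_sq h)

theorem X_le_L (r : Fin 12) : X r ≤ L := by
  rintro _ ⟨u, rfl⟩
  exact ev_mem _

/-- the code of `x_r(n)` -/
def xk (r : Fin 12) (n : ℕ) : List ℕ :=
  Nat.rec idC (fun n _ => Nat.rec (xc r 0) (fun n _ => Nat.rec (xc r 1) (fun _ _ => xc r 2) n) n) n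

theorem xk_spec (r : Fin 12) (n : ℕ) : ∃ g ∈ X r, Cd g (xk r n) := by
  match n with
  | 0 => exact ⟨1, (X r).one_mem, Cd_one⟩
  | 1 => exact ⟨gx r 0, gx_mem_X _ _, Cd_gx _ _⟩
  | 2 => exact ⟨gx r 1, gx_mem_X _ _, Cd_gx _ _⟩
  | _ + 3 => exact ⟨gx r 2, gx_mem_X _ _, Cd_gx _ _⟩

/-! ### Sifting -/

/-- read the coordinate of `x_r` (positive root `r`) -/
def rd (r : Fin 12) (C : List ℕ) : ℕ :=
  match r with
  | 6 => Nat.mod (Nat.shiftRight (C.getD 4 0) 2) 4
  | 7 => Nat.mod (C.getD 2 0) 4
  | 8 => Nat.mod (C.getD 4 0) 4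
  | 9 => Nat.mod (Nat.shiftRight (C.getD 6 0) 2) 4
  | 10 => Nat.mod (C.getD 6 0) 4
  | 11 => Nat.mod (C.getD 8 0) 4
  | _ => 0

/-- sift a code through the root subgroups of a list -/
def siftF (rs : List (Fin 12)) : List ℕ → Bool :=
  List.rec (motive := fun _ => List ℕ → Bool) (fun C => eqF C idC)
    (fun r _ ih C => mulF (xk r (rd r C)) C ih) rs

theorem siftF_sound {rs : List (Fin 12)} {N : Subgroup GL6} (hN : ∀ r ∈ rs, X r ≤ N) {C : List ℕ}
    {g : GL6} (hg : Cd g C) (h : siftF rs C = true) : g ∈ N := by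
  induction rs generalizing C g with
  | nil =>
    have h1 : C = idC := eqF_iff.1 h
    subst h1
    rw [hg.inj Cd_one]
    exact N.one_mem
  | cons r rs ih =>
    have h1 : siftF (r :: rs) C = mulF (xk r (rd r C)) C (siftF rs) := rfl
    rw [h1, mulF_eq] at h
    obtain ⟨x, hx, hxc⟩ := xk_spec r (rd r C)
    have h2 := ih (fun r' hr' => hN r' (List.mem_cons_of_mem _ hr')) (hxc.mul hg) h
    have h3 := N.mul_mem (N.inv_mem (hN r List.mem_cons_self hx)) h2
    rwa [inv_mul_cancel_left] at h3

/-- check that the conjugates of `X s` under `X r` lie in the group generated by `rs` -/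
def cjF (r s : Fin 12) (rs : List (Fin 12)) : Bool :=
  allF [0, 1, 2] fun t => allF [0, 1, 2] fun t' =>
    mulF (xc s t') (xc r t) fun E => mulF (xc r t) E fun F => siftF rs F

theorem cjF_spec {r s : Fin 12} {rs : List (Fin 12)} (h : cjF r s rs = true) {N : Subgroup GL6}
    (hN : ∀ r ∈ rs, X r ≤ N) (hs : X s ≤ N) : ∀ k ∈ X r, ∀ x ∈ X s, k * x * k⁻¹ ∈ N := by
  intro k hk x hx
  rcases X_cases hk with rfl | ⟨t, rfl⟩
  · rw [one_mul, inv_one, mul_one]; exact hs hx
  rcases X_cases hx with rfl | ⟨t', rfl⟩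
  · rw [mul_one, mul_inv_cancel]; exact N.one_mem
  have h1 := allF_spec h t (by fin_cases t <;> simp)
  have h2 := allF_spec h1 t' (by fin_cases t' <;> simp)
  rw [mulF_eq, mulF_eq] at h2
  rw [gx_inv, mul_assoc]
  exact siftF_sound hN ((Cd_gx r t).mul ((Cd_gx s t').mul (Cd_gx r t))) h2

/-! ### Exhaustive search -/

/-- products of elements of root subgroups -/
def PS : List (Fin 12) → Set GL6
  | [] => {1}
  | r :: rs => {g | ∃ x ∈ X r, ∃ n ∈ PS rs, g = x * n}

/-- search over `C * x_r(u)` -/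
def allX (r : Fin 12) (C : List ℕ) (k : List ℕ → Bool) : Bool :=
  Bool.rec false (Bool.rec false (Bool.rec false (mulF C (xc r 2) k) (mulF C (xc r 1) k))
    (mulF C (xc r 0) k)) (k C)

theorem allX_spec {r : Fin 12} {C : List ℕ} {k : List ℕ → Bool} (h : allX r C k = true) {g : GL6}
    (hg : Cd g C) : ∀ x ∈ X r, ∃ D, Cd (g * x) D ∧ k D = true := by
  have hb : ∀ {a b : Bool}, (Bool.rec false b a : Bool) = true → a = true ∧ b = true := by
    decide
  obtain ⟨h0, h⟩ := hb h
  obtain ⟨h1, h⟩ := hb h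
  obtain ⟨h2, h3⟩ := hb h
  rw [mulF_eq] at h1 h2 h3
  intro x hx
  rcases X_cases hx with rfl | ⟨t, rfl⟩
  · exact ⟨C, by rwa [mul_one], h0⟩
  · refine ⟨mulC C (xc r t), hg.mul (Cd_gx r t), ?_⟩
    match t with
    | 0 => exact h1
    | 1 => exact h2
    | 2 => exact h3

/-- search over the products -/
def allN (rs : List (Fin 12)) : List ℕ → (List ℕ → Bool) → Bool :=
  List.rec (motive := fun _ => List ℕ → (List ℕ → Bool) → Bool) (fun C φ => φ C)
    (fun r _ ih C φ => allX r C (fun D => ih D φ)) rs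

theorem allN_spec {rs : List (Fin 12)} {φ : List ℕ → Bool} {C : List ℕ} (h : allN rs C φ = true)
    {g : GL6} (hg : Cd g C) : ∀ n ∈ PS rs, ∃ D, Cd (g * n) D ∧ φ D = true := by
  induction rs generalizing C g with
  | nil =>
    rintro _ rfl
    exact ⟨C, by rwa [mul_one], h⟩
  | cons r rs ih =>
    have h1 : allN (r :: rs) C φ = allX r C (fun D => allN rs D φ) := rfl
    rw [h1] at h
    rintro _ ⟨x, hx, n, hn, rfl⟩
    obtain ⟨D, hD, h2⟩ := allX_spec h hg x hx
    obtain ⟨E, hE, h3⟩ := ih h2 hD n hn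
    exact ⟨E, by rwa [← mul_assoc], h3⟩

theorem allN_one {rs : List (Fin 12)} {φ : List ℕ → Bool} (h : allN rs idC φ = true) :
    ∀ n ∈ PS rs, ∃ D, Cd n D ∧ φ D = true := by
  intro n hn
  obtain ⟨D, hD, h'⟩ := allN_spec h Cd_one n hn
  rw [one_mul] at hD
  exact ⟨D, hD, h'⟩

end Cfsg.Agent.GTwoFour.Mdl
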