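import Cfsg.Agent.GTwoFour.MdlFast

/-!
# `G₂(4)` in dimension six: the subgroups `Q1`, `Q2`, `S = SL₂(4)`, `P`
-/

set_option autoImplicit false
set_option linter.unusedVariables false
set_option maxRecDepth 4000

namespace Cfsg.Agent.GTwoFour.Mdl

open Cfsg.Agent.SporRec.GF4
open Cfsg.Agent.SporRec.G24Code (app)
open Cfsg.Agent.StdG24.Mod6

/-- product of a subgroup `K` with a subgroup `N` it normalises -/
def mulSub {G : Type*} [Group G] (K N : Subgroup G) (h : ∀ k ∈ K, ∀ n ∈ N, k * n * k⁻¹ ∈ N) :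
    Subgroup G where
  carrier := {g | ∃ k ∈ K, ∃ n ∈ N, g = k * n}
  one_mem' := ⟨1, K.one_mem, 1, N.one_mem, (one_mul 1).symm⟩
  mul_mem' := by
    rintro _ _ ⟨k, hk, n, hn, rfl⟩ ⟨k', hk', n', hn', rfl⟩
    refine ⟨k * k', K.mul_mem hk hk', (k'⁻¹ * n * k') * n', N.mul_mem ?_ hn', by group⟩
    have := h k'⁻¹ (K.inv_mem hk') n hn
    rwa [inv_inv] at this
  inv_mem' := by
    rintro _ ⟨k, hk, n, hn, rfl⟩
    exact ⟨k⁻¹, K.inv_mem hk, k * n⁻¹ * k⁻¹, h k hk _ (N.inv_mem hn), by group⟩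

section mulSub
variable {G : Type*} [Group G] {K N : Subgroup G} {h : ∀ k ∈ K, ∀ n ∈ N, k * n * k⁻¹ ∈ N}

theorem mem_mulSub {g : G} : g ∈ mulSub K N h ↔ ∃ k ∈ K, ∃ n ∈ N, g = k * n := Iff.rfl

theorem le_left : K ≤ mulSub K N h := fun k hk => ⟨k, hk, 1, N.one_mem, (mul_one k).symm⟩

theorem le_right : N ≤ mulSub K N h := fun n hn => ⟨1, K.one_mem, n, hn, (one_mul n).symm⟩

theorem mulSub_le {M : Subgroup G} (hK : K ≤ M) (hN : N ≤ M) : mulSub K N h ≤ M := by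
  rintro _ ⟨k, hk, n, hn, rfl⟩
  exact M.mul_mem (hK hk) (hN hn)

theorem conj_mulSub {k : G} {M : Subgroup G} (hK : ∀ x ∈ K, k * x * k⁻¹ ∈ M)
    (hN : ∀ n ∈ N, k * n * k⁻¹ ∈ M) : ∀ g ∈ mulSub K N h, k * g * k⁻¹ ∈ M := by
  rintro _ ⟨x, hx, n, hn, rfl⟩
  have := M.mul_mem (hK x hx) (hN n hn)
  have e : k * x * k⁻¹ * (k * n * k⁻¹) = k * (x * n) * k⁻¹ := by group
  rwa [e] at this

theorem card_mulSub (hd : ∀ g ∈ K, g ∈ N → g = 1) :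
    Nat.card (mulSub K N h) = Nat.card K * Nat.card N := by
  rw [← Nat.card_prod]
  symm
  refine Nat.card_congr (Equiv.ofBijective
    (fun p : K × N => (⟨p.1 * p.2, ⟨p.1, p.1.2, p.2, p.2.2, rfl⟩⟩ : mulSub K N h)) ⟨?_, ?_⟩)
  · rintro ⟨⟨a, ha⟩, ⟨b, hb⟩⟩ ⟨⟨c, hc⟩, ⟨d, hd'⟩⟩ he
    have he' : a * b = c * d := congrArg Subtype.val he
    have h1 : c⁻¹ * a = d * b⁻¹ := by
      rw [inv_mul_eq_iff_eq_mul, ← mul_assoc, ← he', mul_inv_cancel_right]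
    have h2 : c⁻¹ * a = 1 := hd _ (K.mul_mem (K.inv_mem hc) ha) (by
      rw [h1]; exact N.mul_mem hd' (N.inv_mem hb))
    have h3 : a = c := (inv_mul_eq_one.1 h2).symm
    subst h3
    have h4 : b = d := mul_left_cancel he'
    subst h4
    rfl
  · rintro ⟨_, k, hk, n, hn, rfl⟩
    exact ⟨(⟨k, hk⟩, ⟨n, hn⟩), rfl⟩

end mulSub

theorem X_nat_card (r : Fin 12) : Nat.card (X r) = 4 := by
  have h0 : ∀ u v : Fin 4, cw (xw r u) = cw (xw r v) → u = v := by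
    revert r; decide +kernel
  have h : Function.Bijective (fun u : Fin 4 => (⟨xe r u, xe_mem r u⟩ : X r)) := by
    constructor
    · intro u v e
      exact h0 u v (ev_eq_iff.1 (congrArg Subtype.val e))
    · rintro ⟨_, u, rfl⟩
      exact ⟨u, rfl⟩
  rw [← Nat.card_congr (Equiv.ofBijective _ h), Nat.card_fin]

/-! ### The unipotent subgroups -/

theorem cj {r s : Fin 12} (rs : List (Fin 12)) (h : cjF r s rs = true) {N : Subgroup GL6}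
    (hN : ∀ r ∈ rs, X r ≤ N) (hs : X s ≤ N) : ∀ k ∈ X r, ∀ x ∈ X s, k * x * k⁻¹ ∈ N :=
  cjF_spec h hN hs

/-- `W4 = X_{3a+b} X_{3a+2b}` -/
def W4 : Subgroup GL6 :=
  mulSub (X 10) (X 11) (cj [11] (by decide +kernel) (by simp) le_rfl)

theorem X10_le_W4 : X 10 ≤ W4 := le_left
theorem X11_le_W4 : X 11 ≤ W4 := le_right

theorem W4_rs : ∀ r ∈ ([10, 11] : List (Fin 12)), X r ≤ W4 := by
  simp [X10_le_W4, X11_le_W4]

theorem conj_W4 {k : GL6} {M : Subgroup GL6} (h10 : ∀ x ∈ X 10, k * x * k⁻¹ ∈ M)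
    (h11 : ∀ x ∈ X 11, k * x * k⁻¹ ∈ M) : ∀ n ∈ W4, k * n * k⁻¹ ∈ M :=
  conj_mulSub h10 h11

theorem N9_aux : ∀ k ∈ X 9, ∀ n ∈ W4, k * n * k⁻¹ ∈ W4 := fun k hk => conj_W4
    (cj [10, 11] (by decide +kernel) W4_rs X10_le_W4 k hk)
    (cj [10, 11] (by decide +kernel) W4_rs X11_le_W4 k hk)

/-- `X_{2a+b} W4` -/
def N9 : Subgroup GL6 := mulSub (X 9) W4 N9_aux

theorem X9_le_N9 : X 9 ≤ N9 := le_left
theorem W4_le_N9 : W4 ≤ N9 := le_right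
theorem N9_rs : ∀ r ∈ ([9, 10, 11] : List (Fin 12)), X r ≤ N9 := by
  simp [X9_le_N9, X10_le_W4.trans W4_le_N9, X11_le_W4.trans W4_le_N9]

theorem conj_N9 {k : GL6} {M : Subgroup GL6} (h9 : ∀ x ∈ X 9, k * x * k⁻¹ ∈ M)
    (h10 : ∀ x ∈ X 10, k * x * k⁻¹ ∈ M) (h11 : ∀ x ∈ X 11, k * x * k⁻¹ ∈ M) :
    ∀ n ∈ N9, k * n * k⁻¹ ∈ M :=
  conj_mulSub h9 (conj_W4 h10 h11)

theorem N8_aux : ∀ k ∈ X 8, ∀ n ∈ N9, k * n * k⁻¹ ∈ N9 := fun k hk => conj_N9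
    (cj [9, 10, 11] (by decide +kernel) N9_rs X9_le_N9 k hk)
    (cj [9, 10, 11] (by decide +kernel) N9_rs (X10_le_W4.trans W4_le_N9) k hk)
    (cj [9, 10, 11] (by decide +kernel) N9_rs (X11_le_W4.trans W4_le_N9) k hk)

/-- `Q12 = X_{a+b} X_{2a+b} W4` -/
def N8 : Subgroup GL6 := mulSub (X 8) N9 N8_aux

theorem X8_le_N8 : X 8 ≤ N8 := le_left
theorem N9_le_N8 : N9 ≤ N8 := le_right
theorem W4_le_N8 : W4 ≤ N8 := W4_le_N9.trans N9_le_N8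
theorem X9_le_N8 : X 9 ≤ N8 := X9_le_N9.trans N9_le_N8
theorem X10_le_N8 : X 10 ≤ N8 := X10_le_W4.trans W4_le_N8
theorem X11_le_N8 : X 11 ≤ N8 := X11_le_W4.trans W4_le_N8
theorem N8_rs : ∀ r ∈ ([8, 9, 10, 11] : List (Fin 12)), X r ≤ N8 := by
  simp [X8_le_N8, X9_le_N8, X10_le_N8, X11_le_N8]

/-- conjugation of `N8` from conjugation of the root groups -/
theorem conj_N8 {k : GL6} {M : Subgroup GL6} (h8 : ∀ x ∈ X 8, k * x * k⁻¹ ∈ M)
    (h9 : ∀ x ∈ X 9, k * x * k⁻¹ ∈ M) (h10 : ∀ x ∈ X 10, k * x * k⁻¹ ∈ M)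
    (h11 : ∀ x ∈ X 11, k * x * k⁻¹ ∈ M) : ∀ n ∈ N8, k * n * k⁻¹ ∈ M :=
  conj_mulSub h8 (conj_N9 h9 h10 h11)

theorem Q2_aux : ∀ k ∈ X 7, ∀ n ∈ N8, k * n * k⁻¹ ∈ N8 := fun k hk => conj_N8
    (cj [8, 9, 10, 11] (by decide +kernel) N8_rs X8_le_N8 k hk)
    (cj [8, 9, 10, 11] (by decide +kernel) N8_rs X9_le_N8 k hk)
    (cj [8, 9, 10, 11] (by decide +kernel) N8_rs X10_le_N8 k hk)
    (cj [8, 9, 10, 11] (by decide +kernel) N8_rs X11_le_N8 k hk)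

/-- `Q2 = X_a Q12` -/
def Q2 : Subgroup GL6 := mulSub (X 7) N8 Q2_aux

theorem Q1_aux : ∀ k ∈ X 6, ∀ n ∈ N8, k * n * k⁻¹ ∈ N8 := fun k hk => conj_N8
    (cj [8, 9, 10, 11] (by decide +kernel) N8_rs X8_le_N8 k hk)
    (cj [8, 9, 10, 11] (by decide +kernel) N8_rs X9_le_N8 k hk)
    (cj [8, 9, 10, 11] (by decide +kernel) N8_rs X10_le_N8 k hk)
    (cj [8, 9, 10, 11] (by decide +kernel) N8_rs X11_le_N8 k hk)

/-- `Q1 = X_b Q12` -/
def Q1 : Subgroup GL6 := mulSub (X 6) N8 Q1_aux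

theorem X7_le_Q2 : X 7 ≤ Q2 := le_left
theorem N8_le_Q2 : N8 ≤ Q2 := le_right
theorem X6_le_Q1 : X 6 ≤ Q1 := le_left
theorem N8_le_Q1 : N8 ≤ Q1 := le_right

theorem Q1_rs : ∀ r ∈ ([6, 8, 9, 10, 11] : List (Fin 12)), X r ≤ Q1 := by
  simp [X6_le_Q1, X8_le_N8.trans N8_le_Q1, X9_le_N8.trans N8_le_Q1, X10_le_N8.trans N8_le_Q1,
    X11_le_N8.trans N8_le_Q1]

theorem Q2_rs : ∀ r ∈ ([7, 8, 9, 10, 11] : List (Fin 12)), X r ≤ Q2 := by
  simp [X7_le_Q2, X8_le_N8.trans N8_le_Q2, X9_le_N8.trans N8_le_Q2, X10_le_N8.trans N8_le_Q2,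
    X11_le_N8.trans N8_le_Q2]

theorem conj_Q1 {k : GL6} {M : Subgroup GL6} (h : ∀ r ∈ ([6, 8, 9, 10, 11] : List (Fin 12)),
    ∀ x ∈ X r, k * x * k⁻¹ ∈ M) : ∀ n ∈ Q1, k * n * k⁻¹ ∈ M :=
  conj_mulSub (h 6 (by simp)) (conj_N8 (h 8 (by simp)) (h 9 (by simp)) (h 10 (by simp)) (h 11 (by simp)))

theorem conj_Q2 {k : GL6} {M : Subgroup GL6} (h : ∀ r ∈ ([7, 8, 9, 10, 11] : List (Fin 12)),
    ∀ x ∈ X r, k * x * k⁻¹ ∈ M) : ∀ n ∈ Q2, k * n * k⁻¹ ∈ M :=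
  conj_mulSub (h 7 (by simp)) (conj_N8 (h 8 (by simp)) (h 9 (by simp)) (h 10 (by simp)) (h 11 (by simp)))

/-! ### Products -/

theorem X_PS {r : Fin 12} {g : GL6} (h : g ∈ X r) : g ∈ PS [r] :=
  ⟨g, h, 1, rfl, (mul_one g).symm⟩

theorem W4_PS {g : GL6} (h : g ∈ W4) : g ∈ PS [10, 11] := by
  obtain ⟨x, hx, n, hn, rfl⟩ := h
  exact ⟨x, hx, n, X_PS hn, rfl⟩

theorem N9_PS {g : GL6} (h : g ∈ N9) : g ∈ PS [9, 10, 11] := by
  obtain ⟨x, hx, n, hn, rfl⟩ := h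
  exact ⟨x, hx, n, W4_PS hn, rfl⟩

theorem N8_PS {g : GL6} (h : g ∈ N8) : g ∈ PS [8, 9, 10, 11] := by
  obtain ⟨x, hx, n, hn, rfl⟩ := h
  exact ⟨x, hx, n, N9_PS hn, rfl⟩

theorem Q2_PS {g : GL6} (h : g ∈ Q2) : g ∈ PS [7, 8, 9, 10, 11] := by
  obtain ⟨x, hx, n, hn, rfl⟩ := h
  exact ⟨x, hx, n, N8_PS hn, rfl⟩

theorem Q1_PS {g : GL6} (h : g ∈ Q1) : g ∈ PS [6, 8, 9, 10, 11] := by
  obtain ⟨x, hx, n, hn, rfl⟩ := h
  exact ⟨x, hx, n, N8_PS hn, rfl⟩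

/-! ### Orders -/

/-- `x_r(u) ∉ N` for `u ≠ 0`, by reading the coordinate `r` -/
theorem disj {r : Fin 12} {rs : List (Fin 12)} {N : Subgroup GL6} (hN : ∀ n ∈ N, n ∈ PS rs)
    (h : allN rs idC (fun C => Nat.beq (rd r C) 0) = true)
    (h2 : Nat.beq (rd r (xc r 0)) 0 = false ∧ Nat.beq (rd r (xc r 1)) 0 = false ∧
      Nat.beq (rd r (xc r 2)) 0 = false) : ∀ g ∈ X r, g ∈ N → g = 1 := by
  intro g hg hgN
  rcases X_cases hg with rfl | ⟨t, rfl⟩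
  · rfl
  exfalso
  obtain ⟨D, hD, h3⟩ := allN_one h _ (hN _ hgN)
  have e := hD.unique (Cd_gx r t)
  subst e
  obtain ⟨ha, hb, hc⟩ := h2
  match t with
  | 0 => rw [ha] at h3; exact absurd h3 (by decide)
  | 1 => rw [hb] at h3; exact absurd h3 (by decide)
  | 2 => rw [hc] at h3; exact absurd h3 (by decide)

theorem disj10 : ∀ g ∈ X 10, g ∈ X 11 → g = 1 :=
  disj (fun _ h => X_PS h) (by decide +kernel) (by decide +kernel)

theorem disj9 : ∀ g ∈ X 9, g ∈ W4 → g = 1 :=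
  disj (fun _ h => W4_PS h) (by decide +kernel) (by decide +kernel)

theorem disj8 : ∀ g ∈ X 8, g ∈ N9 → g = 1 :=
  disj (fun _ h => N9_PS h) (by decide +kernel) (by decide +kernel)

theorem disj7 : ∀ g ∈ X 7, g ∈ N8 → g = 1 :=
  disj (fun _ h => N8_PS h) (by decide +kernel) (by decide +kernel)

theorem disj6 : ∀ g ∈ X 6, g ∈ N8 → g = 1 :=
  disj (fun _ h => N8_PS h) (by decide +kernel) (by decide +kernel)

theorem card_W4 : Nat.card W4 = 16 := by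
  exact (card_mulSub disj10).trans (by rw [X_nat_card, X_nat_card])

theorem card_N9 : Nat.card N9 = 64 := by
  exact (card_mulSub disj9).trans (by rw [X_nat_card, card_W4])

theorem card_N8 : Nat.card N8 = 256 := by
  exact (card_mulSub disj8).trans (by rw [X_nat_card, card_N9])

theorem card_Q2 : Nat.card Q2 = 1024 := by
  exact (card_mulSub disj7).trans (by rw [X_nat_card, card_N8])

theorem card_Q1 : Nat.card Q1 = 1024 := by
  exact (card_mulSub disj6).trans (by rw [X_nat_card, card_N8])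

/-! ### `S = SL₂(4)` -/

/-- the torus element `y = h_a(w)` -/
def yw : Wd := [(7, 1), (4, 2), (7, 1), (7, 0), (4, 0), (7, 0)]
/-- the reflection `n_a` -/
def nsw : Wd := [(7, 0), (4, 0), (7, 0)]

/-- words for the elements of the Borel subgroup of `S` -/
def Bw : List Wd :=
  [0, 1, 2, 3].flatMap fun u => [xw 7 u, xw 7 u ++ yw, xw 7 u ++ (yw ++ yw)]

/-- words for the elements of `S` -/
def SW : List Wd :=
  Bw ++ Bw.flatMap fun b => [0, 1, 2, 3].map fun u => b ++ nsw ++ xw 7 u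

/-- the codes of the elements of `S` -/
def SC : List (List ℕ) := [
  [1, 2, 4, 8, 16, 32, 64, 128, 256, 512, 1024, 2048],
  [2, 3, 12, 4, 48, 16, 128, 192, 512, 768, 3072, 1024],
  [3, 1, 8, 12, 32, 48, 192, 64, 768, 256, 2048, 3072],
  [1, 2, 5, 10, 16, 32, 80, 160, 256, 512, 1280, 2560],
  [2, 3, 15, 5, 48, 16, 160, 240, 512, 768, 3840, 1280],
  [3, 1, 10, 15, 32, 48, 240, 80, 768, 256, 2560, 3840],
  [1, 2, 6, 11, 16, 32, 112, 144, 256, 512, 1536, 2816],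
  [2, 3, 13, 6, 48, 16, 144, 224, 512, 768, 3328, 1536],
  [3, 1, 11, 13, 32, 48, 224, 112, 768, 256, 2816, 3328],
  [1, 2, 7, 9, 16, 32, 96, 176, 256, 512, 1792, 2304],
  [2, 3, 14, 7, 48, 16, 176, 208, 512, 768, 3584, 1792],
  [3, 1, 9, 14, 32, 48, 208, 96, 768, 256, 2304, 3584],
  [4, 8, 1, 2, 64, 128, 16, 32, 1024, 2048, 256, 512],
  [4, 8, 5, 10, 64, 128, 80, 160, 1024, 2048, 1280, 2560],
  [4, 8, 9, 14, 64, 128, 208, 96, 1024, 2048, 2304, 3584],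
  [4, 8, 13, 6, 64, 128, 144, 224, 1024, 2048, 3328, 1536],
  [12, 4, 2, 3, 128, 192, 48, 16, 3072, 1024, 512, 768],
  [12, 4, 14, 7, 128, 192, 176, 208, 3072, 1024, 3584, 1792],
  [12, 4, 6, 11, 128, 192, 112, 144, 3072, 1024, 1536, 2816],
  [12, 4, 10, 15, 128, 192, 240, 80, 3072, 1024, 2560, 3840],
  [8, 12, 3, 1, 192, 64, 32, 48, 2048, 3072, 768, 256],
  [8, 12, 11, 13, 192, 64, 224, 112, 2048, 3072, 2816, 3328],
  [8, 12, 15, 5, 192, 64, 160, 240, 2048, 3072, 3840, 1280],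
  [8, 12, 7, 9, 192, 64, 96, 176, 2048, 3072, 1792, 2304],
  [5, 10, 1, 2, 80, 160, 16, 32, 1280, 2560, 256, 512],
  [5, 10, 4, 8, 80, 160, 64, 128, 1280, 2560, 1024, 2048],
  [5, 10, 11, 13, 80, 160, 224, 112, 1280, 2560, 2816, 3328],
  [5, 10, 14, 7, 80, 160, 176, 208, 1280, 2560, 3584, 1792],
  [15, 5, 2, 3, 160, 240, 48, 16, 3840, 1280, 512, 768],
  [15, 5, 13, 6, 160, 240, 144, 224, 3840, 1280, 3328, 1536],
  [15, 5, 7, 9, 160, 240, 96, 176, 3840, 1280, 1792, 2304],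
  [15, 5, 8, 12, 160, 240, 192, 64, 3840, 1280, 2048, 3072],
  [10, 15, 3, 1, 240, 80, 32, 48, 2560, 3840, 768, 256],
  [10, 15, 9, 14, 240, 80, 208, 96, 2560, 3840, 2304, 3584],
  [10, 15, 12, 4, 240, 80, 128, 192, 2560, 3840, 3072, 1024],
  [10, 15, 6, 11, 240, 80, 112, 144, 2560, 3840, 1536, 2816],
  [6, 11, 1, 2, 112, 144, 16, 32, 1536, 2816, 256, 512],
  [6, 11, 7, 9, 112, 144, 96, 176, 1536, 2816, 1792, 2304],
  [6, 11, 10, 15, 112, 144, 240, 80, 1536, 2816, 2560, 3840],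
  [6, 11, 12, 4, 112, 144, 128, 192, 1536, 2816, 3072, 1024],
  [13, 6, 2, 3, 144, 224, 48, 16, 3328, 1536, 512, 768],
  [13, 6, 15, 5, 144, 224, 160, 240, 3328, 1536, 3840, 1280],
  [13, 6, 4, 8, 144, 224, 64, 128, 3328, 1536, 1024, 2048],
  [13, 6, 9, 14, 144, 224, 208, 96, 3328, 1536, 2304, 3584],
  [11, 13, 3, 1, 224, 112, 32, 48, 2816, 3328, 768, 256],
  [11, 13, 8, 12, 224, 112, 192, 64, 2816, 3328, 2048, 3072],
  [11, 13, 14, 7, 224, 112, 176, 208, 2816, 3328, 3584, 1792],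
  [11, 13, 5, 10, 224, 112, 80, 160, 2816, 3328, 1280, 2560],
  [7, 9, 1, 2, 96, 176, 16, 32, 1792, 2304, 256, 512],
  [7, 9, 6, 11, 96, 176, 112, 144, 1792, 2304, 1536, 2816],
  [7, 9, 8, 12, 96, 176, 192, 64, 1792, 2304, 2048, 3072],
  [7, 9, 15, 5, 96, 176, 160, 240, 1792, 2304, 3840, 1280],
  [14, 7, 2, 3, 176, 208, 48, 16, 3584, 1792, 512, 768],
  [14, 7, 12, 4, 176, 208, 128, 192, 3584, 1792, 3072, 1024],
  [14, 7, 5, 10, 176, 208, 80, 160, 3584, 1792, 1280, 2560],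
  [14, 7, 11, 13, 176, 208, 224, 112, 3584, 1792, 2816, 3328],
  [9, 14, 3, 1, 208, 96, 32, 48, 2304, 3584, 768, 256],
  [9, 14, 10, 15, 208, 96, 240, 80, 2304, 3584, 2560, 3840],
  [9, 14, 13, 6, 208, 96, 144, 224, 2304, 3584, 3328, 1536],
  [9, 14, 4, 8, 208, 96, 64, 128, 2304, 3584, 1024, 2048]]

theorem SW_codes : SW.map cw = SC := by decide +kernel

/-- `S = ⟨X_{±a}⟩` -/
def S : Subgroup GL6 := X 4 ⊔ X 7

theorem X4_le_S : X 4 ≤ S := le_sup_left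
theorem X7_le_S : X 7 ≤ S := le_sup_right

theorem S_closed : (allF [(4, 0), (4, 1), (4, 2), (7, 0), (7, 1), (7, 2)] fun p : Fin 12 × Fin 3 =>
    allF SC fun C => mulF (xc p.1 p.2) C fun D => memF D SC) = true := by decide +kernel

theorem exists_SW_of_mem_SC {C : List ℕ} (h : C ∈ SC) : ∃ w ∈ SW, cw w = C := by
  rw [← SW_codes] at h
  exact List.mem_map.1 h

theorem mem_SC_of_mem_SW {w : Wd} (h : w ∈ SW) : cw w ∈ SC := by
  rw [← SW_codes]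
  exact List.mem_map_of_mem h

theorem nil_mem_SW : ([] : Wd) ∈ SW := by decide +kernel

/-- elements of `S` are listed -/
theorem exists_SW {g : GL6} (hg : g ∈ S) : ∃ w ∈ SW, g = ev w := by
  have hS : S = Subgroup.closure ((X 4 : Set GL6) ∪ X 7) := by
    rw [Subgroup.closure_union, Subgroup.closure_eq, Subgroup.closure_eq]; rfl
  rw [hS] at hg
  have step : ∀ x ∈ ((X 4 : Set GL6) ∪ X 7), ∀ w ∈ SW, ∃ w' ∈ SW, x * ev w = ev w' := by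
    have key : ∀ p ∈ ([(4, 0), (4, 1), (4, 2), (7, 0), (7, 1), (7, 2)] : List (Fin 12 × Fin 3)),
        ∀ w ∈ SW, ∃ w' ∈ SW, gx p.1 p.2 * ev w = ev w' := by
      intro p hp w hw
      have h1 := allF_spec (allF_spec S_closed p hp) _ (mem_SC_of_mem_SW hw)
      rw [mulF_eq, memF_iff] at h1
      obtain ⟨w', hw', e⟩ := exists_SW_of_mem_SC h1
      refine ⟨w', hw', ((Cd_gx _ _).mul (Cd_ev w)).inj ?_⟩
      rw [← e]
      exact Cd_ev w'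
    rintro x (hx | hx) w hw
    · rcases X_cases hx with rfl | ⟨t, rfl⟩
      · exact ⟨w, hw, one_mul _⟩
      · exact key (4, t) (by fin_cases t <;> simp) w hw
    · rcases X_cases hx with rfl | ⟨t, rfl⟩
      · exact ⟨w, hw, one_mul _⟩
      · exact key (7, t) (by fin_cases t <;> simp) w hw
  induction hg using Subgroup.closure_induction_left with
  | one => exact ⟨[], nil_mem_SW, rfl⟩
  | mul_left x hx y hy ih =>
    obtain ⟨w, hw, rfl⟩ := ih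
    exact step x hx w hw
  | inv_mul_cancel x hx y hy ih =>
    obtain ⟨w, hw, rfl⟩ := ih
    have : x⁻¹ = x := by
      rcases hx with hx | hx
      · exact X_inv hx
      · exact X_inv hx
    rw [this]
    exact step x hx w hw

theorem S_code {g : GL6} (hg : g ∈ S) : ∃ C ∈ SC, Cd g C := by
  obtain ⟨w, hw, rfl⟩ := exists_SW hg
  exact ⟨cw w, mem_SC_of_mem_SW hw, Cd_ev w⟩

end Cfsg.Agent.GTwoFour.Mdl
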