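import Cfsg.Agent.GTwoFour.MdlInvChk
import Cfsg.Agent.GTwoFour.RedFacts

/-!
# `G₂(4)` in dimension six: the two classes of involutions

Every involution of `L` is conjugate to `x₁₁(1)` (long root element) or to `x₉(1)` (short root element). The
centralizer of `x₉(1)` has order at most `2 ^ 14`. The fields `cls`, `centz`, `five`, `sixteen` of `RedFacts`.
-/

set_option autoImplicit false
set_option linter.unusedVariables false
set_option Elab.async false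
set_option maxHeartbeats 400000

namespace Cfsg.Agent.GTwoFour.MdlInv

open Cfsg.Agent.SporRec.GF4
open Cfsg.Agent.StdG24.Mod6
open Cfsg.Agent.StdG24.Ord6 (AL exists_AL e0 e1 card_L)
open Cfsg.Agent.GTwoFour.Mdl
open Cfsg.Agent.GTwoFour.MdlInvChk

theorem gxe (r : Fin 12) (t : Fin 3) : gx r t = ev [(r, t)] := (ev_singleton (r, t)).symm

theorem finite_L : Finite L := Nat.finite_of_card_ne_zero (by rw [card_L]; norm_num)

theorem isPGroup_zpowers {G : Type*} [Group G] {t : G} (h : t * t = 1) :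
    IsPGroup 2 (Subgroup.zpowers t) := by
  rintro ⟨x, k, rfl⟩
  refine ⟨1, Subtype.ext ?_⟩
  change (t ^ k) ^ (2 ^ 1) = 1
  rw [pow_one, pow_two, ← zpow_add, ← two_mul, zpow_mul, zpow_two, h, one_zpow]

/-- an involution of `L` is conjugate into `U` -/
theorem exists_conj_U {y : GL6} (hy : y ∈ L) (h2 : y * y = 1) : ∃ a ∈ L, a * y * a⁻¹ ∈ U := by
  have : Fact (Nat.Prime 2) := ⟨Nat.prime_two⟩
  have hfin : Finite L := finite_L
  have hc : Nat.card (U.subgroupOf L) = 2 ^ (Nat.card L).factorization 2 := by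
    rw [Nat.card_congr (Subgroup.subgroupOfEquivOfLe U_le_L).toEquiv, card_U, card_L,
      show (251596800 : ℕ) = 2 ^ 12 * 61425 by norm_num,
      Nat.factorization_mul (by norm_num) (by norm_num), Finsupp.add_apply,
      Nat.Prime.factorization_pow (by norm_num), Finsupp.single_eq_same,
      Nat.factorization_eq_zero_of_not_dvd (by norm_num)]
    norm_num
  let T : Sylow 2 L := Sylow.ofCard _ hc
  have h3 : (⟨y, hy⟩ : L) * ⟨y, hy⟩ = 1 := Subtype.ext h2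
  obtain ⟨Q, hQ⟩ := (isPGroup_zpowers h3).exists_le_sylow
  obtain ⟨g, hg⟩ := MulAction.exists_smul_eq L Q T
  refine ⟨g, g.2, ?_⟩
  have h4 : (⟨y, hy⟩ : L) ∈ (Q : Subgroup L) := hQ (Subgroup.mem_zpowers _)
  have h5 : g * ⟨y, hy⟩ * g⁻¹ ∈ ((g • Q : Sylow 2 L) : Subgroup L) := by
    rw [Sylow.coe_subgroup_smul]
    exact Subgroup.smul_mem_pointwise_smul _ (MulAut.conj g) _ h4
  rw [hg] at h5
  have h6 : g * ⟨y, hy⟩ * g⁻¹ ∈ U.subgroupOf L := h5
  exact Subgroup.mem_subgroupOf.1 h6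

/-- **classes of involutions** -/
theorem conj_of_mem_L {y : GL6} (hy : y ∈ L) (h2 : y * y = 1) (h1 : y ≠ 1) :
    ∃ a ∈ L, a * y * a⁻¹ = gx 11 0 ∨ a * y * a⁻¹ = gx 9 0 := by
  obtain ⟨a, ha, h3⟩ := exists_conj_U hy h2
  have h4 : a * y * a⁻¹ * (a * y * a⁻¹) = 1 := by
    calc a * y * a⁻¹ * (a * y * a⁻¹) = a * (y * y) * a⁻¹ := by group
      _ = 1 := by rw [h2]; group
  have h5 : a * y * a⁻¹ ≠ 1 := by
    intro h
    apply h1
    calc y = a⁻¹ * (a * y * a⁻¹) * a := by group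
      _ = 1 := by rw [h]; group
  obtain ⟨b, hb, h6⟩ := conj_of_mem_U h3 h4 h5
  refine ⟨b * a, L.mul_mem hb ha, ?_⟩
  have h7 : b * a * y * (b * a)⁻¹ = b * (a * y * a⁻¹) * b⁻¹ := by group
  rwa [h7]

/-! ### The centralizer of a short root element -/

/-- counting with the images of `e0` -/
theorem card_le_stab {K K0 : Subgroup GL6} [Finite K0] (h0 : ∀ g ∈ K, act g e0 = e0 → g ∈ K0) :
    Nat.card K ≤ 4096 * Nat.card K0 := by
  classical
  have hc : ∀ n : Fin 4096, ∃ k ∈ K, (∃ g ∈ K, act g e0 = dec n) → act k e0 = dec n := by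
    intro n
    by_cases h : ∃ g ∈ K, act g e0 = dec n
    · obtain ⟨g, hg, h'⟩ := h
      exact ⟨g, hg, fun _ => h'⟩
    · exact ⟨1, K.one_mem, fun h' => absurd h' h⟩
  choose k hk hk' using hc
  have hi : ∀ g : K, ∃ n : Fin 4096, act (g : GL6) e0 = dec n := by
    intro g
    obtain ⟨n, hn, e⟩ := exists_dec (act (g : GL6) e0)
    exact ⟨⟨n, hn⟩, e.symm⟩
  choose i hi' using hi
  let Φ : K → Fin 4096 × K0 := fun g => (i g, ⟨(k (i g))⁻¹ * g, h0 _ (K.mul_mem (K.inv_mem (hk _)) g.2)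
    (by rw [act_mul, hi' g, ← hk' (i g) ⟨g, g.2, hi' g⟩, act_inv_act])⟩)
  have hΦ : Function.Injective Φ := by
    intro g g' h
    have h1 : i g = i g' := congrArg Prod.fst h
    have h2 : (k (i g))⁻¹ * (g : GL6) = (k (i g'))⁻¹ * g' := congrArg Subtype.val (congrArg Prod.snd h)
    rw [h1] at h2
    exact Subtype.ext (mul_left_cancel h2)
  have := Nat.card_le_card_of_injective Φ hΦ
  rwa [Nat.card_prod, Nat.card_fin] at this

/-- a conjugate of `x₉(1)` which exchanges `e0` and `e1` -/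
def yw2 : Wd := [(6, 0), (9, 0), (2, 0), (9, 0)]

/-- the code of `yw2` -/
def y2C : List ℕ := [1024, 2048, 64, 128, 320, 640, 4, 8, 20, 40, 1, 2]

theorem cw_yw2 : cw yw2 = y2C := by decide +kernel

theorem Cd_y2 : Cd (ev yw2) y2C := by rw [← cw_yw2]; exact Cd_ev yw2

theorem y2_conj : ev [(4, 0), (8, 0), (2, 0)] * ev yw2 * (ev [(4, 0), (8, 0), (2, 0)])⁻¹ = gx 9 0 := by
  rw [← ev_reverse, gxe, ← ev_append, ← ev_append]
  exact ev_eq_of (by decide +kernel)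

theorem y2_check : (allF (AL.map cw) fun C => impF (cm C y2C) (siftF [6] C)) = true := by
  decide +kernel

theorem y2_fix {g : GL6} (hg : g ∈ L) (hc : g * ev yw2 = ev yw2 * g) (h : act g e0 = e0) : g ∈ X 6 := by
  have h1 : act (ev yw2) e0 = e1 := act_dec_of Cd_y2 (by norm_num) (by norm_num) (by decide +kernel)
  have h2 : act g e1 = e1 := by
    rw [← h1, ← act_mul, hc, act_mul, h]
  obtain ⟨w, hw, rfl⟩ := exists_AL hg h h2
  have h3 := allF_spec y2_check (cw w) (List.mem_map_of_mem hw)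
  exact siftF_sound (by simp) (Cd_ev w) (impF_spec h3 ((cm_iff (Cd_ev w) Cd_y2).2 hc))

theorem card_cent_y2 : Nat.card (L ⊓ Subgroup.centralizer {ev yw2} : Subgroup GL6) ≤ 16384 := by
  have hf : Finite (X 6) := Nat.finite_of_card_ne_zero (by rw [X_nat_card]; norm_num)
  refine (card_le_stab (K0 := X 6) ?_).trans (by rw [X_nat_card])
  rintro g ⟨hg, hg'⟩ h
  exact y2_fix hg (Subgroup.mem_centralizer_singleton_iff.1 hg') h

/-! ### The fields of `RedFacts` -/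

/-- conjugation inside `L` -/
theorem conj_sub {y : L} (h2 : y * y = 1) (h1 : y ≠ 1) :
    ∃ a : L, ((a * y * a⁻¹ : L) : GL6) = gx 11 0 ∨ ((a * y * a⁻¹ : L) : GL6) = gx 9 0 := by
  obtain ⟨a, ha, h⟩ := conj_of_mem_L y.2 (congrArg Subtype.val h2) (fun h => h1 (Subtype.ext h))
  exact ⟨⟨a, ha⟩, h⟩

theorem cls (y : L) (h1 : y ≠ 1) (h2 : y * y = 1) : (∃ a : L, a * y * a⁻¹ ∈ (X 11).subgroupOf L) ∨
    Nat.card (Subgroup.centralizer ({y} : Set L)) < 61440 := by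
  obtain ⟨a, h | h⟩ := conj_sub h2 h1
  · left
    refine ⟨a, Subgroup.mem_subgroupOf.2 ?_⟩
    rw [h]
    exact gx_mem_X 11 0
  · right
    have hfin : Finite L := finite_L
    obtain ⟨c, hcL, hc⟩ : ∃ c ∈ L, ev yw2 = c⁻¹ * gx 9 0 * c :=
      ⟨ev [(4, 0), (8, 0), (2, 0)], ev_mem _, by rw [← y2_conj]; group⟩
    obtain ⟨b, hb⟩ : ∃ b : L, ((b * y * b⁻¹ : L) : GL6) = ev yw2 := by
      refine ⟨⟨c, hcL⟩⁻¹ * a, ?_⟩
      rw [hc, ← h]
      have e : (⟨c, hcL⟩ : L)⁻¹ * a * y * ((⟨c, hcL⟩ : L)⁻¹ * a)⁻¹ =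
          (⟨c, hcL⟩ : L)⁻¹ * (a * y * a⁻¹) * ⟨c, hcL⟩ := by group
      rw [e]
      rfl
    have h4 : Nat.card (Subgroup.centralizer ({y} : Set L)) ≤
        Nat.card (L ⊓ Subgroup.centralizer {ev yw2} : Subgroup GL6) := by
      have hf : Finite (L ⊓ Subgroup.centralizer {ev yw2} : Subgroup GL6) :=
        Finite.of_injective (fun x => (⟨(x : GL6), x.2.1⟩ : L)) (by
          intro x x' h
          have h' : (x : GL6) = x' := congrArg (fun z : L => (z : GL6)) h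
          exact Subtype.ext h')
      refine Nat.card_le_card_of_injective
        (fun g => ⟨((b * g * b⁻¹ : L) : GL6), (b * g * b⁻¹ : L).2, ?_⟩) ?_
      · change _ ∈ Subgroup.centralizer {ev yw2}
        rw [Subgroup.mem_centralizer_singleton_iff, ← hb]
        have h5 := Subgroup.mem_centralizer_singleton_iff.1 g.2
        rw [← Subgroup.coe_mul, ← Subgroup.coe_mul]
        congr 1
        calc b * (g : L) * b⁻¹ * (b * y * b⁻¹) = b * (g * y) * b⁻¹ := by group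
          _ = b * (y * g) * b⁻¹ := by rw [h5]
          _ = b * y * b⁻¹ * (b * g * b⁻¹) := by group
      · intro g g' h
        have h' : ((b * g * b⁻¹ : L) : GL6) = ((b * g' * b⁻¹ : L) : GL6) :=
          congrArg (fun z : (L ⊓ Subgroup.centralizer {ev yw2} : Subgroup GL6) => (z : GL6)) h
        have h5 : b * (g : L) * b⁻¹ = b * g' * b⁻¹ := Subtype.ext h'
        exact Subtype.ext (mul_left_cancel (mul_right_cancel h5))
    exact lt_of_le_of_lt (h4.trans card_cent_y2) (by norm_num)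

/-- the torus element `h` permutes the nontrivial elements of `Z` -/
theorem h_conj : Mdl.h * gx 11 1 * Mdl.h⁻¹ = gx 11 0 ∧ Mdl.h * gx 11 2 * Mdl.h⁻¹ = gx 11 1 := by
  constructor <;> rw [Mdl.h, ← ev_reverse, gxe, gxe, ← ev_append, ← ev_append] <;>
    exact ev_eq_of (by decide +kernel)

theorem P_of_conj {k a : GL6} (hk : k ∈ L) (hX : ∀ x ∈ X 11, k * x * k⁻¹ ∈ X 11) (ha : a ∈ L)
    (h : k * a * k⁻¹ ∈ P) : a ∈ P := by
  refine (cent_Z a ha).1 fun z hz => ?_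
  have h1 := (cent_Z _ (P_le_L h)).2 h _ (hX z hz)
  calc a * z = k⁻¹ * (k * a * k⁻¹ * (k * z * k⁻¹)) * k := by group
    _ = k⁻¹ * (k * z * k⁻¹ * (k * a * k⁻¹)) * k := by rw [h1]
    _ = z * a := by group

/-- `C_L(z) = P` -/
theorem mem_P_of_comm' {z a : GL6} (hz : z ∈ X 11) (h1 : z ≠ 1) (ha : a ∈ L) (h : a * z = z * a) :
    a ∈ P := by
  have step : ∀ {z z' : GL6}, Mdl.h * z * Mdl.h⁻¹ = z' →
      (∀ a ∈ L, a * z' = z' * a → a ∈ P) → ∀ a ∈ L, a * z = z * a → a ∈ P := by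
    intro z z' hzz' IH a ha h
    have hh : Mdl.h ∈ L := ev_mem _
    refine P_of_conj hh (h_X 11) ha (IH _ (L.mul_mem (L.mul_mem hh ha) (L.inv_mem hh)) ?_)
    rw [← hzz']
    calc Mdl.h * a * Mdl.h⁻¹ * (Mdl.h * z * Mdl.h⁻¹) = Mdl.h * (a * z) * Mdl.h⁻¹ := by group
      _ = Mdl.h * (z * a) * Mdl.h⁻¹ := by rw [h]
      _ = _ := by group
  have c0 : ∀ a ∈ L, a * gx 11 0 = gx 11 0 * a → a ∈ P := fun a ha h => mem_P_of_comm ha h
  have c1 := step h_conj.1 c0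
  have c2 := step h_conj.2 c1
  rcases X_cases hz with rfl | ⟨t, rfl⟩
  · exact absurd rfl h1
  match t with
  | 0 => exact c0 a ha h
  | 1 => exact c1 a ha h
  | 2 => exact c2 a ha h

theorem centz (z : L) (hz : z ∈ (X 11).subgroupOf L) (h1 : z ≠ 1) (a : L) (h : a * z = z * a) :
    a ∈ P.subgroupOf L :=
  Subgroup.mem_subgroupOf.2 (mem_P_of_comm' (Subgroup.mem_subgroupOf.1 hz)
    (fun h => h1 (Subtype.ext h)) a.2 (congrArg Subtype.val h))

/-- elements of order five -/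
theorem five_checks : (ev [(4, 0), (7, 1)] ^ 5 = 1 ∧ ev [(4, 0), (7, 1)] ≠ 1 ∧
    ev [(4, 0), (7, 1)] * gx 11 0 = gx 11 0 * ev [(4, 0), (7, 1)]) ∧
    (ev [(5, 0), (6, 1)] ^ 5 = 1 ∧ ev [(5, 0), (6, 1)] ≠ 1 ∧
    ev [(5, 0), (6, 1)] * gx 9 0 = gx 9 0 * ev [(5, 0), (6, 1)]) := by
  refine ⟨⟨f_pow, ?_, ?_⟩, ?_, ?_, ?_⟩
  · rw [← ev_nil, Ne, ev_eq_iff]; decide +kernel
  · rw [gxe, ← ev_append, ← ev_append]; exact ev_eq_of (by decide +kernel)
  · rw [pow_succ, pow_succ, pow_succ, pow_two, ← ev_append, ← ev_append, ← ev_append, ← ev_append]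
    exact ev_eq_one_of (by decide +kernel)
  · rw [← ev_nil, Ne, ev_eq_iff]; decide +kernel
  · rw [gxe, ← ev_append, ← ev_append]; exact ev_eq_of (by decide +kernel)

/-- pulling back along a conjugation -/
theorem back {G : Type*} [Group G] {H : Subgroup G} {y a : H} {r : G} (h : ((a * y * a⁻¹ : H) : G) = r)
    (d : G) (hd : d ∈ H) (hdr : d * r = r * d) :
    (a⁻¹ * ⟨d, hd⟩ * a) * y = y * (a⁻¹ * ⟨d, hd⟩ * a) := by
  have h1 : (⟨d, hd⟩ : H) * (a * y * a⁻¹) = (a * y * a⁻¹) * ⟨d, hd⟩ := Subtype.ext (by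
    change d * ((a * y * a⁻¹ : H) : G) = ((a * y * a⁻¹ : H) : G) * d
    rw [h]; exact hdr)
  calc (a⁻¹ * ⟨d, hd⟩ * a) * y = a⁻¹ * (⟨d, hd⟩ * (a * y * a⁻¹)) * a := by group
    _ = a⁻¹ * ((a * y * a⁻¹) * ⟨d, hd⟩) * a := by rw [h1]
    _ = y * (a⁻¹ * ⟨d, hd⟩ * a) := by group

theorem back_five {G : Type*} [Group G] {H : Subgroup G} {y a : H} {r : G}
    (h : ((a * y * a⁻¹ : H) : G) = r) {d : G} (hd : d ∈ H)
    (h3 : d ^ 5 = 1 ∧ d ≠ 1 ∧ d * r = r * d) : ∃ d : H, d ≠ 1 ∧ d ^ 5 = 1 ∧ d * y = y * d := by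
  obtain ⟨h3, h4, h5⟩ := h3
  refine ⟨a⁻¹ * ⟨d, hd⟩ * a, ?_, ?_, back h d hd h5⟩
  · intro h6
    apply h4
    have h7 : (⟨d, hd⟩ : H) = 1 := by
      calc (⟨d, hd⟩ : H) = a * (a⁻¹ * ⟨d, hd⟩ * a) * a⁻¹ := by group
        _ = 1 := by rw [h6]; group
    exact congrArg Subtype.val h7
  · have h7 : (⟨d, hd⟩ : H) ^ 5 = 1 := Subtype.ext h3
    have h8 := conj_pow (i := 5) (a := a⁻¹) (b := (⟨d, hd⟩ : H))
    rw [inv_inv] at h8
    rw [h8, h7, mul_one, inv_mul_cancel]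

theorem five (y : L) (h1 : y ≠ 1) (h2 : y * y = 1) : ∃ d : L, d ≠ 1 ∧ d ^ 5 = 1 ∧ d * y = y * d := by
  obtain ⟨a, h | h⟩ := conj_sub h2 h1
  · exact back_five h (ev_mem _) five_checks.1
  · exact back_five h (ev_mem _) five_checks.2

/-- `W4` is elementary abelian and commutes with `x₁₁(1)` and `x₉(1)` -/
theorem W4_check : (allN [10, 11] idC fun C => andF (mulF C C fun E => eqF E idC)
    (andF (cm C (xc 11 0)) (cm C (xc 9 0)))) = true := by decide +kernel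

theorem W4_facts {v : GL6} (hv : v ∈ W4) : v * v = 1 ∧ v * gx 11 0 = gx 11 0 * v ∧
    v * gx 9 0 = gx 9 0 * v := by
  obtain ⟨C, hC, h⟩ := allN_one W4_check v (W4_PS hv)
  obtain ⟨h1, h2⟩ := andF_iff.1 h
  obtain ⟨h3, h4⟩ := andF_iff.1 h2
  rw [mulF_eq, eqF_iff] at h1
  refine ⟨?_, (cm_iff hC (Cd_gx 11 0)).1 h3, (cm_iff hC (Cd_gx 9 0)).1 h4⟩
  have h5 := hC.mul hC
  rw [h1] at h5
  exact h5.inj Cd_one

theorem sixteen (y : L) (h1 : y ≠ 1) (h2 : y * y = 1) : ∃ V : Subgroup L, Nat.card V = 16 ∧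
    (∀ v ∈ V, v * v = 1) ∧ ∀ v ∈ V, v * y = y * v := by
  have main : ∀ (a : L) (r : GL6), ((a * y * a⁻¹ : L) : GL6) = r → (∀ v ∈ W4, v * r = r * v) →
      ∃ V : Subgroup L, Nat.card V = 16 ∧ (∀ v ∈ V, v * v = 1) ∧ ∀ v ∈ V, v * y = y * v := by
    intro a r h hr
    refine ⟨(W4.subgroupOf L).map (MulAut.conj a⁻¹).toMonoidHom, ?_, ?_, ?_⟩
    · rw [← Nat.card_congr ((W4.subgroupOf L).equivMapOfInjective _ (MulAut.conj a⁻¹).injective).toEquiv,
        Nat.card_congr (Subgroup.subgroupOfEquivOfLe W4_le_L).toEquiv, card_W4]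
    · rintro _ ⟨v, hv, rfl⟩
      rw [← map_mul]
      have h3 : v * v = 1 := Subtype.ext (W4_facts (Subgroup.mem_subgroupOf.1 hv)).1
      rw [h3, map_one]
    · rintro _ ⟨v, hv, rfl⟩
      change a⁻¹ * v * a⁻¹⁻¹ * y = y * (a⁻¹ * v * a⁻¹⁻¹)
      rw [inv_inv]
      exact back h v v.2 (hr v (Subgroup.mem_subgroupOf.1 hv))
  obtain ⟨a, h | h⟩ := conj_sub h2 h1
  · exact main a _ h fun v hv => (W4_facts hv).2.1
  · exact main a _ h fun v hv => (W4_facts hv).2.2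

end Cfsg.Agent.GTwoFour.MdlInv
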