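import Cfsg.Agent.GTwoFour.MdlPF

/-!
# `G₂(4)` in dimension six: `f`, `h`, Bruhat decomposition of `P`, and the group `L2 = C(W4)`
-/

set_option autoImplicit false
set_option linter.unusedVariables false

namespace Cfsg.Agent.GTwoFour.Mdl

open Cfsg.Agent.SporRec.GF4
open Cfsg.Agent.SporRec.G24Code (app)
open Cfsg.Agent.StdG24.Mod6
open Subgroup
open scoped commutatorElement

/-! ### The element `f` of order five -/

/-- `[q', f] = x_r(t)` modulo `Z` -/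
def ftab : List (Fin 12 × Fin 3 × Wd) :=
  [(6, 0, [(8, 1), (9, 2)]), (6, 1, [(8, 2), (9, 0)]), (6, 2, [(8, 0), (9, 1)]),
   (8, 0, [(6, 0), (8, 1), (10, 2)]), (8, 1, [(6, 1), (8, 2), (10, 0)]), (8, 2, [(6, 2), (8, 0), (10, 1)]),
   (9, 0, [(6, 0), (9, 2), (10, 1)]), (9, 1, [(6, 1), (9, 0), (10, 2)]), (9, 2, [(6, 2), (9, 1), (10, 0)]),
   (10, 0, [(8, 0), (9, 0), (10, 0)]), (10, 1, [(8, 1), (9, 1), (10, 1)]), (10, 2, [(8, 2), (9, 2), (10, 2)])]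

theorem ftab_check : ∀ p ∈ ftab, siftF [11] (cw ((cmw p.2.2 [(4, 0), (7, 1)]).reverse ++ [(p.1, p.2.1)])) = true ∧
    ∀ l ∈ p.2.2, l.1 ∈ ([6, 8, 9, 10, 11] : List (Fin 12)) := by
  decide +kernel

theorem ftab_complete : ∀ r ∈ ([6, 8, 9, 10] : List (Fin 12)), ∀ t : Fin 3,
    ∃ p ∈ ftab, p.1 = r ∧ p.2.1 = t := by decide +kernel

theorem ev_mem_of {w : Wd} {K : Subgroup GL6} (h : ∀ l ∈ w, X l.1 ≤ K) : ev w ∈ K := by
  refine K.list_prod_mem ?_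
  intro x hx
  obtain ⟨p, hp, rfl⟩ := List.mem_map.1 hx
  exact h p hp (gx_mem_X _ _)

/-- the elements of the form `[q', f] z` -/
theorem fset_mul {a b : GL6} (ha : a ∈ Q1) (hb : b ∈ Q1) :
    ∃ z ∈ X 11, ⁅a * b, f⁆ = ⁅a, f⁆ * ⁅b, f⁆ * z := by
  have hbf : ⁅b, f⁆ ∈ Q1 := by
    have e : ⁅b, f⁆ = b * (f * b⁻¹ * f⁻¹) := by simp only [commutatorElement_def]; group
    rw [e]
    exact Q1.mul_mem hb (S_Q1 f f_mem_S _ (Q1.inv_mem hb))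
  have haf : ⁅a, f⁆ ∈ Q1 := by
    have e : ⁅a, f⁆ = a * (f * a⁻¹ * f⁻¹) := by simp only [commutatorElement_def]; group
    rw [e]
    exact Q1.mul_mem ha (S_Q1 f f_mem_S _ (Q1.inv_mem ha))
  refine ⟨(⁅a, f⁆ * ⁅b, f⁆)⁻¹ * ⁅a * b, f⁆, ?_, by group⟩
  have e : (⁅a, f⁆ * ⁅b, f⁆)⁻¹ * ⁅a * b, f⁆ =
      (⁅b, f⁆⁻¹ * ⁅a, f⁆⁻¹ * ⁅a, ⁅b, f⁆⁆ * (⁅b, f⁆⁻¹ * ⁅a, f⁆⁻¹)⁻¹) * ⁅⁅b, f⁆⁻¹, ⁅a, f⁆⁻¹⁆ := by
    simp only [commutatorElement_def]; group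
  rw [e]
  refine (X 11).mul_mem ?_ (comm_Q1 _ (Q1.inv_mem hbf) _ (Q1.inv_mem haf))
  exact norm_X11 _ (Q1_le_P (Q1.mul_mem (Q1.inv_mem hbf) (Q1.inv_mem haf))) _ (comm_Q1 a ha _ hbf)

theorem f_Q1_X {r : Fin 12} (hr : r ∈ ([6, 8, 9, 10, 11] : List (Fin 12))) : ∀ x ∈ X r,
    ∃ q' ∈ Q1, ∃ z ∈ X 11, x = ⁅q', f⁆ * z := by
  intro x hx
  by_cases h11 : r = 11
  · subst h11
    exact ⟨1, Q1.one_mem, x, hx, by rw [commutatorElement_one_left, one_mul]⟩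
  have hr' : r ∈ ([6, 8, 9, 10] : List (Fin 12)) := by
    simp only [List.mem_cons, List.not_mem_nil, or_false] at hr ⊢
    tauto
  rcases X_cases hx with rfl | ⟨t, rfl⟩
  · exact ⟨1, Q1.one_mem, 1, (X 11).one_mem, by rw [commutatorElement_one_left, one_mul]⟩
  obtain ⟨p, hp, rfl, rfl⟩ := ftab_complete r hr' t
  obtain ⟨h1, h2⟩ := ftab_check p hp
  have hq : ev p.2.2 ∈ Q1 := ev_mem_of fun l hl => Q1_rs _ (h2 l hl)
  refine ⟨ev p.2.2, hq, _, siftF_sound (by simp) (Cd_ev _) h1, ?_⟩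
  rw [ev_append, ev_reverse, ev_cmw, ev_singleton, f]
  group

theorem f_Q1 : ∀ q ∈ Q1, ∃ q' ∈ Q1, ∃ z ∈ X 11, q = ⁅q', f⁆ * z := by
  have hmul : ∀ u v : GL6, (∃ q' ∈ Q1, ∃ z ∈ X 11, u = ⁅q', f⁆ * z) → (∃ q' ∈ Q1, ∃ z ∈ X 11, v = ⁅q', f⁆ * z) →
      ∃ q' ∈ Q1, ∃ z ∈ X 11, u * v = ⁅q', f⁆ * z := by
    rintro _ _ ⟨a, ha, z, hz, rfl⟩ ⟨b, hb, z', hz', rfl⟩
    obtain ⟨z'', hz'', e⟩ := fset_mul ha hb
    have hbf : ⁅b, f⁆ ∈ P := by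
      have := P.mul_mem (P.mul_mem (P.mul_mem (Q1_le_P hb) (S_le_P f_mem_S)) (P.inv_mem (Q1_le_P hb)))
        (P.inv_mem (S_le_P f_mem_S))
      exact this
    refine ⟨a * b, Q1.mul_mem ha hb, z''⁻¹ * (z * z'), (X 11).mul_mem ((X 11).inv_mem hz'')
      ((X 11).mul_mem hz hz'), ?_⟩
    rw [e]
    have e2 : ⁅a, f⁆ * ⁅b, f⁆ * z'' * (z''⁻¹ * (z * z')) = ⁅a, f⁆ * (⁅b, f⁆ * z) * z' := by group
    rw [e2, Z_comm hbf hz]
    group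
  rintro _ ⟨x6, h6, _, ⟨x8, h8, _, ⟨x9, h9, _, ⟨x10, h10, x11, h11, rfl⟩, rfl⟩, rfl⟩, rfl⟩
  exact hmul _ _ (f_Q1_X (by simp) _ h6) (hmul _ _ (f_Q1_X (by simp) _ h8)
    (hmul _ _ (f_Q1_X (by simp) _ h9) (hmul _ _ (f_Q1_X (by simp) _ h10) (f_Q1_X (by simp) _ h11))))

/-! ### `Q1` is generated by the conjugates of `X_{3a+b}` and `Z` -/

/-- `x_r(t)` as product of conjugates of elements of `X_{3a+b}` modulo `Z` -/
def gtab : List (Fin 12 × Fin 3 × List (Wd × Fin 3)) :=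
  [(8, 0, [((7, 0) :: nsw, 0), ((7, 1) :: nsw, 2), ((7, 2) :: nsw, 1)]),
   (8, 1, [((7, 0) :: nsw, 1), ((7, 1) :: nsw, 0), ((7, 2) :: nsw, 2)]),
   (8, 2, [((7, 0) :: nsw, 2), ((7, 1) :: nsw, 1), ((7, 2) :: nsw, 0)]),
   (9, 0, [((7, 0) :: nsw, 0), ((7, 1) :: nsw, 1), ((7, 2) :: nsw, 2)]),
   (9, 1, [((7, 0) :: nsw, 1), ((7, 1) :: nsw, 2), ((7, 2) :: nsw, 0)]),
   (9, 2, [((7, 0) :: nsw, 2), ((7, 1) :: nsw, 0), ((7, 2) :: nsw, 1)]),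
   (6, 0, [(nsw, 0)]), (6, 1, [(nsw, 1)]), (6, 2, [(nsw, 2)]),
   (10, 0, [([], 0)]), (10, 1, [([], 1)]), (10, 2, [([], 2)])]

/-- the word of a product of conjugates -/
def gword (l : List (Wd × Fin 3)) : Wd := l.flatMap fun p => p.1 ++ (10, p.2) :: p.1.reverse

theorem gtab_check : ∀ p ∈ gtab, siftF [11] (cw ((gword p.2.2).reverse ++ [(p.1, p.2.1)])) = true ∧
    ∀ q ∈ p.2.2, ∀ l ∈ q.1, l.1 = 4 ∨ l.1 = 7 := by
  decide +kernel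

theorem gtab_complete : ∀ r ∈ ([6, 8, 9, 10] : List (Fin 12)), ∀ t : Fin 3,
    ∃ p ∈ gtab, p.1 = r ∧ p.2.1 = t := by decide +kernel

theorem gword_mem {l : List (Wd × Fin 3)} {K : Subgroup GL6} (hl : ∀ q ∈ l, ∀ l ∈ q.1, l.1 = 4 ∨ l.1 = 7)
    (hK : ∀ p ∈ P, ∀ e ∈ X 10, p * e * p⁻¹ ∈ K) : ev (gword l) ∈ K := by
  induction l with
  | nil => exact K.one_mem
  | cons q l ih =>
    have h1 : gword (q :: l) = (q.1 ++ (10, q.2) :: q.1.reverse) ++ gword l := rfl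
    have h2 : ev (q.1 ++ (10, q.2) :: q.1.reverse) = ev q.1 * gx 10 q.2 * (ev q.1)⁻¹ := by
      rw [← ev_reverse, ev_append, mul_assoc]; rfl
    rw [h1, ev_append, h2]
    refine K.mul_mem (hK _ (ev_mem_of ?_) _ (gx_mem_X _ _)) (ih fun q' hq' => hl q' (List.mem_cons_of_mem _ hq'))
    intro l' hl'
    rcases hl q List.mem_cons_self l' hl' with e | e
    · rw [e]; exact X4_le_S.trans S_le_P
    · rw [e]; exact X7_le_S.trans S_le_P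

theorem gen_Q1 : ∀ K : Subgroup GL6, X 11 ≤ K → (∀ p ∈ P, ∀ e ∈ X 10, p * e * p⁻¹ ∈ K) → Q1 ≤ K := by
  intro K hZ hK
  have key : ∀ r ∈ ([6, 8, 9, 10] : List (Fin 12)), X r ≤ K := by
    intro r hr x hx
    rcases X_cases hx with rfl | ⟨t, rfl⟩
    · exact K.one_mem
    obtain ⟨p, hp, rfl, rfl⟩ := gtab_complete r hr t
    obtain ⟨h1, h2⟩ := gtab_check p hp
    have h3 : ev ((gword p.2.2).reverse ++ [(p.1, p.2.1)]) ∈ K :=
      siftF_sound (by simpa using hZ) (Cd_ev _) h1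
    have h4 := K.mul_mem (gword_mem h2 hK) h3
    rwa [ev_append, ev_reverse, mul_inv_cancel_left, ev_singleton] at h4
  exact mulSub_le (key 6 (by simp)) (mulSub_le (key 8 (by simp)) (mulSub_le (key 9 (by simp))
    (mulSub_le (key 10 (by simp)) hZ)))

/-! ### The element `h` -/

theorem h_comm {r : Fin 12} (hr : r = 4 ∨ r = 7) : ∀ x ∈ X r, Mdl.h * x = x * Mdl.h := by
  intro x hx
  rcases X_cases hx with rfl | ⟨t, rfl⟩
  · rw [one_mul, mul_one]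
  have hc : ∀ r : Fin 12, r = 4 ∨ r = 7 → ∀ t : Fin 3, cw (hw ++ [(r, t)]) = cw ([(r, t)] ++ hw) := by
    decide +kernel
  rw [← ev_singleton (r, t), Mdl.h, ← ev_append, ← ev_append]
  exact ev_eq_of (hc r hr t)

theorem h_comm_S : ∀ s ∈ S, Mdl.h * s = s * Mdl.h := by
  refine S_ind (by rw [one_mul, mul_one]) ?_ ?_
  · intro x hx y hy ih
    rw [← mul_assoc, h_comm (Or.inl rfl) x hx, mul_assoc, ih, mul_assoc]
  · intro x hx y hy ih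
    rw [← mul_assoc, h_comm (Or.inr rfl) x hx, mul_assoc, ih, mul_assoc]

theorem h_norm_Q1 : ∀ q ∈ Q1, Mdl.h * q * Mdl.h⁻¹ ∈ Q1 :=
  conj_Q1 fun r hr x hx => Q1_rs r hr (h_X r x hx)

theorem h_P : ∀ p ∈ P, ⁅Mdl.h, p⁆ ∈ Q1 := by
  rintro _ ⟨s, hs, q, hq, rfl⟩
  have e : ⁅Mdl.h, s * q⁆ = ⁅Mdl.h, s⁆ * (s * ((Mdl.h * q * Mdl.h⁻¹) * q⁻¹) * s⁻¹) := by
    simp only [commutatorElement_def]; group
  rw [e, commutatorElement_eq_one_iff_mul_comm.2 (h_comm_S s hs), one_mul]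
  exact S_Q1 s hs _ (Q1.mul_mem (h_norm_Q1 q hq) (Q1.inv_mem hq))

theorem fpf {w : Wd} {r : Fin 12} (h : ∀ t : Fin 3, cw (w ++ (r, t) :: w.reverse) ≠ xc r t) :
    ∀ x ∈ X r, ev w * x * (ev w)⁻¹ = x → x = 1 := by
  intro x hx e
  rcases X_cases hx with rfl | ⟨t, rfl⟩
  · rfl
  exfalso
  have h2 : ev w * gx r t * (ev w)⁻¹ = ev (w ++ (r, t) :: w.reverse) := by
    rw [← ev_reverse, ev_append, mul_assoc]
    rfl
  rw [h2] at e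
  exact h t ((Cd_ev _).unique (e ▸ Cd_gx r t))

theorem h_Z_fpf : ∀ z ∈ X 11, Mdl.h * z * Mdl.h⁻¹ = z → z = 1 := fpf (by decide +kernel)
theorem h_Xe_fpf : ∀ z ∈ X 10, Mdl.h * z * Mdl.h⁻¹ = z → z = 1 := fpf (by decide +kernel)

theorem h_bilin_check : ∀ t t' : Fin 3,
    cw (cmw (hw ++ (10, t) :: hw.reverse) [(6, t')]) =
      cw (hw ++ (hw ++ cmw [(10, t)] [(6, t')] ++ hw.reverse) ++ hw.reverse) := by
  decide +kernel

theorem h_bilin : ∀ e ∈ X 10, ∀ x ∈ X 6,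
    ⁅Mdl.h * e * Mdl.h⁻¹, x⁆ = Mdl.h * (Mdl.h * ⁅e, x⁆ * Mdl.h⁻¹) * Mdl.h⁻¹ := by
  intro e he x hx
  rcases X_cases he with rfl | ⟨t, rfl⟩
  · simp
  rcases X_cases hx with rfl | ⟨t', rfl⟩
  · simp
  have h1 := ev_eq_of (h_bilin_check t t')
  rw [ev_cmw] at h1
  have h2 : ev (hw ++ (10, t) :: hw.reverse) = Mdl.h * gx 10 t * Mdl.h⁻¹ := by
    rw [Mdl.h, ← ev_reverse, ev_append, mul_assoc]; rfl
  have h3 : ev (hw ++ (hw ++ cmw [(10, t)] [(6, t')] ++ hw.reverse) ++ hw.reverse) =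
      Mdl.h * (Mdl.h * ⁅gx 10 t, gx 6 t'⁆ * Mdl.h⁻¹) * Mdl.h⁻¹ := by
    simp only [ev_append, ev_cmw, ev_reverse, ev_singleton]
    rfl
  rw [h2, h3, ev_singleton] at h1
  exact h1

/-! ### Bruhat decomposition -/

theorem Bw_spec : ∀ b ∈ Bw, ∃ x ∈ X 7, ∃ i : ℕ, i < 3 ∧ ev b = x * y ^ i := by
  intro b hb
  obtain ⟨u, hu, hb⟩ := List.mem_flatMap.1 hb
  simp only [List.mem_cons, List.not_mem_nil, or_false] at hb
  rcases hb with rfl | rfl | rfl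
  · exact ⟨xe 7 u, xe_mem 7 u, 0, by norm_num, by rw [pow_zero, mul_one]; rfl⟩
  · exact ⟨xe 7 u, xe_mem 7 u, 1, by norm_num, by rw [pow_one, ev_append]; rfl⟩
  · exact ⟨xe 7 u, xe_mem 7 u, 2, by norm_num, by rw [pow_two, ev_append, ev_append]; rfl⟩

/-- the Borel subgroup of `P` -/
def B : Subgroup GL6 := Q1 ⊔ X 7 ⊔ zpowers y

theorem Q1_le_B : Q1 ≤ B := le_sup_left.trans le_sup_left
theorem X7_le_B : X 7 ≤ B := le_sup_right.trans le_sup_left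
theorem y_mem_B : y ∈ B := (le_sup_right : zpowers y ≤ B) (mem_zpowers y)

theorem Bw_mem_B {b : Wd} (hb : b ∈ Bw) : ev b ∈ B := by
  obtain ⟨x, hx, i, -, e⟩ := Bw_spec b hb
  rw [e]
  exact B.mul_mem (X7_le_B hx) (B.pow_mem y_mem_B i)

theorem SW_cases {w : Wd} (hw : w ∈ SW) : w ∈ Bw ∨ ∃ b ∈ Bw, ∃ u : Fin 4, w = b ++ nsw ++ xw 7 u := by
  rcases List.mem_append.1 hw with h | h
  · exact Or.inl h
  · obtain ⟨b, hb, h⟩ := List.mem_flatMap.1 h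
    obtain ⟨u, -, rfl⟩ := List.mem_map.1 h
    exact Or.inr ⟨b, hb, u, rfl⟩

theorem bruhat : ∀ p ∈ P, p ∈ B ∨ ∃ b ∈ B, ∃ b' ∈ B, p = b * ns * b' := by
  rintro _ ⟨s, hs, q, hq, rfl⟩
  obtain ⟨w, hw, rfl⟩ := exists_SW hs
  rcases SW_cases hw with h | ⟨b, hb, u, rfl⟩
  · exact Or.inl (B.mul_mem (Bw_mem_B h) (Q1_le_B hq))
  · refine Or.inr ⟨ev b, Bw_mem_B hb, xe 7 u * q, B.mul_mem (X7_le_B (xe_mem 7 u)) (Q1_le_B hq), ?_⟩
    rw [ev_append, ev_append]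
    simp only [ns, xe, mul_assoc]

/-! ### `L2` -/

theorem W4_eq : X 11 ⊔ X 10 = W4 :=
  le_antisymm (sup_le X11_le_W4 X10_le_W4) (mulSub_le le_sup_right le_sup_left)

theorem cent_of_cmX {r : Fin 12} (h : cmX r 10 [] = true) : X r ≤ centralizer (X 10 : Set GL6) := by
  intro x hx
  rw [mem_centralizer_iff]
  exact fun e he => (comm_of_cmX h x hx e he).symm

theorem N8_le_cent10 : N8 ≤ centralizer (X 10 : Set GL6) :=
  mulSub_le (cent_of_cmX (by decide +kernel)) (mulSub_le (cent_of_cmX (by decide +kernel))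
    (mulSub_le (cent_of_cmX (by decide +kernel)) (cent_of_cmX (by decide +kernel))))

theorem Q12_eq : Q1 ⊓ centralizer (X 10 : Set GL6) = N8 := by
  apply le_antisymm
  · rintro _ ⟨⟨x, hx, n, hn, rfl⟩, hc⟩
    have h1 : x ∈ centralizer (X 10 : Set GL6) := by
      have := (centralizer (X 10 : Set GL6)).mul_mem hc (inv_mem (N8_le_cent10 hn))
      rwa [mul_inv_cancel_right] at this
    rcases X_cases hx with rfl | ⟨t, rfl⟩
    · rwa [one_mul]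
    · exfalso
      have h2 := mem_centralizer_iff.1 h1 (gx 10 0) (gx_mem_X 10 0)
      have h3 : ∀ t : Fin 3, cm (xc 10 0) (xc 6 t) = false := by decide +kernel
      have h4 := (cm_iff (Cd_gx 10 0) (Cd_gx 6 t)).2 h2
      rw [h3 t] at h4
      exact absurd h4 (by decide)
  · exact le_inf N8_le_Q1 N8_le_cent10

/-- `L2 = C_P(X_{3a+b})` -/
def L2 : Subgroup GL6 := P ⊓ centralizer (X 10 : Set GL6)

theorem y_cent10 : y ∈ centralizer (X 10 : Set GL6) := by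
  rw [mem_centralizer_iff]
  intro x hx
  rcases X_cases hx with rfl | ⟨t, rfl⟩
  · rw [one_mul, mul_one]
  have hc : ∀ t : Fin 3, cw ([(10, t)] ++ yw) = cw (yw ++ [(10, t)]) := by decide +kernel
  rw [← ev_singleton (10, t), y, ← ev_append, ← ev_append]
  exact ev_eq_of (hc t)

theorem y_mem_L2 : y ∈ L2 := ⟨y_mem_P, y_cent10⟩

theorem X7_cent10 : X 7 ≤ centralizer (X 10 : Set GL6) := cent_of_cmX (by decide +kernel)

theorem Q2_le_L2 : Q2 ≤ L2 := le_inf Q2_le_P (mulSub_le X7_cent10 N8_le_cent10)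

theorem L2_check : (allF SC fun C => impF (cmZ C (xc 10 0)) (memF C (Bw.map cw))) = true := by
  decide +kernel

theorem decomp_L2 : ∀ l ∈ L2, ∃ q ∈ Q2, ∃ i : ℕ, l = q * y ^ i := by
  rintro _ ⟨⟨s, hs, q, hq, rfl⟩, hc⟩
  -- `s` centralises `x_{3a+b}(1)` modulo `Z`
  have h1 : ⁅s, gx 10 0⁆ ∈ X 11 := by
    refine comm_S_part hs hq (Q1_le_P (Q1_rs 10 (by simp) (gx_mem_X 10 0))) norm_X11
      (comm_Q1 q hq _ (Q1_rs 10 (by simp) (gx_mem_X 10 0))) ?_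
    have := mem_centralizer_iff.1 hc (gx 10 0) (gx_mem_X 10 0)
    rw [commutatorElement_eq_one_iff_mul_comm.2 this.symm]
    exact (X 11).one_mem
  obtain ⟨C, hC, hsC⟩ := S_code hs
  have h2 := impF_spec (allF_spec L2_check C hC) (cmZ_of hsC (Cd_gx 10 0) h1)
  rw [memF_iff] at h2
  obtain ⟨b, hb, hbC⟩ := List.mem_map.1 h2
  obtain ⟨x, hx, i, -, e⟩ := Bw_spec b hb
  have h3 : s = x * y ^ i := by
    rw [← e]
    exact hsC.inj (hbC ▸ Cd_ev b)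
  have hxc : x ∈ centralizer (X 10 : Set GL6) := X7_cent10 hx
  have hsc : s ∈ centralizer (X 10 : Set GL6) := by
    rw [h3]; exact mul_mem hxc (pow_mem y_cent10 i)
  have hq12 : q ∈ N8 := by
    rw [← Q12_eq]
    refine ⟨hq, ?_⟩
    have := mul_mem (inv_mem hsc) hc
    rwa [inv_mul_cancel_left] at this
  have h4 : y ^ i * q * (y ^ i)⁻¹ ∈ N8 := by
    rw [← Q12_eq] at hq12 ⊢
    exact Subgroup.mem_inf.2 ⟨S_Q1 _ (S.pow_mem y_mem_S i) _ hq12.1,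
      mul_mem (mul_mem (pow_mem y_cent10 i) hq12.2) (inv_mem (pow_mem y_cent10 i))⟩
  refine ⟨x * (y ^ i * q * (y ^ i)⁻¹), Q2.mul_mem (X7_le_Q2 hx) (N8_le_Q2 h4), i, ?_⟩
  rw [h3]; group

end Cfsg.Agent.GTwoFour.Mdl
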