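import Cfsg.Agent.GTwoFour.MdlGrp

/-!
# `G₂(4)` in dimension six: the centralizer `P` of the long root group `Z`
-/

set_option autoImplicit false
set_option linter.unusedVariables false

namespace Cfsg.Agent.GTwoFour.Mdl

open Cfsg.Agent.SporRec.GF4
open Cfsg.Agent.SporRec.G24Code (app)
open Cfsg.Agent.StdG24.Mod6
open Cfsg.Agent.StdG24.Ord6 (AL exists_AL e0 e1 trans_vec form_e0_e1)
open Cfsg.Agent.SporRec.G24Orb (allb allb_spec)

/-- implication -/
def impF (a b : Bool) : Bool := Bool.rec true b a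

theorem impF_spec {a b : Bool} (h : impF a b = true) (ha : a = true) : b = true := by
  subst ha; exact h

/-- conjunction -/
def andF (a b : Bool) : Bool := Bool.rec false b a

theorem andF_iff {a b : Bool} : andF a b = true ↔ a = true ∧ b = true := by
  cases a
  · exact ⟨fun h => absurd (show false = true from h) (by decide), fun h => absurd h.1 (by decide)⟩
  · exact ⟨fun h => ⟨rfl, h⟩, fun h => h.2⟩

/-- induction over `S` -/
theorem S_ind {p : GL6 → Prop} (h1 : p 1) (h4 : ∀ x ∈ X 4, ∀ y ∈ S, p y → p (x * y))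
    (h7 : ∀ x ∈ X 7, ∀ y ∈ S, p y → p (x * y)) : ∀ s ∈ S, p s := by
  intro s hs
  have hS : S = Subgroup.closure ((X 4 : Set GL6) ∪ X 7) := by
    rw [Subgroup.closure_union, Subgroup.closure_eq, Subgroup.closure_eq]; rfl
  rw [hS] at hs
  induction hs using Subgroup.closure_induction_left with
  | one => exact h1
  | mul_left x hx y hy ih =>
    rcases hx with hx | hx
    · exact h4 x hx y (hS ▸ hy) ih
    · exact h7 x hx y (hS ▸ hy) ih
  | inv_mul_cancel x hx y hy ih =>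
    rcases hx with hx | hx
    · rw [X_inv hx]; exact h4 x hx y (hS ▸ hy) ih
    · rw [X_inv hx]; exact h7 x hx y (hS ▸ hy) ih

theorem X4_Q1 : ∀ k ∈ X 4, ∀ q ∈ Q1, k * q * k⁻¹ ∈ Q1 := by
  intro k hk
  refine conj_Q1 fun r hr => ?_
  have h : ∀ r ∈ ([6, 8, 9, 10, 11] : List (Fin 12)), cjF 4 r [6, 8, 9, 10, 11] = true := by
    decide +kernel
  exact cjF_spec (h r hr) Q1_rs (Q1_rs r hr) k hk

theorem X7_Q1 : ∀ k ∈ X 7, ∀ q ∈ Q1, k * q * k⁻¹ ∈ Q1 := by
  intro k hk
  refine conj_Q1 fun r hr => ?_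
  have h : ∀ r ∈ ([6, 8, 9, 10, 11] : List (Fin 12)), cjF 7 r [6, 8, 9, 10, 11] = true := by
    decide +kernel
  exact cjF_spec (h r hr) Q1_rs (Q1_rs r hr) k hk

theorem S_Q1 : ∀ s ∈ S, ∀ q ∈ Q1, s * q * s⁻¹ ∈ Q1 := by
  refine S_ind (fun q hq => by rwa [one_mul, inv_one, mul_one]) ?_ ?_
  · intro x hx y hy h q hq
    have e : x * y * q * (x * y)⁻¹ = x * (y * q * y⁻¹) * x⁻¹ := by group
    rw [e]
    exact X4_Q1 x hx _ (h q hq)
  · intro x hx y hy h q hq
    have e : x * y * q * (x * y)⁻¹ = x * (y * q * y⁻¹) * x⁻¹ := by group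
    rw [e]
    exact X7_Q1 x hx _ (h q hq)

/-- `P = S Q1` -/
def P : Subgroup GL6 := mulSub S Q1 S_Q1

theorem S_le_P : S ≤ P := le_left
theorem Q1_le_P : Q1 ≤ P := le_right

theorem S_le_L : S ≤ L := sup_le (X_le_L 4) (X_le_L 7)
theorem W4_le_L : W4 ≤ L := mulSub_le (X_le_L 10) (X_le_L 11)
theorem N9_le_L : N9 ≤ L := mulSub_le (X_le_L 9) W4_le_L
theorem N8_le_L : N8 ≤ L := mulSub_le (X_le_L 8) N9_le_L
theorem Q1_le_L : Q1 ≤ L := mulSub_le (X_le_L 6) N8_le_L
theorem Q2_le_L : Q2 ≤ L := mulSub_le (X_le_L 7) N8_le_L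
theorem P_le_L : P ≤ L := mulSub_le S_le_L Q1_le_L

/-! ### Actions on the first two basis vectors -/

theorem act_dec_of {g : GL6} {C : List ℕ} (hg : Cd g C) {n m : ℕ} (hn : n < 4096) (hm : m < 4096)
    (h : appF C n = m) : act g (dec n) = dec m := (hg.act_iff hn hm).2 h

theorem X_fix {r : Fin 12} {n : ℕ} (hn : n < 4096)
    (h : ∀ t : Fin 3, appF (xc r t) n = n) {g : GL6} (hg : g ∈ X r) : act g (dec n) = dec n := by
  rcases X_cases hg with rfl | ⟨t, rfl⟩
  · exact act_one _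
  · exact act_dec_of (Cd_gx r t) hn hn (h t)

theorem mul_fix {g h : GL6} {x : Vec} (hg : act g x = x) (hh : act h x = x) : act (g * h) x = x := by
  rw [act_mul, hh, hg]

theorem W4_fix {n : ℕ} (hn : n < 4096) (h : ∀ r ∈ ([10, 11] : List (Fin 12)), ∀ t : Fin 3,
    appF (xc r t) n = n) {g : GL6} (hg : g ∈ W4) : act g (dec n) = dec n := by
  obtain ⟨x, hx, y, hy, rfl⟩ := hg
  exact mul_fix (X_fix hn (h 10 (by simp)) hx) (X_fix hn (h 11 (by simp)) hy)

theorem N8_fix {n : ℕ} (hn : n < 4096) (h : ∀ r ∈ ([8, 9, 10, 11] : List (Fin 12)), ∀ t : Fin 3,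
    appF (xc r t) n = n) {g : GL6} (hg : g ∈ N8) : act g (dec n) = dec n := by
  obtain ⟨a, ha, _, ⟨b, hb, y, hy, rfl⟩, rfl⟩ := hg
  exact mul_fix (X_fix hn (h 8 (by simp)) ha) (mul_fix (X_fix hn (h 9 (by simp)) hb)
    (W4_fix hn (fun r hr => h r (by simp at hr ⊢; tauto)) hy))

theorem Q1_fix {n : ℕ} (hn : n < 4096) (h : ∀ r ∈ ([6, 8, 9, 10, 11] : List (Fin 12)), ∀ t : Fin 3,
    appF (xc r t) n = n) {g : GL6} (hg : g ∈ Q1) : act g (dec n) = dec n := by
  obtain ⟨a, ha, y, hy, rfl⟩ := hg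
  exact mul_fix (X_fix hn (h 6 (by simp)) ha) (N8_fix hn (fun r hr => h r (by simp at hr ⊢; tauto)) hy)

theorem Q1_fix1 {g : GL6} (hg : g ∈ Q1) : act g (dec 1) = dec 1 :=
  Q1_fix (by norm_num) (by decide +kernel) hg

theorem Q1_fix4 {g : GL6} (hg : g ∈ Q1) : act g (dec 4) = dec 4 :=
  Q1_fix (by norm_num) (by decide +kernel) hg

theorem S_faith_check : (allF SC fun C => impF (Nat.beq (appF C 1) 1) (impF (Nat.beq (appF C 4) 4)
    (eqF C idC))) = true := by decide +kernel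

theorem S_faith {g : GL6} (hg : g ∈ S) (h1 : act g (dec 1) = dec 1) (h4 : act g (dec 4) = dec 4) :
    g = 1 := by
  obtain ⟨C, hC, hgC⟩ := S_code hg
  have h := allF_spec S_faith_check C hC
  have e1 : appF C 1 = 1 := (hgC.act_iff (by norm_num) (by norm_num)).1 h1
  have e4 : appF C 4 = 4 := (hgC.act_iff (by norm_num) (by norm_num)).1 h4
  have h' := impF_spec (impF_spec h (by rw [e1]; rfl)) (by rw [e4]; rfl)
  rw [eqF_iff] at h'
  subst h'
  exact hgC.inj Cd_one

theorem S_Q1_disj : ∀ g ∈ S, g ∈ Q1 → g = 1 := fun g hS hQ => S_faith hS (Q1_fix1 hQ) (Q1_fix4 hQ)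

theorem SC_nodup : SC.Nodup := by decide +kernel

theorem SW_length : SW.length = 60 := by decide +kernel

theorem SW_mem_S {w : Wd} (h : w ∈ SW) : ev w ∈ S := by
  have h1 : ∀ w ∈ SW, ∀ p ∈ w, p.1 = 4 ∨ p.1 = 7 := by decide +kernel
  refine S.list_prod_mem ?_
  intro x hx
  obtain ⟨p, hp, rfl⟩ := List.mem_map.1 hx
  rcases h1 w h p hp with e | e
  · rw [e]; exact X4_le_S (gx_mem_X _ _)
  · rw [e]; exact X7_le_S (gx_mem_X _ _)

theorem card_S : Nat.card S = 60 := by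
  have h : Function.Bijective (fun i : Fin SW.length =>
      (⟨ev (SW.get i), SW_mem_S (List.get_mem _ _)⟩ : S)) := by
    constructor
    · intro i j e
      have h1 : cw (SW.get i) = cw (SW.get j) := ev_eq_iff.1 (congrArg Subtype.val e)
      have h2 : (SW.map cw).Nodup := by rw [SW_codes]; exact SC_nodup
      have h3 := List.nodup_iff_injective_get.1 h2
      have h4 : (SW.map cw).get ⟨i, by rw [List.length_map]; exact i.isLt⟩ =
          (SW.map cw).get ⟨j, by rw [List.length_map]; exact j.isLt⟩ := by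
        simpa using h1
      exact Fin.ext (by simpa using congrArg Fin.val (h3 h4))
    · rintro ⟨g, hg⟩
      obtain ⟨w, hw, rfl⟩ := exists_SW hg
      obtain ⟨i, hi⟩ := List.get_of_mem hw
      exact ⟨i, Subtype.ext (congrArg ev hi)⟩
  rw [← Nat.card_congr (Equiv.ofBijective _ h), Nat.card_fin, SW_length]

theorem card_P : Nat.card P = 61440 :=
  (card_mulSub S_Q1_disj).trans (by rw [card_S, card_Q1])

/-! ### The centralizer of `Z` -/

theorem S_trans_check : ∀ n < 16, n = 0 ∨ ∃ C ∈ SC, appF C 1 = n := by decide +kernel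

theorem S_trans {n : ℕ} (hn : n < 16) (hn0 : n ≠ 0) : ∃ s ∈ S, act s (dec 1) = dec n := by
  obtain ⟨C, hC, h⟩ := (S_trans_check n hn).resolve_left hn0
  obtain ⟨w, hw, rfl⟩ := exists_SW_of_mem_SC hC
  exact ⟨ev w, SW_mem_S hw, act_dec_of (Cd_ev w) (by norm_num) (by omega) h⟩

theorem im_check : allb (fun m => Nat.blt (Nat.xor (appF (xc 11 0) m) m) 16) 4096 = true := by
  decide +kernel

/-- `[V, z]` is spanned by the first two basis vectors -/
theorem im_z (x : Vec) : ∃ n < 16, act (gx 11 0) x + x = dec n := by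
  obtain ⟨m, hm, rfl⟩ := exists_dec x
  refine ⟨Nat.xor (appF (xc 11 0) m) m, by simpa using allb_spec im_check m hm, ?_⟩
  have h : act (gx 11 0) (dec m) = dec (appF (xc 11 0) m) := by
    rw [appF_eq]
    exact ((Cd_gx 11 0).spec m hm).symm
  rw [h]
  exact (dec_xor _ _).symm

/-- one step of moving a vector to the last basis vector -/
def stV (r : Fin 12) (f : ℕ → ℕ) (k v : ℕ) : ℕ := appF (xk r (f (Nat.mod (Nat.shiftRight v k) 4))) v

/-- the Frobenius map on the numbers `0, 1, 2, 3` -/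
def fr4 (n : ℕ) : ℕ := Nat.xor n (Nat.shiftRight n 1)

theorem stV_spec (r : Fin 12) (f : ℕ → ℕ) (k v : ℕ) (hv : v < 4096) :
    stV r f k v < 4096 ∧ ∃ x ∈ X r, act x (dec v) = dec (stV r f k v) := by
  obtain ⟨x, hx, hxc⟩ := xk_spec r (f (Nat.mod (Nat.shiftRight v k) 4))
  rw [stV, appF_eq]
  exact ⟨IsCode.app_lt hxc v, x, hx, (hxc.spec v hv).symm⟩

theorem Q2_trans_check : allb (fun j => Nat.beq (stV 9 fr4 0 (stV 11 id 2 (stV 10 id 4 (stV 8 id 6
    (stV 7 id 8 (1024 + j)))))) 1024) 1024 = true := by decide +kernel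

theorem Q2_trans (j : ℕ) (hj : j < 1024) : ∃ q ∈ Q2, act q (dec (1024 + j)) = dec 1024 := by
  obtain ⟨h1, a, ha, ha'⟩ := stV_spec 7 id 8 (1024 + j) (by omega)
  obtain ⟨h2, b, hb, hb'⟩ := stV_spec 8 id 6 _ h1
  obtain ⟨h3, c, hc, hc'⟩ := stV_spec 10 id 4 _ h2
  obtain ⟨h4, d, hd, hd'⟩ := stV_spec 11 id 2 _ h3
  obtain ⟨h5, e, he, he'⟩ := stV_spec 9 fr4 0 _ h4
  have hm := Q2_rs
  refine ⟨e * (d * (c * (b * a))), Q2.mul_mem (hm 9 (by simp) he) (Q2.mul_mem (hm 11 (by simp) hd)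
    (Q2.mul_mem (hm 10 (by simp) hc) (Q2.mul_mem (hm 8 (by simp) hb) (hm 7 (by simp) ha)))), ?_⟩
  rw [act_mul, act_mul, act_mul, act_mul, ha', hb', hc', hd', he',
    Nat.eq_of_beq_eq_true (allb_spec Q2_trans_check j hj)]

theorem AL_check : (allF (AL.map cw) fun C => impF (cm C (xc 11 0)) (siftF [6] C)) = true := by
  decide +kernel

theorem comm_XX_check : (allF [6, 7, 8, 9, 10, 11, 4] fun r : Fin 12 => allF [0, 1, 2] fun t : Fin 3 =>
    allF [0, 1, 2] fun t' : Fin 3 => cm (xc r t) (xc 11 t')) = true := by decide +kernel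

theorem X_comm_X11 {r : Fin 12} (hr : r ∈ ([6, 7, 8, 9, 10, 11, 4] : List (Fin 12))) {x z : GL6}
    (hx : x ∈ X r) (hz : z ∈ X 11) : x * z = z * x := by
  rcases X_cases hx with rfl | ⟨t, rfl⟩
  · rw [one_mul, mul_one]
  rcases X_cases hz with rfl | ⟨t', rfl⟩
  · rw [one_mul, mul_one]
  have h := allF_spec (allF_spec (allF_spec comm_XX_check r hr) t (by fin_cases t <;> simp)) t'
    (by fin_cases t' <;> simp)
  exact (cm_iff (Cd_gx _ _) (Cd_gx _ _)).1 h

/-- the centralizer of the element `z`, as a subgroup -/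
theorem X_le_cent {r : Fin 12} (hr : r ∈ ([6, 7, 8, 9, 10, 11, 4] : List (Fin 12))) :
    X r ≤ Subgroup.centralizer (X 11 : Set GL6) := by
  intro x hx
  rw [Subgroup.mem_centralizer_iff]
  exact fun z hz => (X_comm_X11 hr hx hz).symm

theorem N8_le_cent : N8 ≤ Subgroup.centralizer (X 11 : Set GL6) :=
  mulSub_le (X_le_cent (by simp)) (mulSub_le (X_le_cent (by simp))
    (mulSub_le (X_le_cent (by simp)) (X_le_cent (by simp))))

theorem P_le_cent : P ≤ Subgroup.centralizer (X 11 : Set GL6) :=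
  mulSub_le (sup_le (X_le_cent (by simp)) (X_le_cent (by simp)))
    (mulSub_le (X_le_cent (by simp)) N8_le_cent)

theorem Q2_le_cent : Q2 ≤ Subgroup.centralizer (X 11 : Set GL6) :=
  mulSub_le (X_le_cent (by simp)) N8_le_cent

theorem Q2_le_P : Q2 ≤ P := mulSub_le (X7_le_S.trans S_le_P) (N8_le_Q1.trans Q1_le_P)

theorem comm_of_cent {g : GL6} (hg : g ∈ Subgroup.centralizer (X 11 : Set GL6)) {z : GL6}
    (hz : z ∈ X 11) : g * z = z * g := (Subgroup.mem_centralizer_iff.1 hg z hz).symm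

/-- `C_L(z) = P` for the long root element `z` -/
theorem mem_P_of_comm {g : GL6} (hg : g ∈ L) (hz : g * gx 11 0 = gx 11 0 * g) : g ∈ P := by
  set z : GL6 := gx 11 0 with hzdef
  have hzX : z ∈ X 11 := gx_mem_X _ _
  -- the image of the first basis vector
  have he4 : act z (dec 256) + dec 256 = dec 1 := by
    have : act z (dec 256) = dec 257 := act_dec_of (Cd_gx 11 0) (by norm_num) (by norm_num)
      (by decide +kernel)
    rw [this, ← dec_xor]; rfl
  obtain ⟨n, hn, hn'⟩ := im_z (act g (dec 256))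
  have h1 : act g (dec 1) = dec n := by
    rw [← he4, act_add, ← act_mul, hz, act_mul]; exact hn'
  have hn0 : n ≠ 0 := by
    rintro rfl
    rw [dec_zero, ← act_zero g] at h1
    have := act_injective g h1
    exact absurd (dec_inj (m := 1) (n := 0) (by norm_num) (by norm_num) (this.trans dec_zero.symm))
      (by norm_num)
  obtain ⟨s, hs, hs'⟩ := S_trans hn hn0
  have hsz : s⁻¹ * z = z * s⁻¹ :=
    comm_of_cent (P_le_cent (P.inv_mem (S_le_P hs))) hzX
  -- now the first basis vector is fixed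
  obtain ⟨g', hg'⟩ : ∃ g', g' = s⁻¹ * g := ⟨_, rfl⟩
  have hg'L : g' ∈ L := by rw [hg']; exact L.mul_mem (L.inv_mem (S_le_L hs)) hg
  have hg'z : g' * z = z * g' := by
    rw [hg', mul_assoc, hz, ← mul_assoc, hsz, mul_assoc]
  have h2 : act g' (dec 1) = dec 1 := by
    rw [hg', act_mul, h1, ← hs', act_inv_act]
  have h3 : form e0 (act g' e1) = 1 := by
    have : act g' e0 = e0 := h2
    rw [← form_e0_e1]
    conv_lhs => rw [← this]
    exact form_act hg'L e0 e1
  obtain ⟨j, hj, hj'⟩ := Cfsg.Agent.StdG24.Ord6.dec_of_form h3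
  obtain ⟨q, hq, hq'⟩ := Q2_trans j hj
  have hqz : q * z = z * q := comm_of_cent (Q2_le_cent hq) hzX
  have hq1 : act q (dec 1) = dec 1 := by
    obtain ⟨a, ha, b, hb, rfl⟩ := hq
    exact mul_fix (X_fix (by norm_num) (by decide +kernel) ha)
      (N8_fix (by norm_num) (by decide +kernel) hb)
  have h4 : act (q * g') e0 = e0 := by
    rw [act_mul]
    have : act g' e0 = e0 := h2
    rw [this]; exact hq1
  have h5 : act (q * g') e1 = e1 := by
    rw [act_mul, hj']; exact hq'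
  obtain ⟨w, hw, hw'⟩ := exists_AL (L.mul_mem (Q2_le_L hq) hg'L) h4 h5
  have h6 : (ev w) * z = z * ev w := by
    rw [← hw', mul_assoc, hg'z, ← mul_assoc, hqz, mul_assoc]
  have h7 := allF_spec AL_check (cw w) (List.mem_map_of_mem hw)
  have h8 := impF_spec h7 ((cm_iff (Cd_ev w) (Cd_gx 11 0)).2 h6)
  have h9 : ev w ∈ X 6 := siftF_sound (by simp) (Cd_ev w) h8
  have h10 : g = s * (q⁻¹ * ev w) := by
    rw [← hw', hg']; group
  rw [h10]
  exact P.mul_mem (S_le_P hs) (P.mul_mem (P.inv_mem (Q2_le_P hq)) (Q1_le_P (X6_le_Q1 h9)))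

theorem cent_Z : ∀ a ∈ L, (∀ z ∈ X 11, a * z = z * a) ↔ a ∈ P := by
  intro a ha
  constructor
  · intro h
    exact mem_P_of_comm ha (h _ (gx_mem_X _ _))
  · intro h z hz
    exact comm_of_cent (P_le_cent h) hz

end Cfsg.Agent.GTwoFour.Mdl
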