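import Cfsg.Agent.GTwoFour.MdlQ1

/-!
# `G₂(4)` in dimension six: facts on `P`
-/

set_option autoImplicit false
set_option linter.unusedVariables false

namespace Cfsg.Agent.GTwoFour.Mdl

open Cfsg.Agent.SporRec.GF4
open Cfsg.Agent.SporRec.G24Code (app)
open Cfsg.Agent.StdG24.Mod6
open Subgroup
open scoped commutatorElement

theorem norm_Q1 : ∀ p ∈ P, ∀ q ∈ Q1, p * q * p⁻¹ ∈ Q1 := by
  rintro _ ⟨s, hs, q0, hq0, rfl⟩ q hq
  have e : s * q0 * q * (s * q0)⁻¹ = s * (q0 * q * q0⁻¹) * s⁻¹ := by group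
  rw [e]
  exact S_Q1 s hs _ (Q1.mul_mem (Q1.mul_mem hq0 hq) (Q1.inv_mem hq0))

theorem Z_comm {g z : GL6} (hg : g ∈ P) (hz : z ∈ X 11) : g * z = z * g :=
  comm_of_cent (P_le_cent hg) hz

theorem comm_S_part {s q x : GL6} (hs : s ∈ S) (hq : q ∈ Q1) (hx : x ∈ P) {N : Subgroup GL6}
    (hN : ∀ p ∈ P, ∀ n ∈ N, p * n * p⁻¹ ∈ N) (h1 : ⁅q, x⁆ ∈ N) (h : ⁅s * q, x⁆ ∈ N) : ⁅s, x⁆ ∈ N := by
  have e : ⁅s, x⁆ = (s * ⁅q, x⁆ * s⁻¹)⁻¹ * ⁅s * q, x⁆ := by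
    simp only [commutatorElement_def]; group
  rw [e]
  exact N.mul_mem (N.inv_mem (hN s (S_le_P hs) _ h1)) h

theorem norm_X11 : ∀ p ∈ P, ∀ z ∈ X 11, p * z * p⁻¹ ∈ X 11 := by
  intro p hp z hz
  rw [Z_comm hp hz, mul_inv_cancel_right]; exact hz

theorem center_S_check : (allF SC fun C => impF (cm C (xc 4 0)) (impF (cm C (xc 7 1))
    (eqF C idC))) = true := by decide +kernel

theorem center_PQ1 : ∀ p ∈ P, (∀ p' ∈ P, ⁅p, p'⁆ ∈ Q1) → p ∈ Q1 := by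
  rintro _ ⟨s, hs, q, hq, rfl⟩ h
  have h1 : ∀ x ∈ S, s * x = x * s := by
    intro x hx
    have hqx : ⁅q, x⁆ ∈ Q1 := by
      have e : ⁅q, x⁆ = q * (x * q⁻¹ * x⁻¹) := by simp only [commutatorElement_def]; group
      rw [e]
      exact Q1.mul_mem hq (S_Q1 x hx _ (Q1.inv_mem hq))
    have h2 := comm_S_part hs hq (S_le_P hx) norm_Q1 hqx (h x (S_le_P hx))
    have h3 : ⁅s, x⁆ ∈ S := S.mul_mem (S.mul_mem (S.mul_mem hs hx) (S.inv_mem hs)) (S.inv_mem hx)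
    exact commutatorElement_eq_one_iff_mul_comm.1 (S_Q1_disj _ h3 h2)
  obtain ⟨C, hC, hsC⟩ := S_code hs
  have h4 := allF_spec center_S_check C hC
  have h5 := impF_spec (impF_spec h4 ((cm_iff hsC (Cd_gx 4 0)).2 (h1 _ (X4_le_S (gx_mem_X 4 0)))))
    ((cm_iff hsC (Cd_gx 7 1)).2 (h1 _ (X7_le_S (gx_mem_X 7 1))))
  rw [eqF_iff] at h5
  subst h5
  rw [hsC.inj Cd_one, one_mul]
  exact hq

theorem cent_Q1Z_check : (allF SC fun C => impF (cmZ C (xc 6 0)) (impF (cmZ C (xc 10 0))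
    (impF (cmZ C (xc 8 0)) (eqF C idC)))) = true := by decide +kernel

theorem cent_Q1Z : ∀ p ∈ P, (∀ q ∈ Q1, ⁅p, q⁆ ∈ X 11) → p ∈ Q1 := by
  rintro _ ⟨s, hs, q, hq, rfl⟩ h
  have h1 : ∀ x ∈ Q1, ⁅s, x⁆ ∈ X 11 := fun x hx =>
    comm_S_part hs hq (Q1_le_P hx) norm_X11 (comm_Q1 q hq x hx) (h x hx)
  obtain ⟨C, hC, hsC⟩ := S_code hs
  have h4 := allF_spec cent_Q1Z_check C hC
  have h5 := impF_spec (impF_spec (impF_spec h4
    (cmZ_of hsC (Cd_gx 6 0) (h1 _ (Q1_rs 6 (by simp) (gx_mem_X 6 0)))))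
    (cmZ_of hsC (Cd_gx 10 0) (h1 _ (Q1_rs 10 (by simp) (gx_mem_X 10 0)))))
    (cmZ_of hsC (Cd_gx 8 0) (h1 _ (Q1_rs 8 (by simp) (gx_mem_X 8 0))))
  rw [eqF_iff] at h5
  subst h5
  rw [hsC.inj Cd_one, one_mul]
  exact hq

/-! ### The core -/

/-- `c` is a nontrivial element with `c³ = 1` or `c⁵ = 1` -/
def oddC (c : List ℕ) : Bool :=
  andF (Bool.not (eqF c idC)) (mulF c c fun c2 => mulF c c2 fun c3 =>
    Bool.rec (mulF c2 c3 fun c5 => eqF c5 idC) true (eqF c3 idC))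

theorem core_check : (allF SC fun C => Bool.rec
    (anyF [(4, 0), (4, 1), (4, 2), (7, 0), (7, 1), (7, 2), (8, 0)] fun p : Fin 12 × Fin 3 =>
      Bool.rec (mulF C C oddC)
        (mulF C (xc p.1 p.2) fun D => mulF D D oddC) (Nat.blt p.1 8)) true (eqF C idC)) = true := by
  decide +kernel

theorem oddC_spec {c : GL6} {C : List ℕ} (hc : Cd c C) (h : oddC C = true) :
    c ≠ 1 ∧ (c ^ 3 = 1 ∨ c ^ 5 = 1) := by
  rw [oddC, andF_iff] at h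
  obtain ⟨h1, h2⟩ := h
  constructor
  · rintro rfl
    rw [hc.unique Cd_one] at h1
    exact absurd h1 (by decide)
  · rw [mulF_eq, mulF_eq] at h2
    have h3 : Cd (c * (c * c)) (mulC C (mulC C C)) := hc.mul (hc.mul hc)
    cases h4 : eqF (mulC C (mulC C C)) idC with
    | true =>
      left
      rw [eqF_iff] at h4
      rw [h4] at h3
      rw [pow_succ, pow_two, mul_assoc]
      exact h3.inj Cd_one
    | false =>
      right
      rw [h4] at h2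
      have h5 : Cd (c * c * (c * (c * c))) (mulC (mulC C C) (mulC C (mulC C C))) :=
        (hc.mul hc).mul h3
      rw [mulF_eq] at h2
      rw [eqF_iff.1 h2] at h5
      have h6 := h5.inj Cd_one
      rw [← h6]
      simp only [pow_succ, pow_zero, one_mul, mul_assoc]

theorem exists_odd {s : GL6} (hs : s ∈ S) (h1 : s ≠ 1) : ∃ g ∈ S, ∃ c : GL6, c = s * (g * s * g⁻¹) ∧
    c ≠ 1 ∧ (c ^ 3 = 1 ∨ c ^ 5 = 1) := by
  obtain ⟨C, hC, hsC⟩ := S_code hs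
  have h := allF_spec core_check C hC
  have hne : eqF C idC = false := by
    rw [← Bool.not_eq_true, eqF_iff]
    rintro rfl
    exact h1 (hsC.inj Cd_one)
  rw [hne] at h
  obtain ⟨⟨r, t⟩, hp, h2⟩ := anyF_spec h
  have key : ∀ r t, X r ≤ S → Nat.blt (r : Fin 12) 8 = true →
      (Bool.rec (mulF C C oddC) (mulF C (xc r t) fun D => mulF D D oddC) (Nat.blt r 8) : Bool) = true →
      ∃ g ∈ S, ∃ c : GL6, c = s * (g * s * g⁻¹) ∧ c ≠ 1 ∧ (c ^ 3 = 1 ∨ c ^ 5 = 1) := by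
    intro r t hr hb h3
    rw [hb] at h3
    have h4 : (mulF C (xc r t) fun D => mulF D D oddC) = true := h3
    rw [mulF_eq, mulF_eq] at h4
    have h5 : Cd (s * gx r t * (s * gx r t)) (mulC (mulC C (xc r t)) (mulC C (xc r t))) :=
      (hsC.mul (Cd_gx r t)).mul (hsC.mul (Cd_gx r t))
    refine ⟨gx r t, hr (gx_mem_X r t), _, rfl, ?_⟩
    have e : s * (gx r t * s * (gx r t)⁻¹) = s * gx r t * (s * gx r t) := by
      rw [gx_inv]; group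
    rw [e]
    exact oddC_spec h5 h4
  by_cases hr : r = 4
  · subst hr; exact key 4 t X4_le_S (by decide) h2
  by_cases hr7 : r = 7
  · subst hr7; exact key 7 t X7_le_S (by decide) h2
  · have h8 : r = 8 := by
      simp only [List.mem_cons, Prod.mk.injEq, List.not_mem_nil, or_false] at hp
      tauto
    subst h8
    have h3 : mulF C C oddC = true := h2
    rw [mulF_eq] at h3
    refine ⟨1, S.one_mem, _, rfl, ?_⟩
    have e : s * (1 * s * 1⁻¹) = s * s := by group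
    rw [e]
    exact oddC_spec (hsC.mul hsC) h3

theorem pow_mod {c q : GL6} (hc : c ∈ P) (hq : q ∈ Q1) (n : ℕ) : (c ^ n)⁻¹ * (c * q) ^ n ∈ Q1 := by
  induction n with
  | zero => rw [pow_zero, pow_zero, inv_one, one_mul]; exact Q1.one_mem
  | succ n ih =>
    have e : (c ^ (n + 1))⁻¹ * (c * q) ^ (n + 1) = c⁻¹ * ((c ^ n)⁻¹ * (c * q) ^ n) * c⁻¹⁻¹ * q := by
      rw [pow_succ (c * q) n, pow_succ c n]; group
    rw [e]
    exact Q1.mul_mem (norm_Q1 _ (P.inv_mem hc) _ ih) hq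

theorem eq_one_of_pows {c : GL6} {k : ℕ} (h1 : c ^ 2 ^ k = 1) (h2 : c ^ 3 = 1 ∨ c ^ 5 = 1) : c = 1 := by
  have ho := orderOf_dvd_of_pow_eq_one h1
  rcases h2 with h2 | h2
  · have h3 := orderOf_dvd_of_pow_eq_one h2
    have h5 : Nat.Coprime (orderOf c) (2 ^ k) :=
      Nat.Coprime.coprime_dvd_left h3 (Nat.Coprime.pow_right _ (by norm_num))
    exact orderOf_eq_one_iff.1 (h5.eq_one_of_dvd ho)
  · have h3 := orderOf_dvd_of_pow_eq_one h2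
    have h5 : Nat.Coprime (orderOf c) (2 ^ k) :=
      Nat.Coprime.coprime_dvd_left h3 (Nat.Coprime.pow_right _ (by norm_num))
    exact orderOf_eq_one_iff.1 (h5.eq_one_of_dvd ho)

theorem core_P : ∀ N : Subgroup GL6, N ≤ P → (∀ p ∈ P, ∀ x ∈ N, p * x * p⁻¹ ∈ N) →
    IsPGroup 2 N → N ≤ Q1 := by
  intro N hNP hN h2 n hn
  obtain ⟨s, hs, q, hq, e⟩ := hNP hn
  by_cases h1 : s = 1
  · rw [e, h1, one_mul]; exact hq
  exfalso
  obtain ⟨g, hg, c, hc, hc1, hc35⟩ := exists_odd hs h1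
  set s' := g * s * g⁻¹ with hs'
  have hs'S : s' ∈ S := S.mul_mem (S.mul_mem hg hs) (S.inv_mem hg)
  have hcS : c ∈ S := by rw [hc]; exact S.mul_mem hs hs'S
  have hm : n * (g * n * g⁻¹) ∈ N := N.mul_mem hn (hN g (S_le_P hg) n hn)
  obtain ⟨q', hq', e'⟩ : ∃ q' ∈ Q1, n * (g * n * g⁻¹) = c * q' := by
    refine ⟨(s'⁻¹ * q * s'⁻¹⁻¹) * (g * q * g⁻¹), Q1.mul_mem (S_Q1 _ (S.inv_mem hs'S) _ hq)
      (S_Q1 _ hg _ hq), ?_⟩
    rw [hc, e, hs']; group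
  obtain ⟨k, hk⟩ := h2 ⟨_, hm⟩
  have hk' : (n * (g * n * g⁻¹)) ^ 2 ^ k = 1 := congrArg Subtype.val hk
  have h3 := pow_mod (S_le_P hcS) hq' (2 ^ k)
  rw [← e', hk', mul_one] at h3
  have h4 : c ^ 2 ^ k = 1 := by
    have := S_Q1_disj _ (S.inv_mem (S.pow_mem hcS (2 ^ k))) h3
    exact inv_eq_one.1 this
  exact hc1 (eq_one_of_pows h4 hc35)

/-! ### Perfectness -/

theorem comm_mem_commutator {a b : GL6} (ha : a ∈ P) (hb : b ∈ P) : ⁅a, b⁆ ∈ ⁅P, P⁆ :=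
  Subgroup.commutator_mem_commutator ha hb

/-- commutator words -/
def cmw (a b : Wd) : Wd := a ++ b ++ a.reverse ++ b.reverse

theorem ev_cmw (a b : Wd) : ev (cmw a b) = ⁅ev a, ev b⁆ := by
  rw [cmw, ev_append, ev_append, ev_append, ev_reverse, ev_reverse, commutatorElement_def]

theorem gx_mem_commutator {r : Fin 12} {t : Fin 3} {a b : Wd} (ha : ev a ∈ P) (hb : ev b ∈ P)
    (h : cw (cmw a b) = cw [(r, t)]) : gx r t ∈ ⁅P, P⁆ := by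
  have : gx r t = ⁅ev a, ev b⁆ := by
    rw [← ev_cmw, ev_eq_of h, ev_singleton]
  rw [this]
  exact comm_mem_commutator ha hb

theorem X_le_P {r : Fin 12} (hr : r ∈ ([4, 6, 7, 8, 9, 10, 11] : List (Fin 12))) : X r ≤ P := by
  simp only [List.mem_cons, List.not_mem_nil, or_false] at hr
  rcases hr with rfl | rfl | rfl | rfl | rfl | rfl | rfl
  · exact X4_le_S.trans S_le_P
  · exact (Q1_rs 6 (by simp)).trans Q1_le_P
  · exact X7_le_S.trans S_le_P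
  · exact (Q1_rs 8 (by simp)).trans Q1_le_P
  · exact (Q1_rs 9 (by simp)).trans Q1_le_P
  · exact (Q1_rs 10 (by simp)).trans Q1_le_P
  · exact (Q1_rs 11 (by simp)).trans Q1_le_P

theorem gx_mem_P {r : Fin 12} (hr : r ∈ ([4, 6, 7, 8, 9, 10, 11] : List (Fin 12))) (t : Fin 3) :
    ev [(r, t)] ∈ P := by
  rw [ev_singleton]; exact X_le_P hr (gx_mem_X r t)

theorem y_mem_P : y ∈ P := S_le_P y_mem_S

/-- pairs of words whose commutator is a root element -/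
def ctab : List (Fin 12 × Fin 3 × Wd × Fin 12 × Fin 3) :=
  [(4, 0, yw, 4, 1), (4, 1, yw, 4, 2), (4, 2, yw, 4, 0),
   (7, 0, yw, 7, 2), (7, 1, yw, 7, 0), (7, 2, yw, 7, 1),
   (8, 0, yw, 8, 2), (8, 1, yw, 8, 0), (8, 2, yw, 8, 1),
   (9, 0, yw, 9, 1), (9, 1, yw, 9, 2), (9, 2, yw, 9, 0),
   (10, 0, [(7, 0)], 9, 0), (10, 1, [(7, 0)], 9, 1), (10, 2, [(7, 0)], 9, 2),
   (6, 0, [(4, 0)], 8, 0), (6, 1, [(4, 0)], 8, 1), (6, 2, [(4, 0)], 8, 2),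
   (11, 0, [(6, 0)], 10, 0), (11, 1, [(6, 0)], 10, 1), (11, 2, [(6, 0)], 10, 2)]

theorem ctab_check : ∀ p ∈ ctab, cw (cmw p.2.2.1 [(p.2.2.2.1, p.2.2.2.2)]) = cw [(p.1, p.2.1)] ∧
    p.2.2.2.1 ∈ ([4, 6, 7, 8, 9, 10, 11] : List (Fin 12)) ∧
    (p.2.2.1 = yw ∨ p.2.2.1 = [(4, 0)] ∨ p.2.2.1 = [(6, 0)] ∨ p.2.2.1 = [(7, 0)]) := by
  decide +kernel

theorem ctab_complete : ∀ r ∈ ([4, 6, 7, 8, 9, 10, 11] : List (Fin 12)), ∀ t : Fin 3,
    ∃ p ∈ ctab, p.1 = r ∧ p.2.1 = t := by decide +kernel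

theorem X_le_commutator {r : Fin 12} (hr : r ∈ ([4, 6, 7, 8, 9, 10, 11] : List (Fin 12))) :
    X r ≤ ⁅P, P⁆ := by
  intro g hg
  rcases X_cases hg with rfl | ⟨t, rfl⟩
  · exact Subgroup.one_mem _
  obtain ⟨p, hp, rfl, rfl⟩ := ctab_complete r hr t
  obtain ⟨h1, h2, h3⟩ := ctab_check p hp
  refine gx_mem_commutator ?_ (gx_mem_P h2 _) h1
  rcases h3 with h3 | h3 | h3 | h3 <;> rw [h3]
  · exact y_mem_P
  · exact gx_mem_P (by simp) _
  · exact gx_mem_P (by simp) _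
  · exact gx_mem_P (by simp) _

theorem P_le_of_X {K : Subgroup GL6} (h : ∀ r ∈ ([4, 6, 7, 8, 9, 10, 11] : List (Fin 12)), X r ≤ K) :
    P ≤ K :=
  mulSub_le (sup_le (h 4 (by simp)) (h 7 (by simp))) (mulSub_le (h 6 (by simp))
    (mulSub_le (h 8 (by simp)) (mulSub_le (h 9 (by simp)) (mulSub_le (h 10 (by simp))
      (h 11 (by simp))))))

theorem perfect_P : P ≤ ⁅P, P⁆ := P_le_of_X fun r hr => X_le_commutator hr

end Cfsg.Agent.GTwoFour.Mdl
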