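import Cfsg.Agent.GTwoFour.MdlQ2
import Cfsg.Agent.GTwoFour.FactsMap

/-!
# `G₂(4)` in dimension six: `P` is generated by `2`-pure involutions of a special kind
-/

set_option autoImplicit false
set_option linter.unusedVariables false

namespace Cfsg.Agent.GTwoFour.Mdl

open Cfsg.Agent.StdG24.Mod6
open Subgroup
open scoped commutatorElement

theorem comm_tab : ∀ t : Fin 3, cw (cmw [(7, 0)] [(9, t)]) = cw [(10, t)] ∧
    cw (cmw [(4, 0)] [(8, t)]) = cw [(6, t)] ∧ cw (cmw [(6, 0)] [(10, t)]) = cw [(11, t)] := by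
  decide +kernel

theorem X_of_comm {r s k : Fin 12} {K : Subgroup GL6} (hr : X r ≤ K) (hs : X s ≤ K)
    (h : ∀ t : Fin 3, cw (cmw [(r, 0)] [(s, t)]) = cw [(k, t)]) : X k ≤ K := by
  intro x hx
  rcases X_cases hx with rfl | ⟨t, rfl⟩
  · exact K.one_mem
  have h1 : gx k t = ⁅gx r 0, gx s t⁆ := by
    rw [← ev_singleton (k, t), ← ev_eq_of (h t), ev_cmw, ev_singleton, ev_singleton]
  rw [h1]
  have ha := hr (gx_mem_X r 0)
  have hb := hs (gx_mem_X s t)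
  exact K.mul_mem (K.mul_mem (K.mul_mem ha hb) (K.inv_mem ha)) (K.inv_mem hb)

/-- `P` is generated by the root groups `X_{±a}`, `X_{a+b}`, `X_{2a+b}` -/
theorem P_le_of_X4789 {K : Subgroup GL6} (h4 : X 4 ≤ K) (h7 : X 7 ≤ K) (h8 : X 8 ≤ K) (h9 : X 9 ≤ K) :
    P ≤ K := by
  have h10 : X 10 ≤ K := X_of_comm h7 h9 fun t => (comm_tab t).1
  have h6 : X 6 ≤ K := X_of_comm h4 h8 fun t => (comm_tab t).2.1
  have h11 : X 11 ≤ K := X_of_comm h6 h10 fun t => (comm_tab t).2.2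
  refine P_le_of_X fun r hr => ?_
  simp only [List.mem_cons, List.not_mem_nil, or_false] at hr
  rcases hr with rfl | rfl | rfl | rfl | rfl | rfl | rfl <;> assumption

theorem y_tab : ∀ r ∈ ([4, 7, 8, 9] : List (Fin 12)), ∀ t : Fin 3,
    cw ((r, t) :: (yw ++ (r, t) :: yw.reverse)) = cw ((yw ++ (r, t) :: yw.reverse) ++ [(r, t)]) ∧
    cw ((r, t) :: (yw ++ (r, t) :: yw.reverse)) = cw ((yw ++ yw) ++ (r, t) :: (yw ++ yw).reverse) := by
  decide +kernel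

/-- the field `pure` -/
theorem pure : ∀ K : Subgroup GL6, (∀ x ∈ P, ∀ p ∈ P, ∀ q ∈ P, x * x = 1 →
    x * (p * x * p⁻¹) = p * x * p⁻¹ * x → x * (p * x * p⁻¹) = q * x * q⁻¹ → x ∈ K) → P ≤ K := by
  intro K hK
  have key : ∀ r ∈ ([4, 7, 8, 9] : List (Fin 12)), X r ≤ K := by
    intro r hr x hx
    have hrP : X r ≤ P := X_le_P (by simp at hr ⊢; tauto)
    rcases X_cases hx with rfl | ⟨t, rfl⟩
    · exact K.one_mem
    have e1 : y * gx r t * y⁻¹ = ev (yw ++ (r, t) :: yw.reverse) := by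
      rw [y, ← ev_reverse, mul_assoc, ← ev_singleton (r, t), ← ev_append, ← ev_append]
      rfl
    have e2 : (y * y) * gx r t * (y * y)⁻¹ = ev ((yw ++ yw) ++ (r, t) :: (yw ++ yw).reverse) := by
      rw [y, ← ev_append, ← ev_reverse, mul_assoc, ← ev_singleton (r, t), ← ev_append, ← ev_append]
      rfl
    have e3 : gx r t * ev (yw ++ (r, t) :: yw.reverse) = ev ((r, t) :: (yw ++ (r, t) :: yw.reverse)) := rfl
    obtain ⟨h1, h2⟩ := y_tab r hr t
    refine hK _ (hrP hx) y y_mem_P (y * y) (P.mul_mem y_mem_P y_mem_P) (gx_sq r t) ?_ ?_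
    · rw [e1, e3, ev_eq_of h1, ev_append, ev_singleton]
    · rw [e1, e2, e3, ev_eq_of h2]
  exact P_le_of_X4789 (key 4 (by simp)) (key 7 (by simp)) (key 8 (by simp)) (key 9 (by simp))

/-- the field `pure` of `RedFacts` for the group `L` as a type -/
theorem pure_res : ∀ K : Subgroup D.A, (∀ x ∈ (D.res facts).P, ∀ p ∈ (D.res facts).P,
    ∀ q ∈ (D.res facts).P, x * x = 1 → x * (p * x * p⁻¹) = p * x * p⁻¹ * x →
      x * (p * x * p⁻¹) = q * x * q⁻¹ → x ∈ K) → (D.res facts).P ≤ K := by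
  intro K hK
  have h1 : P ≤ K.map D.A.subtype := by
    refine pure _ fun x hx p hp q hq e1 e2 e3 => ?_
    refine ⟨⟨x, P_le_L hx⟩, hK ⟨x, P_le_L hx⟩ hx ⟨p, P_le_L hp⟩ hp ⟨q, P_le_L hq⟩ hq
      (Subtype.ext e1) (Subtype.ext e2) (Subtype.ext e3), rfl⟩
  rintro ⟨x, hxA⟩ hx
  obtain ⟨k, hk, e⟩ := h1 hx
  have : (⟨x, hxA⟩ : D.A) = k := Subtype.ext e.symm
  rw [this]
  exact hk

end Cfsg.Agent.GTwoFour.Mdl
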