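import Cfsg.Agent.GTwoFour.MdlP

/-!
# `G₂(4)` in dimension six: facts on `Q1` and `P`
-/

set_option autoImplicit false
set_option linter.unusedVariables false

namespace Cfsg.Agent.GTwoFour.Mdl

open Cfsg.Agent.SporRec.GF4
open Cfsg.Agent.SporRec.G24Code (app)
open Cfsg.Agent.StdG24.Mod6
open scoped commutatorElement

/-! ### Generation lemmas -/

section gens
variable {G : Type*} [Group G] {T : Set G} {W : Subgroup G}

theorem comm_closure (hW : ∀ w ∈ W, ∀ x ∈ T, w * x = x * w) :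
    ∀ w ∈ W, ∀ x ∈ Subgroup.closure T, w * x = x * w := by
  intro w hw x hx
  induction hx using Subgroup.closure_induction with
  | mem x hx => exact hW w hw x hx
  | one => rw [one_mul, mul_one]
  | mul x y _ _ hx hy => rw [← mul_assoc, hx, mul_assoc, hy, mul_assoc]
  | inv x _ hx => rw [eq_inv_mul_iff_mul_eq, ← mul_assoc, ← hx, mul_inv_cancel_right]

theorem comm_mem_of_gens (hW : ∀ w ∈ W, ∀ x ∈ T, w * x = x * w) (hT : ∀ a ∈ T, ∀ b ∈ T, ⁅a, b⁆ ∈ W) :
    ∀ a ∈ Subgroup.closure T, ∀ b ∈ Subgroup.closure T, ⁅a, b⁆ ∈ W := by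
  have hc := comm_closure hW
  have h1 : ∀ a ∈ Subgroup.closure T, ∀ b ∈ T, ⁅a, b⁆ ∈ W := by
    intro a ha b hb
    induction ha using Subgroup.closure_induction with
    | mem x hx => exact hT x hx b hb
    | one => rw [commutatorElement_one_left]; exact W.one_mem
    | mul x y hx' hy' hx hy =>
      have e : ⁅x * y, b⁆ = x * ⁅y, b⁆ * x⁻¹ * ⁅x, b⁆ := by
        simp only [commutatorElement_def]; group
      rw [e, ← hc _ hy x hx', mul_inv_cancel_right]
      exact W.mul_mem hy hx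
    | inv x hx' hx =>
      have e : ⁅x⁻¹, b⁆ = x⁻¹ * ⁅x, b⁆⁻¹ * x := by
        simp only [commutatorElement_def]; group
      rw [e, mul_assoc, hc _ (W.inv_mem hx) x hx', inv_mul_cancel_left]
      exact W.inv_mem hx
  intro a ha b hb
  induction hb using Subgroup.closure_induction with
  | mem x hx => exact h1 a ha x hx
  | one => rw [commutatorElement_one_right]; exact W.one_mem
  | mul x y hx' hy' hx hy =>
    have e : ⁅a, x * y⁆ = ⁅a, x⁆ * (x * ⁅a, y⁆ * x⁻¹) := by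
      simp only [commutatorElement_def]; group
    rw [e, ← hc _ hy x hx', mul_inv_cancel_right]
    exact W.mul_mem hx hy
  | inv x hx' hx =>
    have e : ⁅a, x⁻¹⁆ = x⁻¹ * ⁅a, x⁆⁻¹ * x := by
      simp only [commutatorElement_def]; group
    rw [e, mul_assoc, hc _ (W.inv_mem hx) x hx', inv_mul_cancel_left]
    exact W.inv_mem hx

theorem sq_mem_of_gens (hW : ∀ w ∈ W, ∀ x ∈ T, w * x = x * w) (hT : ∀ a ∈ T, ∀ b ∈ T, ⁅a, b⁆ ∈ W)
    (hs : ∀ a ∈ T, a * a ∈ W) : ∀ a ∈ Subgroup.closure T, a * a ∈ W := by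
  have hc := comm_closure hW
  have hm := comm_mem_of_gens hW hT
  intro a ha
  induction ha using Subgroup.closure_induction with
  | mem x hx => exact hs x hx
  | one => rw [one_mul]; exact W.one_mem
  | mul x y hx' hy' hx hy =>
    have e : x * y * (x * y) = x * ⁅y, x⁆ * x * (y * y) := by
      simp only [commutatorElement_def]; group
    rw [e, ← hc _ (hm y hy' x hx') x hx', mul_assoc ⁅y, x⁆]
    exact W.mul_mem (W.mul_mem (hm y hy' x hx') hx) hy
  | inv x hx' hx =>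
    have e : x⁻¹ * x⁻¹ = (x * x)⁻¹ := by group
    rw [e]
    exact W.inv_mem hx

end gens

/-- the union of root subgroups -/
def TX (rs : List (Fin 12)) : Set GL6 := {g | ∃ r ∈ rs, g ∈ X r}

theorem X_le_TX {rs : List (Fin 12)} {r : Fin 12} (hr : r ∈ rs) : X r ≤ Subgroup.closure (TX rs) :=
  fun g hg => Subgroup.subset_closure ⟨r, hr, hg⟩

theorem Q1_le_closure : Q1 ≤ Subgroup.closure (TX [6, 8, 9, 10, 11]) :=
  mulSub_le (X_le_TX (by simp)) (mulSub_le (X_le_TX (by simp)) (mulSub_le (X_le_TX (by simp))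
    (mulSub_le (X_le_TX (by simp)) (X_le_TX (by simp)))))

theorem Q2_le_closure : Q2 ≤ Subgroup.closure (TX [7, 8, 9, 10, 11]) :=
  mulSub_le (X_le_TX (by simp)) (mulSub_le (X_le_TX (by simp)) (mulSub_le (X_le_TX (by simp))
    (mulSub_le (X_le_TX (by simp)) (X_le_TX (by simp)))))

/-- commutators of root elements -/
def cmX (r s : Fin 12) (rs : List (Fin 12)) : Bool :=
  allF [0, 1, 2] fun t => allF [0, 1, 2] fun t' =>
    mulF (xc r t) (xc s t') fun E => mulF E E fun F => siftF rs F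

theorem cmX_spec {r s : Fin 12} {rs : List (Fin 12)} (h : cmX r s rs = true) {N : Subgroup GL6}
    (hN : ∀ r ∈ rs, X r ≤ N) : ∀ x ∈ X r, ∀ y ∈ X s, ⁅x, y⁆ ∈ N := by
  intro x hx y hy
  rcases X_cases hx with rfl | ⟨t, rfl⟩
  · rw [commutatorElement_one_left]; exact N.one_mem
  rcases X_cases hy with rfl | ⟨t', rfl⟩
  · rw [commutatorElement_one_right]; exact N.one_mem
  have h1 := allF_spec (allF_spec h t (by fin_cases t <;> simp)) t' (by fin_cases t' <;> simp)
  rw [mulF_eq, mulF_eq] at h1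
  rw [commutatorElement_def, gx_inv, gx_inv, mul_assoc]
  exact siftF_sound hN (((Cd_gx r t).mul (Cd_gx s t')).mul ((Cd_gx r t).mul (Cd_gx s t'))) h1

theorem comm_of_cmX {r s : Fin 12} (h : cmX r s [] = true) : ∀ x ∈ X r, ∀ y ∈ X s, x * y = y * x := by
  intro x hx y hy
  have := cmX_spec h (N := ⊥) (by simp) x hx y hy
  rw [Subgroup.mem_bot, commutatorElement_eq_one_iff_mul_comm] at this
  exact this

/-- in the commutator of a product, the second factor may be dropped modulo ... -/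
theorem comm_Q1 : ∀ q ∈ Q1, ∀ q' ∈ Q1, ⁅q, q'⁆ ∈ X 11 := by
  have h : ∀ r ∈ ([6, 8, 9, 10, 11] : List (Fin 12)), ∀ s ∈ ([6, 8, 9, 10, 11] : List (Fin 12)),
      cmX r s [11] = true := by decide +kernel
  intro q hq q' hq'
  refine comm_mem_of_gens (T := TX [6, 8, 9, 10, 11]) ?_ ?_ q (Q1_le_closure hq) q'
    (Q1_le_closure hq')
  · rintro w hw x ⟨r, hr, hx⟩
    exact (X_comm_X11 (by simp at hr ⊢; tauto) hx hw).symm
  · rintro a ⟨r, hr, ha⟩ b ⟨s, hs, hb⟩
    exact cmX_spec (h r hr s hs) (by simp) a ha b hb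

theorem sq_Q1 : ∀ q ∈ Q1, q * q ∈ X 11 := by
  have h : ∀ r ∈ ([6, 8, 9, 10, 11] : List (Fin 12)), ∀ s ∈ ([6, 8, 9, 10, 11] : List (Fin 12)),
      cmX r s [11] = true := by decide +kernel
  intro q hq
  refine sq_mem_of_gens (T := TX [6, 8, 9, 10, 11]) ?_ ?_ ?_ q (Q1_le_closure hq)
  · rintro w hw x ⟨r, hr, hx⟩
    exact (X_comm_X11 (by simp at hr ⊢; tauto) hx hw).symm
  · rintro a ⟨r, hr, ha⟩ b ⟨s, hs, hb⟩
    exact cmX_spec (h r hr s hs) (by simp) a ha b hb
  · rintro a ⟨r, hr, ha⟩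
    rw [X_sq ha]; exact (X 11).one_mem

theorem center_Q1_check : allN [6, 8, 9, 10, 11] idC (fun C => impF (cm C (xc 6 0))
    (impF (cm C (xc 8 0)) (impF (cm C (xc 9 0)) (impF (cm C (xc 10 0)) (siftF [11] C))))) = true := by
  decide +kernel

theorem center_Q1 : ∀ q ∈ Q1, (∀ q' ∈ Q1, q * q' = q' * q) → q ∈ X 11 := by
  intro q hq h
  obtain ⟨C, hC, h1⟩ := allN_one center_Q1_check q (Q1_PS hq)
  have hg : ∀ r ∈ ([6, 8, 9, 10, 11] : List (Fin 12)), cm C (xc r 0) = true := fun r hr =>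
    (cm_iff hC (Cd_gx r 0)).2 (h _ (Q1_rs r hr (gx_mem_X r 0)))
  exact siftF_sound (by simp) hC (impF_spec (impF_spec (impF_spec (impF_spec h1 (hg 6 (by simp)))
    (hg 8 (by simp))) (hg 9 (by simp))) (hg 10 (by simp)))

/-! ### Modulo `Z` -/

/-- `E ∈ Z F` -/
def eqZ (E F : List ℕ) : Bool := anyF [0, 1, 2, 3] fun n => mulF (xk 11 n) F fun G => eqF E G

theorem xk_of_mem {r : Fin 12} {z : GL6} (hz : z ∈ X r) : ∃ n ∈ ([0, 1, 2, 3] : List ℕ), Cd z (xk r n) := by
  rcases X_cases hz with rfl | ⟨t, rfl⟩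
  · exact ⟨0, by simp, Cd_one⟩
  match t with
  | 0 => exact ⟨1, by simp, Cd_gx _ _⟩
  | 1 => exact ⟨2, by simp, Cd_gx _ _⟩
  | 2 => exact ⟨3, by simp, Cd_gx _ _⟩

theorem anyF_of_mem {α : Type} {l : List α} {φ : α → Bool} {a : α} (ha : a ∈ l) (h : φ a = true) :
    anyF l φ = true := by
  induction l with
  | nil => exact absurd ha (by simp)
  | cons b l ih =>
    have h1 : anyF (b :: l) φ = Bool.rec (anyF l φ) true (φ b) := rfl
    rw [h1]
    cases hb : φ b with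
    | true => rfl
    | false =>
      rcases List.mem_cons.1 ha with rfl | ha
      · rw [h] at hb; exact absurd hb (by decide)
      · exact ih ha

theorem eqZ_of {E F : List ℕ} {g h : GL6} (hg : Cd g E) (hh : Cd h F) {z : GL6} (hz : z ∈ X 11)
    (e : g = z * h) : eqZ E F = true := by
  obtain ⟨n, hn, hzn⟩ := xk_of_mem hz
  refine anyF_of_mem hn ?_
  rw [mulF_eq, eqF_iff]
  exact hg.unique (by rw [e]; exact hzn.mul hh)

/-- `[C, D] ∈ Z` -/
def cmZ (C D : List ℕ) : Bool := mulF C D fun E => mulF D C fun F => eqZ E F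

theorem cmZ_of {C D : List ℕ} {g h : GL6} (hg : Cd g C) (hh : Cd h D) (e : ⁅g, h⁆ ∈ X 11) :
    cmZ C D = true := by
  rw [cmZ, mulF_eq, mulF_eq]
  refine eqZ_of (hg.mul hh) (hh.mul hg) e ?_
  rw [commutatorElement_def]; group

theorem cent_Xa_check : allN [6, 8, 9, 10, 11] idC (fun C => impF (cmZ C (xc 7 0))
    (impF (cmZ C (xc 7 1)) (siftF [10, 11] C))) = true := by
  decide +kernel

theorem cent_Xa : ∀ q ∈ Q1, (∀ x ∈ X 7, ⁅q, x⁆ ∈ X 11) → q ∈ W4 := by
  intro q hq h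
  obtain ⟨C, hC, h1⟩ := allN_one cent_Xa_check q (Q1_PS hq)
  exact siftF_sound W4_rs hC (impF_spec (impF_spec h1 (cmZ_of hC (Cd_gx 7 0) (h _ (gx_mem_X 7 0))))
    (cmZ_of hC (Cd_gx 7 1) (h _ (gx_mem_X 7 1))))

/-- the element `y` -/
def y : GL6 := ev yw
/-- the reflection `n_a` -/
def ns : GL6 := ev nsw
/-- the reflection `n_b` -/
def nl : GL6 := ev [(6, 0), (5, 0), (6, 0)]
/-- the torus element centralising `S` -/
def hw : Wd := [(11, 1), (0, 2), (11, 1), (11, 0), (0, 0), (11, 0)]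
/-- the torus element centralising `S` -/
def h : GL6 := ev hw
/-- an element of order five -/
def f : GL6 := ev [(4, 0), (7, 1)]

/-- the code of `y` -/
def yC : List ℕ := [2, 3, 12, 4, 48, 16, 128, 192, 512, 768, 3072, 1024]

theorem cw_yw : cw yw = yC := by decide +kernel

theorem Cd_y : Cd y yC := by rw [← cw_yw]; exact Cd_ev yw

theorem cent_y_check : allN [6, 8, 9, 10, 11] idC (fun C => impF (cmZ C yC)
    (siftF [6, 10, 11] C)) = true := by
  decide +kernel

theorem cent_y : ∀ q ∈ Q1, ⁅q, y⁆ ∈ X 11 → ∃ x ∈ X 6, ∃ w ∈ W4, q = x * w := by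
  intro q hq h
  obtain ⟨C, hC, h1⟩ := allN_one cent_y_check q (Q1_PS hq)
  have h2 : siftF [6, 10, 11] C = true := impF_spec h1 (cmZ_of hC Cd_y h)
  have hn : ∀ k ∈ X 6, ∀ n ∈ W4, k * n * k⁻¹ ∈ W4 := fun k hk => conj_W4
    (cj [10, 11] (by decide +kernel) W4_rs X10_le_W4 k hk)
    (cj [10, 11] (by decide +kernel) W4_rs X11_le_W4 k hk)
  have h3 : q ∈ mulSub (X 6) W4 hn := by
    refine siftF_sound ?_ hC h2
    intro r hr
    simp only [List.mem_cons, List.not_mem_nil, or_false] at hr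
    rcases hr with rfl | rfl | rfl
    · exact le_left
    · exact X10_le_W4.trans le_right
    · exact X11_le_W4.trans le_right
  exact h3

/-! ### Words and root groups -/

/-- the element `w` conjugates `X_r` into `X_s` -/
def cjW (w : Wd) (r s : Fin 12) : Bool :=
  allF [0, 1, 2] fun t => memF (cw (w ++ (r, t) :: w.reverse)) [xc s 0, xc s 1, xc s 2]

theorem cjW_spec {w : Wd} {r s : Fin 12} (h : cjW w r s = true) : ∀ x ∈ X r, ev w * x * (ev w)⁻¹ ∈ X s := by
  intro x hx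
  rcases X_cases hx with rfl | ⟨t, rfl⟩
  · rw [mul_one, mul_inv_cancel]; exact (X s).one_mem
  have h1 := memF_iff.1 (allF_spec h t (by fin_cases t <;> simp))
  have h2 : ev w * gx r t * (ev w)⁻¹ = ev (w ++ (r, t) :: w.reverse) := by
    rw [← ev_reverse, ev_append, mul_assoc]
    rfl
  rw [h2]
  have key : ∀ t', cw (w ++ (r, t) :: w.reverse) = xc s t' → ev (w ++ (r, t) :: w.reverse) ∈ X s := by
    intro t' e
    have h3 : Cd (ev (w ++ (r, t) :: w.reverse)) (xc s t') := e ▸ Cd_ev _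
    rw [h3.inj (Cd_gx s t')]
    exact gx_mem_X s t'
  simp only [List.mem_cons, List.not_mem_nil, or_false] at h1
  rcases h1 with h1 | h1 | h1
  · exact key 0 h1
  · exact key 1 h1
  · exact key 2 h1

theorem y_mem_S : y ∈ S := by
  have h1 : ∀ p ∈ yw, p.1 = 4 ∨ p.1 = 7 := by decide +kernel
  refine S.list_prod_mem ?_
  intro x hx
  obtain ⟨p, hp, rfl⟩ := List.mem_map.1 hx
  rcases h1 p hp with e | e
  · rw [e]; exact X4_le_S (gx_mem_X _ _)
  · rw [e]; exact X7_le_S (gx_mem_X _ _)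

theorem ns_mem_S : ns ∈ S := by
  have h1 : ∀ p ∈ nsw, p.1 = 4 ∨ p.1 = 7 := by decide +kernel
  refine S.list_prod_mem ?_
  intro x hx
  obtain ⟨p, hp, rfl⟩ := List.mem_map.1 hx
  rcases h1 p hp with e | e
  · rw [e]; exact X4_le_S (gx_mem_X _ _)
  · rw [e]; exact X7_le_S (gx_mem_X _ _)

theorem f_mem_S : f ∈ S := by
  have h1 : ∀ p ∈ ([(4, 0), (7, 1)] : Wd), p.1 = 4 ∨ p.1 = 7 := by decide +kernel
  refine S.list_prod_mem ?_
  intro x hx
  obtain ⟨p, hp, rfl⟩ := List.mem_map.1 hx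
  rcases h1 p hp with e | e
  · rw [e]; exact X4_le_S (gx_mem_X _ _)
  · rw [e]; exact X7_le_S (gx_mem_X _ _)

theorem ns_sq : ns * ns = 1 := by
  rw [ns, ← ev_append]; exact ev_eq_one_of (by decide +kernel)
theorem nl_sq : nl * nl = 1 := by
  rw [nl, ← ev_append]; exact ev_eq_one_of (by decide +kernel)
theorem y_pow : y ^ 3 = 1 := by
  rw [pow_succ, pow_two, y, ← ev_append, ← ev_append]; exact ev_eq_one_of (by decide +kernel)
theorem h_pow : h ^ 3 = 1 := by
  rw [pow_succ, pow_two, h, ← ev_append, ← ev_append]; exact ev_eq_one_of (by decide +kernel)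
theorem f_pow : f ^ 5 = 1 := by
  rw [pow_succ, pow_succ, pow_succ, pow_two, f, ← ev_append, ← ev_append, ← ev_append, ← ev_append]
  exact ev_eq_one_of (by decide +kernel)

theorem ns_y : ns * y * ns⁻¹ = y⁻¹ := by
  rw [ns, y, ← ev_reverse, ← ev_reverse, ← ev_append, ← ev_append]
  exact ev_eq_of (by decide +kernel)

theorem ns_X (r s : Fin 12) (h : cjW nsw r s = true) : ∀ x ∈ X r, ns * x * ns⁻¹ ∈ X s := cjW_spec h
theorem nl_X (r s : Fin 12) (h : cjW [(6, 0), (5, 0), (6, 0)] r s = true) :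
    ∀ x ∈ X r, nl * x * nl⁻¹ ∈ X s := cjW_spec h
theorem y_X : ∀ r, ∀ x ∈ X r, y * x * y⁻¹ ∈ X r := by
  have h : ∀ r, cjW yw r r = true := by decide +kernel
  exact fun r => cjW_spec (h r)
theorem h_X : ∀ r, ∀ x ∈ X r, Mdl.h * x * Mdl.h⁻¹ ∈ X r := by
  have h : ∀ r, cjW hw r r = true := by decide +kernel
  exact fun r => cjW_spec (h r)

end Cfsg.Agent.GTwoFour.Mdl
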