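import Mathlib
import Cfsg.Agent.GTwoFour.Iface
import Cfsg.Agent.GTwoFour.RedFacts

/-!
# Outer involutory automorphisms of `G₂(4)`

From `Iface.Facts D`, `D.A = ⊤`, and "an automorphism trivial on `Z` is inner": every outer automorphism
`α` with `α² = 1` has commutators `s₁ = [α, f₁]`, `s₂ = [α, f₂]`, `s₁ s₂ = [α, f₁ f₂]` with `⟨s₁, s₂⟩` a
four-group centralised by `α`.
-/

set_option autoImplicit false

namespace Cfsg.Agent.GTwoFour.OuterInv

open Subgroup Cfsg.Agent.GTwoFour.Iface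
open scoped commutatorElement

variable {L : Type*} [Group L] {D : Data L}

section basic

variable (F : Facts D)
include F

theorem Xa_P {x : L} (hx : x ∈ D.Xa) : x ∈ D.P := (F.Q2_le (F.Xa_le hx)).1

theorem Xa_Xe {x e : L} (hx : x ∈ D.Xa) (he : e ∈ D.Xe) : x * e = e * x :=
  (mem_centralizer_iff.1 (F.Q2_le (F.Xa_le hx)).2 e he).symm

theorem Z_P {z : L} (hz : z ∈ D.Z) : z ∈ D.P := F.Q1_le (F.Z_le hz)

theorem P_Z {p z : L} (hp : p ∈ D.P) (hz : z ∈ D.Z) : p * z = z * p :=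
  (F.cent_Z p (F.P_le hp)).2 hp z hz

theorem W4_le : D.W4 ≤ D.Q1 := sup_le F.Z_le F.Xe_le

/-- `W4 = Z Xe` -/
theorem mem_W4 {w : L} : w ∈ D.W4 ↔ ∃ z ∈ D.Z, ∃ e ∈ D.Xe, w = z * e := by
  constructor
  · intro hw
    have hw' : w ∈ closure ((D.Z : Set L) ∪ D.Xe) := by
      rw [Subgroup.closure_union, Subgroup.closure_eq, Subgroup.closure_eq]; exact hw
    induction hw' using Subgroup.closure_induction with
    | mem x hx =>
      rcases hx with hx | hx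
      · exact ⟨x, hx, 1, one_mem _, by rw [mul_one]⟩
      · exact ⟨1, one_mem _, x, hx, by rw [one_mul]⟩
    | one => exact ⟨1, one_mem _, 1, one_mem _, by rw [mul_one]⟩
    | mul x y hx hy hx' hy' =>
      have hxm : x ∈ D.W4 := by
        rw [Subgroup.closure_union, Subgroup.closure_eq, Subgroup.closure_eq] at hx; exact hx
      have hym : y ∈ D.W4 := by
        rw [Subgroup.closure_union, Subgroup.closure_eq, Subgroup.closure_eq] at hy; exact hy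
      obtain ⟨z, hz, e, he, rfl⟩ := hx' hxm
      obtain ⟨z', hz', e', he', rfl⟩ := hy' hym
      refine ⟨z * z', mul_mem hz hz', e * e', mul_mem he he', ?_⟩
      have h1 := P_Z F (F.Q1_le (F.Xe_le he)) hz'
      calc z * e * (z' * e') = z * (e * z') * e' := by group
        _ = z * (z' * e) * e' := by rw [h1]
        _ = _ := by group
    | inv x hx hx' =>
      have hxm : x ∈ D.W4 := by
        rw [Subgroup.closure_union, Subgroup.closure_eq, Subgroup.closure_eq] at hx; exact hx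
      obtain ⟨z, hz, e, he, rfl⟩ := hx' hxm
      refine ⟨z⁻¹, inv_mem hz, e⁻¹, inv_mem he, ?_⟩
      have h1 := P_Z F (F.Q1_le (F.Xe_le (inv_mem he))) (inv_mem hz)
      rw [mul_inv_rev, h1]
  · rintro ⟨z, hz, e, he, rfl⟩
    exact mul_mem (mem_sup_left hz) (mem_sup_right he)

theorem Xe_comm {e e' : L} (he : e ∈ D.Xe) (he' : e' ∈ D.Xe) : e * e' = e' * e := by
  have h1 := F.sq_Xe _ (mul_mem he he')
  have h2 := F.sq_Xe _ he
  have h3 := F.sq_Xe _ he'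
  calc e * e' = e * (e * e' * (e * e')) * e' := by
        rw [h1, mul_one]
    _ = (e * e) * (e' * e) * (e' * e') := by group
    _ = e' * e := by rw [h2, h3]; group

theorem W4_comm {v w : L} (hv : v ∈ D.W4) (hw : w ∈ D.W4) : v * w = w * v := by
  obtain ⟨z, hz, e, he, rfl⟩ := (mem_W4 F).1 hv
  obtain ⟨z', hz', e', he', rfl⟩ := (mem_W4 F).1 hw
  have c1 : Commute z z' := P_Z F (Z_P F hz) hz'
  have c2 : Commute z e' := (P_Z F (F.Q1_le (F.Xe_le he')) hz).symm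
  have c3 : Commute e z' := P_Z F (F.Q1_le (F.Xe_le he)) hz'
  have c4 : Commute e e' := Xe_comm F he he'
  exact ((c1.mul_right c2).mul_left (c3.mul_right c4)).eq

theorem W4_sq {w : L} (hw : w ∈ D.W4) : w * w = 1 := by
  obtain ⟨z, hz, e, he, rfl⟩ := (mem_W4 F).1 hw
  have h1 := P_Z F (F.Q1_le (F.Xe_le he)) hz
  calc z * e * (z * e) = z * (e * z) * e := by group
    _ = (z * z) * (e * e) := by rw [h1]; group
    _ = 1 := by rw [F.sq_Z z hz, F.sq_Xe e he, one_mul]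

theorem conj_W4_h {w : L} (hw : w ∈ D.W4) : D.h * w * D.h⁻¹ ∈ D.W4 := by
  obtain ⟨z, hz, e, he, rfl⟩ := (mem_W4 F).1 hw
  refine (mem_W4 F).2 ⟨D.h * z * D.h⁻¹, F.h_Z z hz, D.h * e * D.h⁻¹, F.h_Xe e he, ?_⟩
  group

/-- the elements of `P` centralising `W4 / Z` -/
def CW (D : Data L) (F : Facts D) : Subgroup L where
  carrier := {g | g ∈ D.P ∧ ∀ w ∈ D.W4, g * w * g⁻¹ * w⁻¹ ∈ D.Z}
  one_mem' := ⟨one_mem _, fun w _ => by
    have : (1 : L) * w * 1⁻¹ * w⁻¹ = 1 := by group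
    rw [this]; exact one_mem _⟩
  mul_mem' := by
    rintro a b ⟨ha, ha'⟩ ⟨hb, hb'⟩
    refine ⟨mul_mem ha hb, fun w hw => ?_⟩
    have h1 := hb' w hw
    have h2 := ha' w hw
    have h3 := P_Z F ha h1
    have : a * b * w * (a * b)⁻¹ * w⁻¹ = a * (b * w * b⁻¹ * w⁻¹) * a⁻¹ * (a * w * a⁻¹ * w⁻¹) := by group
    rw [this, h3, mul_assoc (b * w * b⁻¹ * w⁻¹) a a⁻¹, mul_inv_cancel, mul_one]
    exact mul_mem h1 h2
  inv_mem' := by
    rintro a ⟨ha, ha'⟩
    refine ⟨inv_mem ha, fun w hw => ?_⟩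
    have h1 := ha' w hw
    have h3 := P_Z F (inv_mem ha) h1
    have e : a⁻¹ * w * a⁻¹⁻¹ * w⁻¹ = a⁻¹ * (a * w * a⁻¹ * w⁻¹)⁻¹ * a := by group
    have h4 := P_Z F (inv_mem ha) (inv_mem h1)
    rw [e, h4, mul_assoc, inv_mul_cancel, mul_one]
    exact inv_mem h1

theorem mem_CW {g : L} : g ∈ CW D F ↔ g ∈ D.P ∧ ∀ w ∈ D.W4, g * w * g⁻¹ * w⁻¹ ∈ D.Z := Iff.rfl

theorem Q1_CW : D.Q1 ≤ CW D F := fun q hq =>
  ⟨F.Q1_le hq, fun w hw => by
    have := F.comm_Q1 q hq w (W4_le F hw)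
    rwa [commutatorElement_def] at this⟩

theorem L2_CW : D.L2 ≤ CW D F := fun l hl =>
  ⟨hl.1, fun w hw => by
    obtain ⟨z, hz, e, he, rfl⟩ := (mem_W4 F).1 hw
    have c1 : Commute l z := P_Z F hl.1 hz
    have c2 : Commute l e := (mem_centralizer_iff.1 hl.2 e he).symm
    have c3 := (c1.mul_right c2).eq
    rw [c3, mul_assoc (z * e) l, mul_inv_cancel, mul_one, mul_inv_cancel]
    exact one_mem _⟩

theorem B_CW : D.B ≤ CW D F := by
  refine sup_le (sup_le (Q1_CW F) ?_) ?_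
  · exact (F.Xa_le.trans F.Q2_le).trans (L2_CW F)
  · rw [zpowers_le]
    exact L2_CW F F.y_mem

/-- an element of `P` normalising `W4` centralises `W4 / Z` -/
theorem norm_CW {p : L} (hp : p ∈ D.P) (hn : ∀ w ∈ D.W4, p * w * p⁻¹ ∈ D.W4) : p ∈ CW D F := by
  rcases F.bruhat p hp with h | ⟨b, hb, b', hb', rfl⟩
  · exact B_CW F h
  exfalso
  have hcb := B_CW F hb
  have hcb' := B_CW F hb'
  have key : ∀ c ∈ CW D F, ∀ w ∈ D.W4, c * w * c⁻¹ ∈ D.W4 := by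
    intro c hc w hw
    have h1 := hc.2 w hw
    have h2 : c * w * c⁻¹ = (c * w * c⁻¹ * w⁻¹) * w := by group
    rw [h2]
    exact mul_mem (mem_sup_left h1) hw
  have hns : ∀ w ∈ D.W4, D.ns * w * D.ns⁻¹ ∈ D.W4 := by
    intro w hw
    have h1 := key _ (inv_mem hcb') w hw
    have h2 := hn _ h1
    have h3 := key _ (inv_mem hcb) _ h2
    have : b⁻¹ * (b * D.ns * b' * (b'⁻¹ * w * b'⁻¹⁻¹) * (b * D.ns * b')⁻¹) * b⁻¹⁻¹ = D.ns * w * D.ns⁻¹ := by
      group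
    rwa [this] at h3
  have hbot : ∀ e ∈ D.Xe, e = 1 := by
    intro e he
    by_contra hne
    have h1 := F.ns_Xe e he
    have h2 := hns e (mem_sup_right he)
    have h3 := W4_comm F (mem_sup_right he : e ∈ D.W4) h2
    rcases F.Xe_Xb e he _ h1 h3 with h4 | h4
    · exact hne h4
    · apply hne
      calc e = D.ns⁻¹ * (D.ns * e * D.ns⁻¹) * D.ns := by group
        _ = 1 := by rw [h4]; group
  have : D.Xe = ⊥ := (eq_bot_iff_forall _).2 hbot
  have h4 := F.card_Xe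
  rw [this, Subgroup.card_bot] at h4
  exact absurd h4 (by norm_num)

theorem Xa_Q1 {x : L} (hx : x ∈ D.Xa) (hx' : x ∈ D.Q1) : x = 1 := by
  have h12 : x ∈ D.Q12 := ⟨hx', mem_centralizer_iff.2 fun e he => (Xa_Xe F hx he).symm⟩
  have hfX : Finite D.Xa := Nat.finite_of_card_ne_zero (by rw [F.card_Xa]; norm_num)
  have hfQ : Finite D.Q12 := Nat.finite_of_card_ne_zero (by rw [F.card_Q12]; norm_num)
  have hfQ2 : Finite D.Q2 := Nat.finite_of_card_ne_zero (by rw [F.card_Q2]; norm_num)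
  let Φ : D.Xa × D.Q12 → D.Q2 := fun p => ⟨p.1 * p.2, mul_mem (F.Xa_le p.1.2) (F.Q12_le p.2.2)⟩
  have hs : Function.Surjective Φ := by
    rintro ⟨q, hq⟩
    obtain ⟨a, ha, q', hq', rfl⟩ := F.decomp_Q2 q hq
    exact ⟨⟨⟨a, ha⟩, ⟨q', hq'⟩⟩, rfl⟩
  have hb : Function.Bijective Φ := by
    rw [Nat.bijective_iff_surjective_and_card]
    exact ⟨hs, by rw [Nat.card_prod, F.card_Xa, F.card_Q12, F.card_Q2]⟩
  have h1 : Φ (⟨x, hx⟩, 1) = Φ (1, ⟨x, h12⟩) := Subtype.ext (by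
    show x * ((1 : D.Q12) : L) = ((1 : D.Xa) : L) * x
    rw [OneMemClass.coe_one, OneMemClass.coe_one, mul_one, one_mul])
  exact congrArg (fun p : D.Xa × D.Q12 => (p.1 : L)) (hb.1 h1)

/-- the Sylow 2-subgroup `U = Q1 Xa` -/
def U (D : Data L) (F : Facts D) : Subgroup L where
  carrier := {g | ∃ q ∈ D.Q1, ∃ x ∈ D.Xa, g = q * x}
  one_mem' := ⟨1, one_mem _, 1, one_mem _, by rw [mul_one]⟩
  mul_mem' := by
    rintro _ _ ⟨q, hq, x, hx, rfl⟩ ⟨q', hq', x', hx', rfl⟩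
    exact ⟨q * (x * q' * x⁻¹), mul_mem hq (F.norm_Q1 x (Xa_P F hx) q' hq'), x * x', mul_mem hx hx', by group⟩
  inv_mem' := by
    rintro _ ⟨q, hq, x, hx, rfl⟩
    refine ⟨x⁻¹ * q⁻¹ * x⁻¹⁻¹, F.norm_Q1 x⁻¹ (Xa_P F (inv_mem hx)) q⁻¹ (inv_mem hq), x⁻¹, inv_mem hx, ?_⟩
    group

theorem mem_U {g : L} : g ∈ U D F ↔ ∃ q ∈ D.Q1, ∃ x ∈ D.Xa, g = q * x := Iff.rfl

theorem Q1_U {q : L} (hq : q ∈ D.Q1) : q ∈ U D F := ⟨q, hq, 1, one_mem _, by rw [mul_one]⟩

theorem Xa_U {x : L} (hx : x ∈ D.Xa) : x ∈ U D F := ⟨1, one_mem _, x, hx, by rw [one_mul]⟩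

theorem U_P : U D F ≤ D.P := by
  rintro _ ⟨q, hq, x, hx, rfl⟩
  exact mul_mem (F.Q1_le hq) (Xa_P F hx)

theorem card_U : Nat.card (U D F) = 2 ^ 12 := by
  have hfX : Finite D.Xa := Nat.finite_of_card_ne_zero (by rw [F.card_Xa]; norm_num)
  have hfQ : Finite D.Q1 := Nat.finite_of_card_ne_zero (by rw [F.card_Q1]; norm_num)
  let Φ : D.Q1 × D.Xa → U D F := fun p => ⟨p.1 * p.2, p.1, p.1.2, p.2, p.2.2, rfl⟩
  have hb : Function.Bijective Φ := by
    constructor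
    · rintro ⟨⟨q, hq⟩, ⟨x, hx⟩⟩ ⟨⟨q', hq'⟩, ⟨x', hx'⟩⟩ h
      have h1 : q * x = q' * x' := congrArg Subtype.val h
      have h2 : q'⁻¹ * q = x' * x⁻¹ := by
        calc q'⁻¹ * q = q'⁻¹ * (q * x) * x⁻¹ := by group
          _ = x' * x⁻¹ := by rw [h1]; group
      have h3 : x' * x⁻¹ = 1 := Xa_Q1 F (mul_mem hx' (inv_mem hx)) (h2 ▸ mul_mem (inv_mem hq') hq)
      have h4 : x' = x := mul_inv_eq_one.1 h3
      subst h4
      have h5 : q = q' := mul_right_cancel h1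
      subst h5
      rfl
    · rintro ⟨_, q, hq, x, hx, rfl⟩
      exact ⟨⟨⟨q, hq⟩, ⟨x, hx⟩⟩, rfl⟩
  rw [← Nat.card_eq_of_bijective Φ hb, Nat.card_prod, F.card_Q1, F.card_Xa]
  norm_num

/-- `Z = Z(U)` -/
theorem mem_Z_iff {z : L} : z ∈ D.Z ↔ z ∈ U D F ∧ ∀ v ∈ U D F, z * v = v * z := by
  constructor
  · intro hz
    exact ⟨Q1_U F (F.Z_le hz), fun v hv => (P_Z F (U_P F hv) hz).symm⟩
  · rintro ⟨hz, hc⟩
    have h1 : z ∈ D.Q1 := F.cent_Q1Z z (U_P F hz) fun q hq => by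
      rw [commutatorElement_eq_one_iff_mul_comm.2 (hc q (Q1_U F hq))]
      exact one_mem _
    exact F.center_Q1 z h1 fun q hq => hc q (Q1_U F hq)

/-- `W4 / Z = Z(U / Z)` -/
theorem mem_W4_iff {w : L} : w ∈ D.W4 ↔ w ∈ U D F ∧ ∀ v ∈ U D F, v * w * v⁻¹ * w⁻¹ ∈ D.Z := by
  constructor
  · intro hw
    refine ⟨Q1_U F (W4_le F hw), fun v hv => ?_⟩
    obtain ⟨q, hq, x, hx, rfl⟩ := hv
    exact (mul_mem (Q1_CW F hq) (L2_CW F (F.Q2_le (F.Xa_le hx)))).2 w hw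
  · rintro ⟨hw, hc⟩
    have hc' : ∀ v ∈ U D F, ⁅w, v⁆ ∈ D.Z := by
      intro v hv
      have h1 := inv_mem (hc v hv)
      have h2 : (v * w * v⁻¹ * w⁻¹)⁻¹ = ⁅w, v⁆ := by rw [commutatorElement_def]; group
      rwa [h2] at h1
    have h1 : w ∈ D.Q1 := F.cent_Q1Z w (U_P F hw) fun q hq => hc' q (Q1_U F hq)
    exact F.cent_Xa w h1 fun x hx => hc' x (Xa_U F hx)

end basic

theorem h_three (F : Facts D) (x : L) : D.h * (D.h * (D.h * x * D.h⁻¹) * D.h⁻¹) * D.h⁻¹ = x := by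
  have h3 : D.h * D.h * D.h = 1 := by rw [← F.h_pow, pow_succ, sq]
  calc D.h * (D.h * (D.h * x * D.h⁻¹) * D.h⁻¹) * D.h⁻¹
      = (D.h * D.h * D.h) * x * (D.h * D.h * D.h)⁻¹ := by simp only [mul_inv_rev, mul_assoc]
    _ = x := by rw [h3, one_mul, inv_one, mul_one]

/-- the four elements of `Z` -/
theorem Z_elts (F : Facts D) {a b c z : L} (ha : a ∈ D.Z) (hb : b ∈ D.Z) (ha1 : a ≠ 1) (hb1 : b ≠ 1)
    (hab : a ≠ b) (hz : z ∈ D.Z) (hc : c = a * b) : z = 1 ∨ z = a ∨ z = b ∨ z = c := by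
  classical
  have hfin : Finite D.Z := Nat.finite_of_card_ne_zero (by rw [F.card_Z]; norm_num)
  have hft := Fintype.ofFinite D.Z
  have hcm : c ∈ D.Z := hc ▸ mul_mem ha hb
  have hac : a * a = 1 := F.sq_Z a ha
  have hbb : b * b = 1 := F.sq_Z b hb
  have hc1 : c ≠ 1 := by
    intro h
    apply hab
    calc a = a * (a * b) := by rw [← hc, h, mul_one]
      _ = (a * a) * b := by group
      _ = b := by rw [hac, one_mul]
  have hca : c ≠ a := by
    intro h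
    apply hb1
    rw [hc] at h
    exact mul_left_cancel (h.trans (mul_one a).symm)
  have hcb : c ≠ b := by
    intro h
    apply ha1
    rw [hc] at h
    exact mul_right_cancel (h.trans (one_mul b).symm)
  by_contra hne
  push Not at hne
  obtain ⟨h1, h2, h3, h4⟩ := hne
  have hcard : ({⟨1, one_mem _⟩, ⟨a, ha⟩, ⟨b, hb⟩, ⟨c, hcm⟩, ⟨z, hz⟩} : Finset D.Z).card = 5 := by
    rw [Finset.card_insert_of_notMem, Finset.card_insert_of_notMem, Finset.card_insert_of_notMem,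
      Finset.card_insert_of_notMem, Finset.card_singleton]
    · simpa [Subtype.ext_iff] using h4.symm
    · simp only [Finset.mem_insert, Finset.mem_singleton, Subtype.mk.injEq, not_or]
      exact ⟨hcb.symm, h3.symm⟩
    · simp only [Finset.mem_insert, Finset.mem_singleton, Subtype.mk.injEq, not_or]
      exact ⟨hab, hca.symm, h2.symm⟩
    · simp only [Finset.mem_insert, Finset.mem_singleton, Subtype.mk.injEq, not_or]
      exact ⟨ha1.symm, hb1.symm, hc1.symm, h1.symm⟩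
  have h5 := Finset.card_le_univ ({⟨1, one_mem _⟩, ⟨a, ha⟩, ⟨b, hb⟩, ⟨c, hcm⟩, ⟨z, hz⟩} : Finset D.Z)
  rw [hcard, ← Nat.card_eq_fintype_card, F.card_Z] at h5
  omega

section main

variable (F : Facts D) (hA : D.A = ⊤)
include F hA

theorem mem_P {g : L} (h : ∀ z ∈ D.Z, g * z = z * g) : g ∈ D.P :=
  (F.cent_Z g (by rw [hA]; trivial)).1 h

/-- an involutory automorphism normalising `U`, not trivial on `Z`, is not trivial on `W4 / Z` -/
theorem exists_W4 (β : MulAut L) (hU : ∀ u ∈ U D F, β u ∈ U D F) (hβ : ∀ x, β (β x) = x)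
    {f : L} (hf : f ∈ D.Z) (hfβ : β f ≠ f) : ∃ w ∈ D.W4, w⁻¹ * β w ∉ D.Z := by
  by_contra hcon
  push Not at hcon
  have hZ : ∀ z ∈ D.Z, β z ∈ D.Z := by
    intro z hz
    obtain ⟨h1, h2⟩ := (mem_Z_iff F).1 hz
    refine (mem_Z_iff F).2 ⟨hU z h1, fun v hv => ?_⟩
    have h3 := congrArg β (h2 (β v) (hU v hv))
    rwa [map_mul, map_mul, hβ] at h3
  have hW : ∀ w ∈ D.W4, β w ∈ D.W4 := by
    intro w hw
    obtain ⟨h1, h2⟩ := (mem_W4_iff F).1 hw
    refine (mem_W4_iff F).2 ⟨hU w h1, fun v hv => ?_⟩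
    have h3 := hZ _ (h2 (β v) (hU v hv))
    rwa [map_mul, map_mul, map_mul, map_inv, map_inv, hβ] at h3
  -- the fixed element `s` and the three elements of `Z`
  set s := f⁻¹ * β f with hs
  have hsZ : s ∈ D.Z := mul_mem (inv_mem hf) (hZ f hf)
  have hs1 : s ≠ 1 := fun h => hfβ (by
    have := inv_mul_eq_one.1 h
    exact this.symm)
  have hfinv : f⁻¹ = f := inv_eq_of_mul_eq_one_left (F.sq_Z f hf)
  have hbs : β s = s := by
    have h1 : β s = (β f)⁻¹ * f := by rw [hs, map_mul, map_inv, hβ]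
    have h2 : (β f)⁻¹ = β f := inv_eq_of_mul_eq_one_left (F.sq_Z _ (hZ f hf))
    rw [h1, h2, hs, hfinv]
    exact P_Z F (Z_P F (hZ f hf)) hf
  set a := D.h * s * D.h⁻¹ with ha
  set b := D.h * a * D.h⁻¹ with hb
  have haZ : a ∈ D.Z := F.h_Z s hsZ
  have hbZ : b ∈ D.Z := F.h_Z a haZ
  have hhb : D.h * b * D.h⁻¹ = s := h_three F s
  have ha1 : a ≠ 1 := by
    intro h
    apply hs1
    rw [ha] at h
    calc s = D.h⁻¹ * (D.h * s * D.h⁻¹) * D.h := by group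
      _ = 1 := by rw [h]; group
  have hsa : s ≠ a := fun h => hs1 (F.h_Z_fpf s hsZ h.symm)
  have hbe : b = s * a := by
    rcases Z_elts F hsZ haZ hs1 ha1 hsa hbZ rfl with h | h | h | h
    · exfalso
      apply ha1
      rw [hb] at h
      calc a = D.h⁻¹ * (D.h * a * D.h⁻¹) * D.h := by group
        _ = 1 := by rw [h]; group
    · exfalso
      apply hsa
      rw [h] at hhb
      exact hhb.symm
    · exfalso
      have h2 := F.h_Z_fpf a haZ h
      exact ha1 h2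
    · exact h
  have hzcases : ∀ z ∈ D.Z, z = 1 ∨ z = s ∨ z = a ∨ z = b := fun z hz =>
    Z_elts F hsZ haZ hs1 ha1 hsa hz hbe
  have hba : β a = b := by
    rcases hzcases _ (hZ a haZ) with h | h | h | h
    · exact absurd (β.injective (h.trans (map_one β).symm)) ha1
    · exact absurd (β.injective (h.trans hbs.symm)).symm hsa
    · exfalso
      have hbb : β b = b := by rw [hbe, map_mul, hbs, h]
      have hall : ∀ z ∈ D.Z, β z = z := by
        intro z hz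
        rcases hzcases z hz with h1 | h1 | h1 | h1
        · rw [h1]; exact map_one β
        · rw [h1]; exact hbs
        · rw [h1]; exact h
        · rw [h1]; exact hbb
      exact hfβ (hall f hf)
    · exact h
  have hbb : β b = a := by rw [← hba, hβ]
  -- `p = β(h) h` centralises `Z`
  have hbh : ∀ z, β D.h * z * (β D.h)⁻¹ = β (D.h * β z * D.h⁻¹) := by
    intro z
    rw [map_mul, map_mul, map_inv, hβ]
  have hpZ : ∀ z ∈ D.Z, (β D.h * D.h) * z = z * (β D.h * D.h) := by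
    intro z hz
    have h1 : (β D.h * D.h) * z * (β D.h * D.h)⁻¹ = z := by
      have e : (β D.h * D.h) * z * (β D.h * D.h)⁻¹ = β D.h * (D.h * z * D.h⁻¹) * (β D.h)⁻¹ := by group
      rw [e, hbh]
      rcases hzcases z hz with h1 | h1 | h1 | h1
      · rw [h1]; simp
      · rw [h1, ← ha, hba, hhb, hbs]
      · rw [h1, ← hb, hbb, ← hb, hbb]
      · rw [h1, hhb, hbs, ← ha, hba]
    calc (β D.h * D.h) * z = (β D.h * D.h) * z * (β D.h * D.h)⁻¹ * (β D.h * D.h) := by group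
      _ = _ := by rw [h1]
  have hp := mem_P F hA hpZ
  have hpc : β D.h * D.h ∈ CW D F := by
    refine norm_CW F hp fun w hw => ?_
    have e : (β D.h * D.h) * w * (β D.h * D.h)⁻¹ = β D.h * (D.h * w * D.h⁻¹) * (β D.h)⁻¹ := by group
    rw [e, hbh]
    exact hW _ (conj_W4_h F (hW _ (conj_W4_h F hw)))
  -- but on `W4 / Z` it acts as `h²`
  have hbot : ∀ e ∈ D.Xe, e = 1 := by
    intro e he
    have heW : e ∈ D.W4 := mem_sup_right he
    have h1 := hpc.2 e heW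
    have e1 : (β D.h * D.h) * e * (β D.h * D.h)⁻¹ = β (D.h * β (D.h * e * D.h⁻¹) * D.h⁻¹) := by
      rw [← hbh]; group
    set e2 := D.h * e * D.h⁻¹ with he2
    have he2X : e2 ∈ D.Xe := F.h_Xe e he
    have he2W : e2 ∈ D.W4 := mem_sup_right he2X
    set z1 := e2⁻¹ * β e2 with hz1
    have hz1Z : z1 ∈ D.Z := hcon e2 he2W
    have hb2 : β e2 = e2 * z1 := by rw [hz1]; group
    set e3 := D.h * e2 * D.h⁻¹ with he3
    have he3X : e3 ∈ D.Xe := F.h_Xe e2 he2X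
    have he3W : e3 ∈ D.W4 := mem_sup_right he3X
    set z2 := e3⁻¹ * β e3 with hz2
    have hz2Z : z2 ∈ D.Z := hcon e3 he3W
    have hb3 : β e3 = e3 * z2 := by rw [hz2]; group
    have e4 : D.h * β e2 * D.h⁻¹ = e3 * (D.h * z1 * D.h⁻¹) := by rw [hb2, he3]; group
    have hz3 : β (D.h * z1 * D.h⁻¹) ∈ D.Z := hZ _ (F.h_Z _ hz1Z)
    rw [e1, e4, map_mul, hb3] at h1
    -- `h1 : e3 * z2 * β (h z1 h⁻¹) * e⁻¹ ∈ Z`
    have hzz : z2 * β (D.h * z1 * D.h⁻¹) ∈ D.Z := mul_mem hz2Z hz3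
    have hc := P_Z F (F.Q1_le (F.Xe_le (inv_mem he))) hzz
    have e5 : e3 * z2 * β (D.h * z1 * D.h⁻¹) * e⁻¹ = e3 * e⁻¹ * (z2 * β (D.h * z1 * D.h⁻¹)) := by
      calc e3 * z2 * β (D.h * z1 * D.h⁻¹) * e⁻¹ = e3 * ((z2 * β (D.h * z1 * D.h⁻¹)) * e⁻¹) := by group
        _ = e3 * (e⁻¹ * (z2 * β (D.h * z1 * D.h⁻¹))) := by rw [hc]
        _ = _ := by group
    rw [e5] at h1
    have h2 : e3 * e⁻¹ ∈ D.Z := by
      have := mul_mem h1 (inv_mem hzz)
      rwa [mul_inv_cancel_right] at this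
    have h3 := F.Xe_Z _ (mul_mem he3X (inv_mem he)) h2
    have h4 : e3 = e := mul_inv_eq_one.1 h3
    apply F.h_Xe_fpf e he
    calc D.h * e * D.h⁻¹ = D.h * e3 * D.h⁻¹ := by rw [h4]
      _ = e := h_three F e
  have : D.Xe = ⊥ := (eq_bot_iff_forall _).2 hbot
  have h4 := F.card_Xe
  rw [this, Subgroup.card_bot] at h4
  exact absurd h4 (by norm_num)

/-- an involutory automorphism normalising `U`, not trivial on `Z` -/
theorem exists_comm_of_norm (β : MulAut L) (hU : ∀ u ∈ U D F, β u ∈ U D F) (hβ : ∀ x, β (β x) = x)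
    {f : L} (hf : f ∈ D.Z) (hfβ : β f ≠ f) : ∃ w ∈ D.W4, ∃ s ∈ D.Z, ∃ r ∈ D.W4, s ≠ 1 ∧ r ∉ D.Z ∧
      β f = f * s ∧ β w = w * r ∧ β s = s ∧ β r = r := by
  obtain ⟨w, hw, hwn⟩ := exists_W4 F hA β hU hβ hf hfβ
  have hZ : ∀ z ∈ D.Z, β z ∈ D.Z := by
    intro z hz
    obtain ⟨h1, h2⟩ := (mem_Z_iff F).1 hz
    refine (mem_Z_iff F).2 ⟨hU z h1, fun v hv => ?_⟩
    have h3 := congrArg β (h2 (β v) (hU v hv))
    rwa [map_mul, map_mul, hβ] at h3
  have hW : ∀ w ∈ D.W4, β w ∈ D.W4 := by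
    intro w hw
    obtain ⟨h1, h2⟩ := (mem_W4_iff F).1 hw
    refine (mem_W4_iff F).2 ⟨hU w h1, fun v hv => ?_⟩
    have h3 := hZ _ (h2 (β v) (hU v hv))
    rwa [map_mul, map_mul, map_mul, map_inv, map_inv, hβ] at h3
  have hfix : ∀ v ∈ D.W4, β (v⁻¹ * β v) = v⁻¹ * β v := by
    intro v hv
    have h1 : v⁻¹ = v := inv_eq_of_mul_eq_one_left (W4_sq F hv)
    rw [h1, map_mul, hβ]
    exact W4_comm F (hW v hv) hv
  refine ⟨w, hw, f⁻¹ * β f, mul_mem (inv_mem hf) (hZ f hf), w⁻¹ * β w, mul_mem (inv_mem hw) (hW w hw),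
    ?_, hwn, by group, by group, hfix f (mem_sup_left hf), hfix w hw⟩
  intro h
  exact hfβ (inv_mul_eq_one.1 h).symm

/-- **Outer involutory automorphisms.** -/
theorem exists_comm (hin : ∀ α : MulAut L, (∀ z ∈ D.Z, α z = z) → ∃ c : L, ∀ x, α x = c * x * c⁻¹)
    (α : MulAut L) (hα : ∀ x, α (α x) = x) (hout : ¬ ∃ c : L, ∀ x, α x = c * x * c⁻¹) :
    ∃ g : L, ∃ f ∈ D.Z, ∃ w ∈ D.W4, ∃ s ∈ D.Z, ∃ r ∈ D.W4, s ≠ 1 ∧ r ∉ D.Z ∧
      α (g * f * g⁻¹) = g * (f * s) * g⁻¹ ∧ α (g * w * g⁻¹) = g * (w * r) * g⁻¹ ∧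
      α (g * s * g⁻¹) = g * s * g⁻¹ ∧ α (g * r * g⁻¹) = g * r * g⁻¹ := by
  have hcard : Nat.card L = 251596800 := by
    rw [← F.card_A, hA]
    exact (Nat.card_congr Subgroup.topEquiv.toEquiv).symm
  have hfin : Finite L := Nat.finite_of_card_ne_zero (by rw [hcard]; norm_num)
  have h2 : Fact (Nat.Prime 2) := ⟨Nat.prime_two⟩
  -- a Sylow 2-subgroup fixed by `α`
  have hα2 : α * α = 1 := MulEquiv.ext hα
  have hp : IsPGroup 2 (zpowers α) := by
    rintro ⟨x, hx⟩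
    refine ⟨1, Subtype.ext ?_⟩
    obtain ⟨k, rfl⟩ := mem_zpowers_iff.1 hx
    show (α ^ k) ^ (2 ^ 1) = 1
    rw [pow_one, sq, ← zpow_add, ← two_mul, zpow_mul, zpow_two, hα2, one_zpow]
  obtain ⟨S, hS⟩ := hp.nonempty_fixed_point_of_prime_not_dvd_card (Sylow 2 L) (not_dvd_card_sylow 2 L)
  have hSα : α • S = S := hS ⟨α, mem_zpowers α⟩
  have hcU : Nat.card (U D F) = 2 ^ (Nat.card L).factorization 2 := by
    rw [card_U, hcard]
    congr 1
    rw [show (251596800 : ℕ) = 2 ^ 12 * 61425 by norm_num,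
      Nat.factorization_mul (by norm_num) (by norm_num), Finsupp.add_apply,
      Nat.Prime.factorization_pow (by norm_num), Finsupp.single_eq_same,
      Nat.factorization_eq_zero_of_not_dvd (by norm_num)]
  obtain ⟨g, hg⟩ := MulAction.exists_smul_eq L (Sylow.ofCard (U D F) hcU) S
  have hmem : ∀ x, x ∈ S ↔ g⁻¹ * x * g ∈ U D F := by
    intro x
    rw [← hg, ← SetLike.mem_coe, Sylow.coe_smul, Set.mem_smul_set_iff_inv_smul_mem]
    have h1 : (MulAut.conj g)⁻¹ • x = g⁻¹ * x * g := by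
      rw [← map_inv, MulAut.smul_def, MulAut.conj_apply, inv_inv]
    change (MulAut.conj g)⁻¹ • x ∈ U D F ↔ _
    rw [h1]
  have hSx : ∀ x ∈ S, α x ∈ S := by
    intro x hx
    rw [← hSα]
    show α x ∈ ((α • S : Sylow 2 L) : Subgroup L)
    rw [Sylow.pointwise_smul_def]
    exact Subgroup.smul_mem_pointwise_smul x α _ hx
  set β : MulAut L := MulAut.conj g⁻¹ * α * MulAut.conj g with hβ
  have hβx : ∀ x, β x = g⁻¹ * α (g * x * g⁻¹) * g := by
    intro x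
    show g⁻¹ * α (g * x * g⁻¹) * g⁻¹⁻¹ = _
    rw [inv_inv]
  have hββ : ∀ x, β (β x) = x := by
    intro x
    rw [hβx, hβx]
    have : g * (g⁻¹ * α (g * x * g⁻¹) * g) * g⁻¹ = α (g * x * g⁻¹) := by group
    rw [this, hα]
    group
  have hβU : ∀ u ∈ U D F, β u ∈ U D F := by
    intro u hu
    rw [hβx, ← hmem]
    apply hSx
    rw [hmem]
    have : g⁻¹ * (g * u * g⁻¹) * g = u := by group
    rwa [this]
  have hβo : ¬ ∀ z ∈ D.Z, β z = z := by
    intro h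
    obtain ⟨c, hc⟩ := hin β h
    apply hout
    refine ⟨g * c * g⁻¹, fun x => ?_⟩
    have h1 := hc (g⁻¹ * x * g)
    rw [hβx] at h1
    have h2 : g * (g⁻¹ * x * g) * g⁻¹ = x := by group
    rw [h2] at h1
    calc α x = g * (g⁻¹ * α x * g) * g⁻¹ := by group
      _ = _ := by rw [h1]; group
  push Not at hβo
  obtain ⟨f, hf, hfβ⟩ := hβo
  obtain ⟨w, hw, s, hs, r, hr, hs1, hrZ, e1, e2, e3, e4⟩ := exists_comm_of_norm F hA β hβU hββ hf hfβ
  have hαx : ∀ x, α (g * x * g⁻¹) = g * β x * g⁻¹ := by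
    intro x
    rw [hβx]; group
  refine ⟨g, f, hf, w, hw, s, hs, r, hr, hs1, hrZ, ?_, ?_, ?_, ?_⟩
  · rw [hαx, e1]
  · rw [hαx, e2]
  · rw [hαx, e3]
  · rw [hαx, e4]

/-- the field `outer` of `RedFacts` -/
theorem outer (hin : ∀ α : L ≃* L, (∀ z ∈ D.Z, α z = z) → Inn α)
    (α : L ≃* L) (hα : ∀ x, α (α x) = x) (hout : ¬ Inn α) :
    ∃ s₁ s₂ f₁ f₂ f₃ : L, s₁ ≠ 1 ∧ s₂ ≠ 1 ∧
    s₁ ≠ s₂ ∧ s₁ * s₁ = 1 ∧ s₂ * s₂ = 1 ∧ s₁ * s₂ = s₂ * s₁ ∧ α s₁ = s₁ ∧ α s₂ = s₂ ∧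
    f₁ = α f₁ * s₁ ∧ f₂ = α f₂ * s₂ ∧ f₃ = α f₃ * (s₁ * s₂) := by
  obtain ⟨g, f, hf, w, hw, s, hs, r, hr, hs1, hrZ, e1, e2, e3, e4⟩ := exists_comm F hA hin α hα hout
  have hss : s * s = 1 := F.sq_Z s hs
  have hrr : r * r = 1 := W4_sq F hr
  have hfW : f ∈ D.W4 := mem_sup_left hf
  have hsW : s ∈ D.W4 := mem_sup_left hs
  have hconj : ∀ {a b : L}, g * a * g⁻¹ = g * b * g⁻¹ → a = b := fun h =>
    (MulAut.conj g).injective h
  have hsr : s * r = r * s := W4_comm F hsW hr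
  have hfs : f * s = s * f := W4_comm F hfW hsW
  have hws : w * s = s * w := W4_comm F hw hsW
  refine ⟨g * s * g⁻¹, g * r * g⁻¹, g * f * g⁻¹, g * w * g⁻¹, g * (f * w) * g⁻¹, ?_, ?_, ?_, ?_, ?_, ?_,
    e3, e4, ?_, ?_, ?_⟩
  · intro h
    exact hs1 (hconj (h.trans (by group)))
  · intro h
    apply hrZ
    rw [hconj (b := 1) (h.trans (by group))]
    exact one_mem _
  · intro h
    apply hrZ
    rw [← hconj h]
    exact hs
  · calc g * s * g⁻¹ * (g * s * g⁻¹) = g * (s * s) * g⁻¹ := by group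
      _ = 1 := by rw [hss]; group
  · calc g * r * g⁻¹ * (g * r * g⁻¹) = g * (r * r) * g⁻¹ := by group
      _ = 1 := by rw [hrr]; group
  · calc g * s * g⁻¹ * (g * r * g⁻¹) = g * (s * r) * g⁻¹ := by group
      _ = g * (r * s) * g⁻¹ := by rw [hsr]
      _ = _ := by group
  · rw [e1]
    calc g * f * g⁻¹ = g * (f * (s * s)) * g⁻¹ := by rw [hss, mul_one]
      _ = _ := by group
  · rw [e2]
    calc g * w * g⁻¹ = g * (w * (r * r)) * g⁻¹ := by rw [hrr, mul_one]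
      _ = _ := by group
  · have h1 : g * (f * w) * g⁻¹ = (g * f * g⁻¹) * (g * w * g⁻¹) := by group
    rw [h1, map_mul, e1, e2]
    have h2 : f * w = f * s * (w * r) * (s * r) := by
      calc f * w = f * (s * s) * w * (r * r) := by rw [hss, hrr, mul_one, mul_one]
        _ = f * s * (s * w) * (r * r) := by group
        _ = f * s * (w * s) * (r * r) := by rw [hws]
        _ = f * s * w * (s * r) * r := by group
        _ = f * s * w * (r * s) * r := by rw [hsr]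
        _ = _ := by group
    calc g * f * g⁻¹ * (g * w * g⁻¹) = g * (f * w) * g⁻¹ := by group
      _ = g * (f * s * (w * r) * (s * r)) * g⁻¹ := by rw [← h2]
      _ = _ := by group

end main

end Cfsg.Agent.GTwoFour.OuterInv
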