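import Mathlib
import Cfsg.Agent.GTwoFour.RedFacts
import Cfsg.Agent.GTwoFour.OuterInv
import Cfsg.Agent.StdG24.FiveL

/-!
# The facts on automorphisms of `G₂(4)` from its 5-structure

The fields `out`, `autZ`, `four`, `eight` of `RedFacts` from `StdG24.AutL.Ax`.
-/

set_option autoImplicit false

namespace Cfsg.Agent.GTwoFour.RedAut

open Subgroup Cfsg.Agent.StdG24.AutA5 Cfsg.Agent.StdG24.AutL Cfsg.Agent.StdG24.FiveL

variable {L : Type*} [Group L] {E : El L}

/-- the centre of `L` is trivial -/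
theorem center_triv (A : Ax E) {c : L} (hc : ∀ x, c * x = x * c) : c = 1 := by
  obtain ⟨i, k, hik⟩ := A.cuw (hc _) (hc _)
  obtain ⟨es⟩ := A.eAs
  -- `c` is in `⟨w⟩ As`, commutes with `As`, `Al`
  obtain ⟨j, a, ha, rfl⟩ := A.cw c (hc _)
  have ha1 : a = 1 := by
    have := eq_one_of_comm es (c := ⟨a, ha⟩) (fun x => Subtype.ext (by
      show a * x = x * a
      have h1 := hc (x : L)
      have h2 : Commute (E.w ^ j) (x : L) := (show Commute E.w (x : L) from (A.comm x x.2 _ A.wAl).symm).pow_left j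
      have h3 : E.w ^ j * (a * x) = E.w ^ j * (x * a) := by
        rw [← mul_assoc, h1, ← mul_assoc, ← h2.eq, mul_assoc]
      exact mul_left_cancel h3))
    exact congrArg Subtype.val this
  subst ha1
  rw [mul_one] at hc ⊢
  -- `w ^ j` is inverted by `i₂`
  have h1 : E.i₂ * E.w ^ j * E.i₂ = (E.w ^ j)⁻¹ := by
    have h2 : E.i₂ * E.w ^ j * E.i₂ = (E.i₂ * E.w * E.i₂⁻¹) ^ j := by rw [conj_pow, A.i₂inv]
    rw [h2, A.i₂inv, A.i₂w, inv_pow]
  have h3 : E.i₂ * E.w ^ j * E.i₂ = E.w ^ j := by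
    rw [← hc, mul_assoc, A.i₂i₂, mul_one]
  rw [h3] at h1
  have h4 : E.w ^ j * E.w ^ j = 1 := by nth_rewrite 2 [h1]; exact mul_inv_cancel _
  exact eq_one_of_sq (by rw [← pow_mul, mul_comm, pow_mul, A.w5, one_pow]) h4

/-- the element inducing an inner automorphism is unique -/
theorem uniq (A : Ax E) {a b : L} (h : ∀ x, a * x * a⁻¹ = b * x * b⁻¹) : a = b := by
  have h1 : b⁻¹ * a = 1 := center_triv A fun x => by
    have := h x
    calc b⁻¹ * a * x = b⁻¹ * (a * x * a⁻¹) * a := by group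
      _ = b⁻¹ * (b * x * b⁻¹) * a := by rw [this]
      _ = _ := by group
  exact (inv_mul_eq_one.1 h1).symm

theorem out (A : Ax E) (α β : L ≃* L) : Inn α ∨ Inn β ∨ Inn (α.trans β) := by
  by_cases h1 : Inn α
  · exact Or.inl h1
  by_cases h2 : Inn β
  · exact Or.inr (Or.inl h2)
  exact Or.inr (Or.inr (A.mul_inner β α h2 h1))

theorem autZ (A : Ax E) {Z : Subgroup L} (hcard : Nat.card Z = 4) (hsq : ∀ z ∈ Z, z * z = 1) {g : L}
    (hg : ∀ z ∈ Z, g * z * g⁻¹ ∈ E.Al) (α : L ≃* L) (hα : ∀ z ∈ Z, α z = z) : Inn α := by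
  have hfin : Finite Z := Nat.finite_of_card_ne_zero (by rw [hcard]; norm_num)
  -- two different involutions of `Z`
  obtain ⟨a, ha⟩ : ∃ a : Z, a ≠ 1 := by
    by_contra h
    push Not at h
    have : Nat.card Z ≤ 1 := (Finite.card_le_one_iff_subsingleton).2 ⟨fun x y => by rw [h x, h y]⟩
    omega
  obtain ⟨b, hb⟩ : ∃ b : Z, b ≠ 1 ∧ b ≠ a := by
    by_contra h
    push Not at h
    have hs : Function.Surjective (fun i : Bool => if i then (1 : Z) else a) := by
      intro x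
      by_cases hx : x = 1
      · exact ⟨true, hx.symm⟩
      · exact ⟨false, (h x hx).symm⟩
    have := Nat.card_le_card_of_surjective _ hs
    rw [hcard, Nat.card_eq_fintype_card, Fintype.card_bool] at this
    omega
  have haL : (a : L) ≠ 1 := fun h => ha (Subtype.ext h)
  have hbL : (b : L) ≠ 1 := fun h => hb.1 (Subtype.ext h)
  have habL : (a : L) ≠ b := fun h => hb.2 (Subtype.ext h.symm)
  have hcomm : (a : L) * b = b * a := by
    have h1 := hsq _ (mul_mem a.2 b.2)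
    have h2 := hsq _ a.2
    have h3 := hsq _ b.2
    calc (a : L) * b = a * (a * b * (a * b)) * b := by rw [h1, mul_one]
      _ = (a * a) * (b * a) * (b * b) := by group
      _ = b * a := by rw [h2, h3]; group
  have hinj : ∀ {x y : L}, g * x * g⁻¹ = g * y * g⁻¹ → x = y := fun h => (MulAut.conj g).injective h
  have hfix : ∀ z ∈ Z, (MulAut.conj g * (α : MulAut L) * (MulAut.conj g)⁻¹) (g * z * g⁻¹) = g * z * g⁻¹ := by
    intro z hz
    show g * α ((MulAut.conj g)⁻¹ (g * z * g⁻¹)) * g⁻¹ = _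
    rw [← map_inv, MulAut.conj_apply, inv_inv]
    have : g⁻¹ * (g * z * g⁻¹) * g = z := by group
    rw [this, hα z hz]
  obtain ⟨c, hc⟩ := A.inner_of_four (MulAut.conj g * (α : MulAut L) * (MulAut.conj g)⁻¹) (hg a a.2) (hg b b.2)
    (fun h => haL (hinj (h.trans (by group)))) (fun h => hbL (hinj (h.trans (by group))))
    (by calc g * (a : L) * g⁻¹ * (g * a * g⁻¹) = g * (a * a) * g⁻¹ := by group
          _ = 1 := by rw [hsq a a.2]; group)
    (by calc g * (b : L) * g⁻¹ * (g * b * g⁻¹) = g * (b * b) * g⁻¹ := by group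
          _ = 1 := by rw [hsq b b.2]; group)
    (fun h => habL (hinj h))
    (by calc g * (a : L) * g⁻¹ * (g * b * g⁻¹) = g * (a * b) * g⁻¹ := by group
          _ = g * (b * a) * g⁻¹ := by rw [hcomm]
          _ = _ := by group) (hfix a a.2) (hfix b b.2)
  refine ⟨g⁻¹ * c * g, fun x => ?_⟩
  have h1 : g * α ((MulAut.conj g)⁻¹ (g * x * g⁻¹)) * g⁻¹ = c * (g * x * g⁻¹) * c⁻¹ := hc (g * x * g⁻¹)
  rw [← map_inv, MulAut.conj_apply, inv_inv] at h1
  have h2 : g⁻¹ * (g * x * g⁻¹) * g = x := by group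
  rw [h2] at h1
  calc α x = g⁻¹ * (g * α x * g⁻¹) * g := by group
    _ = _ := by rw [h1]; group

theorem no_four {A : Type*} [Group A] (e : A ≃* alternatingGroup (Fin 5)) {x : A}
    (h : x * x * (x * x) = 1) : x * x = 1 := by
  have key : ∀ y : P, Equiv.Perm.sign y = 1 → y * y * (y * y) = 1 → y * y = 1 := by decide +kernel
  apply emb_injective e 1
  rw [map_mul, map_one]
  apply key _ (sign_emb e 1 x)
  rw [← map_mul, ← map_mul, h, map_one]

theorem four (A : Ax E) (d : L) (hd : d ≠ 1) (hd5 : d ^ 5 = 1) (α : L ≃* L) (hα : α d = d)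
    (h4 : ∀ x, α (α (α (α x))) = x) : ∀ x, α (α x) = x := by
  obtain ⟨B, hB⟩ := exists_FC A hd hd5
  obtain ⟨e⟩ := hB.iso
  obtain ⟨i, c, hc, h⟩ := hB.aut α hα
  have hcd : Commute (d ^ i) c := (show Commute d c from (hB.comm c hc).symm).pow_left i
  set q := d ^ i * c with hq
  have hq4 : q * q * (q * q) = 1 := by
    apply uniq A (b := 1) _ |>.trans rfl
    intro x
    have h1 := h4 x
    rw [h x, h, h, h] at h1
    calc q * q * (q * q) * x * (q * q * (q * q))⁻¹ = q * (q * (q * (q * x * q⁻¹) * q⁻¹) * q⁻¹) * q⁻¹ := by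
          group
      _ = x := h1
      _ = 1 * x * 1⁻¹ := by group
  have hq4' : q ^ 4 = 1 := by
    calc q ^ 4 = q * q * (q * q) := by rw [show (4 : ℕ) = 2 + 2 by norm_num, pow_add, sq]
      _ = 1 := hq4
  have h5 : d ^ (i * 4) * c ^ 4 = 1 := by
    rw [pow_mul, ← hcd.mul_pow]; exact hq4'
  have h6 : c ^ 4 = 1 := by
    have h7 : c ^ 4 = d ^ (i * 4 * 4) := by
      have h8 : c ^ 4 = (d ^ (i * 4))⁻¹ := (inv_eq_of_mul_eq_one_right h5).symm
      rw [h8, pow_mul d (i * 4) 4]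
      apply inv_eq_of_mul_eq_one_right
      have h9 : (d ^ (i * 4)) ^ 5 = 1 := by rw [← pow_mul, mul_comm, pow_mul, hd5, one_pow]
      rw [← h9]
      group
    exact hB.inter (B.pow_mem hc 4) h7
  have h10 : d ^ (i * 4) = 1 := by rw [h6, mul_one] at h5; exact h5
  have h11 : d ^ i = 1 := by
    have h9 : (d ^ i) ^ 5 = 1 := by rw [← pow_mul, mul_comm, pow_mul, hd5, one_pow]
    rw [pow_mul] at h10
    calc d ^ i = (d ^ i) ^ 5 * ((d ^ i) ^ 4)⁻¹ := by group
      _ = 1 := by rw [h9, h10]; group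
  have hqc : q = c := by rw [hq, h11, one_mul]
  have hcc : c * c = 1 := by
    rw [hqc] at hq4
    have := no_four e (x := ⟨c, hc⟩) (Subtype.ext hq4)
    exact congrArg Subtype.val this
  intro x
  rw [h, h, hqc]
  calc c * (c * x * c⁻¹) * c⁻¹ = (c * c) * x * (c * c)⁻¹ := by group
    _ = x := by rw [hcc]; group

theorem eight (A : Ax E) (d : L) (hd : d ≠ 1) (hd5 : d ^ 5 = 1) (V : Subgroup (MulAut L))
    (hV : ∀ α ∈ V, α * α = 1) (hVd : ∀ α ∈ V, α d = d) : Nat.card V ≤ 4 := by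
  obtain ⟨B, hB⟩ := exists_FC A hd hd5
  obtain ⟨e⟩ := hB.iso
  have hcB : Nat.card B = 60 := by
    rw [Nat.card_congr e.toEquiv, nat_card_alternatingGroup, Nat.card_eq_fintype_card, Fintype.card_fin]
    rfl
  have hfB : Finite B := Nat.finite_of_card_ne_zero (by rw [hcB]; norm_num)
  have key : ∀ α ∈ V, ∃ c ∈ B, ∀ x, α x = c * x * c⁻¹ := by
    intro α hα
    obtain ⟨i, c, hc, h⟩ := hB.aut α (hVd α hα)
    have hcd : Commute (d ^ i) c := (show Commute d c from (hB.comm c hc).symm).pow_left i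
    have h2 : ∀ x, α (α x) = x := fun x => by
      have := hV α hα
      exact congrArg (fun γ : MulAut L => γ x) this
    have hq : (d ^ i * c) * (d ^ i * c) = 1 := by
      apply uniq A (b := 1) _
      intro x
      have h1 := h2 x
      rw [h x, h] at h1
      calc (d ^ i * c) * (d ^ i * c) * x * ((d ^ i * c) * (d ^ i * c))⁻¹
          = (d ^ i * c) * ((d ^ i * c) * x * (d ^ i * c)⁻¹) * (d ^ i * c)⁻¹ := by group
        _ = x := h1
        _ = 1 * x * 1⁻¹ := by group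
    have h5 : d ^ (i * 2) * c ^ 2 = 1 := by
      rw [pow_mul, ← hcd.mul_pow, sq]; exact hq
    have h6 : c ^ 2 = 1 := by
      have h7 : c ^ 2 = d ^ (i * 2 * 4) := by
        have h8 : c ^ 2 = (d ^ (i * 2))⁻¹ := (inv_eq_of_mul_eq_one_right h5).symm
        rw [h8, pow_mul d (i * 2) 4]
        apply inv_eq_of_mul_eq_one_right
        have h9 : (d ^ (i * 2)) ^ 5 = 1 := by rw [← pow_mul, mul_comm, pow_mul, hd5, one_pow]
        rw [← h9]
        group
      exact hB.inter (B.pow_mem hc 2) h7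
    have h10 : d ^ (i * 2) = 1 := by rw [h6, mul_one] at h5; exact h5
    have h11 : d ^ i = 1 := by
      have h9 : (d ^ i) ^ 5 = 1 := by rw [← pow_mul, mul_comm, pow_mul, hd5, one_pow]
      exact eq_one_of_sq h9 (by rw [← sq, ← pow_mul]; exact h10)
    refine ⟨c, hc, fun x => ?_⟩
    rw [h x, h11, one_mul]
  set W : Subgroup B := V.comap (MulAut.conj.comp B.subtype) with hW
  have hWmem : ∀ x : B, x ∈ W ↔ MulAut.conj (x : L) ∈ V := fun x => Iff.rfl
  have hW2 : ∀ x ∈ W, x * x = 1 := by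
    intro x hx
    have h1 := hV _ ((hWmem x).1 hx)
    apply Subtype.ext
    apply uniq A (b := 1) _
    intro y
    have h2 := congrArg (fun γ : MulAut L => γ y) h1
    have h3 : (x : L) * (x * y * (x : L)⁻¹) * (x : L)⁻¹ = y := h2
    show (x : L) * x * y * ((x : L) * x)⁻¹ = 1 * y * 1⁻¹
    calc (x : L) * x * y * ((x : L) * x)⁻¹ = (x : L) * (x * y * (x : L)⁻¹) * (x : L)⁻¹ := by group
      _ = y := h3
      _ = _ := by group
  have h2 : Fact (Nat.Prime 2) := ⟨Nat.prime_two⟩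
  have hWp : IsPGroup 2 W := fun x => ⟨1, by rw [pow_one, sq]; exact Subtype.ext (hW2 x x.2)⟩
  obtain ⟨n, hn⟩ := hWp.exists_card_eq
  have hdvd : Nat.card W ∣ 60 := hcB ▸ Subgroup.card_subgroup_dvd_card W
  have hn2 : n ≤ 2 := by
    by_contra h
    have h8 : 2 ^ 3 ∣ 60 := (pow_dvd_pow 2 (by omega : 3 ≤ n)).trans (hn ▸ hdvd)
    exact absurd h8 (by norm_num)
  have hW4 : Nat.card W ≤ 4 := by
    rw [hn]
    calc 2 ^ n ≤ 2 ^ 2 := Nat.pow_le_pow_right (by norm_num) hn2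
      _ = 4 := by norm_num
  choose f hfB hf using key
  let Φ : V → W := fun α => ⟨⟨f α α.2, hfB α α.2⟩, (hWmem _).2 (by
    have : MulAut.conj (f α α.2) = (α : MulAut L) := MulEquiv.ext fun x => (hf α α.2 x).symm
    rw [this]; exact α.2)⟩
  have hΦ : Function.Injective Φ := by
    intro α β h
    have h1 : f α α.2 = f β β.2 := congrArg (fun x : W => ((x : B) : L)) h
    apply Subtype.ext
    apply MulEquiv.ext
    intro x
    rw [hf α α.2, hf β β.2, h1]
  exact (Nat.card_le_card_of_injective Φ hΦ).trans hW4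

/-- assembly of `RedFacts` -/
theorem redFacts [IsSimpleGroup L] (A : Ax E) {D : Iface.Data L} (F : Iface.Facts D) (hA : D.A = ⊤) {g : L}
    (hg : ∀ z ∈ D.Z, g * z * g⁻¹ ∈ E.Al)
    (five : ∀ y : L, y ≠ 1 → y * y = 1 → ∃ d : L, d ≠ 1 ∧ d ^ 5 = 1 ∧ d * y = y * d)
    (sixteen : ∀ y : L, y ≠ 1 → y * y = 1 → ∃ V : Subgroup L, Nat.card V = 16 ∧ (∀ v ∈ V, v * v = 1) ∧
      ∀ v ∈ V, v * y = y * v)
    (cls : ∀ y : L, y ≠ 1 → y * y = 1 → (∃ a : L, a * y * a⁻¹ ∈ D.Z) ∨
      Nat.card (centralizer ({y} : Set L)) < 61440)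
    (centz : ∀ z ∈ D.Z, z ≠ 1 → ∀ a : L, a * z = z * a → a ∈ D.P)
    (pure : ∀ K : Subgroup L, (∀ x ∈ D.P, ∀ p ∈ D.P, ∀ q ∈ D.P, x * x = 1 →
      x * (p * x * p⁻¹) = p * x * p⁻¹ * x → x * (p * x * p⁻¹) = q * x * q⁻¹ → x ∈ K) → D.P ≤ K) :
    RedFacts D where
  simple := fun N hN => hN.eq_bot_or_eq_top
  out := out A
  autZ := autZ A F.card_Z F.sq_Z hg
  five := five
  four := four A
  eight := eight A
  sixteen := sixteen
  outer := OuterInv.outer F hA (autZ A F.card_Z F.sq_Z hg)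
  cls := cls
  centz := centz
  pure := pure

end Cfsg.Agent.GTwoFour.RedAut
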