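import Cfsg.Agent.GTwoFour.MdlPure
import Cfsg.Agent.GTwoFour.RedAut
import Cfsg.Agent.StdG24.Ax6
import Cfsg.Agent.StdG24.Iso6
import Cfsg.Agent.S1055

/-!
# The instance of `RedFacts` for the six-dimensional `G₂(4)`
-/

set_option autoImplicit false
set_option linter.unusedVariables false

namespace Cfsg.Agent.GTwoFour.Mdl

open Cfsg.Agent.SporRec.GF4
open Cfsg.Agent.StdG24.Mod6
open Cfsg.Agent.StdG24.Ax6
open Cfsg.Agent.StdG24.Inv6 (lz lv vE zE)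
open Subgroup
open scoped commutatorElement

/-- the data over the group `L` as a type -/
def DL : Iface.Data L := D.res facts

theorem factsL : Iface.Facts DL := facts.res

theorem simple_L : IsSimpleGroup L := by
  obtain ⟨e⟩ := Cfsg.Agent.StdG24.Iso6.equiv_chev F4 F4.card_F4
  have := (Cfsg.Agent.S1055.result (F := F4) ⟨F4.w, by decide, by decide⟩).1
  exact e.isSimpleGroup

theorem conj_cases (y : L) (h1 : y ≠ 1) (h2 : y * y = 1) :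
    (∃ g : L, g * y * g⁻¹ = lz) ∨ ∃ g : L, g * y * g⁻¹ = lv := by
  rcases Cfsg.Agent.StdG24.Cls6.conj_z_or_v y.2 (congrArg Subtype.val h2)
    (fun h => h1 (Subtype.ext h)) with ⟨g, hg, e⟩ | ⟨g, hg, e⟩
  · exact Or.inl ⟨⟨g, hg⟩, Subtype.ext e⟩
  · exact Or.inr ⟨⟨g, hg⟩, Subtype.ext e⟩

theorem comm_conj {G : Type*} [Group G] {g y a d : G} (h : g * y * g⁻¹ = a) (hd : d * a = a * d) :
    (g⁻¹ * d * g) * y = y * (g⁻¹ * d * g) := by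
  have e : y = g⁻¹ * a * g := by rw [← h]; group
  rw [e]
  have e1 : g⁻¹ * d * g * (g⁻¹ * a * g) = g⁻¹ * (d * a) * g := by group
  have e2 : g⁻¹ * a * g * (g⁻¹ * d * g) = g⁻¹ * (a * d) * g := by group
  rw [e1, e2, hd]

theorem five : ∀ y : L, y ≠ 1 → y * y = 1 → ∃ d : L, d ≠ 1 ∧ d ^ 5 = 1 ∧ d * y = y * d := by
  intro y h1 h2
  have key : ∀ (g u a : L), u ≠ 1 → u ^ 5 = 1 → g * y * g⁻¹ = a → u * a = a * u →
      ∃ d : L, d ≠ 1 ∧ d ^ 5 = 1 ∧ d * y = y * d := by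
    intro g u a hu hu5 hg hc
    refine ⟨g⁻¹ * u * g, ?_, ?_, comm_conj hg hc⟩
    · intro h
      apply hu
      have e : u = g * (g⁻¹ * u * g) * g⁻¹ := by group
      rw [e, h]; group
    · have e : g⁻¹ * u * g = g⁻¹ * u * (g⁻¹)⁻¹ := by rw [inv_inv]
      rw [e, conj_pow, hu5]; group
  rcases conj_cases y h1 h2 with ⟨g, hg⟩ | ⟨g, hg⟩
  · exact key g lu lz lu1 lu5 hg (l_comm lu_mem lz_mem)
  · exact key g lw lv lw1 lw5 hg (l_comm lv_mem lw_mem).symm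

/-- an involution is conjugate to an element commuting with `W4` -/
theorem exists_comm_W4 (y : L) (h1 : y ≠ 1) (h2 : y * y = 1) :
    ∃ g : L, ∀ w ∈ W4, w * ((g * y * g⁻¹ : L) : GL6) = ((g * y * g⁻¹ : L) : GL6) * w := by
  rcases conj_cases y h1 h2 with ⟨g, hg⟩ | ⟨g, hg⟩
  · refine ⟨⟨ns, S_le_L ns_mem_S⟩ * g, fun w hw => ?_⟩
    have e : ((⟨ns, S_le_L ns_mem_S⟩ : L) * g) * y * ((⟨ns, S_le_L ns_mem_S⟩ : L) * g)⁻¹ =
        (⟨ns, S_le_L ns_mem_S⟩ : L) * lz * (⟨ns, S_le_L ns_mem_S⟩ : L)⁻¹ := by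
      rw [← hg]; group
    rw [e]
    have h3 : ns * gx 6 0 * ns⁻¹ ∈ X 10 := ns_X 6 10 (by decide +kernel) _ (gx_mem_X 6 0)
    exact W4_comm_X (r := 10) (by simp) w hw _ h3
  · refine ⟨g, fun w hw => ?_⟩
    rw [hg]
    exact W4_comm_X (r := 9) (by simp) w hw _ (gx_mem_X 9 0)

theorem sixteen : ∀ y : L, y ≠ 1 → y * y = 1 → ∃ V : Subgroup L, Nat.card V = 16 ∧
    (∀ v ∈ V, v * v = 1) ∧ ∀ v ∈ V, v * y = y * v := by
  intro y h1 h2
  obtain ⟨g, hg⟩ := exists_comm_W4 y h1 h2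
  have hsq : ∀ w ∈ W4, w * w = 1 := by
    rintro _ ⟨a, ha, b, hb, rfl⟩
    have hc : b * a = a * b := comm_of_cmX (by decide +kernel) b hb a ha
    have e : a * b * (a * b) = (a * a) * (b * b) := by
      rw [mul_assoc, ← mul_assoc b, hc, mul_assoc, ← mul_assoc a]
    rw [e, X_sq ha, X_sq hb, one_mul]
  refine ⟨(W4.subgroupOf L).map (MulAut.conj g⁻¹).toMonoidHom, ?_, ?_, ?_⟩
  · rw [← Nat.card_congr (Subgroup.equivMapOfInjective (W4.subgroupOf L) _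
      (MulAut.conj g⁻¹).injective).toEquiv, Nat.card_congr (Subgroup.subgroupOfEquivOfLe W4_le_L).toEquiv,
      card_W4]
  · rintro _ ⟨w, hw, rfl⟩
    rw [← map_mul]
    have e : w * w = 1 := Subtype.ext (hsq _ hw)
    rw [e, map_one]
  · rintro _ ⟨w, hw, rfl⟩
    have e1 : w * (g * y * g⁻¹) = (g * y * g⁻¹) * w := Subtype.ext (hg _ hw)
    have e2 := comm_conj rfl e1
    have e3 : (MulAut.conj g⁻¹).toMonoidHom w = g⁻¹ * w * g := by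
      simp
    rw [e3]
    exact e2

theorem not_comm_79 : cm (xc 7 0) (xc 9 0) = false := by decide +kernel

theorem card_cent_v : Nat.card (centralizer ({lv} : Set L)) < 61440 := by
  have hmem : ∀ x : centralizer ({lv} : Set L), ((x : L) : GL6) ∈ Cfsg.Agent.StdG24.Ord6.S1 := by
    rintro ⟨x, hx⟩
    have h1 : lv * x = x * lv := mem_centralizer_iff.1 hx lv rfl
    have h2 : (x : GL6) ∈ Cfsg.Agent.StdG24.Inv6.Cv := ⟨x.2, (congrArg Subtype.val h1).symm⟩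
    exact ⟨x.2, Cfsg.Agent.StdG24.Inv6.Cv_e0 h2⟩
  let Φ : centralizer ({lv} : Set L) → Cfsg.Agent.StdG24.Ord6.S1 := fun x => ⟨((x : L) : GL6), hmem x⟩
  have hΦ : Function.Injective Φ := fun x y h =>
    Subtype.ext (Subtype.ext (congrArg (fun z : Cfsg.Agent.StdG24.Ord6.S1 => (z : GL6)) h))
  rw [← Cfsg.Agent.StdG24.Ord6.card_S1]
  refine lt_of_le_of_ne (Nat.card_le_card_of_injective Φ hΦ) fun he => ?_
  have hb : Function.Bijective Φ := by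
    haveI : Finite (centralizer ({lv} : Set L)) := Finite.of_injective Φ hΦ
    exact (Nat.bijective_iff_injective_and_card Φ).2 ⟨hΦ, he⟩
  have h7 : gx 7 0 ∈ Cfsg.Agent.StdG24.Ord6.S1 :=
    ⟨gx_mem 7 0, act_dec_of (Cd_gx 7 0) (by norm_num) (by norm_num) (by decide +kernel)⟩
  obtain ⟨⟨x, hx⟩, hxe⟩ := hb.2 ⟨gx 7 0, h7⟩
  have h1 : (x : GL6) = gx 7 0 := congrArg (fun z : Cfsg.Agent.StdG24.Ord6.S1 => (z : GL6)) hxe
  have h2 : lv * x = x * lv := mem_centralizer_iff.1 hx lv rfl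
  have h3 : gx 9 0 * gx 7 0 = gx 7 0 * gx 9 0 := by
    rw [← h1]; exact congrArg Subtype.val h2
  have h4 := (cm_iff (Cd_gx 7 0) (Cd_gx 9 0)).2 h3.symm
  rw [not_comm_79] at h4
  exact absurd h4 (by decide)

theorem card_centralizer_conj {G : Type*} [Group G] (g y : G) :
    Nat.card (centralizer ({y} : Set G)) = Nat.card (centralizer ({g * y * g⁻¹} : Set G)) := by
  refine Nat.card_congr ((MulAut.conj g).toEquiv.subtypeEquiv fun x => ?_)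
  have e : (MulAut.conj g).toEquiv x = g * x * g⁻¹ := rfl
  rw [e]
  simp only [mem_centralizer_iff, Set.mem_singleton_iff, forall_eq]
  constructor
  · intro h
    have e1 : g * y * g⁻¹ * (g * x * g⁻¹) = g * (y * x) * g⁻¹ := by group
    have e2 : g * x * g⁻¹ * (g * y * g⁻¹) = g * (x * y) * g⁻¹ := by group
    rw [e1, e2, h]
  · intro h
    have e1 : g * y * g⁻¹ * (g * x * g⁻¹) = g * (y * x) * g⁻¹ := by group
    have e2 : g * x * g⁻¹ * (g * y * g⁻¹) = g * (x * y) * g⁻¹ := by group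
    rw [e1, e2] at h
    exact mul_left_cancel (mul_right_cancel h)

theorem cls : ∀ y : L, y ≠ 1 → y * y = 1 → (∃ a : L, a * y * a⁻¹ ∈ DL.Z) ∨
    Nat.card (centralizer ({y} : Set L)) < 61440 := by
  intro y h1 h2
  rcases conj_cases y h1 h2 with ⟨g, hg⟩ | ⟨g, hg⟩
  · left
    refine ⟨⟨nl, nl_mem_L⟩ * (⟨ns, S_le_L ns_mem_S⟩ * g), ?_⟩
    have e : ((⟨nl, nl_mem_L⟩ : L) * ((⟨ns, S_le_L ns_mem_S⟩ : L) * g)) * y *
        ((⟨nl, nl_mem_L⟩ : L) * ((⟨ns, S_le_L ns_mem_S⟩ : L) * g))⁻¹ =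
        (⟨nl, nl_mem_L⟩ : L) * ((⟨ns, S_le_L ns_mem_S⟩ : L) * lz * (⟨ns, S_le_L ns_mem_S⟩ : L)⁻¹) *
          (⟨nl, nl_mem_L⟩ : L)⁻¹ := by
      rw [← hg]; group
    rw [e]
    exact nl_X 10 11 (by decide +kernel) _ (ns_X 6 10 (by decide +kernel) _ (gx_mem_X 6 0))
  · right
    rw [card_centralizer_conj g y, hg]
    exact card_cent_v

theorem h_norm_P : ∀ p ∈ P, Mdl.h * p * Mdl.h⁻¹ ∈ P := by
  rintro _ ⟨s, hs, q, hq, rfl⟩
  have e : Mdl.h * (s * q) * Mdl.h⁻¹ = s * (Mdl.h * q * Mdl.h⁻¹) := by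
    rw [← mul_assoc, h_comm_S s hs]; group
  rw [e]
  exact P.mul_mem (S_le_P hs) (Q1_le_P (h_norm_Q1 q hq))

theorem h_11 : Mdl.h * gx 11 1 * Mdl.h⁻¹ = gx 11 0 ∧ Mdl.h * gx 11 2 * Mdl.h⁻¹ = gx 11 1 := by
  have h1 : ∀ t, Mdl.h * gx 11 t * Mdl.h⁻¹ = ev (hw ++ (11, t) :: hw.reverse) := by
    intro t
    rw [Mdl.h, ← ev_reverse, mul_assoc, ← ev_singleton (11, t), ← ev_append, ← ev_append]
    rfl
  rw [h1, h1, ← ev_singleton (11, 0), ← ev_singleton (11, 1)]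
  exact ⟨ev_eq_of (by decide +kernel), ev_eq_of (by decide +kernel)⟩

theorem h_norm_P' : ∀ {p : GL6}, Mdl.h * p * Mdl.h⁻¹ ∈ P → p ∈ P := by
  intro p hp
  have h1 := h_norm_P _ (h_norm_P _ hp)
  have e : Mdl.h * (Mdl.h * (Mdl.h * p * Mdl.h⁻¹) * Mdl.h⁻¹) * Mdl.h⁻¹ = Mdl.h ^ 3 * p * (Mdl.h ^ 3)⁻¹ := by
    simp only [pow_succ, pow_zero, one_mul, mul_inv_rev, mul_assoc]
  rw [e, h_pow, one_mul, inv_one, mul_one] at h1
  exact h1

theorem centz6 : ∀ z ∈ X 11, z ≠ 1 → ∀ a ∈ L, a * z = z * a → a ∈ P := by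
  have hstep : ∀ (t t' : Fin 3), Mdl.h * gx 11 t * Mdl.h⁻¹ = gx 11 t' →
      (∀ a ∈ L, a * gx 11 t' = gx 11 t' * a → a ∈ P) → ∀ a ∈ L, a * gx 11 t = gx 11 t * a → a ∈ P := by
    intro t t' e H a ha hc
    refine h_norm_P' (H _ (L.mul_mem (L.mul_mem h_mem_L ha) (L.inv_mem h_mem_L)) ?_)
    rw [← e]
    have e1 : Mdl.h * a * Mdl.h⁻¹ * (Mdl.h * gx 11 t * Mdl.h⁻¹) = Mdl.h * (a * gx 11 t) * Mdl.h⁻¹ := by group
    have e2 : Mdl.h * gx 11 t * Mdl.h⁻¹ * (Mdl.h * a * Mdl.h⁻¹) = Mdl.h * (gx 11 t * a) * Mdl.h⁻¹ := by group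
    rw [e1, e2, hc]
  have h0 : ∀ a ∈ L, a * gx 11 0 = gx 11 0 * a → a ∈ P := fun a ha hc => mem_P_of_comm ha hc
  have h1 := hstep 1 0 h_11.1 h0
  have h2 := hstep 2 1 h_11.2 h1
  intro z hz hz1
  rcases X_cases hz with rfl | ⟨t, rfl⟩
  · exact absurd rfl hz1
  match t with
  | 0 => exact h0
  | 1 => exact h1
  | 2 => exact h2

theorem centz : ∀ z ∈ DL.Z, z ≠ 1 → ∀ a : L, a * z = z * a → a ∈ DL.P := fun z hz hz1 a hc =>
  centz6 z hz (fun h => hz1 (Subtype.ext h)) a a.2 (congrArg Subtype.val hc)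

theorem Z_to_Al : ∀ z ∈ DL.Z, ((⟨ns, S_le_L ns_mem_S⟩ : L) * ⟨nl, nl_mem_L⟩) * z *
    ((⟨ns, S_le_L ns_mem_S⟩ : L) * ⟨nl, nl_mem_L⟩)⁻¹ ∈ El6.Al := by
  intro z hz
  have e : ((⟨ns, S_le_L ns_mem_S⟩ : L) * ⟨nl, nl_mem_L⟩) * z *
      ((⟨ns, S_le_L ns_mem_S⟩ : L) * ⟨nl, nl_mem_L⟩)⁻¹ = (⟨ns, S_le_L ns_mem_S⟩ : L) *
        ((⟨nl, nl_mem_L⟩ : L) * z * (⟨nl, nl_mem_L⟩ : L)⁻¹) * (⟨ns, S_le_L ns_mem_S⟩ : L)⁻¹ := by group
  rw [e]
  have h1 : ns * (nl * (z : GL6) * nl⁻¹) * ns⁻¹ ∈ X 6 :=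
    ns_X 10 6 (by decide +kernel) _ (nl_X 11 10 (by decide +kernel) _ hz)
  have h2 : X 6 ≤ Cfsg.Agent.StdG24.Al6.Al := by
    intro x hx
    rcases X_cases hx with rfl | ⟨t, rfl⟩
    · exact Subgroup.one_mem _
    · exact Cfsg.Agent.StdG24.Al6.gx6_mem t
  exact h2 h1

/-- **the instance of `RedFacts`** -/
theorem redFacts : RedFacts DL := by
  haveI := simple_L
  exact RedAut.redFacts ax6 factsL rfl Z_to_Al five sixteen cls centz pure_res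

end Cfsg.Agent.GTwoFour.Mdl
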