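import Cfsg.Agent.GTwoFour.TransferTL

set_option autoImplicit false

/-!
# The outer part of order four: extremal conjugates normalise `W`

`S/S₀ = ⟨t, c⟩` a four-group, `t` free on `S₀`, `W ≤ Z(S₀)` elementary abelian of order 16. By (TL) there is an
extremal conjugate `u` of `t` in `c S₀`; then `t` and `u` are conjugate in `N_G(W)`.
-/

namespace Cfsg.Agent.GTwoFour.OuterFour

open Cfsg.Agent.GTwoFour.TransferTL Subgroup

/-- The situation after the construction of `S₀`, in the case `S/S₀ = ⟨t̄, c̄⟩` of order 4, elementary. -/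
structure Outer {G : Type*} [Group G] (t c h : G) (S S0 W D : Subgroup G) : Prop where
  tt : t * t = 1
  pS : IsPGroup 2 S
  S0_le : S0 ≤ S
  t_mem : t ∈ S
  c_mem : c ∈ S
  S0_norm : ∀ s ∈ S, ∀ x ∈ S0, s * x * s⁻¹ ∈ S0
  cover : ∀ s ∈ S, s ∈ S0 ∨ t * s ∈ S0 ∨ c * s ∈ S0 ∨ t * c * s ∈ S0
  cc : c * c ∈ S0
  tctc : t * c * (t * c) ∈ S0
  W_le : W ≤ S0
  W_cent : ∀ w ∈ W, ∀ s ∈ S0, w * s = s * w
  W_norm : ∀ s ∈ S, ∀ w ∈ W, s * w * s⁻¹ ∈ W
  W_sq : ∀ w ∈ W, w * w = 1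
  W_card : Nat.card W = 16
  Z_card : Nat.card (W ⊓ Subgroup.centralizer {t} : Subgroup G) = 4
  c_Z : ∃ z ∈ W, z * t = t * z ∧ z * c ≠ c * z
  free : ∀ s ∈ S0, t * s * (t * s) = 1 → ∃ x ∈ S0, t * s = x * t * x⁻¹
  odd : Odd (S.relIndex (Subgroup.centralizer {t}))
  D_odd : Odd (Nat.card D)
  D_t : ∀ d ∈ D, d * t = t * d
  D_W : ∀ w ∈ W, ∀ d ∈ D, w * d * w⁻¹ ∈ D
  Z_sq : ∀ K : Subgroup G, (∀ y ∈ S, y * t = t * y → y * y ∈ K) → ∀ z ∈ W, z * t = t * z → z ∈ K
  recog : ∀ x, (∀ y ∈ S, y * t = t * y → x * (y * y) = y * y * x) → x * t * x⁻¹ * t⁻¹ ∈ W →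
    x * t * x⁻¹ * t⁻¹ * t = t * (x * t * x⁻¹ * t⁻¹) → ∃ d ∈ D, ∃ w ∈ W, x = d * w ∨ x = d * w * t
  h_W : ∀ w ∈ W, h * w * h⁻¹ ∈ W
  h_t : ∀ w ∈ W, h * (t * w * t⁻¹) * h⁻¹ = t * (h * w * h⁻¹) * t⁻¹
  h_c : ∀ w ∈ W, h * (c * (h * w * h⁻¹) * c⁻¹) * h⁻¹ = c * w * c⁻¹
  h_fpf : ∀ w ∈ W, w * (h * w * h⁻¹) * (h * (h * w * h⁻¹) * h⁻¹) = 1

variable {G : Type*} [Group G]

theorem card_mul_relIndex {H K : Subgroup G} (h : H ≤ K) :
    Nat.card H * H.relIndex K = Nat.card K := by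
  rw [← relIndex_bot_left H, ← relIndex_bot_left K]
  exact relIndex_mul_relIndex ⊥ H K bot_le h

/-- A p-subgroup of `C` is conjugate in `C` into a p-subgroup of index prime to p. -/
theorem exists_conj_le [Finite G] {p : ℕ} [Fact p.Prime] {C S X : Subgroup G}
    (hX : X ≤ C) (hSp : IsPGroup p S) (hXp : IsPGroup p X)
    (hidx : ¬ p ∣ S.relIndex C) : ∃ c ∈ C, ∀ x ∈ X, c * x * c⁻¹ ∈ S := by
  have hS' : IsPGroup p (S.subgroupOf C) := hSp.comap_of_injective C.subtype Subtype.val_injective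
  have hX' : IsPGroup p (X.subgroupOf C) := hXp.comap_of_injective C.subtype Subtype.val_injective
  obtain ⟨Q, hQ⟩ := hX'.exists_le_sylow
  obtain ⟨c, hc⟩ := MulAction.exists_smul_eq C Q (hS'.toSylow hidx)
  refine ⟨c, c.2, ?_⟩
  intro y hy
  have h1 : (⟨y, hX hy⟩ : C) ∈ (Q : Subgroup C) := hQ (Subgroup.mem_subgroupOf.2 hy)
  have h2 : c * ⟨y, hX hy⟩ * c⁻¹ ∈ ((c • Q : Sylow p C) : Subgroup C) := by
    have : c * ⟨y, hX hy⟩ * c⁻¹ = (MulAut.conj c) • (⟨y, hX hy⟩ : C) := rfl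
    rw [this]
    exact Subgroup.smul_mem_pointwise_smul _ _ _ h1
  rw [hc] at h2
  exact Subgroup.mem_subgroupOf.1 h2

/-- Normalising an extremal conjugate: `C_S(t)` is mapped onto `C_S(u)`. -/
theorem exists_conj_extremal [Finite G] {S : Subgroup G} (hS : IsPGroup 2 S) {t g : G}
    (hodd : Odd (S.relIndex (centralizer {t})))
    (hodd' : Odd (S.relIndex (centralizer {g⁻¹ * t * g}))) :
    ∃ g' : G, g'⁻¹ * t * g' = g⁻¹ * t * g ∧
      ∀ y, y * t = t * y → (y ∈ S ↔ g'⁻¹ * y * g' ∈ S) := by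
  have hfact : Fact (Nat.Prime 2) := ⟨Nat.prime_two⟩
  set u := g⁻¹ * t * g with hu
  set T := S ⊓ centralizer {t} with hT
  set Tu := S ⊓ centralizer {u} with hTu
  have hTp : IsPGroup 2 T := hS.to_le inf_le_left
  have hTup : IsPGroup 2 Tu := hS.to_le inf_le_left
  have hcomm : ∀ (k y : G), k⁻¹ * t * k = u → (y * t = t * y ↔ k⁻¹ * y * k * u = u * (k⁻¹ * y * k)) := by
    intro k y hk
    rw [← hk]
    constructor
    · intro h
      calc k⁻¹ * y * k * (k⁻¹ * t * k) = k⁻¹ * (y * t) * k := by group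
        _ = k⁻¹ * (t * y) * k := by rw [h]
        _ = k⁻¹ * t * k * (k⁻¹ * y * k) := by group
    · intro h
      calc y * t = k * (k⁻¹ * y * k * (k⁻¹ * t * k)) * k⁻¹ := by group
        _ = k * (k⁻¹ * t * k * (k⁻¹ * y * k)) * k⁻¹ := by rw [h]
        _ = t * y := by group
  set X := T.map (MulAut.conj g⁻¹).toMonoidHom with hX
  have hXle : X ≤ centralizer {u} := by
    rintro _ ⟨y, hy, rfl⟩
    rw [mem_centralizer_singleton_iff]
    have h1 : g⁻¹ * y * g⁻¹⁻¹ = g⁻¹ * y * g := by rw [inv_inv]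
    show g⁻¹ * y * g⁻¹⁻¹ * u = u * (g⁻¹ * y * g⁻¹⁻¹)
    rw [h1]
    exact (hcomm g y rfl).1 (mem_centralizer_singleton_iff.1 hy.2)
  have hidx : ¬ 2 ∣ Tu.relIndex (centralizer {u}) := by
    rw [hTu, inf_relIndex_right]
    exact fun h => (Nat.not_even_iff_odd.2 hodd') (even_iff_two_dvd.2 h)
  obtain ⟨k, hk, hkX⟩ := exists_conj_le hXle hTup (hTp.map _) hidx
  rw [mem_centralizer_singleton_iff] at hk
  have hg' : (g * k⁻¹)⁻¹ * t * (g * k⁻¹) = u := by
    calc (g * k⁻¹)⁻¹ * t * (g * k⁻¹) = k * (g⁻¹ * t * g) * k⁻¹ := by group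
      _ = u * k * k⁻¹ := by rw [← hu, hk]
      _ = u := by group
  refine ⟨g * k⁻¹, hg', ?_⟩
  -- the map `T → Tu`
  have hmap : ∀ y ∈ T, (g * k⁻¹)⁻¹ * y * (g * k⁻¹) ∈ Tu := by
    intro y hy
    have h1 := hkX _ (mem_map_of_mem (MulAut.conj g⁻¹).toMonoidHom hy)
    have h2 : k * ((MulAut.conj g⁻¹).toMonoidHom y) * k⁻¹ = (g * k⁻¹)⁻¹ * y * (g * k⁻¹) := by
      show k * (g⁻¹ * y * g⁻¹⁻¹) * k⁻¹ = _
      group
    rwa [h2] at h1
  have hle : T.map (MulAut.conj (g * k⁻¹)⁻¹).toMonoidHom ≤ Tu := by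
    rintro _ ⟨y, hy, rfl⟩
    have h1 := hmap y hy
    show (g * k⁻¹)⁻¹ * y * (g * k⁻¹)⁻¹⁻¹ ∈ Tu
    rwa [inv_inv]
  have hcT : Nat.card (T.map (MulAut.conj (g * k⁻¹)⁻¹).toMonoidHom) = Nat.card T :=
    Nat.card_congr (T.equivMapOfInjective _ (MulAut.conj (g * k⁻¹)⁻¹).injective).toEquiv.symm
  have hcC : Nat.card (centralizer {t} : Subgroup G) = Nat.card (centralizer {u} : Subgroup G) := by
    have h1 : (centralizer {t} : Subgroup G).map (MulAut.conj g⁻¹).toMonoidHom = centralizer {u} := by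
      ext x
      rw [Subgroup.mem_map_equiv, mem_centralizer_singleton_iff, mem_centralizer_singleton_iff]
      have h2 : (MulAut.conj g⁻¹).symm x = g * x * g⁻¹ := by
        rw [MulAut.conj_symm_apply, inv_inv]
      rw [h2, hcomm g _ rfl]
      have h3 : g⁻¹ * (g * x * g⁻¹) * g = x := by group
      rw [h3]
    rw [← h1]
    exact Nat.card_congr ((centralizer {t} : Subgroup G).equivMapOfInjective _
      (MulAut.conj g⁻¹).injective).toEquiv
  have hcle : Nat.card Tu ≤ Nat.card T := by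
    have h1 : Nat.card T * T.relIndex (centralizer {t}) = Nat.card (centralizer {t} : Subgroup G) :=
      card_mul_relIndex inf_le_right
    have h2 : Nat.card Tu * Tu.relIndex (centralizer {u}) = Nat.card (centralizer {u} : Subgroup G) :=
      card_mul_relIndex inf_le_right
    rw [hT, inf_relIndex_right, ← hT] at h1
    obtain ⟨n, hn⟩ := hTup.exists_card_eq
    have h3 : Nat.card Tu ∣ Nat.card T * S.relIndex (centralizer {t}) := by
      rw [h1, hcC, ← h2]
      exact dvd_mul_right _ _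
    have h4 : (Nat.card Tu).Coprime (S.relIndex (centralizer {t})) := by
      rw [hn]
      apply Nat.Coprime.pow_left
      rw [Nat.coprime_two_left]
      exact hodd
    exact Nat.le_of_dvd Nat.card_pos (h4.dvd_of_dvd_mul_right h3)
  have heq := Subgroup.eq_of_le_of_card_ge hle (by rw [hcT]; exact hcle)
  intro y hy
  constructor
  · intro hyS
    exact (hmap y ⟨hyS, mem_centralizer_singleton_iff.2 hy⟩).1
  · intro hyS
    have h1 : (g * k⁻¹)⁻¹ * y * (g * k⁻¹) ∈ Tu :=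
      ⟨hyS, mem_centralizer_singleton_iff.2 ((hcomm _ y hg').1 hy)⟩
    rw [← heq] at h1
    obtain ⟨y', hy', e⟩ := h1
    have h2 : (g * k⁻¹)⁻¹ * y' * (g * k⁻¹)⁻¹⁻¹ = (g * k⁻¹)⁻¹ * y * (g * k⁻¹) := e
    rw [inv_inv] at h2
    have h3 : y' = y := mul_left_cancel (mul_right_cancel h2)
    rw [← h3]; exact hy'.1

namespace Outer

variable {t c h : G} {S S0 W D : Subgroup G}

theorem t_inv (O : Outer t c h S S0 W D) : t⁻¹ = t := inv_eq_of_mul_eq_one_right O.tt

theorem tc_mem (O : Outer t c h S S0 W D) : t * c ∈ S := mul_mem O.t_mem O.c_mem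

/-- exchange `c` and `tc` -/
theorem symm (O : Outer t c h S S0 W D) : Outer t (t * c) h S S0 W D where
  tt := O.tt
  pS := O.pS
  S0_le := O.S0_le
  t_mem := O.t_mem
  c_mem := O.tc_mem
  S0_norm := O.S0_norm
  cover := by
    intro s hs
    have e : t * (t * c) * s = c * s := by rw [← mul_assoc, O.tt, one_mul]
    rw [e]
    rcases O.cover s hs with h | h | h | h
    · exact Or.inl h
    · exact Or.inr (Or.inl h)
    · exact Or.inr (Or.inr (Or.inr h))
    · exact Or.inr (Or.inr (Or.inl h))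
  cc := O.tctc
  tctc := by
    have e : t * (t * c) * (t * (t * c)) = c * c := by
      rw [← mul_assoc t t c, O.tt, one_mul]
    rw [e]; exact O.cc
  W_le := O.W_le
  W_cent := O.W_cent
  W_norm := O.W_norm
  W_sq := O.W_sq
  W_card := O.W_card
  Z_card := O.Z_card
  c_Z := by
    obtain ⟨z, hz, h1, h2⟩ := O.c_Z
    refine ⟨z, hz, h1, fun h3 => h2 ?_⟩
    have h4 : t * (z * c) = t * (c * z) := by
      calc t * (z * c) = t * z * c := by group
        _ = z * (t * c) := by rw [← h1]; group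
        _ = t * (c * z) := by rw [h3]; group
    exact mul_left_cancel h4
  free := O.free
  odd := O.odd
  D_odd := O.D_odd
  D_t := O.D_t
  D_W := O.D_W
  Z_sq := O.Z_sq
  recog := O.recog
  h_W := O.h_W
  h_t := O.h_t
  h_c := by
    intro w hw
    have h1 : c * (h * w * h⁻¹) * c⁻¹ ∈ W := O.W_norm c O.c_mem _ (O.h_W w hw)
    calc h * (t * c * (h * w * h⁻¹) * (t * c)⁻¹) * h⁻¹
        = h * (t * (c * (h * w * h⁻¹) * c⁻¹) * t⁻¹) * h⁻¹ := by group
      _ = t * (h * (c * (h * w * h⁻¹) * c⁻¹) * h⁻¹) * t⁻¹ := O.h_t _ h1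
      _ = t * (c * w * c⁻¹) * t⁻¹ := by rw [O.h_c w hw]
      _ = t * c * w * (t * c)⁻¹ := by group
  h_fpf := O.h_fpf

theorem t_notMem [Finite G] (O : Outer t c h S S0 W D) : t ∉ S0 := by
  intro ht
  have h1 : W ⊓ centralizer {t} = W := by
    apply inf_eq_left.2
    intro w hw
    rw [mem_centralizer_singleton_iff]
    exact O.W_cent w hw t ht
  have h2 := O.Z_card
  rw [h1, O.W_card] at h2
  norm_num at h2

theorem c_notMem (O : Outer t c h S S0 W D) : c ∉ S0 := by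
  intro hc
  obtain ⟨z, hz, _, h2⟩ := O.c_Z
  exact h2 (O.W_cent z hz c hc)

theorem D_S (O : Outer t c h S S0 W D) [Finite G] {x : G} (hx : x ∈ D) (hx' : x ∈ S) : x = 1 := by
  have h1 : orderOf x ∣ Nat.card D := by
    rw [← Subgroup.orderOf_mk x hx]; exact orderOf_dvd_natCard _
  obtain ⟨k, hk⟩ := O.pS ⟨x, hx'⟩
  have h2 : orderOf x ∣ 2 ^ k := by
    apply orderOf_dvd_of_pow_eq_one
    exact congrArg Subtype.val hk
  have h3 : (2 ^ k).Coprime (Nat.card D) := by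
    apply Nat.Coprime.pow_left
    rw [Nat.coprime_two_left]
    exact O.D_odd
  have h4 : orderOf x ∣ 1 := by
    rw [← h3]; exact Nat.dvd_gcd h2 h1
  exact orderOf_eq_one_iff.1 (Nat.dvd_one.1 h4)

/-- **Step A**: an extremal conjugate in the coset of `c`. -/
theorem exists_ext [Finite G] (O : Outer t c h S S0 W D) (hG : ∀ f : G →* ℤˣ, f t = 1) :
    ∃ g : G, g⁻¹ * t * g ∈ S ∧ c * (g⁻¹ * t * g) ∈ S0 ∧
      Odd (S.relIndex (centralizer {g⁻¹ * t * g})) := by
  have hN : (S0.subgroupOf S).Normal := by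
    refine ⟨fun x hx s => ?_⟩
    rw [mem_subgroupOf] at hx ⊢
    exact O.S0_norm s s.2 x hx
  set π : S →* S ⧸ (S0.subgroupOf S) := QuotientGroup.mk' _ with hπ
  have hπ1 : ∀ s : S, π s = 1 ↔ (s : G) ∈ S0 := by
    intro s
    rw [hπ, QuotientGroup.mk'_apply, QuotientGroup.eq_one_iff, mem_subgroupOf]
  set a := π ⟨t, O.t_mem⟩ with ha
  set b := π ⟨c, O.c_mem⟩ with hb
  have haa : a * a = 1 := by
    rw [ha, ← map_mul, hπ1]
    show t * t ∈ S0
    rw [O.tt]; exact one_mem _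
  have hbb : b * b = 1 := by
    rw [hb, ← map_mul, hπ1]
    exact O.cc
  have habab : a * b * (a * b) = 1 := by
    rw [ha, hb, ← map_mul, ← map_mul, hπ1]
    exact O.tctc
  have ia : a⁻¹ = a := inv_eq_of_mul_eq_one_right haa
  have ib : b⁻¹ = b := inv_eq_of_mul_eq_one_right hbb
  have iab : (a * b)⁻¹ = a * b := inv_eq_of_mul_eq_one_right habab
  have hab : a * b = b * a := by
    rw [← iab, mul_inv_rev, ia, ib]
  have ha1 : a ≠ 1 := by
    rw [Ne, ha, hπ1]; exact O.t_notMem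
  have hb1 : b ≠ 1 := by
    rw [Ne, hb, hπ1]; exact O.c_notMem
  have hcov : ∀ s : S, π s = 1 ∨ π s = a ∨ π s = b ∨ π s = a * b := by
    intro s
    rcases O.cover s s.2 with h | h | h | h
    · exact Or.inl ((hπ1 s).2 h)
    · right; left
      have : π (⟨t, O.t_mem⟩ * s) = 1 := (hπ1 _).2 h
      rw [map_mul, ← ha] at this
      rw [← ia]; exact (inv_eq_of_mul_eq_one_right this).symm
    · right; right; left
      have : π (⟨c, O.c_mem⟩ * s) = 1 := (hπ1 _).2 h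
      rw [map_mul, ← hb] at this
      rw [← ib]; exact (inv_eq_of_mul_eq_one_right this).symm
    · right; right; right
      have : π (⟨t, O.t_mem⟩ * ⟨c, O.c_mem⟩ * s) = 1 := (hπ1 _).2 h
      rw [map_mul, map_mul, ← ha, ← hb] at this
      rw [← iab]; exact (inv_eq_of_mul_eq_one_right this).symm
  -- the subgroup of index two
  let Q1 : Subgroup (S ⧸ (S0.subgroupOf S)) :=
    { carrier := {x | x = 1 ∨ x = a * b}
      one_mem' := Or.inl rfl
      mul_mem' := by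
        rintro x y (rfl | rfl) (rfl | rfl) <;> simp [habab]
      inv_mem' := by
        rintro x (rfl | rfl)
        · simp
        · right; exact iab }
  have hQ1 : ∀ s : S, s ∈ Q1.comap π ↔ π s = 1 ∨ π s = a * b := fun s => Iff.rfl
  have hane : a ≠ a * b := by
    intro h
    apply hb1
    have : a * 1 = a * b := by rw [mul_one]; exact h
    exact (mul_left_cancel this).symm
  have hbne : b ≠ a * b := by
    intro h
    apply ha1
    have : 1 * b = a * b := by rw [one_mul]; exact h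
    exact (mul_right_cancel this).symm
  have hidx : (Q1.comap π).index = 2 := by
    rw [index_eq_two_iff]
    refine ⟨⟨t, O.t_mem⟩, fun s => ?_⟩
    rw [hQ1, hQ1, map_mul, ← ha]
    rcases hcov s with h | h | h | h
    · right; rw [h, one_mul]
      exact ⟨Or.inl rfl, by rintro (h | h); exacts [ha1 h, hane h]⟩
    · left; rw [h]
      exact ⟨Or.inl haa, by rintro (h | h); exacts [ha1 h, hane h]⟩
    · left; rw [h]
      exact ⟨Or.inr hab.symm, by rintro (h | h); exacts [hb1 h, hbne h]⟩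
    · right; rw [h]
      refine ⟨Or.inr rfl, ?_⟩
      have e : a * b * a = b := by rw [hab, mul_assoc, haa, mul_one]
      rw [e]
      rintro (h | h); exacts [hb1 h, hbne h]
  obtain ⟨g, hg, h1, h2, h3⟩ := exists_extremal_index S (Q1.comap π) hidx t hG O.tt O.t_mem (by
    rw [hQ1]
    rintro (h | h); exacts [ha1 h, hane h]) O.odd
  refine ⟨g, hg, ?_, h2⟩
  rw [hQ1] at h1
  push Not at h1
  rcases hcov ⟨_, hg⟩ with h | h | h | h
  · exact absurd h h1.1
  · exfalso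
    have h4 : t * (g⁻¹ * t * g) ∈ S0 := by
      have : π (⟨t, O.t_mem⟩ * ⟨g⁻¹ * t * g, hg⟩) = 1 := by rw [map_mul, h, ← ha, haa]
      exact (hπ1 _).1 this
    obtain ⟨x, hx, e⟩ := O.free _ h4 (by
      have e1 : t * (t * (g⁻¹ * t * g)) = g⁻¹ * t * g := by rw [← mul_assoc, O.tt, one_mul]
      rw [e1]
      calc g⁻¹ * t * g * (g⁻¹ * t * g) = g⁻¹ * (t * t) * g := by group
        _ = 1 := by rw [O.tt]; group)
    have e1 : t * (t * (g⁻¹ * t * g)) = g⁻¹ * t * g := by rw [← mul_assoc, O.tt, one_mul]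
    rw [e1] at e
    apply h3 x⁻¹ (inv_mem (O.S0_le hx))
    rw [e]; group
  · have : π (⟨c, O.c_mem⟩ * ⟨g⁻¹ * t * g, hg⟩) = 1 := by rw [map_mul, h, ← hb, hbb]
    exact (hπ1 _).1 this
  · exact absurd h h1.2

/-- The fixed points of `t` on `W`. -/
theorem card_le_four [Finite G] (O : Outer t c h S S0 W D) {M : Subgroup G}
    (h1 : ∀ x ∈ M, x ∈ W ∧ x * t = t * x) : Nat.card M ≤ 4 := by
  rw [← O.Z_card]
  apply Subgroup.card_le_of_le
  intro x hx
  exact ⟨(h1 x hx).1, mem_centralizer_singleton_iff.2 (h1 x hx).2⟩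

/-- The group `D W ⟨t⟩`. -/
def E1 (O : Outer t c h S S0 W D) : Subgroup G where
  carrier := {x | ∃ d ∈ D, ∃ w ∈ W, x = d * w ∨ x = d * w * t}
  one_mem' := ⟨1, one_mem _, 1, one_mem _, Or.inl (by group)⟩
  mul_mem' := by
    have hDt : ∀ d ∈ D, t * d = d * t := fun d hd => (O.D_t d hd).symm
    have hWt : ∀ w ∈ W, ∃ w' ∈ W, t * w = w' * t := by
      intro w hw
      refine ⟨t * w * t⁻¹, O.W_norm t O.t_mem w hw, by group⟩
    have hWD : ∀ w ∈ W, ∀ d ∈ D, ∃ d' ∈ D, w * d = d' * w := by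
      intro w hw d hd
      refine ⟨w * d * w⁻¹, O.D_W w hw d hd, by group⟩
    rintro x y ⟨d, hd, w, hw, hx⟩ ⟨d', hd', w', hw', hy⟩
    obtain ⟨d2, hd2, e2⟩ := hWD w hw d' hd'
    obtain ⟨w2, hw2, e3⟩ := hWt w' hw'
    have h1 : d * w * (d' * w') = (d * d2) * (w * w') := by
      calc d * w * (d' * w') = d * (w * d') * w' := by group
        _ = d * (d2 * w) * w' := by rw [e2]
        _ = _ := by group
    have h2 : d * w * t * (d' * w') = (d * d2) * (w * w2) * t := by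
      calc d * w * t * (d' * w') = d * w * (t * d') * w' := by group
        _ = d * w * (d' * t) * w' := by rw [hDt d' hd']
        _ = d * (w * d') * (t * w') := by group
        _ = d * (d2 * w) * (w2 * t) := by rw [e2, e3]
        _ = _ := by group
    rcases hx with rfl | rfl <;> rcases hy with rfl | rfl
    · exact ⟨d * d2, mul_mem hd hd2, w * w', mul_mem hw hw', Or.inl h1⟩
    · exact ⟨d * d2, mul_mem hd hd2, w * w', mul_mem hw hw', Or.inr (by rw [← mul_assoc, h1])⟩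
    · exact ⟨d * d2, mul_mem hd hd2, w * w2, mul_mem hw hw2, Or.inr h2⟩
    · refine ⟨d * d2, mul_mem hd hd2, w * w2, mul_mem hw hw2, Or.inl ?_⟩
      rw [← mul_assoc, h2, mul_assoc _ t t, O.tt, mul_one]
  inv_mem' := by
    rintro x ⟨d, hd, w, hw, hx⟩
    have hDt : ∀ d ∈ D, t * d = d * t := fun d hd => (O.D_t d hd).symm
    rcases hx with rfl | rfl
    · refine ⟨w⁻¹ * d⁻¹ * w, ?_, w⁻¹, inv_mem hw, Or.inl (by group)⟩
      have := O.D_W w⁻¹ (inv_mem hw) d⁻¹ (inv_mem hd)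
      rwa [inv_inv] at this
    · refine ⟨t * (w⁻¹ * d⁻¹ * w) * t⁻¹, ?_, t * w⁻¹ * t⁻¹, O.W_norm t O.t_mem _ (inv_mem hw),
        Or.inr ?_⟩
      · have h1 : w⁻¹ * d⁻¹ * w ∈ D := by
          have := O.D_W w⁻¹ (inv_mem hw) d⁻¹ (inv_mem hd)
          rwa [inv_inv] at this
        rw [hDt _ h1]
        simpa using h1
      · rw [mul_inv_rev, mul_inv_rev, O.t_inv]
        calc t * (w⁻¹ * d⁻¹) = t * (w⁻¹ * d⁻¹ * w) * (t * t) * w⁻¹ * (t * t) := by
              rw [O.tt]; group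
          _ = _ := by group

/-- The 2-group `W ⟨t⟩`. -/
def P0 (O : Outer t c h S S0 W D) : Subgroup G := O.E1 ⊓ S

theorem mem_P0 [Finite G] (O : Outer t c h S S0 W D) {x : G} :
    x ∈ O.P0 ↔ ∃ w ∈ W, x = w ∨ x = w * t := by
  constructor
  · rintro ⟨⟨d, hd, w, hw, hx⟩, hxS⟩
    have hwS : w ∈ S := O.S0_le (O.W_le hw)
    have hd1 : d = 1 := by
      apply O.D_S hd
      rcases hx with rfl | rfl
      · have : d = d * w * w⁻¹ := by group
        rw [this]; exact mul_mem hxS (inv_mem hwS)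
      · have : d = d * w * t * t⁻¹ * w⁻¹ := by group
        rw [this]; exact mul_mem (mul_mem hxS (inv_mem O.t_mem)) (inv_mem hwS)
    rw [hd1, one_mul] at hx
    exact ⟨w, hw, hx⟩
  · rintro ⟨w, hw, hx⟩
    have hwS : w ∈ S := O.S0_le (O.W_le hw)
    refine ⟨⟨1, one_mem _, w, hw, by simpa using hx⟩, ?_⟩
    rcases hx with rfl | rfl
    · exact hwS
    · exact mul_mem hwS O.t_mem

theorem D_le_E1 (O : Outer t c h S S0 W D) : D ≤ O.E1 := by
  intro d hd
  exact ⟨d, hd, 1, one_mem _, Or.inl (by group)⟩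

theorem exists_mul_E1 [Finite G] (O : Outer t c h S S0 W D) {x : G} (hx : x ∈ O.E1) :
    ∃ d ∈ D, ∃ p ∈ O.P0, x = d * p := by
  obtain ⟨d, hd, w, hw, hx⟩ := hx
  rcases hx with rfl | rfl
  · exact ⟨d, hd, w, O.mem_P0.2 ⟨w, hw, Or.inl rfl⟩, rfl⟩
  · exact ⟨d, hd, w * t, O.mem_P0.2 ⟨w, hw, Or.inr rfl⟩, by group⟩

theorem P0_index [Finite G] (O : Outer t c h S S0 W D) : ¬ 2 ∣ O.P0.relIndex O.E1 := by
  have h1 : Nat.card O.E1 = Nat.card D * Nat.card O.P0 := by
    rw [← Nat.card_prod]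
    symm
    apply Nat.card_congr
    refine Equiv.ofBijective (fun x : D × O.P0 => (⟨x.1 * x.2, mul_mem (O.D_le_E1 x.1.2) x.2.2.1⟩ : O.E1))
      ⟨?_, ?_⟩
    · rintro ⟨d, p⟩ ⟨d', p'⟩ h
      have h1 : (d : G) * p = d' * p' := congrArg Subtype.val h
      have h2 : (d' : G)⁻¹ * d = p' * (p : G)⁻¹ := by
        calc (d' : G)⁻¹ * d = (d' : G)⁻¹ * (d * p) * (p : G)⁻¹ := by group
          _ = (d' : G)⁻¹ * (d' * p') * (p : G)⁻¹ := by rw [h1]
          _ = p' * (p : G)⁻¹ := by group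
      have h3 : (d' : G)⁻¹ * d = 1 := by
        apply O.D_S (mul_mem (inv_mem d'.2) d.2)
        rw [h2]
        exact mul_mem p'.2.2 (inv_mem p.2.2)
      have h4 : (d : G) = d' := (inv_mul_eq_one.1 h3).symm
      rw [h3] at h2
      have h5 : (p' : G) = p := (mul_inv_eq_one.1 h2.symm)
      exact Prod.ext (Subtype.ext h4) (Subtype.ext h5.symm)
    · rintro ⟨x, hx⟩
      obtain ⟨d, hd, p, hp, rfl⟩ := O.exists_mul_E1 hx
      exact ⟨(⟨d, hd⟩, ⟨p, hp⟩), rfl⟩
  have h2 := card_mul_relIndex (inf_le_left : O.P0 ≤ O.E1)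
  rw [h1, mul_comm] at h2
  have h3 : O.P0.relIndex O.E1 = Nat.card D := Nat.eq_of_mul_eq_mul_right Nat.card_pos h2
  rw [h3]
  exact fun h => (Nat.not_even_iff_odd.2 O.D_odd) (even_iff_two_dvd.2 h)

/-- **Steps B - F**: `t` and an element of `c S₀` are conjugate in `N_G(W)`. -/
theorem exists_norm [Finite G] (O : Outer t c h S S0 W D) (hG : ∀ f : G →* ℤˣ, f t = 1) :
    ∃ n : G, (∀ w ∈ W, n * w * n⁻¹ ∈ W) ∧ c * (n⁻¹ * t * n) ∈ S0 := by
  obtain ⟨g0, hg0, hg1, hg2⟩ := O.exists_ext hG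
  obtain ⟨g, hg, hgS⟩ := exists_conj_extremal O.pS O.odd hg2
  rw [← hg] at hg0 hg1
  clear hg2 hg
  clear g0
  set u := g⁻¹ * t * g with hu
  have huu : u * u = 1 := by
    rw [hu]
    calc g⁻¹ * t * g * (g⁻¹ * t * g) = g⁻¹ * (t * t) * g := by group
      _ = 1 := by rw [O.tt]; group
  have hui : u⁻¹ = u := inv_eq_of_mul_eq_one_right huu
  -- squares of elements of `S` lie in `S0`
  have hsq : ∀ s ∈ S, s * s ∈ S0 := by
    intro s hs
    have key : ∀ x ∈ S, x * x ∈ S0 → x * s ∈ S0 → s * s ∈ S0 := by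
      intro x hx h1 h2
      have h3 : s * s = (x⁻¹ * (x * s) * x) * (x * x)⁻¹ * (x * s) := by group
      rw [h3]
      refine mul_mem (mul_mem ?_ (inv_mem h1)) h2
      have := O.S0_norm x⁻¹ (inv_mem hx) _ h2
      rwa [inv_inv] at this
    rcases O.cover s hs with h | h | h | h
    · exact mul_mem h h
    · exact key t O.t_mem (by rw [O.tt]; exact one_mem _) h
    · exact key c O.c_mem O.cc h
    · exact key (t * c) O.tc_mem O.tctc h
  have hWS : ∀ w ∈ W, w ∈ S := fun w hw => O.S0_le (O.W_le hw)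
  have hWW : ∀ w ∈ W, ∀ w' ∈ W, w * w' = w' * w := fun w hw w' hw' => O.W_cent w hw w' (O.W_le hw')
  -- conjugates of `W` commute with the squares
  have hcs : ∀ w ∈ W, ∀ y ∈ S, y * t = t * y →
      (g * w * g⁻¹) * (y * y) = y * y * (g * w * g⁻¹) := by
    intro w hw y hy hyt
    have h1 : g⁻¹ * y * g ∈ S := (hgS y hyt).1 hy
    have h2 := O.W_cent w hw _ (hsq _ h1)
    calc (g * w * g⁻¹) * (y * y) = g * (w * (g⁻¹ * y * g * (g⁻¹ * y * g))) * g⁻¹ := by group
      _ = g * (g⁻¹ * y * g * (g⁻¹ * y * g) * w) * g⁻¹ := by rw [h2]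
      _ = _ := by group
  -- Step C
  have hB : ∀ b ∈ W, b * u = u * b → g * b * g⁻¹ ∈ W ∧ g * b * g⁻¹ * t = t * (g * b * g⁻¹) := by
    intro b hb hbu
    have ht1 : g * b * g⁻¹ * t = t * (g * b * g⁻¹) := by
      calc g * b * g⁻¹ * t = g * (b * (g⁻¹ * t * g)) * g⁻¹ := by group
        _ = g * ((g⁻¹ * t * g) * b) * g⁻¹ := by rw [← hu, hbu]
        _ = t * (g * b * g⁻¹) := by group
    have hxS : g * b * g⁻¹ ∈ S := by
      rw [hgS _ ht1]
      have : g⁻¹ * (g * b * g⁻¹) * g = b := by group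
      rw [this]; exact hWS b hb
    have hcm1 : g * b * g⁻¹ * t * (g * b * g⁻¹)⁻¹ * t⁻¹ = 1 := by
      rw [ht1]; group
    obtain ⟨d, hd, w, hw, hdw⟩ := O.recog (g * b * g⁻¹) (hcs b hb) (by rw [hcm1]; exact one_mem _)
      (by rw [hcm1]; group)
    have hd1 : d = 1 := by
      apply O.D_S hd
      rcases hdw with h1 | h1
      · have : d = g * b * g⁻¹ * w⁻¹ := by rw [h1]; group
        rw [this]; exact mul_mem hxS (inv_mem (hWS w hw))
      · have : d = g * b * g⁻¹ * t⁻¹ * w⁻¹ := by rw [h1]; group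
        rw [this]; exact mul_mem (mul_mem hxS (inv_mem O.t_mem)) (inv_mem (hWS w hw))
    rw [hd1, one_mul] at hdw
    rcases hdw with h1 | h1
    · rw [h1]
      exact ⟨hw, by rw [← h1]; exact ht1⟩
    · exfalso
      have hwt : w * t = t * w := by
        have h2 := ht1
        rw [h1] at h2
        calc w * t = w * t * t * t⁻¹ := by group
          _ = t * (w * t) * t⁻¹ := by rw [h2]
          _ = t * w := by group
      -- `g⁻¹ w g ∈ S0`
      have h3 := O.Z_sq (S0.comap (MulAut.conj g⁻¹).toMonoidHom) (by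
        intro y hy hyt
        rw [mem_comap]
        show g⁻¹ * (y * y) * g⁻¹⁻¹ ∈ S0
        have h4 := hsq _ ((hgS y hyt).1 hy)
        have h5 : g⁻¹ * (y * y) * g⁻¹⁻¹ = g⁻¹ * y * g * (g⁻¹ * y * g) := by group
        rw [h5]; exact h4) w hw hwt
      rw [mem_comap] at h3
      have h4 : g⁻¹ * w * g⁻¹⁻¹ ∈ S0 := h3
      rw [inv_inv] at h4
      have h5 : u = (g⁻¹ * w * g)⁻¹ * b := by
        have h6 : g * b * g⁻¹ = w * t := h1
        have h7 : b = g⁻¹ * (w * t) * g := by rw [← h6]; group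
        rw [h7, hu]; group
      have h6 : u ∈ S0 := by
        rw [h5]; exact mul_mem (inv_mem h4) (O.W_le hb)
      apply O.c_notMem
      have h7 : c = c * u * u⁻¹ := by group
      rw [h7]; exact mul_mem hg1 (inv_mem h6)
  -- Step D
  have hD : ∀ w ∈ W, g * w * g⁻¹ ∈ O.E1 := by
    intro w hw
    have hb : w * (u * w * u⁻¹) ∈ W := mul_mem hw (O.W_norm u hg0 w hw)
    have hbu : w * (u * w * u⁻¹) * u = u * (w * (u * w * u⁻¹)) := by
      calc w * (u * w * u⁻¹) * u = w * u * w := by group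
        _ = w * u⁻¹ * w := by rw [hui]
        _ = u * u * w * u⁻¹ * w := by rw [huu, one_mul]
        _ = u * ((u * w * u⁻¹) * w) := by group
        _ = u * (w * (u * w * u⁻¹)) := by rw [hWW w hw _ (O.W_norm u hg0 w hw)]
    obtain ⟨h1, h2⟩ := hB _ hb hbu
    have h3 : g * w * g⁻¹ * t * (g * w * g⁻¹)⁻¹ * t⁻¹ = g * (w * (u * w * u⁻¹)) * g⁻¹ := by
      have hwi : w⁻¹ = w := inv_eq_of_mul_eq_one_right (O.W_sq w hw)
      have e1 : (g * w * g⁻¹)⁻¹ = g * w * g⁻¹ := by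
        rw [mul_inv_rev, mul_inv_rev, inv_inv, hwi, mul_assoc]
      rw [e1, hu]; group
    obtain ⟨d, hd, w', hw', hx⟩ := O.recog (g * w * g⁻¹) (hcs w hw) (by rw [h3]; exact h1)
      (by rw [h3]; exact h2)
    exact ⟨d, hd, w', hw', hx⟩
  -- Step E
  have hfact : Fact (Nat.Prime 2) := ⟨Nat.prime_two⟩
  set M := W.map (MulAut.conj g).toMonoidHom with hM
  have hMle : M ≤ O.E1 := by
    rintro _ ⟨w, hw, rfl⟩
    exact hD w hw
  have hWp : IsPGroup 2 W := O.pS.to_le (O.W_le.trans O.S0_le)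
  obtain ⟨k, hk, hkM⟩ := exists_conj_le hMle (O.pS.to_le inf_le_right) (hWp.map _) O.P0_index
  obtain ⟨d, hd, p, hp, hkdp⟩ := O.exists_mul_E1 (inv_mem hk)
  have hdM : ∀ w ∈ W, d⁻¹ * (g * w * g⁻¹) * d ∈ O.P0 := by
    intro w hw
    have h1 := hkM (g * w * g⁻¹) (mem_map_of_mem (MulAut.conj g).toMonoidHom hw)
    have h2 : d⁻¹ * (g * w * g⁻¹) * d = p * (k * (g * w * g⁻¹) * k⁻¹) * p⁻¹ := by
      have e1 : k = p⁻¹ * d⁻¹ := by
        rw [← mul_inv_rev, ← hkdp, inv_inv]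
      rw [e1]; group
    rw [h2]
    exact mul_mem (mul_mem hp h1) (inv_mem hp)
  -- Step F
  set n := d⁻¹ * g with hn
  have hnM : ∀ w ∈ W, n * w * n⁻¹ ∈ O.P0 := by
    intro w hw
    have := hdM w hw
    have e : n * w * n⁻¹ = d⁻¹ * (g * w * g⁻¹) * d := by rw [hn]; group
    rw [e]; exact this
  have hnt : n⁻¹ * t * n = u := by
    rw [hn, hu]
    calc (d⁻¹ * g)⁻¹ * t * (d⁻¹ * g) = g⁻¹ * (d * t) * d⁻¹ * g := by group
      _ = g⁻¹ * (t * d) * d⁻¹ * g := by rw [O.D_t d hd]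
      _ = g⁻¹ * t * g := by group
  refine ⟨n, ?_, by rw [hnt]; exact hg1⟩
  by_contra hne
  push Not at hne
  obtain ⟨w0, hw0, hw0'⟩ := hne
  set N := W.map (MulAut.conj n).toMonoidHom with hN
  have hNc : Nat.card N = 16 := by
    rw [← O.W_card]
    exact Nat.card_congr (W.equivMapOfInjective _ (MulAut.conj n).injective).toEquiv.symm
  have hNP : ∀ x ∈ N, ∃ w ∈ W, x = w ∨ x = w * t := by
    rintro _ ⟨w, hw, rfl⟩
    exact O.mem_P0.1 (hnM w hw)
  have hNN : ∀ x ∈ N, ∀ y ∈ N, x * y = y * x := by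
    rintro _ ⟨w, hw, rfl⟩ _ ⟨w', hw', rfl⟩
    rw [← map_mul, ← map_mul, hWW w hw w' hw']
  set y := n * w0 * n⁻¹ with hy
  have hyN : y ∈ N := mem_map_of_mem (MulAut.conj n).toMonoidHom hw0
  obtain ⟨w1, hw1, hyw⟩ := hNP y hyN
  have hyw1 : y = w1 * t := by
    rcases hyw with h1 | h1
    · exact absurd (h1 ▸ hw1) hw0'
    · exact h1
  -- the elements of `N ∩ W` commute with `t`
  have hNW : ∀ x ∈ N ⊓ W, x ∈ W ∧ x * t = t * x := by
    rintro x ⟨hxN, hxW⟩
    refine ⟨hxW, ?_⟩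
    have h1 := hNN x hxN y hyN
    rw [hyw1] at h1
    have h2 : w1 * (x * t) = w1 * (t * x) := by
      calc w1 * (x * t) = w1 * x * t := by group
        _ = x * w1 * t := by rw [hWW w1 hw1 x hxW]
        _ = x * (w1 * t) := by group
        _ = w1 * t * x := h1
        _ = w1 * (t * x) := by group
    exact mul_left_cancel h2
  have h4 : Nat.card (N ⊓ W : Subgroup G) ≤ 4 := O.card_le_four hNW
  have h5 : W.relIndex N ≤ 2 := by
    rw [relIndex]
    by_cases htop : W.subgroupOf N = ⊤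
    · rw [htop, index_top]; norm_num
    · have : (W.subgroupOf N).index = 2 := by
        rw [index_eq_two_iff]
        refine ⟨⟨y, hyN⟩, ?_⟩
        rintro ⟨x, hx⟩
        rw [mem_subgroupOf, mem_subgroupOf]
        show Xor (x * y ∈ W) (x ∈ W)
        obtain ⟨w, hw, h1⟩ := hNP x hx
        by_cases hxW : x ∈ W
        · right
          refine ⟨hxW, fun h2 => ?_⟩
          apply hw0'
          have : y = x⁻¹ * (x * y) := by group
          show y ∈ W
          rw [this]; exact mul_mem (inv_mem hxW) h2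
        · left
          refine ⟨?_, hxW⟩
          rcases h1 with h1 | h1
          · exact absurd (h1 ▸ hw) hxW
          · rw [h1, hyw1]
            have : w * t * (w1 * t) = w * (t * w1 * t⁻¹) := by
              rw [O.t_inv]; group
            rw [this]
            exact mul_mem hw (O.W_norm t O.t_mem w1 hw1)
      rw [this]
  have h6 := card_mul_relIndex (inf_le_left : N ⊓ W ≤ N)
  rw [inf_relIndex_left, hNc] at h6
  have h7 : Nat.card (N ⊓ W : Subgroup G) * W.relIndex N ≤ 4 * 2 := Nat.mul_le_mul h4 h5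
  omega

end Outer

end Cfsg.Agent.GTwoFour.OuterFour
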