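import Mathlib

set_option autoImplicit false

/-!
# Automorphisms of an elementary abelian group of order 16

`W` is free of rank one over `𝔽₂[⟨τ, γ⟩]`, `⟨τ, γ⟩` a four-group; `η` of order three without fixed points
commutes with `τ` and is inverted by `γ`; `ρ` permutes `τ, γ, τγ` cyclically. Then `τ η ρ² η ρ⁴` has order 4.
(In `GL₄(2) = A₈` these generate `A₇`.)
-/

namespace Cfsg.Agent.GTwoFour.OuterMat

/-- the linear map with the images `a₀, a₁, a₂, a₃` of the basis vectors. -/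
def app (a : ℕ × ℕ × ℕ × ℕ) (v : ℕ) : ℕ :=
  (if v.testBit 0 then a.1 else 0) ^^^ (if v.testBit 1 then a.2.1 else 0) ^^^
    (if v.testBit 2 then a.2.2.1 else 0) ^^^ (if v.testBit 3 then a.2.2.2 else 0)

def T (v : ℕ) : ℕ := app (2, 1, 8, 4) v
def C (v : ℕ) : ℕ := app (4, 8, 1, 2) v

/-- the matrix of `η`, `η e = a` -/
def hm (a : ℕ) : ℕ × ℕ × ℕ × ℕ := (a, T a, C (a ^^^ 1), T (C (a ^^^ 1)))

/-- the matrix of `ρ`, `ρ e = v` -/
def rm (d : Bool) (v : ℕ) : ℕ × ℕ × ℕ × ℕ :=
  if d then (v, C v, T (C v), T v) else (v, T (C v), T v, C v)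

def Y (h r : ℕ × ℕ × ℕ × ℕ) (v : ℕ) : ℕ :=
  T (app h (app r (app r (app h (app r (app r (app r (app r v))))))))

def good (h r : ℕ × ℕ × ℕ × ℕ) : Bool :=
  (List.range 16).all (fun x => Nat.beq (Y h r (Y h r (Y h r (Y h r x)))) x) &&
    !((List.range 16).all (fun x => Nat.beq (Y h r (Y h r x)) x))

def test (d : Bool) (a v : ℕ) : Bool :=
  !(Nat.beq (app (hm a) a) (a ^^^ 1)) || Nat.beq (app (rm d v) 15) 0 || good (hm a) (rm d v)

theorem test_all : ((List.range 16).all fun a => (List.range 16).all fun v =>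
    test true a v && test false a v) = true := by
  decide +kernel

theorem test_eq {a v : ℕ} (ha : a < 16) (hv : v < 16) (d : Bool) : test d a v = true := by
  have h1 := List.all_eq_true.1 test_all a (List.mem_range.2 ha)
  have h2 := List.all_eq_true.1 h1 v (List.mem_range.2 hv)
  rw [Bool.and_eq_true] at h2
  cases d
  · exact h2.2
  · exact h2.1

theorem app_lt {a0 a1 a2 a3 : ℕ} (h0 : a0 < 16) (h1 : a1 < 16) (h2 : a2 < 16) (h3 : a3 < 16)
    (v : ℕ) : app (a0, a1, a2, a3) v < 16 := by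
  have e : (16 : ℕ) = 2 ^ 4 := by norm_num
  unfold app
  rw [e] at *
  refine Nat.xor_lt_two_pow (Nat.xor_lt_two_pow (Nat.xor_lt_two_pow ?_ ?_) ?_) ?_
  all_goals
    dsimp only
    split
    · assumption
    · norm_num

theorem T_lt (v : ℕ) : T v < 16 := app_lt (by norm_num) (by norm_num) (by norm_num) (by norm_num) v
theorem C_lt (v : ℕ) : C v < 16 := app_lt (by norm_num) (by norm_num) (by norm_num) (by norm_num) v

theorem socle : ∀ v < 16, v ≠ 0 → (v = 15 ∨ v ^^^ T v = 15 ∨ v ^^^ C v = 15 ∨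
    v ^^^ T v ^^^ C v ^^^ T (C v) = 15) := by decide +kernel

variable {W : Type*} [CommGroup W]

section

variable (τ γ : MulAut W) (e : W)

/-- coordinates -/
noncomputable def m (v : ℕ) : W :=
  (if v.testBit 0 then e else 1) * (if v.testBit 1 then τ e else 1) *
    (if v.testBit 2 then γ e else 1) * (if v.testBit 3 then τ (γ e) else 1)

variable {τ γ e}

theorem bit_mul {x : W} (hx : x * x = 1) (a b : Bool) :
    (if (a ^^ b) = true then x else 1) = (if a = true then x else 1) * (if b = true then x else 1) := by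
  cases a <;> cases b <;> simp [hx]

theorem m_xor (hsq : ∀ w : W, w * w = 1) (v w : ℕ) : m τ γ e (v ^^^ w) = m τ γ e v * m τ γ e w := by
  unfold m
  rw [Nat.testBit_xor, Nat.testBit_xor, Nat.testBit_xor, Nat.testBit_xor,
    bit_mul (hsq _), bit_mul (hsq _), bit_mul (hsq _), bit_mul (hsq _)]
  symm
  rw [mul_mul_mul_comm]
  congr 1
  rw [mul_mul_mul_comm]
  congr 1
  rw [mul_mul_mul_comm]

theorem m_zero : m τ γ e 0 = 1 := by simp [m]

theorem m_ite {x : ℕ} (b : Bool) : m τ γ e (if b = true then x else 0) = if b = true then m τ γ e x else 1 := by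
  cases b
  · simp [m_zero]
  · simp

/-- an automorphism in coordinates -/
theorem map_m (hsq : ∀ w : W, w * w = 1) (α : MulAut W) {a0 a1 a2 a3 : ℕ} (h0 : α e = m τ γ e a0)
    (h1 : α (τ e) = m τ γ e a1) (h2 : α (γ e) = m τ γ e a2) (h3 : α (τ (γ e)) = m τ γ e a3) (v : ℕ) :
    α (m τ γ e v) = m τ γ e (app (a0, a1, a2, a3) v) := by
  have key : ∀ (b : Bool) (x : W), α (if b = true then x else 1) = if b = true then α x else 1 := by
    intro b x; cases b <;> simp
  unfold app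
  rw [m_xor hsq, m_xor hsq, m_xor hsq, m_ite, m_ite, m_ite, m_ite]
  conv_lhs => unfold m
  rw [map_mul, map_mul, map_mul, key, key, key, key, h0, h1, h2, h3]

theorem m1 : m τ γ e 1 = e := by
  show e * 1 * 1 * 1 = e
  simp
theorem m2 : m τ γ e 2 = τ e := by
  show 1 * τ e * 1 * 1 = τ e
  simp
theorem m4 : m τ γ e 4 = γ e := by
  show 1 * 1 * γ e * 1 = γ e
  simp
theorem m8 : m τ γ e 8 = τ (γ e) := by
  show 1 * 1 * 1 * τ (γ e) = τ (γ e)
  simp

end

/-- **The matrix computation.** -/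
theorem order_four [Finite W] (hcard : Nat.card W = 16) (hsq : ∀ w : W, w * w = 1)
    (τ γ η ρ : MulAut W) (hτ : ∀ w, τ (τ w) = w) (hγ : ∀ w, γ (γ w) = w)
    (hτγ : ∀ w, τ (γ w) = γ (τ w)) (e : W) (he : e * τ e * γ e * τ (γ e) ≠ 1)
    (hητ : ∀ w, η (τ w) = τ (η w)) (hηγ : ∀ w, η (γ (η w)) = γ w)
    (hη : ∀ w, w * η w * η (η w) = 1)
    (hρ : ((∀ w, ρ (τ w) = γ (ρ w)) ∧ ∀ w, ρ (γ w) = τ (γ (ρ w))) ∨
      ((∀ w, ρ (τ w) = τ (γ (ρ w))) ∧ ∀ w, ρ (γ w) = τ (ρ w))) :
    (τ * η * ρ * ρ * η * ρ * ρ * ρ * ρ) ^ 4 = 1 ∧ (τ * η * ρ * ρ * η * ρ * ρ * ρ * ρ) ^ 2 ≠ 1 := by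
  have hT : ∀ v, τ (m τ γ e v) = m τ γ e (T v) := by
    intro v
    apply map_m hsq τ
    · rw [m2]
    · rw [hτ, m1]
    · rw [m8]
    · rw [hτ, m4]
  have hC : ∀ v, γ (m τ γ e v) = m τ γ e (C v) := by
    intro v
    apply map_m hsq γ
    · rw [m4]
    · rw [m8, hτγ]
    · rw [hγ, m1]
    · rw [hτγ, hγ, m2]
  have h15 : m τ γ e 15 ≠ 1 := he
  have hker : ∀ v < 16, m τ γ e v = 1 → v = 0 := by
    intro v hv h1
    by_contra h0
    apply h15
    have hTv : m τ γ e (T v) = 1 := by rw [← hT, h1, map_one]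
    have hCv : m τ γ e (C v) = 1 := by rw [← hC, h1, map_one]
    have hTC : m τ γ e (T (C v)) = 1 := by rw [← hT, hCv, map_one]
    rcases socle v hv h0 with h | h | h | h
    · rw [← h, h1]
    · rw [← h, m_xor hsq, h1, hTv, mul_one]
    · rw [← h, m_xor hsq, h1, hCv, mul_one]
    · rw [← h, m_xor hsq, m_xor hsq, m_xor hsq, h1, hTv, hCv, hTC, mul_one, mul_one, mul_one]
  have hinj : ∀ v < 16, ∀ w < 16, m τ γ e v = m τ γ e w → v = w := by
    intro v hv w hw h
    have h1 : v ^^^ w < 16 := by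
      have e16 : (16 : ℕ) = 2 ^ 4 := by norm_num
      rw [e16] at *
      exact Nat.xor_lt_two_pow hv hw
    have h2 := hker _ h1 (by rw [m_xor hsq, h, hsq])
    exact Nat.xor_eq_zero_iff.1 h2
  have hsurj : ∀ w : W, ∃ v < 16, m τ γ e v = w := by
    have : Fintype W := Fintype.ofFinite W
    let F : Fin 16 → W := fun i => m τ γ e i
    have hF : Function.Injective F := fun i j h => Fin.ext (hinj _ i.2 _ j.2 h)
    have hb : Function.Bijective F := by
      rw [Fintype.bijective_iff_injective_and_card]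
      exact ⟨hF, by rw [Fintype.card_fin, ← Nat.card_eq_fintype_card, hcard]⟩
    intro w
    obtain ⟨i, hi⟩ := hb.2 w
    exact ⟨i, i.2, hi⟩
  obtain ⟨a, ha, hae⟩ := hsurj (η e)
  obtain ⟨v, hv, hve⟩ := hsurj (ρ e)
  have hη2 : ∀ w, η (η w) = w * η w := by
    intro w
    have h1 := hη w
    calc η (η w) = (w * η w) * (w * η w) * η (η w) := by rw [hsq, one_mul]
      _ = (w * η w) * ((w * η w) * η (η w)) := by rw [mul_assoc]
      _ = w * η w := by rw [h1, mul_one]
  have hη3 : ∀ w, η (η (η w)) = w := by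
    intro w
    rw [hη2 (η w), hη2 w]
    calc η w * (w * η w) = w * (η w * η w) := by rw [mul_left_comm]
      _ = w := by rw [hsq, mul_one]
  have hηγ' : ∀ w, η (γ w) = γ (w * η w) := by
    intro w
    have h1 := hηγ (η (η w))
    rw [hη3] at h1
    rw [h1, hη2]
  have hH : ∀ x, η (m τ γ e x) = m τ γ e (app (hm a) x) := by
    intro x
    apply map_m hsq η
    · rw [hae]
    · rw [hητ, ← hae, hT]
    · rw [hηγ', ← hae]
      have : e * m τ γ e a = m τ γ e (a ^^^ 1) := by rw [m_xor hsq, m1, mul_comm]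
      rw [this, hC]
    · rw [hητ, hηγ', ← hae]
      have : e * m τ γ e a = m τ γ e (a ^^^ 1) := by rw [m_xor hsq, m1, mul_comm]
      rw [this, hC, hT]
  have hR : ∃ d : Bool, ∀ x, ρ (m τ γ e x) = m τ γ e (app (rm d v) x) := by
    rcases hρ with ⟨h1, h2⟩ | ⟨h1, h2⟩
    · refine ⟨true, fun x => ?_⟩
      apply map_m hsq ρ
      · rw [hve]
      · rw [h1, ← hve, hC]
      · rw [h2, ← hve, hC, hT]
      · rw [h1, h2, hτγ, hγ, ← hve, hT]
    · refine ⟨false, fun x => ?_⟩
      apply map_m hsq ρ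
      · rw [hve]
      · rw [h1, ← hve, hC, hT]
      · rw [h2, ← hve, hT]
      · rw [h1, h2, ← hτγ, hτ, ← hve, hC]
  obtain ⟨d, hR⟩ := hR
  have htest := test_eq ha hv d
  have hlt : ∀ x, app (hm a) x < 16 := fun x => app_lt ha (T_lt _) (C_lt _) (T_lt _) x
  have hlt' : ∀ x, app (rm d v) x < 16 := by
    intro x
    cases d
    · exact app_lt hv (T_lt _) (T_lt _) (C_lt _) x
    · exact app_lt hv (C_lt _) (T_lt _) (T_lt _) x
  -- the two conditions
  have hc1 : Nat.beq (app (hm a) a) (a ^^^ 1) = true := by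
    rw [Nat.beq_eq]
    have h1 : a ^^^ 1 < 16 := by
      have e16 : (16 : ℕ) = 2 ^ 4 := by norm_num
      rw [e16] at *
      exact Nat.xor_lt_two_pow ha (by norm_num)
    apply hinj _ (hlt _) _ h1
    rw [← hH, hae, m_xor hsq, m1, hη2, hae, mul_comm]
  have hc2 : Nat.beq (app (rm d v) 15) 0 = false := by
    by_contra hne
    rw [Bool.not_eq_false, Nat.beq_eq] at hne
    apply h15
    have h1 := hR 15
    rw [hne, m_zero] at h1
    exact (map_eq_one_iff ρ ρ.injective).1 h1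
  have hgood : good (hm a) (rm d v) = true := by
    unfold test at htest
    rw [hc1, hc2] at htest
    simpa using htest
  unfold good at hgood
  rw [Bool.and_eq_true] at hgood
  obtain ⟨hg1, hg2⟩ := hgood
  set y := τ * η * ρ * ρ * η * ρ * ρ * ρ * ρ with hy
  have hY : ∀ x, y (m τ γ e x) = m τ γ e (Y (hm a) (rm d v) x) := by
    intro x
    show τ (η (ρ (ρ (η (ρ (ρ (ρ (ρ (m τ γ e x))))))))) = _
    rw [hR, hR, hR, hR, hH, hR, hR, hH, hT]
    rfl
  constructor
  · ext w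
    obtain ⟨x, hx, rfl⟩ := hsurj w
    have h1 := List.all_eq_true.1 hg1 x (List.mem_range.2 hx)
    rw [Nat.beq_eq] at h1
    show (y ^ 4) _ = _
    have e4 : y ^ 4 = y * y * y * y := by rw [pow_succ, pow_succ, pow_succ, pow_one]
    rw [e4]
    show y (y (y (y _))) = _
    rw [hY, hY, hY, hY, h1]
    rfl
  · intro h2
    rw [Bool.not_eq_true', ← Bool.not_eq_true, List.all_eq_true] at hg2
    apply hg2
    intro x hx
    have hx' := List.mem_range.1 hx
    rw [Nat.beq_eq]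
    apply hinj (Y (hm a) (rm d v) (Y (hm a) (rm d v) x)) (T_lt _) x hx'
    rw [← hY, ← hY]
    rw [pow_two] at h2
    exact DFunLike.congr_fun h2 (m τ γ e x)

end Cfsg.Agent.GTwoFour.OuterMat
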