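import Cfsg.Agent.GTwoFour.OuterFour
import Cfsg.Agent.GTwoFour.OuterMat
import Cfsg.Agent.GTwoFour.OuterSyl

set_option autoImplicit false

/-!
# The outer part of order four: the contradiction

`K = N_G(W)/C_G(W) ≤ GL₄(2)` has the Sylow 2-subgroup `⟨t̄, c̄⟩` with `t̄ ~ c̄ ~ t̄ c̄`: matrix computation.
-/

namespace Cfsg.Agent.GTwoFour.OuterFour

open Subgroup

variable {G : Type*} [Group G]

/-- proper subgroups of 2-groups are properly contained in their normaliser. -/
theorem exists_norm_grow [Finite G] {P R : Subgroup G} (hR : IsPGroup 2 R) (hle : P ≤ R)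
    (hne : P ≠ R) : ∃ n ∈ R, n ∉ P ∧ ∀ x ∈ P, n * x * n⁻¹ ∈ P := by
  have hfact : Fact (Nat.Prime 2) := ⟨Nat.prime_two⟩
  have hnil : Group.IsNilpotent R := hR.isNilpotent
  have hnc : NormalizerCondition R := Group.normalizerCondition_of_isNilpotent
  have hlt : P.subgroupOf R < ⊤ := by
    rw [lt_top_iff_ne_top]
    intro h
    rw [subgroupOf_eq_top] at h
    exact hne (le_antisymm hle h)
  have h1 := hnc _ hlt
  obtain ⟨n, hn, hn'⟩ := SetLike.exists_of_lt h1
  refine ⟨n, n.2, fun h => hn' (mem_subgroupOf.2 h), fun x hx => ?_⟩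
  have h2 := (mem_normalizer_iff.1 hn ⟨x, hle hx⟩).1 (mem_subgroupOf.2 hx)
  exact mem_subgroupOf.1 h2

namespace Outer

variable {t c h : G} {S S0 W D : Subgroup G}

theorem mem_norm [Finite G] (_O : Outer t c h S S0 W D) {n : G} (hn : ∀ w ∈ W, n * w * n⁻¹ ∈ W) :
    n ∈ normalizer (W : Set G) := by
  rw [mem_normalizer_iff]
  have h1 : W.map (MulAut.conj n).toMonoidHom = W := by
    apply Subgroup.eq_of_le_of_card_ge
    · rintro _ ⟨w, hw, rfl⟩
      exact hn w hw
    · exact (Nat.card_congr (W.equivMapOfInjective _ (MulAut.conj n).injective).toEquiv).le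
  intro x
  constructor
  · intro hx; exact hn x hx
  · intro hx
    have h2 : n * x * n⁻¹ ∈ W.map (MulAut.conj n).toMonoidHom := by rw [h1]; exact hx
    obtain ⟨y, hy, e⟩ := h2
    have e' : n * y * n⁻¹ = n * x * n⁻¹ := e
    have h3 : y = x := mul_left_cancel (mul_right_cancel e')
    rw [← h3]; exact hy

theorem S_le_norm [Finite G] (O : Outer t c h S S0 W D) {s : G} (hs : s ∈ S) :
    s ∈ normalizer (W : Set G) := O.mem_norm (O.W_norm s hs)

theorem S_cent [Finite G] (O : Outer t c h S S0 W D) {s : G} (hs : s ∈ S)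
    (hc : s ∈ centralizer (W : Set G)) : s ∈ S0 := by
  rw [mem_centralizer_iff] at hc
  obtain ⟨z, hz, h1, h2⟩ := O.c_Z
  have hz' := hc z hz
  rcases O.cover s hs with h | h | h | h
  · exact h
  · exfalso
    -- `t s` centralises, so `t` does
    have h3 : W ⊓ centralizer {t} = W := by
      apply inf_eq_left.2
      intro w hw
      rw [mem_centralizer_singleton_iff]
      have h4 := O.W_cent w hw _ h
      have h5 := hc w hw
      have h6 : w * t * s = t * w * s := by
        calc w * t * s = w * (t * s) := by group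
          _ = t * s * w := h4
          _ = t * (s * w) := by group
          _ = t * (w * s) := by rw [h5]
          _ = t * w * s := by group
      exact mul_right_cancel h6
    have h7 := O.Z_card
    rw [h3, O.W_card] at h7
    norm_num at h7
  · exfalso
    apply h2
    have h4 := O.W_cent z hz _ h
    have h6 : z * c * s = c * z * s := by
      calc z * c * s = z * (c * s) := by group
        _ = c * s * z := h4
        _ = c * (s * z) := by group
        _ = c * (z * s) := by rw [hz']
        _ = c * z * s := by group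
    exact mul_right_cancel h6
  · exfalso
    apply h2
    have h4 := O.W_cent z hz _ h
    have h6 : t * (z * c) * s = t * (c * z) * s := by
      calc t * (z * c) * s = t * z * (c * s) := by group
        _ = z * t * (c * s) := by rw [h1]
        _ = z * (t * c * s) := by group
        _ = t * c * s * z := h4
        _ = t * c * (s * z) := by group
        _ = t * c * (z * s) := by rw [hz']
        _ = t * (c * z) * s := by group
    exact mul_left_cancel (mul_right_cancel h6)

/-- **H0**: 2-subgroups of `C(t) ∩ N(W)` are conjugate into `S`. -/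
theorem conj_into [Finite G] (O : Outer t c h S S0 W D) {M : Subgroup G} (hM : IsPGroup 2 M)
    (hMt : ∀ m ∈ M, m * t = t * m) (hMW : M ≤ normalizer (W : Set G)) :
    ∃ k ∈ normalizer (W : Set G), k * t = t * k ∧ ∀ m ∈ M, k * m * k⁻¹ ∈ S := by
  have hfact : Fact (Nat.Prime 2) := ⟨Nat.prime_two⟩
  set NC := normalizer (W : Set G) ⊓ centralizer {t} with hNC
  have hT : S ⊓ centralizer {t} ≤ NC := fun x hx => ⟨O.S_le_norm hx.1, hx.2⟩
  have hMle : M ≤ NC := fun m hm => ⟨hMW hm, mem_centralizer_singleton_iff.2 (hMt m hm)⟩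
  have hidx : ¬ 2 ∣ (S ⊓ centralizer {t}).relIndex NC := by
    intro h2
    have h3 : (S ⊓ centralizer {t}).relIndex NC * NC.relIndex (centralizer {t}) =
        (S ⊓ centralizer {t}).relIndex (centralizer {t}) := relIndex_mul_relIndex _ _ _ hT inf_le_right
    have h5 : (S ⊓ centralizer {t}).relIndex (centralizer {t}) = S.relIndex (centralizer {t}) :=
      inf_relIndex_right _ _
    rw [h5] at h3
    have h4 : 2 ∣ S.relIndex (centralizer {t}) := by rw [← h3]; exact h2.trans (dvd_mul_right _ _)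
    exact (Nat.not_even_iff_odd.2 O.odd) (even_iff_two_dvd.2 h4)
  obtain ⟨k, hk, hkM⟩ := exists_conj_le hMle (O.pS.to_le inf_le_left) hM hidx
  exact ⟨k, hk.1, mem_centralizer_singleton_iff.1 hk.2, fun m hm => (hkM m hm).1⟩

theorem cent_conj {n x : G} (hn : n ∈ normalizer (W : Set G)) (hx : x ∈ centralizer (W : Set G)) :
    n * x * n⁻¹ ∈ centralizer (W : Set G) := by
  rw [mem_centralizer_iff] at hx ⊢
  intro w hw
  have h1 : n⁻¹ * w * n ∈ W := by
    have := (mem_normalizer_iff.1 ((normalizer (W : Set G)).inv_mem hn) w).1 hw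
    rwa [inv_inv] at this
  have h2 := hx _ h1
  calc w * (n * x * n⁻¹) = n * (n⁻¹ * w * n * x) * n⁻¹ := by group
    _ = n * (x * (n⁻¹ * w * n)) * n⁻¹ := by rw [h2]
    _ = _ := by group

theorem S0_cent (O : Outer t c h S S0 W D) {s : G} (hs : s ∈ S0) : s ∈ centralizer (W : Set G) := by
  rw [mem_centralizer_iff]
  intro w hw
  exact O.W_cent w hw s hs

theorem t_notCent [Finite G] (O : Outer t c h S S0 W D) : t ∉ centralizer (W : Set G) :=
  fun h1 => O.t_notMem (O.S_cent O.t_mem h1)

/-- the group `C(W)⟨t⟩` -/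
def XT [Finite G] (O : Outer t c h S S0 W D) : Subgroup G where
  carrier := {x | x ∈ centralizer (W : Set G) ∨ t * x ∈ centralizer (W : Set G)}
  one_mem' := Or.inl (one_mem _)
  mul_mem' := by
    have htN : t ∈ normalizer (W : Set G) := O.S_le_norm O.t_mem
    rintro x y (hx | hx) (hy | hy)
    · exact Or.inl (mul_mem hx hy)
    · right
      have h1 := cent_conj htN hx
      have : t * (x * y) = (t * x * t⁻¹) * (t * y) := by group
      rw [this]; exact mul_mem h1 hy
    · right
      have : t * (x * y) = t * x * y := by group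
      rw [this]; exact mul_mem hx hy
    · left
      have h1 := cent_conj htN hx
      have : x * y = (t * (t * x) * t⁻¹) * (t * y) := by
        rw [← mul_assoc t t x, O.tt, one_mul, O.t_inv, mul_assoc, ← mul_assoc t t y, O.tt, one_mul]
      rw [this]; exact mul_mem h1 hy
  inv_mem' := by
    have htN : t ∈ normalizer (W : Set G) := O.S_le_norm O.t_mem
    rintro x (hx | hx)
    · exact Or.inl (inv_mem hx)
    · right
      have h1 := cent_conj htN (inv_mem hx)
      have : t * x⁻¹ = t * (t * x)⁻¹ * t⁻¹ := by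
        rw [mul_inv_rev, O.t_inv, mul_assoc, mul_assoc, O.tt, mul_one]
      show t * x⁻¹ ∈ _
      rw [this]; exact h1

/-- **H1**: `t` is unique up to conjugacy in its coset of `C(W)`. -/
theorem exists_conj_t [Finite G] (O : Outer t c h S S0 W D) {s : G} (hs : s * s = 1)
    (hts : t * s ∈ centralizer (W : Set G)) :
    ∃ x ∈ centralizer (W : Set G), s = x * t * x⁻¹ := by
  have hfact : Fact (Nat.Prime 2) := ⟨Nat.prime_two⟩
  have htN : t ∈ normalizer (W : Set G) := O.S_le_norm O.t_mem
  have hXTN : ∀ x ∈ O.XT, x ∈ normalizer (W : Set G) := by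
    have hCN : centralizer (W : Set G) ≤ normalizer (W : Set G) := centralizer_le_normalizer _
    rintro x (hx | hx)
    · exact hCN hx
    · have : x = t⁻¹ * (t * x) := by group
      rw [this]; exact mul_mem (inv_mem htN) (hCN hx)
  set P1 := O.XT ⊓ S with hP1
  have hmemP1 : ∀ x, x ∈ P1 ↔ x ∈ S0 ∨ t * x ∈ S0 := by
    intro x
    constructor
    · rintro ⟨h1 | h1, h2⟩
      · exact Or.inl (O.S_cent h2 h1)
      · exact Or.inr (O.S_cent (mul_mem O.t_mem h2) h1)
    · rintro (h1 | h1)
      · exact ⟨Or.inl (O.S0_cent h1), O.S0_le h1⟩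
      · refine ⟨Or.inr (O.S0_cent h1), ?_⟩
        show x ∈ S
        have : x = t⁻¹ * (t * x) := by group
        rw [this]; exact mul_mem (inv_mem O.t_mem) (O.S0_le h1)
  have hP1p : IsPGroup 2 P1 := O.pS.to_le inf_le_right
  have htP1 : t ∈ P1 := (hmemP1 t).2 (Or.inr (by rw [O.tt]; exact one_mem _))
  -- conjugates of `t` in `t C(W)`: elements of `P1` are conjugate to `t` under `S0`
  have hP1t : ∀ v ∈ P1, v * v = 1 → t * v ∈ centralizer (W : Set G) → ∃ x ∈ S0, v = x * t * x⁻¹ := by
    intro v hv hvv hvt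
    rcases (hmemP1 v).1 hv with h1 | h1
    · exfalso
      apply O.t_notCent
      have : t = t * v * v⁻¹ := by group
      rw [this]; exact mul_mem hvt (inv_mem (O.S0_cent h1))
    · have e : t * (t * v) = v := by rw [← mul_assoc, O.tt, one_mul]
      obtain ⟨x, hx, h2⟩ := O.free _ h1 (by rw [e]; exact hvv)
      rw [e] at h2
      exact ⟨x, hx, h2⟩
  -- a Sylow subgroup of `XT` containing `P1`
  obtain ⟨Q, hQ⟩ := (hP1p.comap_of_injective O.XT.subtype Subtype.val_injective :
    IsPGroup 2 (P1.subgroupOf O.XT)).exists_le_sylow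
  set R := (Q : Subgroup O.XT).map O.XT.subtype with hR
  have hRle : R ≤ O.XT := map_subtype_le _
  have hRp : IsPGroup 2 R := Q.2.map _
  have hP1R : P1 ≤ R := by
    intro x hx
    exact ⟨⟨x, hx.1⟩, hQ (mem_subgroupOf.2 hx), rfl⟩
  have hPR : P1 = R := by
    by_contra hne
    obtain ⟨n, hnR, hnP, hnn⟩ := exists_norm_grow hRp hP1R hne
    have h1 := hnn t htP1
    have hnXT := hRle hnR
    have hnN := hXTN n hnXT
    -- `n t n⁻¹ ∈ t C(W)`
    have h2 : t * (n * t * n⁻¹) ∈ centralizer (W : Set G) := by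
      rcases hnXT with h3 | h3
      · have : t * (n * t * n⁻¹) = (t * n * t⁻¹) * n⁻¹ := by rw [O.t_inv]; group
        rw [this]; exact mul_mem (cent_conj htN h3) (inv_mem h3)
      · have : t * (n * t * n⁻¹) = (t * n) * (t * (t * n)⁻¹ * t⁻¹) := by
          rw [mul_inv_rev, O.t_inv]
          calc t * (n * t * n⁻¹) = t * n * t * n⁻¹ * 1 := by group
            _ = t * n * t * n⁻¹ * (t * t) := by rw [O.tt]
            _ = t * n * (t * (n⁻¹ * t) * t) := by group
        rw [this]; exact mul_mem h3 (cent_conj htN (inv_mem h3))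
    obtain ⟨x, hx, h3⟩ := hP1t _ h1 (by
      calc n * t * n⁻¹ * (n * t * n⁻¹) = n * (t * t) * n⁻¹ := by group
        _ = 1 := by rw [O.tt]; group) h2
    have hxP : x ∈ P1 := (hmemP1 x).2 (Or.inl hx)
    set m := x⁻¹ * n with hm
    have hmR : m ∈ R := mul_mem (inv_mem (hP1R hxP)) hnR
    have hmt : m * t = t * m := by
      calc x⁻¹ * n * t = x⁻¹ * (n * t * n⁻¹) * n := by group
        _ = x⁻¹ * (x * t * x⁻¹) * n := by rw [h3]
        _ = t * (x⁻¹ * n) := by group
    have hmP : m ∉ P1 := by
      intro h4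
      apply hnP
      have : n = x * m := by rw [hm]; group
      rw [this]; exact mul_mem hxP h4
    -- the group `C_R(t)`
    set M := R ⊓ centralizer {t} with hM
    have hMp : IsPGroup 2 M := hRp.to_le inf_le_left
    obtain ⟨k, hk, hkt, hkM⟩ := O.conj_into hMp
      (fun m hm => mem_centralizer_singleton_iff.1 hm.2) (fun m hm => hXTN m (hRle hm.1))
    set U := S0 ⊓ centralizer {t} with hU
    set MX := M ⊓ centralizer (W : Set G) with hMX
    have hUM : U ≤ MX := by
      intro y hy
      exact ⟨⟨hP1R ((hmemP1 y).2 (Or.inl hy.1)), hy.2⟩, O.S0_cent hy.1⟩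
    have hMXU : MX.map (MulAut.conj k).toMonoidHom ≤ U := by
      rintro _ ⟨y, hy, rfl⟩
      have h4 : k * y * k⁻¹ ∈ S := hkM y hy.1
      have h5 : k * y * k⁻¹ ∈ centralizer (W : Set G) := cent_conj hk hy.2
      refine ⟨O.S_cent h4 h5, mem_centralizer_singleton_iff.2 ?_⟩
      have h6 : y * t = t * y := mem_centralizer_singleton_iff.1 hy.1.2
      have hkt' : k⁻¹ * t = t * k⁻¹ := by
        calc k⁻¹ * t = k⁻¹ * (t * k) * k⁻¹ := by group
          _ = k⁻¹ * (k * t) * k⁻¹ := by rw [hkt]
          _ = t * k⁻¹ := by group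
      show k * y * k⁻¹ * t = t * (k * y * k⁻¹)
      calc k * y * k⁻¹ * t = k * y * (k⁻¹ * t) := by group
        _ = k * (y * t) * k⁻¹ := by rw [hkt']; group
        _ = k * t * y * k⁻¹ := by rw [h6]; group
        _ = t * (k * y * k⁻¹) := by rw [hkt]; group
    have hcard : Nat.card MX ≤ Nat.card U := by
      have h4 : Nat.card (MX.map (MulAut.conj k).toMonoidHom) = Nat.card MX :=
        (Nat.card_congr (MX.equivMapOfInjective _ (MulAut.conj k).injective).toEquiv).symm
      rw [← h4]
      exact Subgroup.card_le_of_le hMXU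
    have hUMX : U = MX := Subgroup.eq_of_le_of_card_ge hUM hcard
    have hmM : m ∈ M := ⟨hmR, mem_centralizer_singleton_iff.2 hmt⟩
    have htM : t ∈ M := ⟨hP1R htP1, mem_centralizer_singleton_iff.2 rfl⟩
    rcases hRle hmR with h4 | h4
    · have : m ∈ U := by rw [hUMX]; exact ⟨hmM, h4⟩
      exact hmP ((hmemP1 m).2 (Or.inl this.1))
    · have : t * m ∈ U := by rw [hUMX]; exact ⟨mul_mem htM hmM, h4⟩
      exact hmP ((hmemP1 m).2 (Or.inr this.1))
  have hidx : ¬ 2 ∣ P1.relIndex O.XT := by
    have h1 : P1.subgroupOf O.XT = Q := by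
      rw [hPR, hR]
      exact comap_map_eq_self_of_injective Subtype.val_injective _
    rw [relIndex, h1]
    exact Q.not_dvd_index
  -- move `s` into `P1`
  have hsXT : s ∈ O.XT := Or.inr hts
  have hsp : IsPGroup 2 (zpowers s) := by
    rw [IsPGroup.iff_card, Nat.card_zpowers]
    have h2 : orderOf s ∣ 2 ^ 1 := orderOf_dvd_of_pow_eq_one (by rw [pow_one, pow_two, hs])
    obtain ⟨k, _, hk⟩ := (Nat.dvd_prime_pow Nat.prime_two).1 h2
    exact ⟨k, hk⟩
  obtain ⟨k, hk, hks⟩ := exists_conj_le (zpowers_le.2 hsXT) hP1p hsp hidx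
  have h1 := hks s (mem_zpowers s)
  have hkN := hXTN k hk
  have h2 : t * (k * s * k⁻¹) ∈ centralizer (W : Set G) := by
    rcases hk with h3 | h3
    · have : t * (k * s * k⁻¹) = (t * k * t⁻¹) * (t * s) * k⁻¹ := by group
      rw [this]; exact mul_mem (mul_mem (cent_conj htN h3) hts) (inv_mem h3)
    · have : t * (k * s * k⁻¹) = (t * k) * ((t * (t * s) * t⁻¹) * (t * (t * k)⁻¹ * t⁻¹)) := by
        have e1 : t * (t * s) * t⁻¹ = s * t := by rw [← mul_assoc, O.tt, one_mul, O.t_inv]
        have e2 : t * (t * k)⁻¹ * t⁻¹ = t * k⁻¹ := by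
          rw [mul_inv_rev, O.t_inv, mul_assoc, mul_assoc, O.tt, mul_one]
        rw [e1, e2]
        calc t * (k * s * k⁻¹) = t * k * (s * 1 * k⁻¹) := by group
          _ = t * k * (s * (t * t) * k⁻¹) := by rw [O.tt]
          _ = t * k * (s * t * (t * k⁻¹)) := by group
      rw [this]
      exact mul_mem h3 (mul_mem (cent_conj htN hts) (cent_conj htN (inv_mem h3)))
  obtain ⟨x, hx, h3⟩ := hP1t _ h1 (by
    calc k * s * k⁻¹ * (k * s * k⁻¹) = k * (s * s) * k⁻¹ := by group
      _ = 1 := by rw [hs]; group) h2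
  have h4 : s = (k⁻¹ * x) * t * (k⁻¹ * x)⁻¹ := by
    calc s = k⁻¹ * (k * s * k⁻¹) * k := by group
      _ = k⁻¹ * (x * t * x⁻¹) * k := by rw [h3]
      _ = _ := by group
  have h5 : k⁻¹ * x ∈ O.XT := mul_mem (inv_mem hk) (Or.inl (O.S0_cent hx))
  rcases h5 with h5 | h5
  · exact ⟨_, h5, h4⟩
  · refine ⟨k⁻¹ * x * t, ?_, ?_⟩
    · have : k⁻¹ * x * t = t * (t * (k⁻¹ * x)) * t⁻¹ := by
        rw [← mul_assoc t t, O.tt, one_mul, O.t_inv]
      rw [this]; exact cent_conj htN h5
    · rw [h4]
      have e : k⁻¹ * x * t * t * (k⁻¹ * x * t)⁻¹ = k⁻¹ * x * (t * t) * t⁻¹ * (k⁻¹ * x)⁻¹ := by group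
      rw [e, O.tt, O.t_inv]; group

/-- `N_G(W)` acting on `W`. -/
noncomputable abbrev act (W : Subgroup G) : normalizer (W : Set G) →* MulAut W := W.normalizerMonoidHom

theorem act_apply (n : normalizer (W : Set G)) (w : W) :
    ((act W n w : W) : G) = (n : G) * w * (n : G)⁻¹ := rfl

theorem act_eq_one_iff (n : normalizer (W : Set G)) :
    act W n = 1 ↔ (n : G) ∈ centralizer (W : Set G) := by
  rw [mem_centralizer_iff]
  constructor
  · intro h1 w hw
    have h2 := congrArg Subtype.val (DFunLike.congr_fun h1 ⟨w, hw⟩)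
    rw [act_apply] at h2
    have h3 : (n : G) * w * (n : G)⁻¹ = w := h2
    calc w * n = n * w * (n : G)⁻¹ * n := by rw [h3]
      _ = n * w := by group
  · intro h1
    ext ⟨w, hw⟩
    rw [act_apply]
    show (n : G) * w * (n : G)⁻¹ = w
    rw [← h1 w hw]; group

/-- the projection onto `K = N_G(W)/C_G(W)` -/
noncomputable abbrev pr (W : Subgroup G) : normalizer (W : Set G) →* (act W).range := (act W).rangeRestrict

theorem pr_surj (W : Subgroup G) : Function.Surjective (pr W) := (act W).rangeRestrict_surjective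

theorem pr_eq_one_iff (n : normalizer (W : Set G)) :
    pr W n = 1 ↔ (n : G) ∈ centralizer (W : Set G) := by
  rw [← act_eq_one_iff]
  constructor
  · intro h1; exact congrArg Subtype.val h1
  · intro h1; exact Subtype.ext h1

theorem card_four_le {K : Type*} [Group K] {a b : K} {M : Subgroup K} (hM : ∀ x ∈ M, x = 1 ∨ x = a ∨ x = b ∨ x = a * b) :
    Nat.card M ≤ 4 := by
  classical
  have h1 : Nat.card M = Set.ncard (M : Set K) := rfl
  rw [h1]
  have h2 : (M : Set K) ⊆ ({1, a, b, a * b} : Finset K) := by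
    intro x hx
    simpa using hM x hx
  refine (Set.ncard_le_ncard h2 (Finset.finite_toSet _)).trans ?_
  rw [Set.ncard_coe_finset]
  exact Finset.card_le_four

/-- **The contradiction** in the case `S/S₀ ≅ 2²`. -/
theorem false [Finite G] (O : Outer t c h S S0 W D) (hG : ∀ f : G →* ℤˣ, f t = 1) : False := by
  classical
  have hfact : Fact (Nat.Prime 2) := ⟨Nat.prime_two⟩
  have htN := O.S_le_norm O.t_mem
  have hcN := O.S_le_norm O.c_mem
  have hhN := O.mem_norm O.h_W
  set T : normalizer (W : Set G) := ⟨t, htN⟩ with hT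
  set C : normalizer (W : Set G) := ⟨c, hcN⟩ with hC
  set E : normalizer (W : Set G) := ⟨h, hhN⟩ with hE
  set a := pr W T with ha
  set b := pr W C with hb
  have haa : a * a = 1 := by
    rw [ha, ← map_mul, pr_eq_one_iff]
    show t * t ∈ _
    rw [O.tt]; exact one_mem _
  have hbb : b * b = 1 := by
    rw [hb, ← map_mul, pr_eq_one_iff]
    exact O.S0_cent O.cc
  have habab : a * b * (a * b) = 1 := by
    rw [ha, hb, ← map_mul, ← map_mul, pr_eq_one_iff]
    exact O.S0_cent O.tctc
  have ia : a⁻¹ = a := inv_eq_of_mul_eq_one_right haa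
  have ib : b⁻¹ = b := inv_eq_of_mul_eq_one_right hbb
  have iab : (a * b)⁻¹ = a * b := inv_eq_of_mul_eq_one_right habab
  have hab : a * b = b * a := by
    rw [← iab, mul_inv_rev, ia, ib]
  have ha1 : a ≠ 1 := by
    rw [Ne, ha, pr_eq_one_iff]; exact O.t_notCent
  have hb1 : b ≠ 1 := by
    rw [Ne, hb, pr_eq_one_iff]; exact fun h1 => O.c_notMem (O.S_cent O.c_mem h1)
  have hne : a ≠ b := by
    intro h1
    have h2 : a * b = 1 := by rw [← h1, haa]
    rw [ha, hb, ← map_mul, pr_eq_one_iff] at h2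
    have h3 : t * c ∈ S0 := O.S_cent O.tc_mem h2
    exact O.symm.c_notMem h3
  -- elements of `S`
  have hcov : ∀ s, ∀ hs : s ∈ S, pr W ⟨s, O.S_le_norm hs⟩ = 1 ∨ pr W ⟨s, O.S_le_norm hs⟩ = a ∨
      pr W ⟨s, O.S_le_norm hs⟩ = b ∨ pr W ⟨s, O.S_le_norm hs⟩ = a * b := by
    intro s hs
    set s' : normalizer (W : Set G) := ⟨s, O.S_le_norm hs⟩ with hs'
    rcases O.cover s hs with h1 | h1 | h1 | h1
    · exact Or.inl ((pr_eq_one_iff _).2 (O.S0_cent h1))
    · right; left
      have h2 : pr W (T * s') = 1 := (pr_eq_one_iff _).2 (O.S0_cent h1)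
      rw [map_mul, ← ha] at h2
      rw [← ia]; exact (inv_eq_of_mul_eq_one_right h2).symm
    · right; right; left
      have h2 : pr W (C * s') = 1 := (pr_eq_one_iff _).2 (O.S0_cent h1)
      rw [map_mul, ← hb] at h2
      rw [← ib]; exact (inv_eq_of_mul_eq_one_right h2).symm
    · right; right; right
      have h2 : pr W (T * C * s') = 1 := (pr_eq_one_iff _).2 (O.S0_cent h1)
      rw [map_mul, map_mul, ← ha, ← hb] at h2
      rw [← iab]; exact (inv_eq_of_mul_eq_one_right h2).symm
  -- conjugacy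
  have hconj : ∀ v : normalizer (W : Set G), pr W v * pr W v = 1 → ∀ n : G,
      (∀ w ∈ W, n * w * n⁻¹ ∈ W) → (v : G) * (n⁻¹ * t * n) ∈ S0 → IsConj a (pr W v) := by
    intro v hv n hn h1
    set n' : normalizer (W : Set G) := ⟨n, O.mem_norm hn⟩ with hn'
    have h2 : pr W (v * (n'⁻¹ * T * n')) = 1 := (pr_eq_one_iff _).2 (O.S0_cent h1)
    rw [map_mul] at h2
    rw [isConj_iff]
    refine ⟨pr W n'⁻¹, ?_⟩
    have h3 : pr W (n'⁻¹ * T * n') = pr W v := by
      have h4 : (pr W v)⁻¹ = pr W v := inv_eq_of_mul_eq_one_right hv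
      rw [← h4]; exact (inv_eq_of_mul_eq_one_right h2).symm
    rw [← h3, map_mul, map_mul, map_inv, inv_inv]
  have hc1 : IsConj a b := by
    obtain ⟨n, hn, h1⟩ := O.exists_norm hG
    exact hconj C hbb n hn h1
  have hc2 : IsConj a (a * b) := by
    obtain ⟨n, hn, h1⟩ := O.symm.exists_norm hG
    have := hconj (T * C) (by rw [map_mul]; exact habab) n hn h1
    rwa [map_mul] at this
  -- 2-subgroups commuting with `a`
  have h4 : ∀ B : Subgroup (act W).range, IsPGroup 2 B → (∀ x ∈ B, x * a = a * x) →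
      Nat.card B ≤ 4 := by
    intro B hB hBa
    set B1 : Subgroup (normalizer (W : Set G)) :=
      B.comap (pr W) ⊓ (centralizer {t}).subgroupOf (normalizer (W : Set G)) with hB1
    let φ : B1 →* B := ((pr W).comp B1.subtype).codRestrict B (fun x => x.2.1)
    have hφ : Function.Surjective φ := by
      rintro ⟨k, hk⟩
      obtain ⟨n, rfl⟩ := pr_surj W k
      have h1 := hBa _ hk
      have h2 : t * ((n : G) * t * (n : G)⁻¹) ∈ centralizer (W : Set G) := by
        have h3 : pr W (T * (n * T * n⁻¹)) = 1 := by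
          rw [map_mul, map_mul, map_mul, map_inv, ← ha, h1, mul_inv_cancel_right, haa]
        exact (pr_eq_one_iff _).1 h3
      obtain ⟨x, hx, h3⟩ := O.exists_conj_t (by
        calc (n : G) * t * (n : G)⁻¹ * ((n : G) * t * (n : G)⁻¹) = n * (t * t) * (n : G)⁻¹ := by group
          _ = 1 := by rw [O.tt]; group) h2
      have hxN : x ∈ normalizer (W : Set G) := centralizer_le_normalizer _ hx
      set x' : normalizer (W : Set G) := ⟨x, hxN⟩ with hx'
      have hprx : pr W (x'⁻¹ * n) = pr W n := by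
        rw [map_mul, map_inv, (pr_eq_one_iff x').2 hx, inv_one, one_mul]
      have hm : x'⁻¹ * n ∈ B1 := by
        refine ⟨?_, ?_⟩
        · show pr W (x'⁻¹ * n) ∈ B
          rw [hprx]; exact hk
        · show ((x'⁻¹ * n : normalizer (W : Set G)) : G) ∈ centralizer {t}
          rw [mem_centralizer_singleton_iff]
          show x⁻¹ * n * t = t * (x⁻¹ * n)
          calc x⁻¹ * n * t = x⁻¹ * (n * t * (n : G)⁻¹) * n := by group
            _ = x⁻¹ * (x * t * x⁻¹) * n := by rw [h3]
            _ = t * (x⁻¹ * n) := by group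
      refine ⟨⟨_, hm⟩, ?_⟩
      apply Subtype.ext
      exact hprx
    obtain ⟨M⟩ : Nonempty (Sylow 2 B1) := inferInstance
    have hMφ : (M : Subgroup B1).map φ = ⊤ := by
      have h1 : ((M.mapSurjective hφ : Sylow 2 B) : Subgroup B) = (M : Subgroup B1).map φ := rfl
      rw [← h1]
      have hB' : IsPGroup 2 (⊤ : Subgroup B) := hB.of_injective (⊤ : Subgroup B).subtype
        Subtype.val_injective
      exact ((M.mapSurjective hφ).3 hB' le_top).symm
    set M' := ((M : Subgroup B1).map B1.subtype).map (normalizer (W : Set G)).subtype with hM'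
    have hM'p : IsPGroup 2 M' := (M.2.map _).map _
    obtain ⟨k, hk, hkt, hkM⟩ := O.conj_into hM'p (by
      rintro _ ⟨_, ⟨m, hm, rfl⟩, rfl⟩
      exact mem_centralizer_singleton_iff.1 m.2.2) (map_subtype_le _)
    set k' : normalizer (W : Set G) := ⟨k, hk⟩ with hk'
    have h5 : Nat.card (B.map (MulAut.conj (pr W k')).toMonoidHom) = Nat.card B :=
      (Nat.card_congr (B.equivMapOfInjective _ (MulAut.conj (pr W k')).injective).toEquiv).symm
    rw [← h5]
    apply card_four_le (a := a) (b := b)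
    rintro _ ⟨x, hx, rfl⟩
    obtain ⟨m, hm, hmx⟩ : (⟨x, hx⟩ : B) ∈ (M : Subgroup B1).map φ := by rw [hMφ]; exact mem_top _
    have h6 : pr W m = x := congrArg Subtype.val hmx
    have h7 : k * (m : normalizer (W : Set G)) * k⁻¹ ∈ S :=
      hkM _ (mem_map_of_mem _ (mem_map_of_mem _ hm))
    have h8 := hcov _ h7
    have h9 : (⟨k * (m : normalizer (W : Set G)) * k⁻¹, O.S_le_norm h7⟩ : normalizer (W : Set G)) =
        k' * m * k'⁻¹ := rfl
    rw [h9, map_mul, map_mul, map_inv, h6] at h8
    exact h8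
  obtain ⟨P, hP⟩ := OuterSyl.exists_sylow haa hbb hab ha1 hb1 hne h4 hc1 hc2
  obtain ⟨r, hr⟩ := OuterSyl.exists_cyc ha1 hb1 hne hc1 hc2 hP
  -- the commutative group `W`
  have hWW : ∀ x y : W, x * y = y * x := fun x y =>
    Subtype.ext (O.W_cent x x.2 y (O.W_le y.2))
  let _ : CommGroup W := { (inferInstance : Group W) with mul_comm := hWW }
  have hsq : ∀ w : W, w * w = 1 := fun w => Subtype.ext (O.W_sq w w.2)
  have hτ : ∀ w : W, act W T (act W T w) = w := by
    intro w
    apply Subtype.ext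
    rw [act_apply, act_apply]
    show t * (t * w * t⁻¹) * t⁻¹ = w
    rw [O.t_inv]
    calc t * (t * w * t) * t = (t * t) * w * (t * t) := by group
      _ = w := by rw [O.tt]; group
  have hW0 : ∀ s ∈ S0, ∀ w : W, s * w * s⁻¹ = w := by
    intro s hs w
    rw [← O.W_cent w w.2 s hs]; group
  have hγ : ∀ w : W, act W C (act W C w) = w := by
    intro w
    apply Subtype.ext
    rw [act_apply, act_apply]
    show c * (c * w * c⁻¹) * c⁻¹ = w
    calc c * (c * w * c⁻¹) * c⁻¹ = (c * c) * w * (c * c)⁻¹ := by group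
      _ = w := hW0 _ O.cc w
  have hτγ : ∀ w : W, act W T (act W C w) = act W C (act W T w) := by
    intro w
    have h1 := DFunLike.congr_fun (congrArg Subtype.val hab) w
    exact h1
  -- the generator
  obtain ⟨z, hz, hzt, hzc⟩ := O.c_Z
  obtain ⟨e, he⟩ : ∃ e : W, e * act W T e = ⟨z, hz⟩ := by
    let ψ : W →* W :=
      { toFun := fun w => w * act W T w
        map_one' := by rw [map_one, mul_one]
        map_mul' := by
          intro x y
          rw [map_mul]
          exact mul_mul_mul_comm x y _ _ }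
    have hker : Nat.card ψ.ker = 4 := by
      rw [← O.Z_card]
      apply Nat.card_congr
      refine Equiv.ofBijective (fun x : ψ.ker => (⟨(x : W), ?_⟩ : (W ⊓ centralizer {t} : Subgroup G)))
        ⟨?_, ?_⟩
      · refine ⟨(x : W).2, mem_centralizer_singleton_iff.2 ?_⟩
        have h1 : (x : W) * act W T x = 1 := x.2
        have h2 : act W T x = x := by
          calc act W T x = (x : W) * x * act W T x := by rw [hsq, one_mul]
            _ = (x : W) * (x * act W T x) := by rw [mul_assoc]
            _ = x := by rw [h1, mul_one]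
        have h3 : t * ((x : W) : G) * t⁻¹ = (x : W) := by
          have := congrArg Subtype.val h2
          rwa [act_apply] at this
        calc ((x : W) : G) * t = t * (x : W) * t⁻¹ * t := by rw [h3]
          _ = t * (x : W) := by group
      · intro x y hxy
        exact Subtype.ext (Subtype.ext
          (congrArg (fun v : (W ⊓ centralizer {t} : Subgroup G) => (v : G)) hxy))
      · rintro ⟨x, hx, hxt⟩
        have hxt' := mem_centralizer_singleton_iff.1 hxt
        refine ⟨⟨⟨x, hx⟩, ?_⟩, rfl⟩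
        rw [MonoidHom.mem_ker]
        show (⟨x, hx⟩ : W) * act W T ⟨x, hx⟩ = 1
        apply Subtype.ext
        rw [Subgroup.coe_mul, act_apply]
        show x * (t * x * t⁻¹) = 1
        rw [← hxt', mul_assoc x t, mul_inv_cancel, mul_one, O.W_sq x hx]
    have hrange : Nat.card ψ.range = 4 := by
      have h1 := ψ.ker.card_mul_index
      rw [Subgroup.index_ker, hker, O.W_card] at h1
      omega
    set F := (W ⊓ centralizer {t}).subgroupOf W with hF
    have hFc : Nat.card F = 4 := by
      rw [← O.Z_card, hF]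
      exact Nat.card_congr (subgroupOfEquivOfLe inf_le_left).toEquiv
    have hle : ψ.range ≤ F := by
      rintro _ ⟨w, rfl⟩
      rw [hF, mem_subgroupOf]
      refine ⟨(ψ w).2, mem_centralizer_singleton_iff.2 ?_⟩
      have h1 : act W T (ψ w) = ψ w := by
        show act W T (w * act W T w) = w * act W T w
        rw [map_mul, hτ, mul_comm]
      have h2 : t * ((ψ w : W) : G) * t⁻¹ = (ψ w : W) := by
        have := congrArg Subtype.val h1
        rwa [act_apply] at this
      calc ((ψ w : W) : G) * t = t * (ψ w : W) * t⁻¹ * t := by rw [h2]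
        _ = t * (ψ w : W) := by group
    have heq : ψ.range = F := Subgroup.eq_of_le_of_card_ge hle (by rw [hrange, hFc])
    have hzF : (⟨z, hz⟩ : W) ∈ F := by
      rw [hF, mem_subgroupOf]
      exact ⟨hz, mem_centralizer_singleton_iff.2 hzt⟩
    rw [← heq] at hzF
    obtain ⟨e, he⟩ := hzF
    exact ⟨e, he⟩
  have he1 : e * act W T e * act W C e * act W T (act W C e) ≠ 1 := by
    intro h1
    apply hzc
    have h2 : (⟨z, hz⟩ : W) * act W C ⟨z, hz⟩ = 1 := by
      rw [← he, map_mul, ← hτγ, ← mul_assoc]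
      exact h1
    have h3 : act W C ⟨z, hz⟩ = ⟨z, hz⟩ := by
      calc act W C ⟨z, hz⟩ = (⟨z, hz⟩ : W) * ⟨z, hz⟩ * act W C ⟨z, hz⟩ := by rw [hsq, one_mul]
        _ = (⟨z, hz⟩ : W) * (⟨z, hz⟩ * act W C ⟨z, hz⟩) := by rw [mul_assoc]
        _ = ⟨z, hz⟩ := by rw [h2, mul_one]
    have h4 : c * z * c⁻¹ = z := by
      have := congrArg Subtype.val h3
      rwa [act_apply] at this
    calc z * c = c * z * c⁻¹ * c := by rw [h4]
      _ = c * z := by group
  obtain ⟨y1, y2⟩ := OuterMat.order_four (W := W) O.W_card hsq (act W T) (act W C) (act W E) r.1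
    hτ hγ hτγ e he1
    (by
      intro w; apply Subtype.ext
      rw [act_apply, act_apply, act_apply, act_apply]
      exact O.h_t w w.2)
    (by
      intro w; apply Subtype.ext
      rw [act_apply, act_apply, act_apply, act_apply]
      exact O.h_c w w.2)
    (by
      intro w; apply Subtype.ext
      rw [Subgroup.coe_mul, Subgroup.coe_mul, act_apply, act_apply, act_apply]
      exact O.h_fpf w w.2)
    (by
      rcases hr with ⟨h1, h2⟩ | ⟨h1, h2⟩
      · left
        exact ⟨fun w => DFunLike.congr_fun (congrArg Subtype.val h1) w,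
          fun w => DFunLike.congr_fun (congrArg Subtype.val h2) w⟩
      · right
        exact ⟨fun w => DFunLike.congr_fun (congrArg Subtype.val h1) w,
          fun w => DFunLike.congr_fun (congrArg Subtype.val h2) w⟩)
  have h5 : (a * pr W E * r * r * pr W E * r * r * r * r) ^ 4 = 1 := Subtype.ext y1
  have h6 := OuterSyl.sq_eq_one hP h5
  exact y2 (congrArg Subtype.val h6)

end Outer

end Cfsg.Agent.GTwoFour.OuterFour
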