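import Cfsg.Prelude.Def_ClassificationK
import Cfsg.Prelude.Def_LieTypeChar
import Cfsg.Prelude.Def_Spor_Conway
import Cfsg.Agent.GTwoFour.MdlEndB
import Cfsg.Agent.GTwoFour.MdlRed
import Cfsg.Agent.GTwoFour.Glue

/-!
# S1751, rank one: a simple group has no standard subgroup `G₂(4)` whose centraliser has 2-rank one
-/

set_option autoImplicit false

namespace Cfsg.Agent.GTwoFour.RankOneMain

open Subgroup Cfsg.Agent.StdG24 Cfsg.Agent.GTwoFour.Start

theorem redFacts_DL : RedFacts DL := Mdl.redFacts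

/-- **S1751, rank one.** -/
theorem rank_one {G : Type*} [Group G] [Finite G] [IsSimpleGroup G] (hG : ¬ IsMulCommutative G)
    (A : Subgroup G) (hL : Cfsg.IsStandardSubgroup A)
    {F : Type*} [Field F] [Fintype F] (hF : Fintype.card F = 4)
    (hLX : Nonempty (↥A ≃* ↥(Cfsg.Lie.chevG2.group F)))
    (hR : Cfsg.PRankLE 2 1 ↥(centralizer (A : Set G))) : False := by
  obtain ⟨i⟩ := hLX
  obtain ⟨j⟩ := Iso6.equiv_chev F hF
  let φ : A ≃* Mdl.D.A := i.trans j.symm
  have h : Emb (EmbOf.emb φ) := EmbOf.emb_of_standard hL φ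
    (fun x hx => center_trivial facts_DL mem_DL x hx) (exists_ne_one facts_DL)
  have rk : Red.RankOne (KK (EmbOf.emb φ)) := by
    rw [EmbOf.KK_emb]
    exact Red.rankOne_of_PRankLE hR
  exact HypOf.false_of_red hG facts_DL redFacts_DL endFacts_DL hFacts_DL mem_DL rk h

end Cfsg.Agent.GTwoFour.RankOneMain
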